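import Cfsg.Agent.H61.Sp4L2
import Cfsg.Agent.H54.SpCard
import Cfsg.Agent.H54.SpPrim
import Cfsg.Agent.H31.CITSimple
import Cfsg.Agent.H30.ZTIso
import Cfsg.Agent.H66.SzTri
import Cfsg.Agent.H66.SzSubfield
import Cfsg.Agent.S0254
import Cfsg.Agent.S5057

/-! Simple absolutely irreducible subgroups of `Sp₄(2ⁿ)`. -/

set_option autoImplicit false
set_option linter.unusedSectionVars false

namespace H61.S4

open H54 Matrix Module MatrixGroups Equiv

variable {F : Type*} [Field F] [CharP F 2] [Finite F]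

local notation "f" => spB (Fin 2) F

/-! ### the alternating group of degree six -/

theorem a6_gen (H : Subgroup (Perm (Fin 6))) {x y : Perm (Fin 6)}
    (ex : x = Equiv.swap 0 4 * Equiv.swap 0 3 * Equiv.swap 0 2 * Equiv.swap 0 1)
    (ey : y = Equiv.swap 0 4 * Equiv.swap 0 5 * Equiv.swap 0 1 * Equiv.swap 0 2) (hx : x ∈ H) (hy : y ∈ H) :
    alternatingGroup (Fin 6) ≤ H := by
  have key : ∀ l : List Bool, (l.map fun b => if b then x else y).prod ∈ H := fun l =>
    H.list_prod_mem (by rintro _ h; obtain ⟨b, -, rfl⟩ := List.mem_map.1 h; split_ifs <;> assumption)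
  have h1 : ∀ a b : Fin 6, a ≠ b → Equiv.swap 0 1 * Equiv.swap a b ∈ H := by
    have : ∀ a b : Fin 6, a ≠ b → ∃ l ∈ ([[],
        [false, false, true, false, true, true, false, false],
        [true, false, false, false, true, false, true],
        [true, true, true, false, true, false, false],
        [true, false, false, true, true, false, true, true, false],
        [true, true, false, true, false, false, true, true],
        [false, true, true, true, true, false, true, false],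
        [true, false, true, false, false, true, true, true],
        [false, true, true, false, false, false, true],
        [false, false, false, true, false, true, true, true],
        [true, false, true, true, false],
        [false, true, false, true, true],
        [false, false, true, true, true, false],
        [true, false, false, false, false, true, false, false],
        [false, false, true, false, false, true]] : List (List Bool)),
        Equiv.swap 0 1 * Equiv.swap a b = (l.map fun b => if b then x else y).prod := by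
      subst ex ey
      decide +kernel
    intro a b h
    obtain ⟨l, -, e⟩ := this a b h
    exact e ▸ key l
  have h2 : ∀ g : Perm (Fin 6), (Perm.sign g = 1 → g ∈ H) ∧ (Perm.sign g = -1 → Equiv.swap 0 1 * g ∈ H) := by
    intro g
    induction g using Perm.swap_induction_on with
    | one => exact ⟨fun _ => H.one_mem, fun h => absurd h (by decide)⟩
    | swap_mul g a b h ih =>
      rw [Perm.sign_mul, Perm.sign_swap h, neg_one_mul, neg_eq_iff_eq_neg, neg_inj]
      refine ⟨fun e => ?_, fun e => mul_assoc _ _ g ▸ H.mul_mem (h1 a b h) (ih.1 e)⟩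
      simpa [mul_assoc] using H.mul_mem (H.inv_mem (h1 a b h)) (ih.2 e)
  exact fun g hg => (h2 g).1 hg

theorem two_fix {g : Sp F} (h : g ^ 5 = 1) {v : V4 F} (v0 : v ≠ 0) (hv : g ⋆ v = v) :
    ∃ W : Submodule F (V4 F), finrank F W = 2 ∧ ∀ x ∈ W, g ⋆ x = x := by
  obtain ⟨u, hu⟩ := exists_spB_eq v0 1
  have h1 : g ⋆ g ⋆ g ⋆ g ⋆ g ⋆ u = u := by
    simpa [pow_succ, mul_act] using congrArg (· ⋆ u) h
  have h2 : ∀ x, f v (g ⋆ x) = f v x := fun x => by rw [← f_act g v x, hv]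
  refine ⟨_, finrank_pair (linearIndependent_pair_of_spB_ne_zero
    (u := v) (v := u + g ⋆ u + g ⋆ g ⋆ u + g ⋆ g ⋆ g ⋆ u + g ⋆ g ⋆ g ⋆ g ⋆ u) (by
      simp [h2, hu, CharTwo.add_self_eq_zero])), fun x hx => ?_⟩
  obtain ⟨a, b, rfl⟩ := Submodule.mem_span_pair.1 hx
  simp only [map_add, map_smul, hv, h1]
  module

theorem scott {x y : Sp F} {A B : Submodule F (V4 F)} (a1 : finrank F A = 2) (b1 : finrank F B = 2)
    (a2 : ∀ v ∈ A, x ⋆ v = v) (b2 : ∀ v ∈ B, y ⋆ v = v) (h : ∀ v, x ⋆ v = v → y ⋆ v = v → v = 0)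
    {v : V4 F} (hv : (x * y) ⋆ v = v) : v = 0 := by
  have h1 : A ⊓ B = ⊥ := eq_bot_iff.2 fun v hv => h v (a2 v hv.1) (b2 v hv.2)
  have h2 := Submodule.finrank_sup_add_finrank_inf_eq A B
  rw [h1, finrank_bot, a1, b1, add_zero, show 2 + 2 = finrank F (V4 F) from finrank_V4.symm] at h2
  have h3 : y ⋆ v + v = 0 := spB_nondegenerate.1 _ fun w => by
    obtain ⟨a, ha, b, hb, rfl⟩ := Submodule.mem_sup.1
      (Submodule.eq_top_of_finrank_eq h2 ▸ Submodule.mem_top : w ∈ A ⊔ B)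
    have e1 : f (y ⋆ v) a = f v a := by rw [← f_act x, ← mul_act, hv, a2 a ha]
    have e2 : f (y ⋆ v) b = f v b := by rw [← f_act y v, b2 b hb]
    simp [e1, e2, CharTwo.add_self_eq_zero]
  have h4 := eq_of_add h3
  exact h v (by rwa [mul_act, h4] at hv) h4

theorem conj_mem_zpowers {G : Type*} [Group G] [Finite G] {p : ℕ} [Fact p.Prime]
    (hG : ¬ p ^ 2 ∣ Nat.card G) {g x : G} (hg : orderOf g = p) (hx : orderOf x = p) :
    ∃ c, c * x * c⁻¹ ∈ Subgroup.zpowers g := by
  have key : ∀ {g : G}, orderOf g = p → ∃ S : Sylow p G, Subgroup.zpowers g = S := fun {g} hg => by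
    obtain ⟨S, hS⟩ := (IsPGroup.of_card (p := p) (n := 1) (G := Subgroup.zpowers g)
      (by rw [Nat.card_zpowers, hg, pow_one])).exists_le_sylow
    refine ⟨S, Subgroup.eq_of_le_of_card_ge hS ?_⟩
    obtain ⟨n, hn⟩ := IsPGroup.iff_card.1 S.isPGroup'
    rw [Nat.card_zpowers, hg, hn]
    refine (Nat.pow_le_pow_right (Fact.out : p.Prime).pos (?_ : n ≤ 1)).trans (pow_one p).le
    by_contra h
    exact hG ((pow_dvd_pow p (by omega)).trans (hn ▸ Subgroup.card_subgroup_dvd_card S.1))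
  obtain ⟨S, hS⟩ := key hg
  obtain ⟨S', hS'⟩ := key hx
  obtain ⟨c, rfl⟩ := MulAction.exists_smul_eq G S' S
  exact ⟨c, hS ▸ Subgroup.smul_mem_pointwise_smul x (MulAut.conj c) _ (hS' ▸ Subgroup.mem_zpowers x)⟩

theorem tr_a6 (φ : alternatingGroup (Fin 6) →* Sp F) (h : ∀ v, (∀ g, φ g ⋆ v = v) → v = 0)
    (g : alternatingGroup (Fin 6)) : tr (φ g) ^ 2 = tr (φ g) := by
  rcases Cfsg.Agent.S5057.ord g with e | e | e <;> rw [orderOf_dvd_iff_pow_eq_one] at e
  · rw [← tr_sq, ← map_pow, eq_inv_of_mul_eq_one_left ((pow_succ g 2).symm.trans e), map_inv, tr_inv]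
  · simp [tr_of_pow_four (g := φ g) (by rw [← map_pow, e, map_one])]
  by_cases g1 : g = 1
  · simp [g1, tr_one]
  refine tr_of_five (by rw [← map_pow, e, map_one]) fun v hv => ?_
  by_contra v0
  have := Fact.mk Nat.prime_five
  have key : ∀ x : alternatingGroup (Fin 6), x ^ 5 = 1 → x ≠ 1 → ∃ v ≠ 0, φ x ⋆ v = v :=
    fun x e1 e2 => by
      obtain ⟨c, hc⟩ := conj_mem_zpowers (p := 5) (by
        rw [nat_card_alternatingGroup, Nat.card_fin]; decide) (orderOf_eq_prime e g1)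
        (orderOf_eq_prime e1 e2)
      have : c * x * c⁻¹ ∈ (fixS v).comap φ := (Subgroup.zpowers_le.2 hv) hc
      change φ _ ⋆ v = v at this
      rw [map_mul, map_mul, map_inv, mul_act, mul_act] at this
      exact ⟨_, act_eq_zero.not.2 v0, (inv_act_act _ _).symm.trans (congrArg _ this)⟩
  let x : alternatingGroup (Fin 6) :=
    ⟨Equiv.swap 0 4 * Equiv.swap 0 3 * Equiv.swap 0 2 * Equiv.swap 0 1, Perm.mem_alternatingGroup.2 (by decide)⟩
  let y : alternatingGroup (Fin 6) :=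
    ⟨Equiv.swap 0 4 * Equiv.swap 0 5 * Equiv.swap 0 1 * Equiv.swap 0 2, Perm.mem_alternatingGroup.2 (by decide)⟩
  have hx : x ^ 5 = 1 := by decide +kernel
  have hy : y ^ 5 = 1 := by decide +kernel
  obtain ⟨v1, a1, a2⟩ := key x hx (by decide +kernel)
  obtain ⟨v2, b1, b2⟩ := key y hy (by decide +kernel)
  obtain ⟨v3, c1, c2⟩ := key (x * y) (by decide +kernel) (by decide +kernel)
  obtain ⟨A, a3, a4⟩ := two_fix (by rw [← map_pow, hx, map_one]) a1 a2
  obtain ⟨B, b3, b4⟩ := two_fix (by rw [← map_pow, hy, map_one]) b1 b2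
  refine c1 (scott a3 b3 a4 b4 (fun u e1 e2 => h u fun k => ?_) (map_mul φ x y ▸ c2))
  obtain ⟨k', e3, e4⟩ := a6_gen (((fixS u).comap φ).map (alternatingGroup (Fin 6)).subtype) rfl rfl
    ⟨x, e1, rfl⟩ ⟨y, e2, rfl⟩ k.2
  exact Subtype.ext e4 ▸ e3

/-! ### groups with an element of order at least seven conjugate to its square -/

theorem false_of_conj_sq {G : Type*} [Group G] (φ : G →* Sp F) (hφ : Function.Injective φ) {x : G}
    {r : ℕ} (hr : r.Prime) (h7 : 7 ≤ r) (h1 : x ^ r = 1) (h2 : x ≠ 1) (h3 : IsConj x (x ^ 2)) :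
    False := by
  have := Fact.mk hr
  have h4 := orderOf_eq_prime h1 h2
  have key : ∀ n, φ x ^ n = 1 → 0 < n → r ≤ n := fun n e n0 =>
    Nat.le_of_dvd n0 (h4 ▸ orderOf_dvd_of_pow_eq_one (hφ (by rw [map_pow, e, map_one])))
  rcases pow_of_isConj_sq (map_pow φ x 2 ▸ φ.map_isConj h3) with e | e | e <;>
    have := key _ e (by decide) <;> omega

theorem false_of_psl2 {K : Type*} [Field K] [Fintype K] (φ : PSL(2, K) →* Sp F)
    (hφ : Function.Injective φ) (hr : (Fintype.card K).Prime) (h7 : 7 ≤ Fintype.card K) {k : ℕ}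
    (hk : Fintype.card K = 2 ^ k + 1 ∨ Fintype.card K + 1 = 2 ^ k) : False := by
  have h8 : Fintype.card K % 8 ≠ 3 ∧ Fintype.card K % 8 ≠ 5 := by
    have : 3 ≤ k := by
      by_contra h
      have : 2 ^ k ≤ 2 ^ 2 := Nat.pow_le_pow_right (by decide) (by omega)
      omega
    obtain ⟨j, rfl⟩ := Nat.exists_eq_add_of_le this
    rw [pow_add] at hk
    omega
  obtain ⟨s, hs⟩ := FiniteField.isSquare_two_iff.2 h8
  have := Fact.mk hr
  have hp := charP_of_card_eq_prime (R := K) rfl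
  have s0 : s ≠ 0 := by
    rintro rfl
    have := (CharP.cast_eq_zero_iff K (Fintype.card K) 2).1 (by simpa using hs)
    have := Nat.le_of_dvd (by decide) this
    omega
  have h1 : ∀ n : ℕ, upper (1 : K) ^ n = upper (n : K) := fun n => by
    induction n with
    | zero => simp [sl_ext_iff]
    | succ n ih => simp [pow_succ, ih, sl_ext_iff, add_comm]
  refine false_of_conj_sq φ hφ (x := (upper 1 : SL(2, K))) hr h7 ?_ (fun e => ?_) ?_
  · rw [← QuotientGroup.mk_pow, h1, CharP.cast_eq_zero]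
    exact congrArg _ (by simp [sl_ext_iff])
  · obtain ⟨r, -, e⟩ := Matrix.SpecialLinearGroup.mem_center_iff.1
      ((QuotientGroup.eq_one_iff (upper 1 : SL(2, K))).1 e)
    simpa using congrFun₂ e 0 1
  · rw [← QuotientGroup.mk_pow, h1]
    refine (QuotientGroup.mk' _).map_isConj (isConj_iff.2 ⟨sl2 s 0 0 s⁻¹ (by simp [s0]), ?_⟩)
    rw [mul_inv_eq_iff_eq_mul]
    simp [sl_ext_iff, hs, s0]

theorem false_of_psl3 {K : Type*} [Field K] [CharP K 2] (φ : PSL(3, K) →* Sp F)
    (hφ : Function.Injective φ) : False := by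
  let σ : SL(3, ZMod 2) →* PSL(3, K) :=
    (QuotientGroup.mk' _).comp (SpecialLinearGroup.map (ZMod.castHom dvd_rfl K))
  let a : SL(3, ZMod 2) := ⟨!![0, 0, 1; 1, 0, 1; 0, 1, 0], by decide⟩
  let b : SL(3, ZMod 2) := ⟨!![1, 0, 0; 0, 0, 1; 0, 1, 1], by decide⟩
  refine false_of_conj_sq φ hφ (x := σ a) Nat.prime_seven le_rfl ?_ (fun e => ?_) ?_
  · rw [← map_pow, show a ^ 7 = 1 by decide +kernel, map_one]
  · obtain ⟨r, -, e⟩ := Matrix.SpecialLinearGroup.mem_center_iff.1 ((QuotientGroup.eq_one_iff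
      (Matrix.SpecialLinearGroup.map (ZMod.castHom dvd_rfl K) a)).1 e)
    have := congrFun₂ e 1 0
    rw [Matrix.SpecialLinearGroup.map_apply_coe] at this
    simp [a] at this
  · rw [← map_pow]
    exact σ.map_isConj (isConj_iff.2 ⟨b, by rw [mul_inv_eq_iff_eq_mul]; decide +kernel⟩)

/-! ### Suzuki groups -/

theorem sz_conj {K : Type*} [Field K] [Fintype K] {m : ℕ} (hm : 1 ≤ m)
    (hK : Fintype.card K = 2 ^ (2 * m + 1)) (g : Cfsg.Lie.Sz K (2 ^ (m + 1))) :
    g ^ 4 = 1 ∨ IsConj g (g ^ 2 ^ (2 * m + 1)) := by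
  have hT := H66.titsOf_isFin K hm hK
  rw [or_iff_not_imp_left, ← (H66.modelB hT).tr_eq_zero_iff hT]
  refine fun h => (H66.modelB hT).isConj_of_tr hT h ?_
  rw [H66.Model.tr, map_pow, ← hK, FiniteField.trace_pow_card, FiniteField.pow_card]
  rfl

theorem card_of_sz {K : Type*} [Field K] [Fintype K] [Fintype F] {m : ℕ} (hm : 1 ≤ m)
    (hK : Fintype.card K = 2 ^ (2 * m + 1)) (φ : Cfsg.Lie.Sz K (2 ^ (m + 1)) →* Sp F)
    (hφ : Function.Injective φ) (h : ∀ x : F, x ^ 2 ^ (2 * m + 1) = x) :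
    Fintype.card F = 2 ^ (2 * m + 1) := by
  obtain ⟨n, -, hn⟩ := FiniteField.card F 2
  have h1 : (n : ℕ) ∣ 2 * m + 1 := by
    obtain ⟨g, hg⟩ := IsCyclic.exists_generator (α := Fˣ)
    have h2 : orderOf g ∣ 2 ^ (2 * m + 1) - 1 := orderOf_dvd_of_pow_eq_one (Units.ext (by
      have := h g
      rw [← Nat.sub_add_cancel (Nat.one_le_two_pow (n := 2 * m + 1)), pow_succ] at this
      simpa using this))
    rw [orderOf_eq_card_of_forall_mem_zpowers hg, Nat.card_units, Nat.card_eq_fintype_card, hn,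
      ← Nat.gcd_eq_left_iff_dvd, Nat.pow_sub_one_gcd_pow_sub_one] at h2
    have h3 := Nat.pow_right_injective le_rfl
      (Nat.sub_one_cancel (by positivity) (by positivity) h2)
    exact h3 ▸ Nat.gcd_dvd_right _ _
  have h2 := Subgroup.card_dvd_of_injective φ hφ
  rw [(H66.modelB (H66.titsOf_isFin K hm hK)).card_G, card_sp, spOrder_def,
    Nat.card_eq_fintype_card, Nat.card_eq_fintype_card, hK, hn, mul_assoc, ← pow_mul, ← pow_mul] at h2
  have h3 := (Nat.pow_dvd_pow_iff_le_right (by decide)).1 (Nat.Coprime.dvd_of_dvd_mul_right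
    (Nat.Coprime.pow_left _ (Nat.coprime_two_left.2 (Finset.prod_induction _ Odd
      (fun _ _ => Odd.mul) odd_one fun i _ => Nat.Even.sub_odd (Nat.one_le_pow _ _ (by positivity))
        (Nat.even_pow.2 ⟨Nat.even_pow.2 ⟨even_two, n.ne_zero⟩, by omega⟩) odd_one)))
    ((dvd_mul_right _ _).trans h2))
  obtain ⟨c, hc⟩ := h1
  rw [hn, hc]
  rw [Fintype.card_fin, hc] at h3
  have := n.pos
  obtain rfl : c = 1 := by
    rcases c with _ | _ | _ | c
    · omega
    · rfl
    · omega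
    · nlinarith
  simp

theorem sz_equiv {K : Type*} [Field K] [Fintype K] [Fintype F] {m : ℕ} (hm : 1 ≤ m)
    (hK : Fintype.card K = 2 ^ (2 * m + 1)) (hF : Fintype.card F = 2 ^ (2 * m + 1)) :
    Nonempty (Cfsg.Lie.Sz K (2 ^ (m + 1)) ≃* Cfsg.Lie.Sz F (2 ^ (m + 1))) := by
  have h1 := H66.titsOf_isFin K hm hK
  have h2 := H66.titsOf_isFin F hm hF
  have := (H66.modelB h2).finite
  have hi : ∀ x, (H66.titsOf F m hF).θ ((FiniteField.ringEquivOfCardEq (hK.trans hF.symm)).toRingHom x)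
      = (FiniteField.ringEquivOfCardEq (hK.trans hF.symm)).toRingHom ((H66.titsOf K m hK).θ x) :=
    fun x => by rw [h1.θ_eq, h2.θ_eq, map_pow]
  exact ⟨MulEquiv.ofBijective ((H66.modelB h1).emb (H66.modelB h2) hi)
    ((Nat.bijective_iff_injective_and_card _).2 ⟨(H66.modelB h1).emb_inj _ hi, by
      rw [(H66.modelB h1).card_G, (H66.modelB h2).card_G, h1.card, h2.card]⟩)⟩

/-! ### the main theorem -/

variable {P : Subgroup (Sp F)}

theorem real_map {K : Subfield F} (h : Real K (P.map (spGraph F).symm.toMonoidHom)) : Real K P := by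
  obtain ⟨B, hB⟩ := h
  refine ⟨spGr F B, fun g hg i j => ?_⟩
  have h1 := hB _ ⟨g, hg, rfl⟩
  have h2 : (spGr F B)⁻¹ * g * spGr F B = spGr F (B⁻¹ * (spGraph F).symm g * B) := by
    rw [map_mul, map_mul, map_inv, ← spGraph_apply ((spGraph F).symm g), MulEquiv.apply_symm_apply]
  rw [h2]
  change wd _ _ i ∈ K
  simp only [wd, mulVec_single_one, col_apply]
  exact sub_mem (mul_mem (h1 _ _) (h1 _ _)) (mul_mem (h1 _ _) (h1 _ _))

theorem hyp_of_irr (hs : IsSimpleGroup P) (hn : ¬ IsMulCommutative P)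
    (hI : ∀ W : Submodule F (V4 F), (∀ g ∈ P, ∀ x ∈ W, g ⋆ x ∈ W) → W = ⊥ ∨ W = ⊤) : Hyp P :=
  ⟨hs, hn, fun y hy => by
    rcases hI (Submodule.span F {y}) (fun g hg x hx => by
      obtain ⟨c, rfl⟩ := Submodule.mem_span_singleton.1 hx
      rwa [map_smul, hy g hg]) with e | e
    · simpa using e
    · have := finrank_span_le_card (R := F) ({y} : Set (V4 F))
      rw [e, finrank_top, finrank_V4] at this
      simp at this⟩

theorem hyp_map (hs : IsSimpleGroup P) (hn : ¬ IsMulCommutative P)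
    (hI : ∀ W : Submodule F (V4 F), (∀ g ∈ P, ∀ x ∈ W, g ⋆ x ∈ W) → W = ⊥ ∨ W = ⊤) :
    Hyp (P.map (spGraph F).symm.toMonoidHom) := by
  let e := (spGraph F).symm.subgroupMap P
  refine ⟨e.symm.isSimpleGroup, fun h => hn ⟨⟨fun a b => e.injective ?_⟩⟩, fun y hy => ?_⟩
  · rw [map_mul, map_mul]
    exact h.1.1 _ _
  by_contra y0
  let W : Submodule F (V4 F) :=
    { carrier := {x | ∃ v, f y v = 0 ∧ x = wd y v}
      zero_mem' := ⟨y, spB_self y, (wd_self y).symm⟩
      add_mem' := by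
        rintro _ _ ⟨v, h1, rfl⟩ ⟨w, h2, rfl⟩
        exact ⟨v + w, by simp [h1, h2], (wd_add_right y v w).symm⟩
      smul_mem' := by
        rintro c _ ⟨v, h1, rfl⟩
        exact ⟨c • v, by simp [h1], (wd_smul_right c y v).symm⟩ }
  obtain ⟨k, hk⟩ := sp_exists_smul_eq (v := Pi.single (.inl 0) 1) (by simp) y0
  obtain ⟨v, w, e1, e2, e3⟩ := exists_ortho_pair (R := F) (.inl 0)
  change k ⋆ _ = y at hk
  rw [← f_act k, hk] at e1 e2
  have e4 : wd y (k ⋆ v) ≠ 0 := fun e => y0 (by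
    have := wd_wd e1 e2
    rw [e, f_act, e3, one_smul, ← zero_smul F 0, wd_smul_left, zero_smul] at this
    ext i
    simpa using congrFun this.symm i)
  rcases hI W (by
    rintro g hg _ ⟨v, h1, rfl⟩
    have h2 := hy _ ⟨g, hg, rfl⟩
    refine ⟨(spGraph F).symm g ⋆ v, (congrArg (f · _) h2.symm).trans ((f_act _ y v).trans h1), ?_⟩
    conv_lhs => rw [← (spGraph F).apply_symm_apply g]
    exact (spGr_smul_wd _ h1).trans (congrArg (wd · _) h2)) with e | e
  · exact e4 ((Submodule.eq_bot_iff W).1 e _ ⟨_, e1, rfl⟩)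
  · refine e4 (spB_nondegenerate.1 _ fun x => ?_)
    obtain ⟨u, h1, rfl⟩ : x ∈ W := e ▸ Submodule.mem_top
    rw [spB_wd_wd e1 h1, spB_self, h1, zero_mul, zero_mul, add_zero]

/-- a simple absolutely irreducible proper subgroup of `Sp₄(2ⁿ)` which is not defined over a subfield
and fixes no quadratic form is the Suzuki group -/
theorem suzuki [Fintype F] (hs : IsSimpleGroup P) (hn : ¬ IsMulCommutative P)
    (hI : ∀ W : Submodule F (V4 F), (∀ g ∈ P, ∀ x ∈ W, g ⋆ x ∈ W) → W = ⊥ ∨ W = ⊤)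
    (hC : ∀ M : Matrix (Fin 2 ⊕ Fin 2) (Fin 2 ⊕ Fin 2) F, (∀ g ∈ P, M * g.1 = g.1 * M) →
      ∃ c : F, M = c • 1)
    (hK : ∀ K ≠ ⊤, ¬ Real K P) (hT : ∀ σ : F →+* F, (∀ g ∈ P, σ (tr g) = tr g) → ∀ x, σ x = x)
    (hQ : ∀ Q, QF Q → ¬ ∀ g ∈ P, ∀ x, Q (g ⋆ x) = Q x) (hP : P ≠ ⊤) {d : F} (d0 : d ≠ 0)
    (d1 : d ≠ 1) : ∃ m, 1 ≤ m ∧ Fintype.card F = 2 ^ (2 * m + 1) ∧
      Nonempty (P ≃* Cfsg.Lie.Sz F (2 ^ (m + 1))) := by
  have h1 := hyp_of_irr hs hn hI
  have h2 : ∀ g ∈ P, g * g = 1 → g ≠ 1 → ∃ z w, C2 g z w := fun g hg e g1 => by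
    rcases inv_cases e g1 with ⟨u, u0, rfl⟩ | ⟨p, q, h⟩ | h
    · exact absurd (h1.tv_top hg u0 hK d0 d1) hP
    · obtain ⟨u, u0, rfl⟩ := h.exists_T
      have := (hyp_map hs hn hI).tv_top ⟨_, hg, (spGraph F).symm_apply_apply (T u)⟩ u0
        (fun K h e => hK K h (real_map e)) d0 d1
      refine absurd (eq_top_iff.2 fun x _ => ?_) hP
      obtain ⟨y, hy, e⟩ : (spGraph F).symm x ∈ P.map (spGraph F).symm.toMonoidHom :=
        this ▸ Subgroup.mem_top _
      exact (spGraph F).symm.injective e ▸ hy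
    · exact h
  have inj : ∀ {G : Type} [Group G] (e : P ≃* G),
      Function.Injective (P.subtype.comp e.symm.toMonoidHom) :=
    fun e => P.subtype_injective.comp e.symm.injective
  rcases H31.cit_simple (G := P) (fun h => hn ⟨⟨IsSimpleGroup.comm_iff_isSolvable.2 h⟩⟩)
    (fun t ht x => by
      obtain ⟨z, w, h⟩ := h2 t t.2 (congrArg Subtype.val ((sq t).symm.trans
        (orderOf_dvd_iff_pow_eq_one.1 ht.dvd))) fun e => by simp [show t = 1 from Subtype.ext e] at ht
      exact ⟨2, Subtype.ext (Subtype.ext (h.pow_four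
        (congrArg Subtype.val (Subgroup.mem_centralizer_singleton_iff.1 x.2))))⟩) with
    ⟨K, _, _, n, n2, hn, ⟨e⟩⟩ | h | ⟨K, _, _, h | ⟨c1, c2, k, c3⟩, ⟨e⟩⟩ | ⟨K, _, _, h, ⟨e⟩⟩
  · have : CharP K 2 := charP_of_card_eq_prime_pow hn
    let ψ : SL(2, K) →* Sp F := (P.subtype.comp e.symm.toMonoidHom).comp (QuotientGroup.mk' _)
    have e1 : ∀ g, ψ g ∈ P := fun g => (e.symm g).2
    have e2 : ∀ g ∈ P, ∃ x, ψ x = g := fun g hg => by
      obtain ⟨x, hx⟩ := QuotientGroup.mk_surjective (e ⟨g, hg⟩)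
      exact ⟨x, by simp [ψ, hx]⟩
    obtain ⟨z, w, h⟩ := h2 _ (e1 (upper 1))
      (by rw [← map_mul, upper_add, CharTwo.add_self_eq_zero, upper_zero, map_one]) fun h => by
        obtain ⟨r, -, e⟩ := Matrix.SpecialLinearGroup.mem_center_iff.1
          ((QuotientGroup.eq_one_iff (upper 1 : SL(2, K))).1 (inj e (h.trans (map_one _).symm)))
        simpa using congrFun₂ e 0 1
    obtain ⟨Q, q1, q2⟩ := quad_of_sl2 h
      (fun W hW => hI W fun g hg => by obtain ⟨x, rfl⟩ := e2 g hg; exact hW x)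
      fun M hM => hC M fun g hg => by obtain ⟨x, rfl⟩ := e2 g hg; exact hM x
    exact absurd (fun g hg => by obtain ⟨x, rfl⟩ := e2 g hg; exact q2 x) (hQ Q q1)
  · obtain ⟨K, _, _, m, hm, hK, ⟨e⟩⟩ := H30.ztIso P h
    have hF := card_of_sz hm hK _ (inj e) (hT (iterateFrobenius F 2 (2 * m + 1)) fun g hg => by
      rw [iterateFrobenius_def]
      rcases sz_conj hm hK (e ⟨g, hg⟩) with h | h
      · rw [← map_pow, map_eq_one_iff _ e.injective, Subtype.ext_iff] at h
        simp [tr_of_pow_four (g := g) h]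
      · rw [← tr_pow]
        simpa using tr_of_isConj ((P.subtype.comp e.symm.toMonoidHom).map_isConj h))
    exact ⟨m, hm, hF, (sz_equiv hm hK hF).map e.trans⟩
  · obtain ⟨e'⟩ := Cfsg.Agent.S0254.result h
    have := hT (frobenius F 2) (fun g hg => by
      simpa [frobenius_def] using tr_a6 (P.subtype.comp (e.trans e').symm.toMonoidHom)
        (fun v hv => h1.nofix v fun g hg => by simpa using hv (e' (e ⟨g, hg⟩))) (e' (e ⟨g, hg⟩))) d
    rw [frobenius_def] at this
    exact absurd (mul_left_cancel₀ d0 (by rw [← sq, this, mul_one])) d1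
  · exact (false_of_psl2 _ (inj e) c1 c2 c3).elim
  · have : CharP K 2 := charP_of_card_eq_prime_pow (h.trans (show 4 = 2 ^ 2 from rfl))
    exact (false_of_psl3 _ (inj e)).elim

end H61.S4
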