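/- Martineau's theorem, part 3: sums of natural modules, identities, bilinear maps. -/
import Cfsg.Agent.H47.MarSplit

set_option autoImplicit false

namespace H61.Mar

open Matrix H66 H47

universe v

variable {F : Type*} [Field F] {T : Tits F} {m : ℕ} {G : Type*} [Group G] {M : Model T G}

section Sub

variable {k : Type*} [CommRing k] {V : Type*} [AddCommGroup V] [Module k V]

theorem fp_sub {ρ : Representation k G V} (h : Fp M ρ) (W : Submodule k V)
    (hW : ∀ g, W ≤ W.comap (ρ g)) : Fp M (ρ.subrepresentation W hW) := by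
  refine LinearMap.ext fun w => Subtype.ext ?_
  exact LinearMap.congr_fun h (w : V)

theorem fp_quot {ρ : Representation k G V} (h : Fp M ρ) (W : Submodule k V)
    (hW : ∀ g, W ≤ W.comap (ρ g)) : Fp M (ρ.quotient W hW) := by
  refine LinearMap.ext fun w => ?_
  obtain ⟨v, rfl⟩ := W.mkQ_surjective w
  have := congrArg W.mkQ (LinearMap.congr_fun h v)
  simp only [LinearMap.add_apply, map_add, Module.End.one_apply, LinearMap.zero_apply,
    map_zero] at this ⊢
  exact this

end Sub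

variable {k : Type*} [Field k] [IsAlgClosed k] [CharP k 2]

theorem span_aux (hT : T.IsFin m) (n : ℕ) : ∀ {V : Type v} [AddCommGroup V] [Module k V]
    [FiniteDimensional k V] {ρ : Representation k G V}, Module.finrank k V = n → Fp M ρ →
    ∀ W : Submodule k V, (∀ σ j, Eqv M ρ σ j → ∀ e, j e ∈ W) → W = ⊤ := by
  induction n using Nat.strong_induction_on with
  | _ n ih =>
  intro V _ _ _ ρ hn h W hW
  rcases subsingleton_or_nontrivial V with hV | hV
  · exact Subsingleton.elim _ _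
  obtain ⟨U, ⟨U0, hU⟩, hmin⟩ := (wellFounded_lt (α := Submodule k V)).has_min
    {U | U ≠ ⊥ ∧ ∀ g, U ≤ U.comap (ρ g)} ⟨⊤, top_ne_bot, fun _ => le_top⟩
  have : Nontrivial U := Submodule.nontrivial_iff_ne_bot.2 U0
  obtain ⟨τ, i, bi, hi⟩ := (fp_sub h U hU).simple hT fun X hX => by
    by_cases h0 : X = ⊥
    · exact Or.inl h0
    right
    have h1 : X.map U.subtype ≠ ⊥ := fun e => h0
      (Submodule.map_injective_of_injective U.injective_subtype (e.trans (Submodule.map_bot _).symm))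
    have h2 : ∀ g, X.map U.subtype ≤ (X.map U.subtype).comap (ρ g) := by
      rintro g _ ⟨x, hx, rfl⟩
      exact ⟨_, hX g x hx, rfl⟩
    have h3 : X.map U.subtype = U :=
      (eq_or_lt_of_le (Submodule.map_subtype_le U X)).resolve_right (hmin _ ⟨h1, h2⟩)
    rw [eq_top_iff]
    rintro x -
    obtain ⟨y, hy, e⟩ : (x : V) ∈ X.map U.subtype := h3.symm ▸ x.2
    rwa [← show y = x from Subtype.ext e]
  have hi' : Eqv M ρ τ (U.subtype ∘ₗ i) := fun x e => congrArg Subtype.val (hi x e)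
  have lt : Module.finrank k (V ⧸ U) < n := by
    have := U.finrank_quotient_add_finrank
    have := Module.finrank_pos (R := k) (M := U)
    omega
  have := ih _ lt rfl (fp_quot h U hU) (W.map U.mkQ) fun σ Ψ hΨ e => by
    have hE : Ext M ρ (ρ.quotient U hU) U.mkQ σ τ (U.subtype ∘ₗ i) Ψ :=
      { surj := U.mkQ_surjective
        comm := fun _ _ => rfl
        ker := fun v => by
          rw [Submodule.mkQ_apply, Submodule.Quotient.mk_eq_zero]
          refine ⟨fun hv => ?_, ?_⟩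
          · obtain ⟨e, he⟩ := bi.2 ⟨v, hv⟩
            exact ⟨e, congrArg Subtype.val he⟩
          · rintro ⟨e, rfl⟩; exact (i e).2
        hi := hi'
        inj := U.injective_subtype.comp bi.1
        hΨ := hΨ }
    obtain ⟨j, hj, e'⟩ := hE.split hT h
    exact ⟨j e, hW σ j hj e, LinearMap.congr_fun e' e⟩
  rw [Submodule.map_mkQ_eq_top] at this
  rw [← this, eq_comm, sup_eq_right]
  intro x hx
  obtain ⟨e, he⟩ := bi.2 ⟨x, hx⟩
  have := hW τ _ hi' e
  rwa [LinearMap.comp_apply, he] at this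

variable {V : Type*} [AddCommGroup V] [Module k V] [FiniteDimensional k V]
  {ρ : Representation k G V}

/-- the module is a sum of natural modules -/
theorem span (hT : T.IsFin m) (h : Fp M ρ) (W : Submodule k V)
    (hW : ∀ σ j, Eqv M ρ σ j → ∀ e, j e ∈ W) : W = ⊤ :=
  span_aux hT _ rfl h W hW

theorem map_eq_zero (hT : T.IsFin m) (h : Fp M ρ) {V' : Type*} [AddCommGroup V'] [Module k V']
    (r : V →ₗ[k] V') (hr : ∀ σ j, Eqv M ρ σ j → ∀ e, r (j e) = 0) : r = 0 :=
  LinearMap.ker_eq_top.1 (span hT h _ hr)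

section Defs

variable {R : Type*} [Ring R] (M)

/-- `z_b - 1` -/
noncomputable def nn (ρ : G →* R) (b : F) : R := ρ (M.u 0 b) - 1

/-- `u - 1`, `u` of order four -/
noncomputable def nu (ρ : G →* R) : R := ρ (M.u 1 0) - 1

/-- `-(g + g²)` -/
noncomputable def PP (ρ : G →* R) : R := -(ρ (g5 M) + ρ (g5 M ^ 2))

end Defs

section Nat

omit [IsAlgClosed k] [FiniteDimensional k V]

variable {σ : F →+* k} {j : (Fin 4 → k) →ₗ[k] V}

omit [CharP k 2] in
theorem eqv_nn (h : Eqv M ρ σ j) (b : F) (e : Fin 4 → k) :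
    nn M ρ b (j e) = j ![σ b * e 2 + σ (T.θ b) * e 3, σ b * e 3, 0, 0] := by
  rw [nn, LinearMap.sub_apply, h.z, Module.End.one_apply, add_sub_cancel_left]

omit [CharP k 2] in
theorem eqv_u (h : Eqv M ρ σ j) (a : F) (e : Fin 4 → k) : ρ (M.u a 0) (j e) =
    j ![e 0 + σ a * e 1 + σ (T.θ a) * σ a * e 2 + σ (T.θ a) * σ a ^ 2 * e 3,
      e 1 + σ (T.θ a) * e 2, e 2 + σ a * e 3, e 3] := by
  rw [h]
  congr 1
  funext i
  fin_cases i <;> simp [M.ρ_u, Tits.uM, Tits.f, mulVec, dotProduct, Fin.sum_univ_four]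

omit [CharP k 2] in
theorem eqv_g (h : Eqv M ρ σ j) (e : Fin 4 → k) :
    ρ (g5 M) (j e) = j ![e 3 + e 1 + e 0, e 2 + e 0, e 1, e 0] := by
  rw [g5, rep_mul, h.w, h.z, ← map_add]
  congr 1
  funext i
  fin_cases i <;> simp [add_assoc]

omit [CharP k 2] in
theorem eqv_nu (h : Eqv M ρ σ j) (x y : k) : nu M ρ (j ![x, y, 0, 0]) = j ![y, 0, 0, 0] := by
  rw [nu, LinearMap.sub_apply, eqv_u h, Module.End.one_apply, ← map_sub]
  congr 1
  funext i
  fin_cases i <;> simp

omit [CharP k 2] in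
theorem eqv_Q (h : Eqv M ρ σ j) (b c : F) (e : Fin 4 → k) : (nn M ρ b * nn M ρ c) (j e) = 0 := by
  rw [Module.End.mul_apply, eqv_nn h, eqv_nn h]
  simp [H47.vec_zero]

theorem eqv_G (h : Eqv M ρ σ j) (c b : F) (e : Fin 4 → k) :
    (nu M ρ * nn M ρ c * (PP M ρ * nn M ρ b) - nu M ρ * nn M ρ (c * b)) (j e) = 0 := by
  have t2 : (2 : k) = 0 := CharTwo.two_eq_zero
  simp only [LinearMap.sub_apply, Module.End.mul_apply, PP, LinearMap.neg_apply,
    LinearMap.add_apply, pow_two, rep_mul, eqv_nn h, eqv_g h, ← map_add, ← map_neg, eqv_nu h,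
    ← map_sub]
  rw [← map_zero j]
  congr 1
  funext i
  fin_cases i <;> simp
  linear_combination (-(σ c * σ b * e 3) - σ c * (σ b * e 2 + σ (T.θ b) * e 3)) * t2

end Nat

theorem quad_zero (hT : T.IsFin m) (h : Fp M ρ) (b c : F) : nn M ρ b * nn M ρ c = 0 :=
  map_eq_zero hT h _ fun _ _ hj => eqv_Q hj b c

theorem gid_zero (hT : T.IsFin m) (h : Fp M ρ) (c b : F) :
    nu M ρ * nn M ρ c * (PP M ρ * nn M ρ b) - nu M ρ * nn M ρ (c * b) = 0 :=
  map_eq_zero hT h _ fun _ _ hj => eqv_G hj c b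

/-- the torus has no fixed vectors -/
theorem eq_zero_of_h (hT : T.IsFin m) (h : Fp M ρ) {v : V} (hv : ∀ c, ρ (M.h c) v = v) :
    v = 0 := by
  obtain ⟨t, t0, t1⟩ := hT.exists_ne
  let c : Fˣ := Units.mk0 t t0
  have n1 : ∀ σ : F →+* k, σ t - 1 ≠ 0 := fun σ e =>
    t1 (σ.injective (by rw [map_one]; exact sub_eq_zero.1 e))
  have n2 : ∀ σ : F →+* k, σ (T.θ t * t) - 1 ≠ 0 := fun σ e => by
    have e1 : T.θ t * t = 1 := σ.injective (by rw [map_one]; exact sub_eq_zero.1 e)
    have e2 := congrArg T.θ e1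
    rw [map_mul, T.sq, map_one] at e2
    exact t1 (by linear_combination e2 - t * e1)
  have inv : ∀ x : k, x - 1 ≠ 0 → x⁻¹ - 1 ≠ 0 := fun x hx e =>
    hx (by rw [sub_eq_zero] at e ⊢; exact inv_eq_one.1 e)
  have hs : LinearMap.range (ρ (M.h c) - 1) = ⊤ := span hT h _ fun σ j hj e => by
    refine ⟨j ![e 0 / (σ (T.θ t * t) - 1), e 1 / (σ t - 1), e 2 / ((σ t)⁻¹ - 1),
      e 3 / ((σ (T.θ t * t))⁻¹ - 1)], ?_⟩
    rw [LinearMap.sub_apply, hj.h, Module.End.one_apply, ← map_sub]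
    congr 1
    have a1 := n1 σ
    have a2 := n2 σ
    have a3 := inv _ a1
    have a4 := inv _ a2
    funext i
    fin_cases i <;> simp only [c, Units.val_mk0, Pi.sub_apply] <;>
      simp only [Fin.reduceFinMk, Fin.zero_eta, Fin.mk_one, Fin.isValue, Matrix.cons_val] <;>
      rw [← sub_one_mul, mul_div_cancel₀ _ (by assumption)]
  have hi := LinearMap.injective_iff_surjective.2 (LinearMap.range_eq_top.1 hs)
  exact hi (by rw [LinearMap.sub_apply, hv, Module.End.one_apply, sub_self, map_zero])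

section Bilin

omit [IsAlgClosed k] [CharP k 2] [FiniteDimensional k V]

/-- the standard frame of a natural module -/
structure Frame (M : Model T G) (ρ : Representation k G V) (σ : F →+* k) (p0 p1 p2 p3 : V) :
    Prop where
  n0 : ∀ b, nn M ρ b p0 = 0
  n1 : ∀ b, nn M ρ b p1 = 0
  n2 : ∀ b, nn M ρ b p2 = σ b • p0
  n3 : ∀ b, nn M ρ b p3 = σ (T.θ b) • p0 + σ b • p1
  u1 : ∀ a, ρ (M.u a 0) p1 = p1 + σ a • p0
  u2 : ∀ a, ρ (M.u a 0) p2 = p2 + σ (T.θ a) • p1 + (σ (T.θ a) * σ a) • p0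
  w0 : ρ M.w p0 = p3
  w1 : ρ M.w p1 = p2
  h0 : ∀ c : Fˣ, ρ (M.h c) p0 = σ (T.θ c * c) • p0
  h1 : ∀ c : Fˣ, ρ (M.h c) p1 = σ c • p1
  h2 : ∀ c : Fˣ, ρ (M.h c) p2 = (σ c)⁻¹ • p2
  h3 : ∀ c : Fˣ, ρ (M.h c) p3 = (σ (T.θ c * c))⁻¹ • p3

theorem eqv_frame {σ : F →+* k} {j : (Fin 4 → k) →ₗ[k] V} (h : Eqv M ρ σ j) :
    Frame M ρ σ (j ![1, 0, 0, 0]) (j ![0, 1, 0, 0]) (j ![0, 0, 1, 0]) (j ![0, 0, 0, 1]) := by
  constructor <;> intros <;>
    simp only [eqv_nn h, eqv_u h, h.w, h.h, ← map_smul, ← map_add] <;>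
    first
    | (rw [← map_zero j]; congr 1; funext i; fin_cases i <;> simp)
    | (congr 1; funext i; fin_cases i <;> simp)
    | rfl

theorem frame_span (j : (Fin 4 → k) →ₗ[k] V) (e : Fin 4 → k) :
    j e = e 0 • j ![1, 0, 0, 0] + e 1 • j ![0, 1, 0, 0] + e 2 • j ![0, 0, 1, 0] +
      e 3 • j ![0, 0, 0, 1] := by
  simp only [← map_smul, ← map_add]
  congr 1
  funext i
  fin_cases i <;> simp

end Bilin

variable {V' : Type*} [AddCommGroup V'] [Module k V'] [FiniteDimensional k V']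
  {ρ' : Representation k G V'}

theorem frame_zero (hT : T.IsFin m) (h : Fp M ρ) (h' : Fp M ρ') {f : V →ₗ[k] V →ₗ[k] V'}
    (hf : ∀ x a b, ρ' x (f a b) = f (ρ x a) (ρ x b)) {σ τ : F →+* k}
    {p0 p1 p2 p3 q0 q1 q2 q3 : V} (P : Frame M ρ σ p0 p1 p2 p3) (Q : Frame M ρ τ q0 q1 q2 q3) :
    f p0 q0 = 0 ∧ f p0 q1 = 0 ∧ f p1 q0 = 0 ∧ f p1 q1 = 0 := by
  have t2 : (2 : k) = 0 := CharTwo.two_eq_zero
  have zb : ∀ b (a : V), ρ (M.u 0 b) a = a + nn M ρ b a := fun b a => by simp [nn]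
  have hn : ∀ b a a', nn M ρ' b (f a a') =
      f (nn M ρ b a) a' + f a (nn M ρ b a') + f (nn M ρ b a) (nn M ρ b a') := fun b a a' => by
    rw [nn, LinearMap.sub_apply, hf, zb, zb, Module.End.one_apply]
    simp only [map_add, LinearMap.add_apply]
    abel
  have qq : ∀ b c (a : V), nn M ρ b (nn M ρ c a) = 0 := fun b c a =>
    LinearMap.congr_fun (quad_zero hT h b c) a
  have id1 : ∀ b c a a', f (nn M ρ b a) (nn M ρ c a') + f (nn M ρ c a) (nn M ρ b a') = 0 :=
    fun b c a a' => by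
      have := LinearMap.congr_fun (quad_zero hT h' c b) (f a a')
      rw [Module.End.mul_apply, hn, map_add, map_add, hn, hn, hn] at this
      simpa [qq] using this
  have canc : ∀ {x : k} {v : V'}, x ≠ 0 → x • v = 0 → v = 0 := fun hx e =>
    (smul_eq_zero.1 e).resolve_left hx
  by_cases hστ : σ = τ
  · subst hστ
    obtain ⟨t, ht⟩ : ∃ t, σ (T.θ t) + σ t ≠ 0 := by
      by_contra hh
      push Not at hh
      exact theta_ne hT σ (RingHom.ext fun x => by
        rw [RingHom.comp_apply]; linear_combination hh x - σ x * t2)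
    have n0 : ∀ c : Fˣ, σ (T.θ c * c) ≠ 0 := fun c => (wtL T σ c).ne_zero
    have n1 : ∀ c : Fˣ, σ c ≠ 0 := fun c => (_root_.map_ne_zero σ).2 c.ne_zero
    have f00 : f p0 q0 = 0 := canc ht (by
      have := id1 1 t p2 q3
      simp only [P.n2, Q.n3, map_add, map_smul, LinearMap.smul_apply, map_one] at this
      linear_combination (norm := module) this - (σ t * t2) • f p0 q1)
    have f03 : f p0 q3 = 0 := eq_zero_of_h hT h' fun c => by
      rw [hf, P.h0, Q.h3, map_smul, map_smul, LinearMap.smul_apply, smul_smul,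
        inv_mul_cancel₀ (n0 c), one_smul]
    have f30 : f p3 q0 = 0 := eq_zero_of_h hT h' fun c => by
      rw [hf, P.h3, Q.h0, map_smul, map_smul, LinearMap.smul_apply, smul_smul,
        mul_inv_cancel₀ (n0 c), one_smul]
    have f12 : f p1 q2 = 0 := eq_zero_of_h hT h' fun c => by
      rw [hf, P.h1, Q.h2, map_smul, map_smul, LinearMap.smul_apply, smul_smul,
        inv_mul_cancel₀ (n1 c), one_smul]
    have f01 : f p0 q1 = 0 := by
      have := hn 1 p0 q3
      simpa [f03, P.n0, Q.n3, f00] using this.symm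
    have f10 : f p1 q0 = 0 := by
      have := hn 1 p3 q0
      simpa [f30, P.n3, Q.n0, f00] using this.symm
    have key : ∀ a, σ (T.θ a) • f p1 q1 + σ a • f p0 q2 = 0 := fun a => by
      have := hf (M.u a 0) p1 q2
      rw [f12, map_zero, P.u1, Q.u2] at this
      simpa [f12, f00, f01, f10] using this.symm
    refine ⟨f00, f01, f10, canc ht ?_⟩
    have k1 := key 1
    have k2 := key t
    simp only [map_one, one_smul] at k1
    linear_combination (norm := module) k2 - σ t • k1 + (σ t * t2) • f p1 q1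
  · obtain ⟨t, ht⟩ : ∃ t, σ t + τ t ≠ 0 := by
      by_contra hh
      push Not at hh
      exact hστ (RingHom.ext fun x => by linear_combination hh x - τ x * t2)
    have f00 : f p0 q0 = 0 := canc ht (by
      have := id1 1 t p2 q2
      simp only [P.n2, Q.n2, map_smul, LinearMap.smul_apply, map_one] at this
      linear_combination (norm := module) this)
    have f01 : f p0 q1 = 0 := canc ht (by
      have := id1 1 t p2 q3
      simp only [P.n2, Q.n3, map_add, map_smul, LinearMap.smul_apply, map_one, f00] at this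
      linear_combination (norm := module) this)
    have f10 : f p1 q0 = 0 := canc ht (by
      have := id1 1 t p3 q2
      simp only [P.n3, Q.n2, map_add, map_smul, LinearMap.smul_apply, LinearMap.add_apply,
        map_one, f00] at this
      linear_combination (norm := module) this)
    refine ⟨f00, f01, f10, canc ht ?_⟩
    have := id1 1 t p3 q3
    simp only [P.n3, Q.n3, map_add, map_smul, LinearMap.smul_apply, LinearMap.add_apply,
      map_one, f00, f01, f10] at this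
    linear_combination (norm := module) this

/-- an equivariant bilinear map between such modules vanishes -/
theorem bilin_zero (hT : T.IsFin m) (h : Fp M ρ) (h' : Fp M ρ') {f : V →ₗ[k] V →ₗ[k] V'}
    (hf : ∀ x a b, ρ' x (f a b) = f (ρ x a) (ρ x b)) : f = 0 := by
  refine map_eq_zero hT h f fun σ j hj e => map_eq_zero hT h _ fun τ j' hj' e' => ?_
  have P := eqv_frame hj
  have Q := eqv_frame hj'
  rw [frame_span j e, frame_span j' e']
  generalize j ![1, 0, 0, 0] = p0 at *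
  generalize j ![0, 1, 0, 0] = p1 at *
  generalize j ![0, 0, 1, 0] = p2 at *
  generalize j ![0, 0, 0, 1] = p3 at *
  generalize j' ![1, 0, 0, 0] = q0 at *
  generalize j' ![0, 1, 0, 0] = q1 at *
  generalize j' ![0, 0, 1, 0] = q2 at *
  generalize j' ![0, 0, 0, 1] = q3 at *
  obtain ⟨f00, f01, f10, f11⟩ := frame_zero hT h h' hf P Q
  have zb : ∀ (a : V), ρ (M.u 0 1) a = a + nn M ρ 1 a := fun a => by simp [nn]
  have ww : ∀ y : V, ρ M.w (ρ M.w y) = y := fun y => by
    rw [← rep_mul, M.w_mul_w, map_one, Module.End.one_apply]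
  have key : ∀ c c' : V, nn M ρ 1 c = 0 → nn M ρ 1 c' = 0 → f c c' = 0 →
      f c (nn M ρ 1 (ρ M.w c')) = 0 → f (nn M ρ 1 (ρ M.w c)) c' = 0 →
      f c (ρ M.w c') = 0 ∧ f (ρ M.w c) c' = 0 ∧ f (ρ M.w c) (ρ M.w c') = 0 := by
    intro c c' hc hc' e0 e1 e2
    have a1 : ρ' (M.u 0 1) (f c (ρ M.w c')) = f c (ρ M.w c') := by
      rw [hf, zb c, zb, hc, add_zero, map_add, e1, add_zero]
    have a2 : ρ' M.w (f c (ρ M.w c')) = f (ρ M.w c) c' := by rw [hf, ww]
    have a3 : ρ' (M.u 0 1) (f (ρ M.w c) c') = f (ρ M.w c) c' := by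
      rw [hf, zb c', zb, hc', add_zero, map_add, LinearMap.add_apply, e2, add_zero]
    have q := h'.quad a1
    rw [a2, a3, sub_self] at q
    have a4 : f c (ρ M.w c') = 0 := by simpa using q
    exact ⟨a4, by rw [← a2, a4, map_zero], by rw [← hf, e0, map_zero]⟩
  obtain ⟨f03, f30, f33⟩ := key p0 q0 (P.n0 1) (Q.n0 1) f00
    (by simp [Q.w0, Q.n3, f00, f01]) (by simp [P.w0, P.n3, f00, f10])
  obtain ⟨f02, f31, f32⟩ := key p0 q1 (P.n0 1) (Q.n1 1) f01
    (by simp [Q.w1, Q.n2, f00]) (by simp [P.w0, P.n3, f01, f11])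
  obtain ⟨f13, f20, f23⟩ := key p1 q0 (P.n1 1) (Q.n0 1) f10
    (by simp [Q.w0, Q.n3, f10, f11]) (by simp [P.w1, P.n2, f00])
  obtain ⟨f12, f21, f22⟩ := key p1 q1 (P.n1 1) (Q.n1 1) f11
    (by simp [Q.w1, Q.n2, f10]) (by simp [P.w1, P.n2, f01])
  simp only [P.w0, P.w1, Q.w0, Q.w1] at f03 f30 f33 f02 f31 f32 f13 f20 f23 f12 f21 f22
  simp [f00, f01, f10, f11, f03, f30, f33, f02, f31, f32, f13, f20, f23, f12, f21, f22]

end H61.Mar
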