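/- Martineau's theorem, part 4: the ring lemma and the transfer to abelian groups. -/
import Cfsg.Agent.H61.Mar1

set_option autoImplicit false

namespace H61.Mar

open H66 H47 TensorProduct

section Abstract

variable {R : Type*} [Ring R] {F : Type*} [Field F]

theorem two_zero_abs (I : TwoSidedIdeal R) (h2 : (2 : R) ∈ I)
    (hII : ∀ x ∈ I, ∀ y ∈ I, x * y = 0) {u g : R} {N : F → R} (g5 : g ^ 5 = 1)
    (ug : u * g = g ^ 2 * u) (hF : 1 + g + g ^ 2 + g ^ 3 + g ^ 4 = 0) (N1 : N 1 = u * u - 1)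
    (Nm : ∀ b c, N (b + c) = N b * N c + N b + N c) (N2 : ∀ b, N b * N b = -(2 * N b))
    (uN : ∀ b, u * N b = N b * u) (hQ : ∀ b c, N b * N c ∈ I)
    (hG : ∀ c b, (u - 1) * N c * (-(g + g ^ 2) * N b) - (u - 1) * N (c * b) ∈ I)
    {b : F} (b1 : b + 1 ≠ 0) {k : ℕ} (hb : b ^ (2 * k + 1) = 1) : (2 : R) = 0 := by
  obtain ⟨z, hz⟩ : ∃ z, z = u * u := ⟨_, rfl⟩
  obtain ⟨P, hP⟩ : ∃ P, P = -(g + g ^ 2) := ⟨_, rfl⟩
  obtain ⟨ν, hν⟩ : ∃ ν, ν = u - 1 := ⟨_, rfl⟩
  rw [← hz] at N1
  simp only [← hP, ← hν] at hG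
  have zz : z * z = 1 := by
    have := N2 1
    rw [N1] at this
    linear_combination (norm := noncomm_ring) this
  have uz : u * z = z * u := by rw [hz, mul_assoc]
  have ug2 : u * g ^ 2 = g ^ 4 * u := by
    linear_combination (norm := noncomm_ring) ug * g + g ^ 2 * ug
  have ug4 : u * g ^ 4 = g ^ 3 * u := by
    linear_combination (norm := noncomm_ring) ug2 * g ^ 2 + g ^ 4 * ug2 + g5 * g ^ 3 * u
  have zg : z * g = g ^ 4 * z := by
    rw [hz]; linear_combination (norm := noncomm_ring) u * ug + ug2 * u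
  have zg2 : z * g ^ 2 = g ^ 3 * z := by
    rw [hz]; linear_combination (norm := noncomm_ring) u * ug2 + ug4 * u
  have E1 : (1 + z) * P + z * P * (z - 1) = 1 := by
    rw [hP]
    linear_combination (norm := noncomm_ring) -hF - zg * z - zg2 * z - (g ^ 4 + g ^ 3) * zz
  have E2 : ∃ y, 1 = -(g * ((1 + u) * (1 + z))) + ν * y := by
    refine ⟨-(g * (u * z) + (u + 1) * g * z + (z + u + 1) * g * u), ?_⟩
    have e1 : u * g * (u * z) = g ^ 2 := by
      linear_combination (norm := noncomm_ring) ug * (u * z) - g ^ 2 * hz * z + g ^ 2 * zz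
    have e2 : z * g * z = g ^ 4 := by
      linear_combination (norm := noncomm_ring) zg * z + g ^ 4 * zz
    have e3 : u * z * g * u = g ^ 3 := by
      linear_combination (norm := noncomm_ring) u * zg * u + ug4 * z * u + g ^ 3 * uz * u -
        g ^ 3 * z * hz + g ^ 3 * zz
    rw [hν]
    linear_combination (norm := noncomm_ring) hF + e1 + e2 + e3 - hz * g * z - hz * g * u
  have two : ∀ x : R, 2 * x ∈ I := fun x => I.mul_mem_right _ _ h2
  have mulI : ∀ {x y w : R}, x - y ∈ I → w ∈ I → x * w = y * w := fun h hw => by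
    rw [← sub_eq_zero, ← sub_mul]; exact hII _ h _ hw
  have twoI : ∀ {x y : R}, x - y ∈ I → 2 * x = 2 * y := fun h => by
    rw [← sub_eq_zero, ← mul_sub]; exact hII _ h2 _ h
  have zN : ∀ c, z * N c = N c * z := fun c => by
    rw [hz]; linear_combination (norm := noncomm_ring) u * uN c + uN c * u
  obtain ⟨γ, hγ⟩ : ∃ γ, γ = P * N b := ⟨_, rfl⟩
  obtain ⟨D, hD⟩ : ∃ D, D = z * P * ((z - 1) * N b) := ⟨_, rfl⟩
  have wI : (z - 1) * N b ∈ I := N1 ▸ hQ 1 b
  have DI : D ∈ I := hD ▸ I.mul_mem_left _ _ wI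
  have E3 : N b = (1 + z) * γ + D := by
    rw [hγ, hD]; linear_combination (norm := noncomm_ring) -E1 * N b
  have E4 : z * D * γ = -(γ * D) - 2 * γ - 2 * γ * γ := by
    have e1 : γ * (1 + z) = 2 * γ + z * D := by
      rw [hγ, hD]
      linear_combination (norm := noncomm_ring) -P * zN b - zz * P * ((z - 1) * N b)
    have e2 : γ * N b = -(2 * γ) := by
      rw [hγ]; linear_combination (norm := noncomm_ring) P * N2 b
    linear_combination (norm := noncomm_ring) -γ * E3 + e2 - e1 * γ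
  have Tγ : ∀ c, ν * N c * γ - ν * N (c * b) ∈ I := fun c => hγ ▸ hG c b
  have step : ∀ c, ν * N c * D * γ =
      ν * N (c * b) * D + 2 * (ν * N (c * b)) + 2 * (ν * N (c * b * b)) := fun c => by
    have e1 : ν * N c * z * D = ν * N c * D := mulI (by
      have : ν * N c * z - ν * N c = ν * (N c * N 1) := by rw [N1]; noncomm_ring
      rw [this]; exact I.mul_mem_left _ _ (hQ c 1)) DI
    have e2 := mulI (Tγ c) DI
    have e3 := twoI (Tγ c)
    have e4 := twoI (Tγ (c * b))
    have e5 := hII _ h2 _ (I.mul_mem_left (ν * N (c * b)) _ DI)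
    have e6 := hII _ h2 _ (two (ν * N (c * b)))
    have e7 := hII _ h2 _ (two (ν * N (c * b * b)))
    linear_combination (norm := noncomm_ring) -e1 * γ + ν * N c * E4 - e2 - e3 - e3 * γ - e4 -
      e5 - e6 - e7
  have step2 : ∀ (n : ℕ) c, ν * N c * D * γ ^ (2 * n) = ν * N (c * b ^ (2 * n)) * D := fun n => by
    induction n with
    | zero => simp
    | succ n ih =>
      intro c
      have e0 : c * b ^ (2 * (n + 1)) = c * b ^ (2 * n) * b * b := by ring
      have e1 : γ ^ (2 * (n + 1)) = γ ^ (2 * n) * γ * γ := by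
        rw [← pow_succ, ← pow_succ]; rfl
      rw [e0, e1, ← mul_assoc, ← mul_assoc, ih]
      generalize c * b ^ (2 * n) = d
      have e3 := twoI (Tγ (d * b))
      have e4 := twoI (Tγ (d * b * b))
      have e6 := hII _ h2 _ (two (ν * N (d * b * b)))
      have e7 := hII _ h2 _ (two (ν * N (d * b * b * b)))
      linear_combination (norm := noncomm_ring) step d * γ + step (d * b) + e3 + e4 + e6 + e7
  have Tpow : ∀ n : ℕ, ν * N 1 * γ ^ n - ν * N (b ^ n) ∈ I := fun n => by
    induction n with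
    | zero => simp
    | succ n ih =>
      have : ν * N 1 * γ ^ (n + 1) - ν * N (b ^ (n + 1)) =
          (ν * N 1 * γ ^ n - ν * N (b ^ n)) * γ + (ν * N (b ^ n) * γ - ν * N (b ^ n * b)) := by
        rw [pow_succ, pow_succ]; noncomm_ring
      rw [this]
      exact I.add_mem (I.mul_mem_right _ _ ih) (Tγ _)
  have Tr : (1 + u) * (1 + z) = ν * N 1 + 2 * (u + z) := by rw [hν, N1]; noncomm_ring
  obtain ⟨y, hy⟩ := E2
  have TDν : ν * N 1 * D * ν = 0 := by
    have w0 : (z - 1) * ((z - 1) * N b) = 0 := by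
      have := hII _ h2 _ wI
      linear_combination (norm := noncomm_ring) zz * N b - this
    have w1 : (z - 1) * N b = (1 + z) * P * ((z - 1) * N b) := by
      linear_combination (norm := noncomm_ring) -E1 * ((z - 1) * N b) + z * P * w0
    have w2 : (z - 1) * N b * ν = ν * ((z - 1) * N b) := by
      rw [hν]; linear_combination (norm := noncomm_ring) -(z - 1) * uN b - uz * N b
    have w3 : (1 + z) * P * (1 + z) = 1 + z := by
      linear_combination (norm := noncomm_ring) (1 + z) * E1 - zz * P * z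
    have w4 : ν * (z - 1) * z * P * ν * (1 + z) =
        2 * (-(1 + z) + u * (1 + z) + ν * P * (1 + z) * ν) := by
      rw [hν]
      linear_combination (norm := noncomm_ring) (u - 1) * zz * P * (u - 1) * (1 + z) +
        (u - 1) * (1 - z) * P * uz - (u - 1) * w3 * (u - 1) + (u - 1) * uz + hz * (1 + z) - zz
    have w5 := hII _ (two (-(1 + z) + u * (1 + z) + ν * P * (1 + z) * ν)) _
      (I.mul_mem_left P _ wI)
    rw [N1, hD]
    linear_combination (norm := noncomm_ring) ν * (z - 1) * z * P * w2 +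
      ν * (z - 1) * z * P * ν * w1 + w4 * (P * ((z - 1) * N b)) + w5
  have main : 2 * (ν * N 1) + 2 * (ν * N b) = 0 := by
    have e1 := step2 k 1
    have e2 := step (1 * b ^ (2 * k))
    have e3 : 1 * b ^ (2 * k) * b = 1 := by rw [one_mul, ← pow_succ, hb]
    rw [e3, one_mul b] at e2
    have e4 := Tpow (2 * k + 1)
    rw [hb, pow_succ] at e4
    generalize γ ^ (2 * k) = x at e1 e4
    have e5 : (1 + u) * (1 + z) * (x * γ - 1) ∈ I := by
      have : (1 + u) * (1 + z) * (x * γ - 1) =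
          (ν * N 1 * (x * γ) - ν * N 1) + 2 * ((u + z) * (x * γ - 1)) := by rw [Tr]; noncomm_ring
      rw [this]; exact I.add_mem e4 (two _)
    have e6 := hII _ (I.mul_mem_left (ν * N 1) _ DI) _ (I.mul_mem_left g _ e5)
    linear_combination (norm := noncomm_ring) -e1 * γ - e2 + ν * N 1 * D * hy * (x * γ - 1) - e6 +
      TDν * y * (x * γ - 1)
  have T1 : 2 * (ν * N 1) = 0 := by
    have e1 : 2 * (ν * N (b + 1)) = 0 := by
      have := hII _ h2 _ (I.mul_mem_left ν _ (hQ b 1))
      rw [Nm]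
      linear_combination (norm := noncomm_ring) main + this
    have e2 := twoI (hG (b + 1) (b + 1)⁻¹)
    rw [mul_inv_cancel₀ b1] at e2
    linear_combination (norm := noncomm_ring) -e2 + e1 * (P * N (b + 1)⁻¹)
  have e1 : (2 : R) = ν * 2 * y := by
    have := hII _ h2 _ (two (u + z))
    linear_combination (norm := (noncomm_ring; simp)) 2 * hy - g * 2 * Tr - g * T1 - g * this
  have e2 : ν * ν * ν * ν * 2 = 0 := by
    have e : ν * ν * ν * ν = 2 * (1 - 2 * (u * z) + 3 * z - 2 * u) := by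
      rw [hν]
      linear_combination (norm := noncomm_ring) zz - hz * z - u * u * hz + 4 * u * hz - 6 * hz
    rw [e]; exact hII _ (two _) _ h2
  calc (2 : R) = ν * (ν * (ν * (ν * 2 * y) * y) * y) * y := by rw [← e1, ← e1, ← e1, ← e1]
    _ = (ν * ν * ν * ν * 2) * (y * y * y * y) := by noncomm_ring
    _ = 0 := by rw [e2, zero_mul]

end Abstract

variable {F : Type*} [Field F] {T : Tits F} {m : ℕ} {G : Type*} [Group G] {M : Model T G}

theorem two_zero (hT : T.IsFin m) {R : Type*} [Ring R] {ρ : G →* R} (h : Fp M ρ)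
    (I : TwoSidedIdeal R) (h2 : (2 : R) ∈ I) (hII : ∀ x ∈ I, ∀ y ∈ I, x * y = 0)
    (hQ : ∀ b c, nn M ρ b * nn M ρ c ∈ I)
    (hG : ∀ c b, nu M ρ * nn M ρ c * (PP M ρ * nn M ρ b) - nu M ρ * nn M ρ (c * b) ∈ I) :
    (2 : R) = 0 := by
  have := hT.finite
  obtain ⟨b, b0, b1⟩ := hT.exists_ne
  obtain ⟨k, hk⟩ := hT.odd_sub_one
  have zm : ∀ b c, ρ (M.u 0 b) * ρ (M.u 0 c) = ρ (M.u 0 (b + c)) := fun b c => by
    rw [← map_mul, M.z_mul]
  refine two_zero_abs I h2 hII (u := ρ (M.u 1 0)) (g := ρ (g5 M)) (N := nn M ρ) ?_ ?_ ?_ ?_ ?_ ?_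
    ?_ hQ ?_ (b := b) (fun e => b1 ?_) (k := k) ?_
  · rw [← map_pow, g5_pow_five, map_one]
  · rw [← map_pow, ← map_mul, ← map_mul, u_mul_g5]
  · simpa only [Fp, map_pow] using h
  · rw [nn, ← map_mul, u10_mul_u10]
  · intro b c
    simp only [nn, ← zm]; noncomm_ring
  · intro b
    have := zm b b
    rw [T.add_self, M.u_zero, map_one] at this
    simp only [nn]
    linear_combination (norm := noncomm_ring) this
  · intro b
    simp only [nn, mul_sub, sub_mul, ← map_mul, M.z_comm, mul_one, one_mul]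
  · intro c b
    simpa only [nu, PP, map_pow] using hG c b
  · linear_combination e - T.two
  · let _ := Fintype.ofFinite F
    rw [← hk, Nat.card_eq_fintype_card]
    exact FiniteField.pow_card_sub_one_eq_one b b0

section Transfer

variable (k : Type*) [Field k] [CharP k 2] {A : Type*} [AddCommGroup A]

theorem exists_two_of_tmul {a : A} (h : (1 : k) ⊗ₜ[ℤ] a = 0) : ∃ a', a = 2 • a' := by
  by_contra hn
  let H : AddSubgroup A := (nsmulAddMonoidHom 2).range
  have : Fact (Nat.Prime 2) := ⟨Nat.prime_two⟩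
  let _ : Module (ZMod 2) (A ⧸ H) := QuotientAddGroup.zmodModule fun x => ⟨x, rfl⟩
  have ha : (a : A ⧸ H) ≠ 0 := fun e => by
    obtain ⟨x, hx⟩ := (QuotientAddGroup.eq_zero_iff a).1 e
    exact hn ⟨x, hx.symm⟩
  obtain ⟨φ, hφ⟩ := not_forall.1 (mt (Module.forall_dual_apply_eq_zero_iff (ZMod 2) _).1 ha)
  let ψ : A →+ k := (ZMod.castHom (dvd_refl 2) k).toAddMonoidHom.comp
    (φ.toAddMonoidHom.comp (QuotientAddGroup.mk' H))
  have := congrArg (ψ.toIntLinearMap.liftBaseChange k) h
  rw [LinearMap.liftBaseChange_tmul, one_smul, map_zero] at this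
  exact hφ ((ZMod.castHom (dvd_refl 2) k).injective (by rw [map_zero]; exact this))

/-- base change of a representation -/
noncomputable def bc (ρ : Representation ℤ G A) : Representation k G (k ⊗[ℤ] A) :=
  (Module.End.baseChangeHom ℤ k A).toMonoidHom.comp ρ

omit [CharP k 2] in
theorem bc_apply (ρ : Representation ℤ G A) (x : G) :
    bc k ρ x = Module.End.baseChangeHom ℤ k A (ρ x) := rfl

omit [CharP k 2] in
theorem fp_bc {ρ : Representation ℤ G A} (h : Fp M ρ) : Fp M (bc k ρ) := by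
  have := congrArg (Module.End.baseChangeHom ℤ k A) h
  simpa only [Fp, map_add, map_one, map_zero, bc_apply] using this

theorem exists_two_of_bc {r : Module.End ℤ A} (h : Module.End.baseChangeHom ℤ k A r = 0) (a : A) :
    ∃ a', r a = 2 • a' :=
  exists_two_of_tmul k (LinearMap.congr_fun h ((1 : k) ⊗ₜ[ℤ] a))

end Transfer

variable {A : Type*} [AddCommGroup A] [Finite A] {ρ : Representation ℤ G A}

/-- a module of exponent four has exponent two -/
theorem two_nsmul_eq_zero (hT : T.IsFin m) (h : Fp M ρ) (h4 : ∀ a : A, 2 • 2 • a = 0) (a : A) :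
    2 • a = 0 := by
  have : Fact (Nat.Prime 2) := ⟨Nat.prime_two⟩
  let k := AlgebraicClosure (ZMod 2)
  let I : TwoSidedIdeal (Module.End ℤ A) := TwoSidedIdeal.mk' {r | ∀ a, ∃ a', r a = 2 • a'}
    (fun _ => ⟨0, by simp⟩)
    (fun {x y} hx hy a => by
      obtain ⟨a1, e1⟩ := hx a
      obtain ⟨a2, e2⟩ := hy a
      exact ⟨a1 + a2, by rw [LinearMap.add_apply, e1, e2, smul_add]⟩)
    (fun {x} hx a => by
      obtain ⟨a1, e1⟩ := hx a
      exact ⟨-a1, by rw [LinearMap.neg_apply, e1, smul_neg]⟩)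
    (fun {x y} hy a => by
      obtain ⟨a1, e1⟩ := hy a
      exact ⟨x a1, by rw [Module.End.mul_apply, e1, map_nsmul]⟩)
    (fun {x y} hx a => hx _)
  have mem : ∀ r, r ∈ I ↔ ∀ a, ∃ a', r a = 2 • a' := fun r => TwoSidedIdeal.mem_mk' _ _ _ _ _ _ r
  have hb := fp_bc k h
  have := two_zero hT h I ((mem _).2 fun a => ⟨a, by simp⟩) (fun x hx y hy => by
    refine LinearMap.ext fun a => ?_
    obtain ⟨a1, e1⟩ := (mem _).1 hy a
    obtain ⟨a2, e2⟩ := (mem _).1 hx a1
    rw [Module.End.mul_apply, e1, map_nsmul, e2, h4, LinearMap.zero_apply])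
    (fun b c => (mem _).2 (exists_two_of_bc k (by
      simpa only [nn, map_mul, map_sub, map_one, bc_apply] using quad_zero hT hb b c)))
    (fun c b => (mem _).2 (exists_two_of_bc k (by
      simpa only [nn, nu, PP, map_mul, map_sub, map_one, map_neg, map_add, bc_apply] using
        gid_zero hT hb c b)))
  simpa using LinearMap.congr_fun this a

/-- an equivariant biadditive map to a module of exponent two vanishes -/
theorem biadd_eq_zero (hT : T.IsFin m) (h : Fp M ρ) {B : Type*} [AddCommGroup B] [Finite B]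
    {ρ' : Representation ℤ G B} (h' : Fp M ρ') (h2 : ∀ b : B, 2 • b = 0) (f : A → A → B)
    (hl : ∀ a a' c, f (a + a') c = f a c + f a' c) (hr : ∀ a c c', f a (c + c') = f a c + f a c')
    (hf : ∀ x a c, ρ' x (f a c) = f (ρ x a) (ρ x c)) (a c : A) : f a c = 0 := by
  have : Fact (Nat.Prime 2) := ⟨Nat.prime_two⟩
  let k := AlgebraicClosure (ZMod 2)
  let f0 : LinearMap.BilinMap ℤ A B := LinearMap.mk₂ ℤ f hl
    (fun n a c => map_zsmul (AddMonoidHom.mk' (fun a => f a c) fun a a' => hl a a' c) n a) hr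
    (fun n a c => map_zsmul (AddMonoidHom.mk' (f a) (hr a)) n c)
  have := bilin_zero hT (fp_bc k h) (fp_bc k h') (f := f0.baseChange k) fun x a c => by
    induction a using TensorProduct.induction_on with
    | zero => simp
    | add a a' ha ha' => simp only [map_add, LinearMap.add_apply, ha, ha']
    | tmul s a =>
      induction c using TensorProduct.induction_on with
      | zero => simp
      | add c c' hc hc' => simp only [map_add, hc, hc']
      | tmul t c => exact congrArg (fun b => (s * t) ⊗ₜ[ℤ] b) (hf x a c)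
  have e : ((1 : k) * 1) ⊗ₜ[ℤ] f a c = 0 :=
    LinearMap.congr_fun (LinearMap.congr_fun this ((1 : k) ⊗ₜ[ℤ] a)) ((1 : k) ⊗ₜ[ℤ] c)
  rw [mul_one] at e
  obtain ⟨b, hb⟩ := exists_two_of_tmul k e
  rw [hb, h2]

end H61.Mar
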