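/- Martineau's theorem: `G/Q ≅ Sz(q)` with an element of order five fixed point free on the normal
`2`-subgroup `Q`; then `Q` is elementary abelian. -/
import Cfsg.Agent.H61.Mar2
import Cfsg.Agent.H47.Higman
import Cfsg.Agent.H31.CITBasic
import Cfsg.Agent.H66.SzInst

set_option autoImplicit false

namespace H61.Mar

open H66 H47 Subgroup
open scoped commutatorElement IsMulCommutative

universe u

variable {F : Type*} [Field F] {T : Tits F} {m : ℕ} {S : Type*} [Group S] {M : Model T S}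

/-- The hypothesis of Martineau's theorem in a form inherited by quotients. -/
structure Hyp (M : Model T S) {G : Type*} [Group G] (π : G →* S) : Prop where
  surj : Function.Surjective π
  two : IsPGroup 2 π.ker
  five : ∀ x, π x = g5 M → x ^ 5 = 1

theorem exists_lift {G R : Type*} [Group G] [Monoid R] {π : G →* S} (hs : Function.Surjective π)
    (ρ0 : G →* R) (hker : π.ker ≤ ρ0.ker) : ∃ ρ : S →* R, ∀ g, ρ (π g) = ρ0 g := by
  refine ⟨(QuotientGroup.lift π.ker ρ0 hker).comp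
    (QuotientGroup.quotientKerEquivOfSurjective π hs).symm.toMonoidHom, fun g => ?_⟩
  have : (QuotientGroup.quotientKerEquivOfSurjective π hs).symm (π g) = (g : G ⧸ π.ker) := by
    rw [MulEquiv.symm_apply_eq]; rfl
  change QuotientGroup.lift π.ker ρ0 hker
    ((QuotientGroup.quotientKerEquivOfSurjective π hs).symm (π g)) = _
  rw [this]; rfl

theorem Hyp.exists_rep {G : Type*} [Group G] {π : G →* S} (h : Hyp M π) (V : Subgroup G)
    [V.Normal] [IsMulCommutative V] (hV : V ≤ π.ker) (hc : ∀ q ∈ π.ker, ∀ v ∈ V, q * v = v * q) :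
    ∃ ρ : Representation ℤ S (Additive V), Fp M ρ ∧
      ∀ g (v : Additive V), ((ρ (π g) v).toMul : G) = g * v.toMul * g⁻¹ := by
  obtain ⟨ρ0, ρ0v⟩ : ∃ ρ0 : G →* Module.End ℤ (Additive V),
      ∀ g (x : Additive V), ((ρ0 g x).toMul : G) = g * x.toMul * g⁻¹ :=
    ⟨{ toFun := fun g =>
        (MonoidHom.toAdditive (MulAut.conjNormal g : MulAut V).toMonoidHom).toIntLinearMap
       map_one' := by rw [map_one]; rfl
       map_mul' := fun a b => by rw [map_mul]; rfl }, fun _ _ => rfl⟩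
  have hker : π.ker ≤ ρ0.ker := fun g hg => by
    rw [MonoidHom.mem_ker]
    refine LinearMap.ext fun x => Additive.toMul.injective (Subtype.ext ?_)
    rw [ρ0v, hc g hg _ x.toMul.2, mul_inv_cancel_right]; rfl
  obtain ⟨ρ, ρπ⟩ : ∃ ρ : S →* Module.End ℤ (Additive V), ∀ g, ρ (π g) = ρ0 g :=
    exists_lift h.surj ρ0 hker
  refine ⟨ρ, ?_, fun g v => by rw [ρπ, ρ0v]⟩
  obtain ⟨g, hg⟩ := h.surj (g5 M)
  refine LinearMap.ext fun x => Additive.toMul.injective (Subtype.ext ?_)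
  have h1 := h.five g hg
  have h2 := h.five (x.toMul * g) (by rw [map_mul, MonoidHom.mem_ker.1 (hV x.toMul.2), one_mul, hg])
  rw [← hg, ← map_pow π, ← map_pow π, ← map_pow π, ρπ, ρπ, ρπ, ρπ]
  simp only [LinearMap.add_apply, toMul_add, Subgroup.coe_mul, ρ0v, Module.End.one_apply,
    LinearMap.zero_apply, toMul_zero, Subgroup.coe_one]
  calc _ = ((x.toMul : G) * g) ^ 5 * (g ^ 5)⁻¹ := by
        simp only [pow_succ, pow_zero, one_mul]; group
    _ = 1 := by rw [h1, h2, inv_one, one_mul]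

theorem Hyp.elem_aux (hT : T.IsFin m) (n : ℕ) : ∀ {G : Type u} [Group G] [Finite G]
    {π : G →* S}, Nat.card G = n → Hyp M π → ∀ x ∈ π.ker, x * x = 1 := by
  induction n using Nat.strong_induction_on with
  | _ n ih =>
  intro G _ _ π hn h
  by_cases hbot : π.ker = ⊥
  · intro x hx
    rw [hbot, mem_bot] at hx
    rw [hx, one_mul]
  have : Fact (Nat.Prime 2) := ⟨Nat.prime_two⟩
  have nq : π.ker.Normal := inferInstance
  let N : Subgroup G :=
    { carrier := {x | x ∈ π.ker ∧ (∀ q ∈ π.ker, q * x = x * q) ∧ x * x = 1}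
      one_mem' := ⟨one_mem _, fun q _ => by simp, one_mul 1⟩
      mul_mem' := fun {a b} ha hb => ⟨mul_mem ha.1 hb.1,
        fun q hq => by rw [← mul_assoc, ha.2.1 q hq, mul_assoc, hb.2.1 q hq, mul_assoc], by
          rw [mul_assoc, ← mul_assoc b, ha.2.1 b hb.1, mul_assoc a, hb.2.2, mul_one, ha.2.2]⟩
      inv_mem' := fun {a} ha => by rwa [inv_eq_of_mul_eq_one_right ha.2.2] }
  have : N.Normal := ⟨fun a ha g => ⟨nq.conj_mem a ha.1 g, fun q hq => by
    have := ha.2.1 _ (nq.conj_mem q hq g⁻¹)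
    calc q * (g * a * g⁻¹) = g * (g⁻¹ * q * g⁻¹⁻¹ * a) * g⁻¹ := by group
      _ = _ := by rw [this]; group, by rw [conj_mul, ha.2.2]; group⟩⟩
  have hNk : N ≤ π.ker := fun a ha => ha.1
  have hN : N ≠ ⊥ := by
    obtain ⟨⟨y, hy, hy'⟩, y1⟩ := ne_bot_iff_exists_ne_one.1
      (H98.inf_centralizer_ne_bot (p := 2) h.two h.two le_normalizer hbot)
    obtain ⟨j, hj⟩ := (H31.two_of_mem h.two hy).exists_invol fun e => y1 (Subtype.ext e)
    intro e
    have : y ^ 2 ^ j ∈ N := ⟨pow_mem hy _, fun q hq => Commute.pow_right (hy' q hq) _,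
      H83.mul_self_of_orderOf_two hj⟩
    exact H83.ne_one_of_orderOf_two hj (mem_bot.1 (e ▸ this))
  let π' : G ⧸ N →* S := QuotientGroup.lift N π hNk
  have h' : Hyp M π' := by
    refine ⟨fun s => ?_, ?_, fun g hg => ?_⟩
    · obtain ⟨g, rfl⟩ := h.surj s
      exact ⟨g, rfl⟩
    · rw [show π'.ker = π.ker.map (QuotientGroup.mk' N) from QuotientGroup.ker_lift N π hNk]
      exact h.two.map _
    · obtain ⟨g, rfl⟩ := QuotientGroup.mk_surjective g
      rw [← QuotientGroup.mk_pow, h.five g hg, QuotientGroup.mk_one]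
  have lt : Nat.card (G ⧸ N) < n := by
    rw [← hn, card_eq_card_quotient_mul_card_subgroup N]
    exact lt_mul_of_one_lt_right Nat.card_pos ((one_lt_card_iff_ne_bot N).2 hN)
  have h2 := ih _ lt rfl h'
  have hc' : ∀ x ∈ π'.ker, ∀ y ∈ π'.ker, x * y = y * x := fun x hx y hy => H31.comm_of_sq h2 hx hy
  have cN : ∀ x ∈ π.ker, ∀ y ∈ π.ker, ⁅x, y⁆ ∈ N := fun x hx y hy => by
    rw [← QuotientGroup.eq_one_iff, ← QuotientGroup.mk'_apply, map_commutatorElement,
      commutatorElement_eq_one_iff_mul_comm]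
    exact hc' _ hx _ hy
  have : IsMulCommutative N := ⟨⟨fun a b => Subtype.ext (b.2.2.1 a a.2.1)⟩⟩
  have : IsMulCommutative π'.ker := ⟨⟨fun a b => Subtype.ext (hc' _ a.2 _ b.2)⟩⟩
  obtain ⟨ρN, fN, eN⟩ := h.exists_rep N hNk fun q hq v hv => hv.2.1 q hq
  obtain ⟨ρA, fA, eA⟩ := h'.exists_rep π'.ker le_rfl hc'
  have sur : ∀ a : Additive π'.ker, ∃ x ∈ π.ker, (a.toMul : G ⧸ N) = x := fun a => by
    obtain ⟨x, hx⟩ := QuotientGroup.mk_surjective (a.toMul : G ⧸ N)
    exact ⟨x, by have := a.toMul.2; rw [← hx] at this; exact this, hx.symm⟩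
  choose o ho ho' using sur
  let f : Additive π'.ker → Additive π'.ker → Additive N := fun a c =>
    Additive.ofMul ⟨⁅o a, o c⁆, cN _ (ho a) _ (ho c)⟩
  have fv : ∀ (a c : Additive π'.ker) (x y : G), (a.toMul : G ⧸ N) = x → (c.toMul : G ⧸ N) = y →
      ((f a c).toMul : G) = ⁅x, y⁆ := fun a c x y hx hy => by
    have h1 : (o a)⁻¹ * x ∈ N := QuotientGroup.eq.1 ((ho' a).symm.trans hx)
    have h3 : (o c)⁻¹ * y ∈ N := QuotientGroup.eq.1 ((ho' c).symm.trans hy)
    obtain ⟨s, hs, rfl⟩ : ∃ s ∈ N, x = o a * s := ⟨_, h1, by group⟩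
    obtain ⟨t, ht, rfl⟩ : ∃ t ∈ N, y = o c * t := ⟨_, h3, by group⟩
    change ⁅o a, o c⁆ = _
    have e1 := hs.2.1 _ (mul_mem (ho c) ht.1)
    have e2 := ht.2.1 _ (inv_mem (ho a))
    calc ⁅o a, o c⁆ = o a * o c * (t * (o a)⁻¹) * t⁻¹ * (o c)⁻¹ := by
          rw [← e2, commutatorElement_def]; group
      _ = o a * (o c * t * s) * s⁻¹ * (o a)⁻¹ * t⁻¹ * (o c)⁻¹ := by group
      _ = _ := by rw [e1, commutatorElement_def]; group
  have inj : ∀ {a b : Additive N}, (a.toMul : G) = b.toMul → a = b := fun e =>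
    Additive.toMul.injective (Subtype.ext e)
  have f0 := biadd_eq_zero hT fA fN (fun b => inj (by
      rw [two_nsmul]; exact b.toMul.2.2.2)) f
    (fun a a' c => inj (by
      rw [fv (a + a') c (o a * o a') (o c) (by rw [QuotientGroup.mk_mul, ← ho', ← ho']; rfl) (ho' c),
        comm_mul_left_central ((cN _ (ho a') _ (ho c)).2.1 _ (ho a))]
      exact (cN _ (ho a) _ (ho c)).2.1 _ (cN _ (ho a') _ (ho c)).1))
    (fun a c c' => inj (by
      rw [fv a (c + c') (o a) (o c * o c') (ho' a) (by rw [QuotientGroup.mk_mul, ← ho', ← ho']; rfl),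
        comm_mul_right_central ((cN _ (ho a) _ (ho c')).2.1 _ (ho c))]
      rfl))
    (fun s a c => inj (by
      obtain ⟨g, rfl⟩ := h.surj s
      have e : ∀ a : Additive π'.ker, ((ρA (π g) a).toMul : G ⧸ N) = (g * o a * g⁻¹ : G) :=
        fun a => by
          rw [QuotientGroup.mk_mul, QuotientGroup.mk_mul, QuotientGroup.mk_inv, ← ho']
          exact eA g a
      rw [eN, fv _ _ _ _ (e a) (e c), ← conjugate_commutatorElement]
      rfl))
  have hc : ∀ x ∈ π.ker, ∀ y ∈ π.ker, x * y = y * x := fun x hx y hy => by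
    rw [← commutatorElement_eq_one_iff_mul_comm,
      ← fv (Additive.ofMul ⟨x, hx⟩) (Additive.ofMul ⟨y, hy⟩) x y rfl rfl, f0]
    rfl
  have : IsMulCommutative π.ker := ⟨⟨fun a b => Subtype.ext (hc _ a.2 _ b.2)⟩⟩
  obtain ⟨ρ, fQ, -⟩ := h.exists_rep π.ker le_rfl hc
  intro x hx
  have := two_nsmul_eq_zero hT fQ (fun a => Additive.toMul.injective (Subtype.ext (by
    rw [two_nsmul, two_nsmul]
    exact ((QuotientGroup.eq_one_iff (N := N) ((a.toMul : G) * a.toMul)).1
      (h2 (a.toMul : G) a.toMul.2)).2.2))) (Additive.ofMul ⟨x, hx⟩)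
  rw [two_nsmul] at this
  exact congrArg (fun w : Additive π.ker => ((Additive.toMul w : π.ker) : G)) this

/-- Martineau's theorem. -/
theorem Hyp.elem (hT : T.IsFin m) {G : Type*} [Group G] [Finite G] {π : G →* S} (h : Hyp M π) :
    ∀ x ∈ π.ker, x * x = 1 := Hyp.elem_aux hT _ rfl h

/-- In a CIT-group elements over a nontrivial element of odd order have the same order. -/
theorem cit_pow_eq_one {G : Type*} [Group G] [Finite G] (h : H31.CIT G) {π : G →* S}
    (h2 : IsPGroup 2 π.ker) {x : G} {n : ℕ} (hn : Odd n) (hx : π x ^ n = 1) (h1 : π x ≠ 1) :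
    x ^ n = 1 := by
  rcases h.two_or_odd x with e | e
  · exact absurd ((e.map π).eq_one_of_odd (hn.of_dvd_nat (orderOf_dvd_of_pow_eq_one hx))) h1
  · exact (H31.two_of_mem h2 (by rw [MonoidHom.mem_ker, map_pow, hx])).eq_one_of_odd
      (e.of_dvd_nat (orderOf_pow_dvd n))

theorem cit_sq_of_suzuki {G : Type*} [Group G] [Finite G] (h : H31.CIT G) (Q : Subgroup G)
    [Q.Normal] (hQ : IsPGroup 2 Q) (hS : Cfsg.Lie.IsoSuzuki (G ⧸ Q)) : ∀ x ∈ Q, x * x = 1 := by
  obtain ⟨F, _, _, m, hm, hF, ⟨e⟩⟩ := hS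
  have hT := titsOf_isFin F hm hF
  have hk := QuotientGroup.ker_mk' Q
  have := Hyp.elem (M := (modelB hT).ofEquiv e) (π := QuotientGroup.mk' Q) hT
    ⟨QuotientGroup.mk'_surjective Q, hk.symm ▸ hQ, fun x hx =>
      cit_pow_eq_one h (π := QuotientGroup.mk' Q) (hk.symm ▸ hQ) (by decide)
        (by rw [hx, g5_pow_five]) (by rw [hx]; exact g5_ne_one _)⟩
  rwa [hk] at this

theorem cit_sq_of_l2 {G : Type*} [Group G] [Finite G] (h : H31.CIT G) (Q : Subgroup G)
    [Q.Normal] (hQ : IsPGroup 2 Q) {K : Type*} [Field K] [Finite K] [CharP K 2]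
    (h4 : 4 ≤ Nat.card K) (e : G ⧸ Q ≃* Matrix.ProjectiveSpecialLinearGroup (Fin 2) K) :
    ∀ x ∈ Q, x * x = 1 := by
  let e' := e.trans (slEquivPslOfTwo (F := K) CharTwo.two_eq_zero).symm
  let π : G →* Matrix.SpecialLinearGroup (Fin 2) K := e'.toMonoidHom.comp (QuotientGroup.mk' Q)
  have hk : π.ker = Q := by
    ext g
    simp [π]
  have := (Hig.coords h4 (π := π) ⟨e'.surjective.comp (QuotientGroup.mk'_surjective Q),
    hk.symm ▸ hQ, fun g hg => cit_pow_eq_one h (hk.symm ▸ hQ) (by decide)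
      (cube_of_tr_eq_one hg) (ne_one_of_tr_eq_one hg)⟩).2.1
  rwa [hk] at this

end H61.Mar
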