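import Cfsg.Agent.H78.TEDef

/-! STD-2E6, slot AP1: automorphisms of `P₀` that centralise `P₀ / Q`. -/

set_option autoImplicit false
set_option linter.unusedSectionVars false

namespace H61.TEAP1

open Cfsg.Lie H63 H65 H64 H64.SG H68 H46.SF H78.TE Subgroup

theorem remove {α ι : Type*} {S : Set ι} (hS : S.Finite) {K : α → Prop} {good : α → ι → Prop}
    (h0 : ∃ n, K n) (step : ∀ n, K n → ∀ u ∈ S, ∃ n', K n' ∧ good n' u ∧
      ∀ u' ∈ S, u' ≠ u → good n u' → good n' u') : ∃ n, K n ∧ ∀ u ∈ S, good n u := by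
  have key : ∀ T : Set ι, T.Finite → T ⊆ S → ∃ n, K n ∧ ∀ u ∈ T, good n u := fun T hT => by
    induction T, hT using Set.Finite.induction_on with
    | empty => exact fun _ => h0.imp fun n h => ⟨h, by simp⟩
    | @insert u T hu _ ih =>
      intro h
      obtain ⟨n, h1, h2⟩ := ih ((Set.subset_insert _ _).trans h)
      obtain ⟨n', h3, h4, h5⟩ := step n h1 u (h (Set.mem_insert _ _))
      refine ⟨n', h3, ?_⟩
      rintro v (rfl | hv)
      exacts [h4, h5 v (h (.inr hv)) (fun e => hu (e ▸ hv)) (h2 v hv)]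
  exact key S hS le_rfl

/-- the root `θ - r` -/
def op (r : Rt E6) : Rt E6 := su (ng r) (R6 71)

theorem sq_cases : ∀ r : Rt E6, 1 ≤ a2 r → a2 r = 1 ∨ r = R6 71 := by decide +kernel
theorem su_sp : ∀ r : Rt E6, 36 ≤ r.1 → 0 ≤ a2 r := by decide +kernel
theorem sq_su : ∀ r : Rt E6, 1 ≤ a2 r → 36 ≤ r.1 := by decide +kernel
theorem op_facts : ∀ r : Rt E6, a2 r = 1 → a2 (op r) = 1 ∧ ip (op r) r = -1 ∧ su (op r) r = R6 71 ∧
    op (op r) = r ∧ (gm r = r → gm (op r) = op r) ∧ (gm r ≠ r → 0 ≤ ip (op r) (gm r)) := by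
  decide +kernel
theorem op_other : ∀ r s : Rt E6, a2 r = 1 → a2 s = 1 → s ≠ r → s ≠ gm r →
    0 ≤ ip (op r) s ∧ 0 ≤ ip (op r) (gm s) := by decide +kernel
theorem long_cases : ∀ r : Rt D4, a2 (lr r) = 1 → r = R4 14 ∨ r = R4 15 ∨ r = R4 16 ∨ r = R4 17 ∨
    r = R4 19 ∨ r = R4 20 ∨ r = R4 21 ∨ r = R4 22 := by decide +kernel
theorem short_ex : ∀ ρ : Rt E6, a2 ρ = 1 → gm ρ ≠ ρ → ∃ r : Rt D4, a2 (lr r) = 1 ∧ ∃ s : Rt E6,
    a2 s = 0 ∧ gm s ≠ s ∧ ip (lr r) s = -1 ∧ ρ = su (lr r) s ∧ ∃ v : Rt D4, a2 (lr v) = 1 ∧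
      lr v = su (su (lr r) s) (gm s) := by decide +kernel

theorem add4 {r s u : Rt D4} (h : ip (lr r) (lr s) = -1 ∧ lr u = su (lr r) (lr s)) :
    rt u = rt r + rt s := lr_add.2 (add_iff.2 h)

variable {F K : Type} [Field F] [CharP F 2] [Field K] [CharP K 2]

section tr
variable (T : Qd F K)

/-- the trace -/
noncomputable def tr (u : K) : F := (T.exists_tr u).choose

theorem tr_spec (u : K) : T.ι (tr T u) = u + T.σ u := (T.exists_tr u).choose_spec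

theorem tr_mul (k : F) (u : K) : tr T (T.ι k * u) = k * tr T u :=
  T.ι.injective (by rw [map_mul, tr_spec, tr_spec, map_mul, T.fi]; ring)

theorem tr_add (u v : K) : tr T (u + v) = tr T u + tr T v :=
  T.ι.injective (by rw [map_add, tr_spec, tr_spec, tr_spec, map_add]; ring)

theorem tr_one : tr T 1 = 0 :=
  T.ι.injective (by rw [tr_spec, map_one, map_zero, CharTwo.add_self_eq_zero])

theorem xs_tr (r : Rt D4) (u : K) : T.xs (lr r) u = T.x r (tr T u) := T.xs_lr r (tr_spec T u)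

variable {T} {w : K} (hw : w + T.σ w = 1)
include hw

theorem tr_w : tr T w = 1 := T.ι.injective (by rw [tr_spec, hw, map_one])

theorem tr_ww : tr T (w * w) = 1 := T.ι.injective (by
  rw [tr_spec, map_mul, map_one]
  have h2 : (2 : K) = 0 := CharTwo.two_eq_zero
  linear_combination (w + T.σ w + 1) * hw - (w * T.σ w) * h2)

theorem x_eq (r : Rt D4) (c : F) : T.x r c = T.xs (lr r) (T.ι c * w) := by
  rw [xs_tr, tr_mul, tr_w hw, mul_one]

theorem lin_tr (φ : K → F) (h1 : ∀ u v, φ (u + v) = φ u + φ v) (h2 : ∀ k u, φ (T.ι k * u) = k * φ u) :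
    ∃ a, ∀ u, φ u = tr T (a * u) := by
  refine ⟨T.ι (φ w + φ 1) + T.ι (φ 1) * w, fun u => ?_⟩
  have t2 : (2 : K) = 0 := CharTwo.two_eq_zero
  have t2' : (2 : F) = 0 := CharTwo.two_eq_zero
  obtain ⟨a, ha⟩ := (T.fix (u + T.ι (tr T u) * w)).1 (by
    rw [map_add, map_mul, T.fi, tr_spec]
    linear_combination (u + T.σ u) * hw + (T.σ u - (u + T.σ u) * w) * t2)
  have e : u = T.ι a * 1 + T.ι (tr T u) * w := by
    rw [ha]; linear_combination (-(T.ι (tr T u) * w)) * t2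
  generalize tr T u = b at e
  subst e
  have e2 : (T.ι (φ w + φ 1) + T.ι (φ 1) * w) * (T.ι a * 1 + T.ι b * w) =
      T.ι ((φ w + φ 1) * a) * 1 + T.ι ((φ w + φ 1) * b + φ 1 * a) * w + T.ι (φ 1 * b) * (w * w) := by
    simp only [map_mul, map_add]; ring
  rw [h1, h2, h2, e2, tr_add, tr_add, tr_mul, tr_mul, tr_mul, tr_one, tr_w hw, tr_ww hw]
  linear_combination (-(φ 1 * b)) * t2'

end tr

/-- the hypotheses -/
structure Hy (T : Qd F K) : Prop where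
  kb : T.KB
  pa : T.PA
  pb : T.PB
  pc : T.PC

/-- the coordinate on `Z` -/
noncomputable def ze (T : Qd F K) (g : T.X) : F := Function.invFun (T.x (hi D4)) g

/-- the commutator form -/
noncomputable def bf (T : Qd F K) (e v : T.X) : F := ze T (e * v * e⁻¹ * v⁻¹)

/-- `g` scales the root elements and fixes those of the Levi factor -/
def Sc (T : Qd F K) (g : T.X) : Prop :=
  ∀ r, ∃ d : K, (a2 r = 0 → d = 1) ∧ ∀ u, g * T.xs r u * g⁻¹ = T.xs r (d * u)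

/-- additive on `Q` -/
def Ad (T : Qd F K) (f : T.X → F) : Prop := ∀ v ∈ T.Q, ∀ w ∈ T.Q, f (v * w) = f v + f w

variable {T : Qd F K}

theorem Ad.one {f : T.X → F} (h : Ad T f) : f 1 = 0 := by
  have := h 1 (one_mem _) 1 (one_mem _)
  rw [mul_one] at this
  exact left_eq_add.1 this

/-- the kernel -/
def Ad.ker {f : T.X → F} (h : Ad T f) : Subgroup T.X where
  carrier := {v | v ∈ T.Q ∧ f v = 0}
  one_mem' := ⟨one_mem _, h.one⟩
  mul_mem' := fun {v w} hv hw => ⟨mul_mem hv.1 hw.1, by rw [h v hv.1 w hw.1, hv.2, hw.2, add_zero]⟩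
  inv_mem' := fun {v} hv => ⟨inv_mem hv.1, by
    have := h v hv.1 v⁻¹ (inv_mem hv.1)
    rw [mul_inv_cancel, h.one, hv.2, zero_add] at this
    exact this.symm⟩

theorem Ad.add {f g : T.X → F} (h : Ad T f) (h' : Ad T g) (k : F) : Ad T fun v => f v + k * g v :=
  fun v hv w hw => by simp only [h v hv w hw, h' v hv w hw]; ring

theorem Sc.gt {g : T.X} (h : Sc T g) {S : Set (Rt E6)} {v : T.X} (hv : v ∈ T.gt S) :
    g * v * g⁻¹ ∈ T.gt S :=
  (T.gt_le (A := (T.gt S).comap (MulAut.conj g).toMonoidHom)).2 (fun r hr u => by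
    obtain ⟨d, -, e⟩ := h r
    show g * _ * g⁻¹ ∈ T.gt S
    rw [e]; exact T.xs_mem hr _) hv

namespace Hy
variable (H : Hy T)
include H

theorem qp : T.Q ≤ T.P0 (hi D4) := H.pb.q0.1

theorem cjq {p v : T.X} (hp : p ∈ T.P0 (hi D4)) (hv : v ∈ T.Q) : p * v * p⁻¹ ∈ T.Q :=
  H98.conj_mem_of_mem_normalizer (H.pb.q0.2.1 hp) hv

theorem memZ {g : T.X} : g ∈ T.Z ↔ ∃ c, g = T.x (hi D4) c := H.kb.st.mem_XR

theorem zc {p : T.X} (hp : p ∈ T.P0 (hi D4)) (c : F) : T.x (hi D4) c * p = p * T.x (hi D4) c :=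
  mem_Cs.1 hp _ (H.memZ.2 ⟨c, rfl⟩)

theorem zadd (a b : F) : T.x (hi D4) a * T.x (hi D4) b = T.x (hi D4) (a + b) :=
  H.kb.st.add _ (hi D4).2 a b

theorem zinj : Function.Injective (T.x (hi D4)) := fun a b h => by
  have := H.kb.inj (hi D4) (a + b) (by rw [← H.zadd, h, H.zadd, CharTwo.add_self_eq_zero, H.kb.st.x_zero])
  rw [← add_zero a, ← CharTwo.add_self_eq_zero b, ← add_assoc, this, zero_add]

theorem ze_z (c : F) : ze T (T.x (hi D4) c) = c := Function.leftInverse_invFun H.zinj c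

theorem ze_eq {g v : T.X} {c : F} (h : g = T.x (hi D4) c * v) : ze T (g * v⁻¹) = c := by
  rw [h, mul_inv_cancel_right, H.ze_z]

theorem eq_ze {g v : T.X} (h : g * v⁻¹ ∈ T.Z) : g = T.x (hi D4) (ze T (g * v⁻¹)) * v := by
  obtain ⟨c, e⟩ := H.memZ.1 h
  rw [e, H.ze_z, ← e, inv_mul_cancel_right]

theorem xsp {r : Rt E6} (h : 0 ≤ a2 r) (u : K) : T.xs r u ∈ T.P0 (hi D4) := by
  rw [H.pa.p0]; exact T.xs_mem h u

theorem xp {r : Rt D4} (h : 0 ≤ a2 (lr r)) (c : F) : T.x r c ∈ T.P0 (hi D4) := by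
  rw [H.pa.p0]; exact H.kb.x_mem r h c

theorem xq {r : Rt D4} (h : 1 ≤ a2 (lr r)) (c : F) : T.x r c ∈ T.Q := H.kb.x_mem r h c

theorem zq (c : F) : T.x (hi D4) c ∈ T.Q := H.xq (by decide +kernel) c

/-- A subgroup normalised by `P₀` that contains `x₇₀(1)` contains `Q`. -/
theorem genQ {N : Subgroup T.X} (hN : ∀ p ∈ T.P0 (hi D4), ∀ v ∈ N, p * v * p⁻¹ ∈ N)
    (h : T.x (R4 22) 1 ∈ N) : T.Q ≤ N := by
  have st : ∀ r s u : Rt D4, 0 ≤ a2 (lr r) ∧ ip (lr r) (lr s) = -1 ∧ lr u = su (lr r) (lr s) →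
      ∀ a b, T.x s b ∈ N → T.x u (a * b) ∈ N := fun r s u h a b hb => by
    rw [← e4.commutator_add H.kb.st (add4 h.2)]
    exact mul_mem (hN _ (H.xp h.1 a) _ hb) (inv_mem hb)
  have st' : ∀ r s u : Rt D4, 0 ≤ a2 (lr r) ∧ ip (lr r) (lr s) = -1 ∧ lr u = su (lr r) (lr s) →
      (∀ b, T.x s b ∈ N) → ∀ b, T.x u b ∈ N := fun r s u h hb b => by
    have := st r s u h 1 b (hb b)
    rwa [one_mul] at this
  have h17 : ∀ c, T.x (R4 17) c ∈ N := fun c => by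
    have := st (R4 5) (R4 22) (R4 17) (by decide +kernel) c 1 h
    rwa [mul_one] at this
  have h22 := st' (R4 18) (R4 17) (R4 22) (by decide +kernel) h17
  have h20 := st' (R4 10) (R4 22) (R4 20) (by decide +kernel) h22
  have h21 := st' (R4 11) (R4 22) (R4 21) (by decide +kernel) h22
  have h15 := st' (R4 10) (R4 17) (R4 15) (by decide +kernel) h17
  have h16 := st' (R4 11) (R4 17) (R4 16) (by decide +kernel) h17
  have h19 := st' (R4 11) (R4 20) (R4 19) (by decide +kernel) h20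
  have h14 := st' (R4 11) (R4 15) (R4 14) (by decide +kernel) h15
  have h23 := st' (R4 14) (R4 22) (R4 23) (by decide +kernel) h22
  have hl : ∀ r : Rt D4, a2 (lr r) = 1 → ∀ c, T.x r c ∈ N := fun r hr => by
    rcases long_cases r hr with rfl | rfl | rfl | rfl | rfl | rfl | rfl | rfl <;> assumption
  refine T.gt_le.2 fun ρ hρ u => ?_
  rcases sq_cases ρ hρ with e | rfl
  · by_cases g : gm ρ = ρ
    · obtain ⟨r, rfl⟩ := exists_lr ρ g
      rw [xs_tr]; exact hl r e _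
    · obtain ⟨r, r1, s, s1, s2, s3, rfl, v, v1, v2⟩ := short_ex ρ e g
      obtain ⟨n, hn⟩ := T.exists_nm u
      have := hN _ (H.xsp s1.ge u) _ (hl r r1 1)
      rw [H.kb.cj r v s s2 s3 v2 u n 1 hn, map_one, one_mul] at this
      exact (mul_mem_cancel_left (hl r r1 1)).1 ((mul_mem_cancel_right (hl v v1 _)).1 this)
  · rw [← lr_hi, xs_tr]; exact h23 _

theorem ad_z {f : T.X → F} (hf : Ad T f) (c : F) : f (T.x (hi D4) c) = 0 := by
  have e := e4.conj_add H.kb.st (add4 (r := R4 14) (s := R4 22) (u := hi D4) (by decide +kernel)) 1 c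
  have q1 := H.xq (r := R4 14) (by decide +kernel) 1
  have q2 := H.xq (r := R4 22) (by decide +kernel) c
  have e2 := congrArg f e
  have e3 := hf _ q1 _ (inv_mem q1)
  rw [mul_inv_cancel, hf.one] at e3
  rw [hf _ (mul_mem q1 q2) _ (inv_mem q1), hf _ q1 _ q2, hf _ q2 _ (H.zq _), one_mul] at e2
  linear_combination -e2 - e3

theorem ad_ext {f : T.X → F} (hf : Ad T f) (h : ∀ r, a2 r = 1 → ∀ u, f (T.xs r u) = 0) :
    ∀ v ∈ T.Q, f v = 0 := fun v hv => by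
  refine (T.gt_le.2 (fun r hr u => ?_) hv : v ∈ hf.ker).2
  refine ⟨T.xs_mem hr u, ?_⟩
  rcases sq_cases r hr with e | rfl
  · exact h r e u
  · rw [← lr_hi, xs_tr]; exact H.ad_z hf _

theorem ad_inv {f : T.X → F} (hf : Ad T f)
    (h : ∀ p ∈ T.P0 (hi D4), ∀ v ∈ T.Q, f (p * v * p⁻¹) = f v) : ∀ v ∈ T.Q, f v = 0 := fun v hv => by
  refine (H.genQ (N := hf.ker) (fun p hp v hv => ⟨H.cjq hp hv.1, (h p hp v hv.1).trans hv.2⟩) ?_ hv).2
  have e := e4.conj_add H.kb.st (add4 (r := R4 18) (s := R4 17) (u := R4 22) (by decide +kernel)) 1 1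
  have q1 := H.xq (r := R4 17) (by decide +kernel) 1
  have q2 := H.xq (r := R4 22) (by decide +kernel) 1
  have e2 := h _ (H.xp (r := R4 18) (by decide +kernel) 1) _ q1
  rw [e, one_mul, hf _ q1 _ q2] at e2
  exact ⟨q2, add_eq_left.1 e2⟩

theorem cj_eq {e v : T.X} (he : e ∈ T.Q) (hv : v ∈ T.Q) :
    e * v * e⁻¹ = T.x (hi D4) (bf T e v) * v := H.eq_ze (H.pc.qq e he v hv)

theorem bf_eq {e v : T.X} {c : F} (h : e * v * e⁻¹ = T.x (hi D4) c * v) : bf T e v = c := H.ze_eq h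

theorem bf_comm {e v : T.X} (h : e * v = v * e) : bf T e v = 0 :=
  H.bf_eq (by rw [h, H.kb.st.x_zero, one_mul, mul_inv_cancel_right])

/-- the additivity of `β v v⁻¹` -/
theorem ad_of {β : T.X → T.X} (h1 : ∀ v ∈ T.Q, ∀ w ∈ T.Q, β (v * w) = β v * β w)
    (h2 : ∀ v ∈ T.Q, β v * v⁻¹ ∈ T.Z) : Ad T fun v => ze T (β v * v⁻¹) := fun v hv w hw => by
  refine H.ze_eq ?_
  rw [h1 v hv w hw, ← H.zadd]
  nth_rewrite 1 [H.eq_ze (h2 v hv), H.eq_ze (h2 w hw)]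
  simp only [mul_assoc]
  rw [← mul_assoc v, ← H.zc (H.qp hv), mul_assoc]

theorem bf_right {e : T.X} (he : e ∈ T.Q) : Ad T (bf T e) :=
  H.ad_of (β := fun v => e * v * e⁻¹) (fun v _ w _ => by group) fun v hv => H.pc.qq e he v hv

theorem bf_left {v : T.X} (hv : v ∈ T.Q) : Ad T fun e => bf T e v := fun e he e' he' => by
  refine H.bf_eq ?_
  have : e * e' * v * (e * e')⁻¹ = e * (e' * v * e'⁻¹) * e⁻¹ := by group
  rw [this, H.cj_eq he' hv, ← mul_assoc, ← H.zc (H.qp he), mul_assoc, mul_assoc, ← mul_assoc e,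
    H.cj_eq he hv, ← mul_assoc, H.zadd, add_comm]

theorem bf_mul {e e' v : T.X} (he : e ∈ T.Q) (he' : e' ∈ T.Q) (hv : v ∈ T.Q) :
    bf T (e * e') v = bf T e v + bf T e' v := H.bf_left hv e he e' he'

theorem bf_z {e v : T.X} (he : e ∈ T.Q) (hv : v ∈ T.Q) (c : F) :
    bf T (T.x (hi D4) c * e) v = bf T e v := by
  rw [H.bf_mul (H.zq c) he hv, H.bf_comm (H.zc (H.qp hv) c), zero_add]

theorem bf_short {r : Rt E6} (hr : a2 r = 1) (g : gm r ≠ r) (a u : K) :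
    bf T (T.xs (op r) a) (T.xs r u) = tr T (a * u) := by
  obtain ⟨-, f1, f2, -, -, f3⟩ := op_facts r hr
  refine H.bf_eq ?_
  rw [H.kb.cs _ _ f1 (f3 g), f2, ← lr_hi, xs_tr, H.zc (H.xsp (by omega) _)]

theorem bf_long {r : Rt E6} (hr : a2 r = 1) (g : gm r = r) (a u : K) :
    bf T (T.xs (op r) a) (T.xs r u) = tr T a * tr T u := by
  obtain ⟨-, f1, f2, -, f3, -⟩ := op_facts r hr
  obtain ⟨s, e⟩ := exists_lr _ (f3 g)
  obtain ⟨r, rfl⟩ := exists_lr _ g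
  rw [← e] at f1 f2 ⊢
  refine H.bf_eq ?_
  rw [xs_tr, xs_tr, e4.conj_add H.kb.st (add4 (u := hi D4) ⟨f1, f2.symm⟩), H.zc (H.xp (by omega) _)]

theorem bf_other {r s : Rt E6} (hr : a2 r = 1) (hs : a2 s = 1) (h1 : s ≠ r) (h2 : s ≠ gm r) (a u : K) :
    bf T (T.xs (op r) a) (T.xs s u) = 0 :=
  H.bf_comm (H.kb.c0 _ _ (op_other r s hr hs h1 h2).1 (op_other r s hr hs h1 h2).2 a u)

theorem bf_gen {r s : Rt E6} (hr : a2 r = 1) (hs : a2 s = 1) (a u : K) (k : F) :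
    bf T (T.xs r a) (T.xs s (T.ι k * u)) = k * bf T (T.xs r a) (T.xs s u) := by
  have key : ∀ s, a2 s = 1 → ∀ u, bf T (T.xs (op s) a) (T.xs s (T.ι k * u)) =
      k * bf T (T.xs (op s) a) (T.xs s u) := fun s hs u => by
    by_cases g : gm s = s
    · rw [H.bf_long hs g, H.bf_long hs g, tr_mul, mul_left_comm]
    · rw [H.bf_short hs g, H.bf_short hs g, mul_left_comm, tr_mul]
  obtain ⟨f1, -, -, f2, -⟩ := op_facts r hr
  rw [← f2]
  generalize op r = t at f1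
  by_cases h1 : s = t
  · subst h1; exact key s hs u
  by_cases h2 : s = gm t
  · subst h2
    rw [T.xs_gm, T.xs_gm, map_mul, T.fi]; exact key t f1 _
  rw [H.bf_other f1 hs h1 h2, H.bf_other f1 hs h1 h2, mul_zero]

theorem bf_xs {e : T.X} (he : e ∈ T.Q) {s : Rt E6} (hs : a2 s = 1) (u : K) (k : F) :
    bf T e (T.xs s (T.ι k * u)) = k * bf T e (T.xs s u) := by
  have := H.ad_ext ((H.bf_left (T.xs_mem (S := SQ) hs.ge (T.ι k * u))).add
    (H.bf_left (T.xs_mem (S := SQ) hs.ge u)) (-k)) (fun r hr a => by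
      rw [H.bf_gen hr hs]; ring) e he
  linear_combination this

theorem tor {k : F} (hk : k ≠ 0) (r : Rt E6) (u : K) :
    hh D4 T.x (hi D4) k * T.xs r u * (hh D4 T.x (hi D4) k)⁻¹ = T.xs r (T.ι k ^ a2 r * u) := by
  rw [H.kb.tor _ k hk, lr_hi, ip_hi]

theorem tor1 {k : F} (hk : k ≠ 0) {r : Rt E6} (hr : a2 r = 1) (u : K) :
    hh D4 T.x (hi D4) k * T.xs r u * (hh D4 T.x (hi D4) k)⁻¹ = T.xs r (T.ι k * u) := by
  rw [H.tor hk, hr, zpow_one]

theorem sc_hh {k : F} (hk : k ≠ 0) : Sc T (hh D4 T.x (hi D4) k) := fun r =>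
  ⟨_, fun h => by rw [h, zpow_zero], H.tor hk r⟩

theorem sc_inv {k : F} (hk : k ≠ 0) : Sc T (hh D4 T.x (hi D4) k)⁻¹ := fun r =>
  ⟨(T.ι k ^ a2 r)⁻¹, fun h => by rw [h, zpow_zero, inv_one], fun u => by
    have := H.tor hk r ((T.ι k ^ a2 r)⁻¹ * u)
    rw [mul_inv_cancel_left₀ (zpow_ne_zero _ ((map_ne_zero T.ι).2 hk))] at this
    rw [← this]; group⟩

theorem sc_cm {g : T.X} (h : Sc T g) {p : T.X} (hp : p ∈ T.P0 (hi D4)) : g * p * g⁻¹ * p⁻¹ ∈ T.Q := by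
  have hp' := hp
  rw [H.pa.p0] at hp
  induction hp using closure_induction with
  | mem _ hy =>
    obtain ⟨r, hr, u, rfl⟩ := hy
    obtain ⟨d, h1, h2⟩ := h r
    rw [h2]
    rcases (show 0 ≤ a2 r from hr).eq_or_lt with e | e
    · rw [h1 e.symm, one_mul, mul_inv_cancel]; exact one_mem _
    · exact mul_mem (T.xs_mem (S := SQ) e _) (inv_mem (T.xs_mem (S := SQ) e _))
  | one => simp
  | mul p q hp hq ih ih' =>
    have hp : p ∈ T.P0 (hi D4) := H.pa.p0 ▸ hp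
    have hq : q ∈ T.P0 (hi D4) := H.pa.p0 ▸ hq
    have := mul_mem (ih hp) (H.cjq hp (ih' hq))
    convert this using 1; group
  | inv p hp ih =>
    have hp : p ∈ T.P0 (hi D4) := H.pa.p0 ▸ hp
    have := H.cjq (inv_mem hp) (inv_mem (ih hp))
    convert this using 1; group

theorem sc_z {g : T.X} (h : Sc T g) {v : T.X} (hv : v ∈ T.Z) : g * v * g⁻¹ ∈ T.Z := by
  rw [← H.kb.gtZ] at hv ⊢; exact h.gt hv

theorem bf_sc {e : T.X} (he : e ∈ T.Q) {k : F} (hk : k ≠ 0) {v : T.X} (hv : v ∈ T.Q) :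
    bf T e (hh D4 T.x (hi D4) k * v * (hh D4 T.x (hi D4) k)⁻¹) = k * bf T e v := by
  have a1 : Ad T fun v => bf T e (hh D4 T.x (hi D4) k * v * (hh D4 T.x (hi D4) k)⁻¹) :=
    fun v hv w hw => by
      rw [← H.bf_right he _ ((H.sc_hh hk).gt hv) _ ((H.sc_hh hk).gt hw), conj_mul]
  have := H.ad_ext (a1.add (H.bf_right he) (-k)) (fun r hr a => by
      rw [H.tor1 hk hr, H.bf_xs he hr]; ring) v hv
  linear_combination this

section core
variable {β : T.X → T.X}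
  (hm : ∀ a ∈ T.P0 (hi D4), ∀ b ∈ T.P0 (hi D4), β (a * b) = β a * β b)
  (he : ∀ p ∈ T.P0 (hi D4), β p * p⁻¹ ∈ T.Q)
include hm

omit H in
theorem b_one : β 1 = 1 := by
  have := hm 1 (one_mem _) 1 (one_mem _)
  rw [mul_one] at this
  exact left_eq_mul.1 this

omit H in
theorem b_inv {p : T.X} (hp : p ∈ T.P0 (hi D4)) : β p⁻¹ = (β p)⁻¹ :=
  eq_inv_of_mul_eq_one_left (by rw [← hm _ (inv_mem hp) _ hp, inv_mul_cancel, b_one hm])

include he

theorem b_conj {p v : T.X} (hp : p ∈ T.P0 (hi D4)) (hv : v ∈ T.Q) {c : F}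
    (h : β v = T.x (hi D4) c * v) :
    β (p * v * p⁻¹) = T.x (hi D4) (c + bf T (β p * p⁻¹) (p * v * p⁻¹)) * (p * v * p⁻¹) := by
  have hv' := H.qp hv
  rw [hm _ (mul_mem hp hv') _ (inv_mem hp), hm _ hp _ hv', b_inv hm hp, h, ← H.zadd, mul_assoc _ _ (p * v * p⁻¹),
    ← H.cj_eq (he p hp) (H.cjq hp hv)]
  have h1 : β p ∈ T.P0 (hi D4) := by
    have := mul_mem (H.qp (he p hp)) hp
    rwa [inv_mul_cancel_right] at this
  rw [← mul_assoc, ← H.zc h1]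
  group

variable (hy : β (T.x (R4 22) 1) * (T.x (R4 22) 1)⁻¹ ∈ T.Z)
include hy

theorem b_q : ∀ v ∈ T.Q, β v * v⁻¹ ∈ T.Z := fun v hv => by
  let B : Subgroup T.X :=
    { carrier := {v | v ∈ T.Q ∧ ∃ c, β v = T.x (hi D4) c * v}
      one_mem' := ⟨one_mem _, 0, by rw [b_one hm, H.kb.st.x_zero, mul_one]⟩
      mul_mem' := by
        rintro v w ⟨hv, c, e⟩ ⟨hw, d, f⟩
        refine ⟨mul_mem hv hw, c + d, ?_⟩
        rw [hm _ (H.qp hv) _ (H.qp hw), e, f, ← H.zadd]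
        simp only [mul_assoc]
        rw [← mul_assoc v, ← H.zc (H.qp hv), mul_assoc]
      inv_mem' := by
        rintro v ⟨hv, c, e⟩
        refine ⟨inv_mem hv, -c, ?_⟩
        rw [b_inv hm (H.qp hv), e, mul_inv_rev, H.kb.st.x_inv, H.zc (inv_mem (H.qp hv))] }
  obtain ⟨-, c, e⟩ : v ∈ B := H.genQ (N := B)
    (by rintro p hp v ⟨hv, c, e⟩; exact ⟨H.cjq hp hv, _, H.b_conj hm he hp hv e⟩)
    ⟨H.xq (by decide +kernel) 1, _, H.eq_ze hy⟩ hv
  rw [e, mul_inv_cancel_right]; exact H.memZ.2 ⟨c, rfl⟩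

theorem d_ad : Ad T fun v => ze T (β v * v⁻¹) :=
  H.ad_of (fun v hv w hw => hm v (H.qp hv) w (H.qp hw)) (H.b_q hm he hy)

theorem d_conj {p v : T.X} (hp : p ∈ T.P0 (hi D4)) (hv : v ∈ T.Q) :
    ze T (β (p * v * p⁻¹) * (p * v * p⁻¹)⁻¹) =
      ze T (β v * v⁻¹) + bf T (β p * p⁻¹) (p * v * p⁻¹) :=
  H.ze_eq (H.b_conj hm he hp hv (H.eq_ze (H.b_q hm he hy v hv)))

theorem d_sc {k : F} (hk : k ≠ 0) : ∀ v ∈ T.Q,
    ze T (β (hh D4 T.x (hi D4) k * v * (hh D4 T.x (hi D4) k)⁻¹) *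
      (hh D4 T.x (hi D4) k * v * (hh D4 T.x (hi D4) k)⁻¹)⁻¹) + -k * ze T (β v * v⁻¹) = 0 := by
  have hs := H.sc_hh hk
  have hb := fun e he v hv => H.bf_sc (e := e) he hk (v := v) hv
  generalize hh D4 T.x (hi D4) k = g at hs hb ⊢
  have a0 := H.d_ad hm he hy
  have a1 : Ad T fun v => ze T (β (g * v * g⁻¹) * (g * v * g⁻¹)⁻¹) := fun v hv w hw => by
    have := a0 _ (hs.gt hv) _ (hs.gt hw)
    simp only [conj_mul] at this
    exact this
  refine H.ad_inv (a1.add a0 (-k)) fun p hp v hv => ?_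
  have hq := H.sc_cm hs hp
  have hp' : g * p * g⁻¹ ∈ T.P0 (hi D4) := by
    have := mul_mem (H.qp hq) hp
    rwa [inv_mul_cancel_right] at this
  have e1 : g * (p * v * p⁻¹) * g⁻¹ = g * p * g⁻¹ * (g * v * g⁻¹) * (g * p * g⁻¹)⁻¹ := by group
  have e2 : β (g * p * g⁻¹) * (g * p * g⁻¹)⁻¹ =
      T.x (hi D4) (ze T (β (g * p * g⁻¹ * p⁻¹) * (g * p * g⁻¹ * p⁻¹)⁻¹)) *
        (T.x (hi D4) (bf T (g * p * g⁻¹ * p⁻¹) (β p * p⁻¹)) * (β p * p⁻¹)) := by
    have e3 := hm _ (H.qp hq) _ hp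
    rw [inv_mul_cancel_right] at e3
    rw [← H.cj_eq hq (he p hp), ← mul_assoc, ← mul_assoc, ← H.eq_ze (H.b_q hm he hy _ hq), e3]
    group
  have hw := H.cjq hp hv
  show ze T _ + _ = ze T _ + _
  rw [e1, H.d_conj hm he hy hp' (hs.gt hv), H.d_conj hm he hy hp hv, ← e1, hb _ (he _ hp') _ hw, e2,
    H.bf_z (mul_mem (H.zq _) (he p hp)) hw, H.bf_z (he p hp) hw]
  ring

theorem d_xs {r : Rt E6} (hr : a2 r = 1) (k : F) (u : K) :
    ze T (β (T.xs r (T.ι k * u)) * (T.xs r (T.ι k * u))⁻¹) = k * ze T (β (T.xs r u) * (T.xs r u)⁻¹) := by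
  by_cases hk : k = 0
  · rw [hk, map_zero, zero_mul, zero_mul, T.xs_zero]; exact (H.d_ad hm he hy).one
  have := H.d_sc hm he hy hk _ (T.xs_mem (S := SQ) hr.ge u)
  rw [H.tor1 hk hr] at this
  linear_combination this

theorem d_bf : ∃ n ∈ T.Q, ∀ v ∈ T.Q, ze T (β v * v⁻¹) = bf T n v := by
  obtain ⟨w, hw⟩ := H.kb.half
  have a0 := H.d_ad hm he hy
  obtain ⟨n, hn, h⟩ := remove (S := {r : Rt E6 | a2 r = 1}) (Set.toFinite _) (K := (· ∈ T.Q))
    (good := fun n r => ∀ u, ze T (β (T.xs r u) * (T.xs r u)⁻¹) = bf T n (T.xs r u)) ⟨1, one_mem _⟩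
    fun n hn r (hr : a2 r = 1) => by
      have m := fun u => T.xs_mem (S := SQ) hr.ge u
      have o1 := (op_facts r hr).1
      have a1 := a0.add (H.bf_right hn) (-1)
      obtain ⟨a, ha⟩ : ∃ a, ∀ u, ze T (β (T.xs r u) * (T.xs r u)⁻¹) + -1 * bf T n (T.xs r u) =
          bf T (T.xs (op r) a) (T.xs r u) := by
        obtain ⟨a, ha⟩ := lin_tr hw
          (fun u => ze T (β (T.xs r u) * (T.xs r u)⁻¹) + -1 * bf T n (T.xs r u))
          (fun u v => by rw [← T.xs_add]; exact a1 _ (m u) _ (m v))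
          (fun k u => by rw [H.d_xs hm he hy hr, H.bf_xs hn hr]; ring)
        by_cases g : gm r = r
        · refine ⟨a * w, fun u => ?_⟩
          obtain ⟨r, rfl⟩ := exists_lr r g
          rw [H.bf_long hr g, xs_tr, x_eq hw, ha, mul_left_comm, tr_mul, mul_comm]
        · exact ⟨a, fun u => by rw [H.bf_short hr g, ha]⟩
      have m' := T.xs_mem (S := SQ) o1.ge a
      have g1 : ∀ u, ze T (β (T.xs r u) * (T.xs r u)⁻¹) = bf T (T.xs (op r) a * n) (T.xs r u) :=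
        fun u => by rw [H.bf_mul m' hn (m u), ← ha]; ring
      refine ⟨T.xs (op r) a * n, mul_mem m' hn, g1, fun s (hs : a2 s = 1) h1 h2 u => ?_⟩
      by_cases h3 : s = gm r
      · rw [h3, T.xs_gm]; exact g1 _
      · rw [H.bf_mul m' hn (T.xs_mem (S := SQ) hs.ge u), H.bf_other hr hs h1 h3, zero_add, h2]
  refine ⟨n, hn, fun v hv => ?_⟩
  have := H.ad_ext (a0.add (H.bf_right hn) (-1)) (fun r hr u => by
    show ze T _ + _ = _
    rw [h r hr u]; ring) v hv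
  linear_combination this

theorem core : ∃ n ∈ T.Q, ∀ p ∈ T.P0 (hi D4), β p = n * p * n⁻¹ := by
  obtain ⟨n, hn, h⟩ := H.d_bf hm he hy
  have h1 : ∀ v ∈ T.Q, β v = n * v * n⁻¹ := fun v hv => by
    rw [H.cj_eq hn hv, ← h v hv]; exact H.eq_ze (H.b_q hm he hy v hv)
  have hnp := H.qp hn
  have h2 : ∀ p ∈ T.P0 (hi D4), ∃ c, β p = n * p * n⁻¹ * T.x (hi D4) c := fun p hp => by
    have q1 : (n * p * n⁻¹)⁻¹ * β p ∈ T.Q := by
      have := mul_mem hn (H.cjq (inv_mem hp) (mul_mem (inv_mem hn) (he p hp)))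
      convert this using 1; group
    have q2 : (n * p * n⁻¹)⁻¹ * β p ∈ T.Q ⊓ Cs T.Q := ⟨q1, mem_Cs.2 fun v hv => by
      have hv' : n⁻¹ * v * n⁻¹⁻¹ ∈ T.Q := H.cjq (inv_mem hnp) hv
      have e1 := h1 _ hv'
      have e2 := h1 _ (H.cjq hp hv')
      rw [hm _ (mul_mem hp (H.qp hv')) _ (inv_mem hp), hm _ hp _ (H.qp hv'), b_inv hm hp, e1,
        mul_inv_eq_iff_eq_mul] at e2
      have e3 : n * (n⁻¹ * v * n⁻¹⁻¹) * n⁻¹ = v := by group
      rw [e3] at e2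
      rw [mul_assoc _ (β p), e2]; group⟩
    rw [H.pc.cq] at q2
    obtain ⟨c, e⟩ := H.memZ.1 q2
    exact ⟨c, by rw [← e, mul_inv_cancel_left]⟩
  let B : Subgroup T.X :=
    { carrier := {p | p ∈ T.P0 (hi D4) ∧ β p = n * p * n⁻¹}
      one_mem' := ⟨one_mem _, by rw [b_one hm]; group⟩
      mul_mem' := fun {p q} hp hq => ⟨mul_mem hp.1 hq.1, by rw [hm _ hp.1 _ hq.1, hp.2, hq.2, conj_mul]⟩
      inv_mem' := fun {p} hp => ⟨inv_mem hp.1, by rw [b_inv hm hp.1, hp.2]; group⟩ }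
  refine ⟨n, hn, fun p hp => (commutator_le.2 (fun p hp q hq => ?_) (H.pb.perf hp) : p ∈ B).2⟩
  rw [commutatorElement_def]
  refine ⟨mul_mem (mul_mem (mul_mem hp hq) (inv_mem hp)) (inv_mem hq), ?_⟩
  obtain ⟨c, e⟩ := h2 p hp
  obtain ⟨d, f⟩ := h2 q hq
  rw [hm _ (mul_mem (mul_mem hp hq) (inv_mem hp)) _ (inv_mem hq), hm _ (mul_mem hp hq) _ (inv_mem hp),
    hm _ hp _ hq, b_inv hm hp, b_inv hm hq, e, f]
  have k1 : n * p * n⁻¹ ∈ T.P0 (hi D4) := mul_mem (mul_mem hnp hp) (inv_mem hnp)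
  have k2 : n * q * n⁻¹ ∈ T.P0 (hi D4) := mul_mem (mul_mem hnp hq) (inv_mem hnp)
  have c1 := H.zc (mul_mem k2 (H.qp (H.zq d))) c
  have c2 := H.zc (inv_mem k1) d
  have e3 : n * (p * q * p⁻¹ * q⁻¹) * n⁻¹ =
      n * p * n⁻¹ * (n * q * n⁻¹) * (n * p * n⁻¹)⁻¹ * (n * q * n⁻¹)⁻¹ := by group
  rw [e3]
  generalize n * p * n⁻¹ = p' at c1 c2
  generalize n * q * n⁻¹ = q' at c1 c2
  rw [mul_assoc p', c1, mul_inv_rev, mul_inv_rev]
  simp only [mul_assoc, mul_inv_cancel_left]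
  rw [← mul_assoc (T.x _ d), c2]
  simp only [mul_assoc, mul_inv_cancel_left]

end core

theorem ap1 : T.AP1 := fun β hβ he => by
  obtain ⟨⟨-, hi', hs⟩, hm⟩ := hβ
  have bq : ∀ v ∈ T.Q, β v ∈ T.Q := fun v hv => by
    have := mul_mem (he v (H.qp hv)) hv
    rwa [inv_mul_cancel_right] at this
  have bz : ∀ v ∈ T.Z, β v ∈ T.Z := fun v hv => by
    obtain ⟨c, rfl⟩ := H.memZ.1 hv
    rw [← H.pc.cq]
    refine ⟨bq _ (H.zq c), mem_Cs.2 fun v hv => ?_⟩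
    obtain ⟨p, hp, rfl⟩ := hs (H.qp hv)
    rw [← hm _ hp _ (H.qp (H.zq c)), ← hm _ (H.qp (H.zq c)) _ hp, H.zc hp]
  have qu : T.Q ≤ T.U := T.gt_mono fun r hr => sq_su r hr
  have up : T.U ≤ T.P0 (hi D4) := H.pa.p0 ▸ T.gt_mono fun r hr => su_sp r hr
  have yq := H.xq (r := R4 22) (by decide +kernel) 1
  have yp := H.qp yq
  have ye : T.x (R4 22) 1 ∈ T.El := H.kb.x_mem (R4 22) (show 3 ≤ a4 _ by decide +kernel) 1
  have h1 : β (T.x (R4 22) 1) ∈ T.El := (H.pc.z2 _ (qu (bq _ yq))).1 fun u hu => by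
    have hp := up hu
    have e1 := bz _ ((H.pc.z2 _ (qu yq)).2 ye u hu)
    rw [hm _ (mul_mem (mul_mem yp hp) (inv_mem yp)) _ (inv_mem hp), hm _ (mul_mem yp hp) _ (inv_mem yp),
      hm _ yp _ hp, b_inv hm yp, b_inv hm hp] at e1
    obtain ⟨c, e⟩ := H.memZ.1 (mul_mem (inv_mem (H.pc.qq _ (bq _ yq) _ (he u hp))) e1)
    have e2 := H.zc (H.qp (he u hp)) c
    refine H.memZ.2 ⟨c, ?_⟩
    have e3 : β (T.x (R4 22) 1) * u * (β (T.x (R4 22) 1))⁻¹ * u⁻¹ =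
        (β u * u⁻¹)⁻¹ * (T.x (hi D4) c * (β u * u⁻¹)) := by rw [← e]; group
    rw [e3, e2, inv_mul_cancel_left]
  obtain ⟨m, k, e⟩ := (H.pc.el _).1 h1
  have hm0 : m ≠ 0 := by
    rintro rfl
    have p14 := H.xp (r := R4 14) (by decide +kernel) 1
    have e0 : T.x 22 0 = 1 := H.kb.st.x_zero (R4 22)
    rw [e0, one_mul] at e
    have e1 : T.x (R4 14) 1 * T.x (R4 22) 1 = T.x (R4 22) 1 * T.x (R4 14) 1 :=
      hi' (mul_mem p14 yp) (mul_mem yp p14) (by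
        have p' : β (T.x (R4 14) 1) ∈ T.P0 (hi D4) := by
          have := mul_mem (H.qp (he _ p14)) p14
          rwa [inv_mul_cancel_right] at this
        rw [hm _ p14 _ yp, hm _ yp _ p14, e, H.zc p'])
    have e2 := e4.commutator_add H.kb.st
      (add4 (r := R4 14) (s := R4 22) (u := hi D4) (by decide +kernel)) 1 1
    rw [e1, mul_inv_cancel_right, mul_inv_cancel, one_mul] at e2
    exact one_ne_zero (H.kb.inj _ _ e2.symm)
  obtain ⟨w, hw⟩ := H.kb.half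
  have t1 : hh D4 T.x (hi D4) m * T.x (R4 22) 1 * (hh D4 T.x (hi D4) m)⁻¹ = T.x (R4 22) m := by
    rw [x_eq hw, x_eq hw, H.tor1 hm0 (by decide +kernel), map_one, one_mul]
  have s1 := H.sc_inv hm0
  refine ⟨m, hm0, ?_⟩
  generalize hh D4 T.x (hi D4) m = g at t1 s1 ⊢
  obtain ⟨n, hn, h⟩ := H.core (β := fun p => g⁻¹ * β p * g⁻¹⁻¹)
    (fun a ha b hb => by rw [hm a ha b hb, conj_mul])
    (fun p hp => by
      have := mul_mem (s1.gt (he p hp)) (H.sc_cm s1 hp)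
      convert this using 1; group)
    (by
      obtain ⟨c, f⟩ := H.memZ.1 (H.sc_z s1 (H.memZ.2 ⟨k, rfl⟩))
      have e' : β (T.x (R4 22) 1) = T.x (R4 22) m * T.x (hi D4) k := e
      refine H.memZ.2 ⟨c, ?_⟩
      rw [e', ← conj_mul, f, ← t1, mul_inv_eq_iff_eq_mul, H.zc yp]
      group)
  refine ⟨n, hn, fun p hp => ?_⟩
  have := h p hp
  rw [inv_inv, mul_assoc, inv_mul_eq_iff_eq_mul, ← eq_mul_inv_iff_mul_eq] at this
  rw [this]; group

end Hy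

theorem jobAP1 : JobAP1 := fun _ _ _ _ _ _ _ _ _ k a b c => Hy.ap1 ⟨k, a, b, c⟩

end H61.TEAP1
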