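import Cfsg.Agent.H39.E6Spec
import Cfsg.Agent.H78.F22K

/-! PS3B, chapter E6, job L1. -/

set_option autoImplicit false
set_option linter.unusedSectionVars false

namespace H61.E6

open Cfsg Subgroup H98 H42.L3 H56.L3 H39.F22 H39.E6 H78.F22

universe u

variable {G : Type u} [Group G] [Finite G] {E : Dat G} (e0 : E0 E) (nj : NJ E) (rf : RF E) (yf : YF E)
  (sf : SF E)

theorem X_le : E.X ≤ E.Y := (closure_le _).2 fun _ h => h.1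

theorem X_conj {g x : G} (hg : g ∈ E.Y) (hx : x ∈ E.X) : g * x * g⁻¹ ∈ E.X := by
  refine (closure_le (E.X.comap (MulAut.conj g).toMonoidHom)).2 (fun k hk => ?_) hx
  exact subset_closure ⟨mul_mem (mul_mem hg hk.1) (inv_mem hg), by
    rw [← map_pow, hk.2, map_one]⟩

include e0 nj rf yf sf

theorem Y_nor (g6 : G6.{u}) : E.Y ≤ nr E.Sg := by
  have h := e0.h3
  have H := e0.hj
  have h1 : E.Y ⊓ Ce (E.r 2) ≤ nr E.Sg := yf.hr.gen _ (fun g a => sf.nz ⟨a.1.1.2, a.2⟩)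
    fun g a => sf.nI ⟨a.1.1.2, a.2⟩
  have RY : E.R 2 ≤ E.Y := fun p a => ⟨mem_Ce.2 (((rf.memR 2 p).1 a).2.1 0 (by decide) _ (H.cQ 0)).symm,
    rf.Rr 2 0 a⟩
  have rX : E.r 2 ∈ E.X := by
    obtain ⟨A, a4, a2⟩ : ∃ A : H28.PS.SL3, A ^ 4 = 1 ∧ A * A = -1 := by decide +kernel
    obtain ⟨p, a, rfl⟩ := rf.Ronto 2 A a4
    have b := rf.RB 2 a
    have := rf.Rinj 2 _ (mul_mem (mul_mem a a) (inv_mem (rf.rR 2))) (by
      rw [m_mul h (mul_mem b b) (inv_mem (H.rB 2)), m_mul h b b, a2, m_inv h (H.rB 2), H.rm,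
        mul_inv_cancel])
    rw [← mul_inv_eq_one.1 this]
    by_cases c : p ∈ E.X
    exacts [mul_mem c c, yf.two p (RY a) p (RY a) c c]
  obtain ⟨F, _, _, hF, ⟨e⟩⟩ := yf.iso
  obtain ⟨m, m1, m2⟩ := nj.sw
  have QY : E.Q 1 ≤ E.Y := (le_sup_of_le_left le_sup_left).trans rf.SY
  have h2 := g6 E.Y (E.X.subgroupOf E.Y) ((nr E.Sg).subgroupOf E.Y) ⟨fun x a g => X_conj g.2 a⟩ F hF
    ⟨(subgroupOfEquivOfLe X_le).trans e⟩ ⟨E.r 2, X_le rX⟩ rX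
    (by
      rw [orderOf_mk]
      exact orderOf_eq_prime ((pow_two _).trans (H.rsq 2)) fun c => neg_ne (by
        rw [← H.rm 2, c, mQ h (one_mem _)]))
    (by
      rw [← (co h 1).card, ← Nat.card_congr (subgroupOfEquivOfLe QY).toEquiv]
      exact card_dvd_of_le fun x a => ⟨subset_closure ⟨x.2, (h.sd 1).cube _ a⟩,
        mem_Ce.2 (Subtype.ext (H.rc 2 1 (by decide) _ a))⟩)
    (fun x a => h1 ⟨x.2, mem_Ce.2 (congrArg Subtype.val (mem_Ce.1 a.2))⟩) ⟨m, m1.1⟩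
    (sf.nI ⟨m1.1.2, m1.2⟩)
    (fun c => neg_ne (by
      rw [← H.rm 1, ← m2, show m * E.r 2 * m⁻¹ = E.r 2 from congrArg Subtype.val c,
        H.rm' 2 1 (by decide)]))
    (mem_Ce.2 (Subtype.ext (by
      show m * E.r 2 * m⁻¹ * E.r 2 = E.r 2 * (m * E.r 2 * m⁻¹)
      rw [m2, H.rr])))
  intro g hg
  obtain ⟨k, k1, k2⟩ := yf.frat g hg
  have k3 : k ∈ nr E.Sg := h2 (x := ⟨k, X_le k1⟩) k1
  exact (mul_mem_cancel_left (inv_mem k3)).1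
    (sf.nz ⟨(mul_mem (inv_mem (X_le k1)) hg).2, k2⟩)

theorem se (hb : Ce E.b ⊓ E.K ≤ E.Sg ⊔ E.Y) : SE E := by
  have h := e0.h3
  have H := e0.hj
  have HK : E.Sg ⊔ E.Y ≤ E.K := sup_le sf.le inf_le_right
  have sy : IsSyl 3 E.S0 (E.Sg ⊔ E.Y) := (syl h e0.hv H).of_le (le_sup_of_le_right rf.SY) HK
  have hz : ∀ g ∈ E.K, g ∈ Nz E.z → g ∈ E.Sg ⊔ E.Y := fun g a b => by
    obtain ⟨p, p1, p2⟩ := rf.cz g ⟨b, a⟩
    have p3 : p ∈ E.Sg := subset_closure ⟨1, one_mem _, by rwa [cj_one]⟩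
    exact (mul_mem_cancel_left (inv_mem (mem_sup_left p3))).1 (mem_sup_right p2)
  have hI : ∀ g ∈ E.K, g ∈ nr E.I → g ∈ E.Sg ⊔ E.Y := fun g a b => (rf.nIY g ⟨a, b⟩).elim mem_sup_right
    fun c => (mul_mem_cancel_right (mem_sup_left sf.rm)).1 (mem_sup_right c)
  have hc : ∀ g ∈ E.K, g ∈ Ce (E.c 1) → g ∈ E.Sg ⊔ E.Y := fun g a b => by
    have bk : ∀ {g x y : G}, E.π * x * E.π⁻¹ = y → g ∈ Ce y → E.π⁻¹ * g * E.π ∈ Ce x := fun e a => by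
      rwa [← e, ← H42.L3.cj_Ce, mem_cj] at a
    have fw : ∀ {g : G}, g ∈ Ce (E.r 2) → E.π⁻¹⁻¹ * g * E.π⁻¹ ∈ E.K := fun a => by
      rw [inv_inv]; exact (show cj E.π (Ce (E.r 2)) = E.K from (H42.L3.cj_Ce _ _).trans (congrArg Ce (H.πr 2))) ▸ conj_mem_cj a
    have c1 : E.c 1 ∈ E.Y := rf.SY (mem_sup_left (mem_sup_left (H.cQ 1)))
    obtain ⟨k, hk⟩ := yf.cc _ (bk (e0.πc 0) b)
    have h1 := yf.hr.gen (cj E.π⁻¹ (E.Sg ⊔ E.Y))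
      (fun y a => mem_cj.2 (hz _ (fw a.1.2)
        (mul_mem (mul_mem (inv_mem (inv_mem (CeN H.πz))) a.2) (inv_mem (CeN H.πz)))))
      (fun y a => mem_cj.2 (hI _ (fw a.1.2) (zpowers_le.1 (le_normalizer_inf (zpowers_le.2
        (mul_mem (mul_mem (inv_mem (inv_mem rf.πJ)) (rf.nI a.2)) (inv_mem rf.πJ)))
        (le_normalizer_of_le (zpowers_le.2 (fw a.1.2)))))))
      (x := E.π⁻¹ * (g * E.c 1 ^ k) * E.π)
      ⟨⟨bk (e0.πc 0) (mul_mem b (pow_mem (mem_Ce.2 rfl) k)), by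
        rwa [show E.c 1 = _ from (e0.πc 0).symm, conj_pow,
          show E.π⁻¹ * (g * (E.π * E.c 0 ^ k * E.π⁻¹)) * E.π = E.π⁻¹ * g * E.π * E.c 0 ^ k by group]⟩,
        bk (H.πr 2) (mul_mem a (pow_mem c1.2 k))⟩
    rw [mem_cj, show E.π⁻¹⁻¹ * (E.π⁻¹ * (g * E.c 1 ^ k) * E.π) * E.π⁻¹ = g * E.c 1 ^ k by group] at h1
    exact (mul_mem_cancel_right (mem_sup_right (pow_mem c1 k))).1 h1
  have I3 : ∀ a ∈ E.I, a ^ 3 = 1 := fun a ha => by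
    obtain ⟨v, rfl⟩ := (nj.memJ a).1 ha.1
    rw [pow_three', ← nj.add, ← nj.add, show v + v + v = 0 from funext fun i =>
      (by decide : ∀ a : ZMod 3, a + a + a = 0) _]
    exact mul_eq_left.1 ((nj.add 0 0).symm.trans (by rw [add_zero]))
  have Ic : ∀ a ∈ E.I, ∀ b ∈ E.I, a * b = b * a := fun a ha b hb => by
    obtain ⟨v, rfl⟩ := (nj.memJ a).1 ha.1
    obtain ⟨w, rfl⟩ := (nj.memJ b).1 hb.1
    rw [← nj.add, ← nj.add, add_comm]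
  have ty : ∀ d ∈ E.Sg ⊔ E.Y, orderOf d = 3 → ∃ k ∈ E.Sg ⊔ E.Y, k * d * k⁻¹ ∈ E.I ∧
      ∀ g ∈ E.K, g ∈ Ce (k * d * k⁻¹) → g ∈ E.Sg ⊔ E.Y := fun d a o => by
    obtain ⟨g, g1, g2⟩ := sy.exists_cj_le (Q := zpowers d)
      (.of_card (n := 1) (by rw [Nat.card_zpowers, o, pow_one])) (zpowers_le.2 a)
    obtain ⟨k, k1, k2⟩ := rf.ord3 _ (g2 (conj_mem_cj (mem_zpowers d))) (by
      rw [conj_pow, ← o, pow_orderOf_eq_one]; group)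
    obtain ⟨w, w1, w2⟩ := nj.typ _ k2 fun c => by
      rw [show d = 1 by simpa using c, orderOf_one] at o
      omega
    have e : w * k * g * d * (w * k * g)⁻¹ = w * (k * (g * d * g⁻¹) * k⁻¹) * w⁻¹ := by group
    refine ⟨w * k * g, mul_mem (mem_sup_right (mul_mem w1.1 k1)) g1,
      e ▸ conj_mem_of_mem_normalizer w1.2 k2, fun x x1 x2 => ?_⟩
    rcases w2 with c | c | c <;> rw [e, c] at x2
    exacts [hz x x1 (CeN x2), hc x x1 x2, hb ⟨x2, x1⟩]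
  intro d a o g g1 g2
  obtain ⟨k, k1, k2, -⟩ := ty d a o
  obtain ⟨k', k1', -, k3⟩ := ty _ g2 (((MulAut.conj g).orderOf_eq d).trans o)
  have u1 : k' * g * k⁻¹ ∈ E.K := mul_mem (mul_mem (HK k1') g1) (inv_mem (HK k1))
  rw [show k' * (g * d * g⁻¹) * k'⁻¹ = k' * g * k⁻¹ * (k * d * k⁻¹) * (k' * g * k⁻¹)⁻¹ by group,
    ← H42.L3.cj_Ce] at k3
  obtain ⟨w, w1, w2⟩ := sy.exists_cj_le (Q := cj (k' * g * k⁻¹) E.I)
    (isPGroup_cj _ (isPGroup_iff_forall.2 fun a ha => ⟨1, I3 a ha⟩)) (by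
      rintro _ ⟨y, y1, rfl⟩
      exact k3 _ (mul_mem (mul_mem u1 y1.2) (inv_mem u1)) (conj_mem_cj (mem_Ce.2 (Ic _ y1 _ k2))))
  rw [cj_cj] at w2
  have := hI _ (mul_mem (HK w1) u1) (cj_eq_self_iff.1 (rf.wcI _ w2 (by
      rintro _ ⟨y, y1, rfl⟩ _ ⟨y', y2, rfl⟩
      rw [← map_mul, ← map_mul, Ic _ y1 _ y2]) (by
      rintro _ ⟨y, y1, rfl⟩
      rw [← map_pow, I3 _ y1, map_one]) ((card_cj _ _).trans rf.cardI)))
  exact (mul_mem_cancel_left k1').1 ((mul_mem_cancel_right (inv_mem k1)).1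
    ((mul_mem_cancel_left w1).1 this))

omit e0 nj rf yf sf in
theorem jobL1 : JobL1.{u} := fun g6 _ _ _ _ e0 nj rf yf sf hb =>
  ⟨Y_nor e0 nj rf yf sf g6, se e0 nj rf yf sf hb⟩

end H61.E6
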