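/- SPECTRA, job SP-NT: number theory (`JobNT0`, `JobNT`). -/
import Cfsg.Agent.H40.SPSpec
import Cfsg.Agent.H27.Zsigmondy

set_option autoImplicit false

namespace H61.NT

open H40.SP H27

/-- `q ^ d - η` -/
def tor (q d : ℕ) (η : ℤ) : ℕ := if η = 1 then q ^ d - 1 else q ^ d + 1

def idx (d : ℕ) (η : ℤ) : ℕ := if η = 1 then d else 2 * d

theorem tor_cast {q : ℕ} (hq : 1 ≤ q) (d : ℕ) {η : ℤ} (h : Sg η) :
    (tor q d η : ℤ) = (q : ℤ) ^ d - η := by
  rcases h with rfl | rfl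
  · simp [tor, Nat.cast_sub (Nat.one_le_pow d q hq)]
  · simp [tor]

/-- primitive primes of the torus `q ^ d - η` are nonadjacent to `2` -/
def gp (q N : ℕ) (ε : ℤ) (d : ℕ) (η : ℤ) : Bool :=
  if q % 2 = 0 then (d + 1 = N ∨ (d = N ∧ η = ε)) ∧ (η = -1 ∨ (η = 1 ∧ d % 2 = 1))
  else (η = 1 ∨ η = -1) ∧ tor q d η % 4 ≠ 0 ∧
    ((d + 1 = N ∧ (ε = 0 ∨ tor q N ε % 4 = 0)) ∨ (d = N ∧ η = ε))

variable {p q N : ℕ} {ε : ℤ} {ω : Set ℕ}

theorem two_le (h : LF p q N ε ω) : 2 ≤ q := by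
  obtain ⟨f, hf, rfl⟩ := h.pw
  exact h.prime.two_le.trans (Nat.le_self_pow hf.ne' p)

theorem gp_basic {d : ℕ} {η : ℤ} (h : gp q N ε d η = true) :
    Sg η ∧ (d + 1 = N ∨ (d = N ∧ η = ε)) ∧ (η = 1 → Odd d) := by
  unfold gp at h
  split_ifs at h with h2 <;> simp only [decide_eq_true_eq] at h
  · refine ⟨h.2.symm.imp And.left id, h.1, fun e => Nat.odd_iff.2 ?_⟩
    rcases h.2 with e' | e'
    exacts [by omega, e'.2]
  · refine ⟨h.1, h.2.2.imp And.left id, fun e => Nat.not_even_iff_odd.1 fun ⟨k, hk⟩ => h.2.1 ?_⟩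
    obtain ⟨j, hj⟩ : Odd (q ^ k) := (Nat.odd_iff.2 (by omega)).pow
    rw [tor, if_pos e, hk, pow_add, hj, show (2 * j + 1) * (2 * j + 1) = 4 * (j * j + j) + 1 by ring]
    omega

theorem three_le (hN : 3 ≤ N) {d : ℕ} {η : ℤ} (h : gp q N ε d η = true) : 3 ≤ idx d η := by
  obtain ⟨-, h1, h2⟩ := gp_basic h
  unfold idx
  split_ifs with e
  · have := Nat.odd_iff.1 (h2 e)
    omega
  · omega

theorem same (hN : 3 ≤ N) {d : ℕ} {η : ℤ} (h : gp q N ε d η = true) {r : ℕ} (hr : r.Prime)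
    (r2 : r ≠ 2) (ho : orderOf (q : ZMod r) = idx d η) {c : ℕ} {θ : ℤ} (c0 : 0 < c) (hc : c ≤ N)
    (hθ : Sg θ) (hd : (r : ℤ) ∣ (q : ℤ) ^ c - θ) : c = d ∧ θ = η := by
  obtain ⟨hη, h1, h2⟩ := gp_basic h
  have e : (q : ZMod r) ^ c = θ := by
    have := (ZMod.intCast_zmod_eq_zero_iff_dvd _ r).2 hd
    push_cast at this
    exact sub_eq_zero.1 this
  have key : d ∣ c → c = d := by
    rintro ⟨k, rfl⟩
    rcases k with _ | _ | k
    · omega
    · simp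
    · have : d * (k + 1 + 1) = d * k + 2 * d := by ring
      omega
  have := Fact.mk hr
  have : Fact (2 < r) := ⟨lt_of_le_of_ne hr.two_le (Ne.symm r2)⟩
  rcases hθ with rfl | rfl
  · have h3 := orderOf_dvd_of_pow_eq_one (e.trans Int.cast_one)
    rcases hη with rfl | rfl
    · exact ⟨key (by simpa [ho, idx] using h3), rfl⟩
    · have := Nat.le_of_dvd c0 h3
      rw [ho, idx, if_neg (by decide)] at this
      omega
  · have h3 : orderOf (q : ZMod r) ∣ 2 * c :=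
      orderOf_dvd_of_pow_eq_one (by rw [mul_comm, pow_mul, e]; simp)
    rcases hη with rfl | rfl
    · rw [ho, idx, if_pos rfl] at h3
      have h4 := orderOf_dvd_iff_pow_eq_one.1 (ho ▸ (show idx d 1 ∣ c from
        (Nat.coprime_two_right.2 (h2 rfl)).dvd_of_dvd_mul_left h3))
      rw [e] at h4
      exact absurd (by simpa using h4) (ZMod.neg_one_ne_one (n := r))
    · rw [ho, idx, if_neg (by decide)] at h3
      exact ⟨key (Nat.dvd_of_mul_dvd_mul_left two_pos h3), rfl⟩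

theorem key (h : LF p q N ε ω) {d : ℕ} {η : ℤ} (hg : gp q N ε d η = true) {r : ℕ} (hr : r.Prime)
    (h1 : r ∣ q ^ idx d η - 1) (h2 : ∀ k, 1 ≤ k → k < idx d η → ¬ r ∣ q ^ k - 1) :
    r ≠ 2 ∧ r * 2 ∉ ω ∧ ∀ e, r ^ e ∣ q ^ idx d η - 1 → r ^ e ∈ ω := by
  have hq := two_le h
  have h3 := three_le h.three hg
  have hN := h.three
  obtain ⟨hη, h4, h5⟩ := gp_basic hg
  have ho := orderOf_eq_of_primitive (by omega) (by omega) h1 h2
  have hrq : ¬ r ∣ q := fun e => hr.one_lt.ne' (Nat.dvd_one.1 ((Nat.dvd_sub_iff_right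
    (Nat.one_le_pow _ _ (by omega)) (e.trans (dvd_pow_self q (by omega)))).1 h1))
  have r2 : r ≠ 2 := by
    rintro rfl
    exact h2 1 le_rfl (by omega) (by rw [pow_one]; omega)
  obtain ⟨f, hf, hqf⟩ := h.pw
  have rp : r ≠ p := fun e => hrq (e ▸ hqf ▸ dvd_pow_self p hf.ne')
  refine ⟨r2, fun h6 => ?_, fun e he => h.low d η _ ⟨by omega, hη, by omega⟩
    (hr.odd_of_ne_two r2).pow ?_⟩
  · by_cases p2 : p = 2
    · obtain ⟨c, θ, c0, hθ, hc, hd⟩ := h.cadj r 1 hr r2 rp one_pos (by rwa [pow_one, p2])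
      have := (same hN hg hr r2 ho c0 (by omega) hθ (by simpa using hd)).1
      omega
    obtain ⟨c, θ, ⟨c0, hθ, hc⟩, hd, h7⟩ := h.adj2 p2 r hr r2 rp h6
    obtain ⟨rfl, rfl⟩ := same hN hg hr r2 ho c0 (by omega) hθ hd
    have h8 : q % 2 ≠ 0 := by
      have := Nat.odd_iff.1 (hqf ▸ (h.prime.odd_of_ne_two p2).pow : Odd q)
      omega
    simp only [gp, if_neg h8, decide_eq_true_eq] at hg
    rcases h7 with h7 | h7 | ⟨h7, e0, h9⟩
    · omega
    · rw [← tor_cast (by omega) _ hθ] at h7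
      omega
    · rw [← tor_cast (by omega) _ (h.eps.resolve_left e0).2] at h9
      omega
  · rw [← tor_cast (by omega) _ hη, Int.natCast_dvd_natCast]
    rcases hη with rfl | rfl
    · exact he
    · rw [idx, if_neg (by decide)] at he h2
      rw [mul_comm, pow_mul, ← one_pow 2, Nat.sq_sub_sq] at he
      exact ((hr.coprime_iff_not_dvd.2 (h2 d (by omega) (by omega))).pow_left e).dvd_of_dvd_mul_right he

theorem exists_gp (h : LF p q N ε ω) : ∃ d η, gp q N ε d η = true ∧ ¬ (q = 2 ∧ idx d η = 6) := by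
  have hN := h.three
  by_cases h2 : q % 2 = 0
  · by_cases h4 : N = 4
    · exact ⟨3, 1, by simp [gp, h2, h4], by simp [idx]⟩
    · refine ⟨N - 1, -1, by simp [gp, h2]; omega, fun e => ?_⟩
      have := e.2
      rw [idx, if_neg (by decide)] at this
      omega
  have ho : ∀ d, q ^ d % 2 = 1 := fun d => Nat.odd_iff.1 (Nat.odd_iff.2 (by omega)).pow
  have h3 : ∀ d η, ¬ (q = 2 ∧ idx d η = 6) := fun d η e => by omega
  by_cases h4 : ε = 0 ∨ tor q N ε % 4 = 0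
  · have := ho (N - 1)
    by_cases h5 : tor q (N - 1) 1 % 4 = 0
    · refine ⟨N - 1, -1, ?_, h3 _ _⟩
      simp only [gp, if_neg h2, decide_eq_true_eq]
      refine ⟨.inr trivial, ?_, .inl ⟨by omega, h4⟩⟩
      simp only [tor, if_true, reduceCtorEq, if_false] at h5 ⊢
      omega
    · refine ⟨N - 1, 1, ?_, h3 _ _⟩
      simp only [gp, if_neg h2, decide_eq_true_eq]
      exact ⟨.inl trivial, h5, .inl ⟨by omega, h4⟩⟩
  · refine ⟨N, ε, ?_, h3 _ _⟩
    simp only [gp, if_neg h2, decide_eq_true_eq]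
    push Not at h4
    exact ⟨(h.eps.resolve_left h4.1).2, h4.2, .inr ⟨trivial, trivial⟩⟩

theorem exists_prime (h : LF p q N ε ω) : ∃ d η, gp q N ε d η = true ∧ ∃ r, r.Prime ∧
    r ∣ q ^ idx d η - 1 ∧ ∀ k, 1 ≤ k → k < idx d η → ¬ r ∣ q ^ k - 1 := by
  obtain ⟨d, η, hg, h6⟩ := exists_gp h
  have := three_le h.three hg
  exact ⟨d, η, hg, zsigmondy q _ (two_le h) (by omega) h6 (by omega)⟩

theorem jobNT0 : JobNT0 := fun p q N ε ω h => by
  obtain ⟨d, η, hg, r, hr, h1, h2⟩ := exists_prime h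
  obtain ⟨h3, h4, h5⟩ := key h hg hr h1 h2
  exact ⟨r, hr, h3, pow_one r ▸ h5 1 (by rwa [pow_one]), h4⟩

/-! ### The enumeration -/

def PS : List ℕ := [2, 3, 5, 7, 11, 13, 17, 19, 23, 29, 31, 37, 41, 43, 47, 53, 59, 61, 67, 71]

def val (s : ℕ) : ℕ → ℕ → ℕ
  | 0, _ => 0
  | f + 1, x => if x % s = 0 then val s f (x / s) + 1 else 0

def isq : ℕ → ℕ → ℕ → ℕ
  | 0, _, g => g
  | f + 1, n, g => if (g + n / g) / 2 < g then isq f n ((g + n / g) / 2) else g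

def divs : List (ℕ × ℕ) → List ℕ
  | [] => [1]
  | x :: l => (List.range (x.2 + 1)).flatMap fun j => (divs l).map (x.1 ^ j * ·)

/-- the part of `M` on the primes `s ∣ n`, `s ≡ 1` modulo `i` -/
def bb (n M i : ℕ) : ℕ := Nat.gcd M ((PS.filter fun s => n % s = 0 ∧ s % i = 1).prod ^ 230)

def bad (n M q i : ℕ) : Bool :=
  (fun m => decide (bb n M i % m ≠ 0) && decide ((q ^ i - 1) % m = 0) &&
    (List.range' 1 (i - 1)).all fun k => Nat.gcd m (q ^ k - 1) = 1) (zsPrimPart q i)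

def x1 (n M q N : ℕ) (ε : ℤ) : Bool :=
  [(N - 1, (-1 : ℤ)), (N - 1, 1), (N, -1), (N, 1)].any fun x =>
    gp q N ε x.1 x.2 && bad n M q (idx x.1 x.2)

def x2 (n q N : ℕ) (ε : ℤ) : Bool :=
  PS.any fun r => decide (r ≠ 2 ∧ n % r = 0 ∧ q % r ≠ 0) && (List.range' 1 N).all fun d =>
    [(1 : ℤ), -1].all fun η => (d < N ∨ η = ε) → tor q d η % r ≠ 0

def chk (n M q N : ℕ) (ε : ℤ) : Bool :=
  x1 n M q N ε || x2 n q N ε || decide (q ∈ [18, 57, 87]) || decide ((n, q, N, ε) ∈ surv)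

def chkQ (n M i q : ℕ) : Bool :=
  [(i, (1 : ℤ)), (i / 2, -1)].all fun x => [x.1 + 1, x.1].all fun N => [(0 : ℤ), 1, -1].all fun ε =>
    !(decide (2 ≤ q ∧ idx x.1 x.2 = i ∧ 3 ≤ N ∧ (ε = 0 ∨ 4 ≤ N)) && gp q N ε x.1 x.2) || chk n M q N ε

def chkD (n M i D : ℕ) : Bool :=
  (fun s => decide (s * s ≤ D ∧ D < (s + 1) * (s + 1)) &&
    (decide (D ≠ if i = 4 then s * s + 1 else s * s + s + 1) ||
      chkQ n M i (if i = 6 then s + 1 else s))) (isq 100 D D)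

def chkI (n M i : ℕ) : Bool :=
  (fun B => decide (B = 1) || if i = 3 ∨ i = 4 ∨ i = 6 then
      (fun l => decide (B * i = (l.map fun x => x.1 ^ x.2).prod) && (divs l).all (chkD n M i))
        (PS.map fun s => (s, val s 100 (B * i)))
    else (fun t => decide (4 * (B * i) < 151 ^ t) &&
      (List.range' 2 149).all fun q => decide (4 * (B * i) < q ^ t) || chkQ n M i q) (zsTot i))
    (bb n M i)

def chkN (n : ℕ) : Bool :=
  (fun a => decide (n % 2 ^ a = 0 ∧ n % 2 ^ (a + 1) ≠ 0 ∧ PS.prod ^ 50 % n = 0 ∧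
    0 < n * (2 ^ a - 1) ∧ n * (2 ^ a - 1) < 2 ^ 230) &&
    (List.range' 3 68).all (chkI n (n * (2 ^ a - 1)))) (val 2 100 n)

theorem chkAll : ords.all chkN = true := by decide +kernel

end H61.NT
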