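/- SPECTRA, job SP-NT: soundness of the enumeration. -/
import Cfsg.Agent.H61.SPNT
import Cfsg.Agent.Rz.H61_NT_divs_eq_def

set_option autoImplicit false

namespace H61.NT

open H40.SP H27

variable {p q N n M : ℕ} {ε : ℤ} {ω : Set ℕ}

theorem ps_prime : ∀ s ∈ PS, s.Prime := by
  simp only [PS, List.mem_cons, List.not_mem_nil, or_false, forall_eq_or_imp, forall_eq]
  norm_num

theorem ps_le : ∀ s ∈ PS, s ≤ 71 := by decide

theorem mem_ps {r : ℕ} (hr : r.Prime) (h : r ∣ PS.prod ^ 50) : r ∈ PS := by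
  obtain ⟨s, hs, h1⟩ := hr.prime.dvd_prod_iff.1 (hr.dvd_of_dvd_pow h)
  exact (Nat.prime_dvd_prime_iff_eq hr (ps_prime s hs)).1 h1 ▸ hs

theorem mem_divs (l : List (ℕ × ℕ)) (hl : ∀ x ∈ l, x.1.Prime) {D : ℕ}
    (h : D ∣ (l.map fun x => x.1 ^ x.2).prod) : D ∈ divs l := by
  induction l generalizing D with
  | nil => simpa [divs] using h
  | cons x l ih =>
    rw [List.map_cons, List.prod_cons] at h
    obtain ⟨a, b, ha, hb, rfl⟩ := exists_dvd_and_dvd_of_dvd_mul h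
    obtain ⟨j, hj, rfl⟩ := (Nat.dvd_prime_pow (hl x (by simp))).1 ha
    exact List.mem_flatMap.2 ⟨j, List.mem_range.2 (by omega),
      List.mem_map.2 ⟨b, ih (fun y hy => hl y (by simp [hy])) hb, rfl⟩⟩

/-- the hypotheses of the enumeration -/
structure Hy (p q N : ℕ) (ε : ℤ) (ω : Set ℕ) (n M : ℕ) : Prop where
  lf : LF p q N ε ω
  ps : n ∣ PS.prod ^ 50
  pos : 0 < M
  lt : M < 2 ^ 230
  mem : ∀ r, r.Prime → r ∣ n → r ∈ ω
  dvd : ∀ r e, r.Prime → r ≠ 2 → r * 2 ∉ ω → 0 < e → r ^ e ∈ ω → r ∣ n ∧ r ^ e ∣ M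

theorem Hy.prime (h : Hy p q N ε ω n M) {d : ℕ} {η : ℤ} (hg : gp q N ε d η = true) {r : ℕ}
    (hr : r.Prime) (h1 : r ∣ q ^ idx d η - 1) (h2 : ∀ k, 1 ≤ k → k < idx d η → ¬ r ∣ q ^ k - 1) :
    r ∈ PS ∧ n % r = 0 ∧ r % idx d η = 1 ∧ ∀ e, 0 < e → r ^ e ∣ q ^ idx d η - 1 → r ^ e ∣ M := by
  obtain ⟨h3, h4, h5⟩ := key h.lf hg hr h1 h2
  have h6 := (h.dvd r 1 hr h3 h4 one_pos (h5 1 (by rwa [pow_one]))).1
  have h7 := three_le h.lf.three hg
  refine ⟨mem_ps hr (h6.trans h.ps), Nat.mod_eq_zero_of_dvd h6, ?_,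
    fun e he h8 => (h.dvd r e hr h3 h4 he (h5 e h8)).2⟩
  obtain ⟨c, hc⟩ := dvd_sub_one_of_primitive (two_le h.lf) (by omega) hr h1 h2
  rw [show r = 1 + idx d η * c by have := hr.pos; omega, Nat.add_mul_mod_self_left,
    Nat.mod_eq_of_lt (by omega)]

theorem Hy.dvd_bb (h : Hy p q N ε ω n M) {d : ℕ} {η : ℤ} (hg : gp q N ε d η = true) {m : ℕ}
    (hm : IsPrimDiv q (idx d η) m) : m ∣ bb n M (idx d η) := by
  refine (Nat.dvd_iff_prime_pow_dvd_dvd _ _).2 fun r e hr he => ?_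
  rcases Nat.eq_zero_or_pos e with rfl | e0
  · simp
  have h0 := (dvd_pow_self r e0.ne').trans he
  obtain ⟨h1, h2, h3, h4⟩ := h.prime hg hr (h0.trans hm.1) (hm.not_dvd hr h0)
  have h5 := h4 e e0 (he.trans hm.1)
  refine Nat.dvd_gcd h5 ((pow_dvd_pow r ?_).trans (pow_dvd_pow_of_dvd (List.dvd_prod
    (List.mem_filter.2 ⟨h1, decide_eq_true ⟨h2, h3⟩⟩)) 230))
  exact ((Nat.pow_lt_pow_iff_right one_lt_two).1 (((Nat.pow_le_pow_left hr.two_le e).trans
    (Nat.le_of_dvd h.pos h5)).trans_lt h.lt)).le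

theorem Hy.of_chk (h : Hy p q N ε ω n M) (hc : chk n M q N ε = true) : (n, q, N, ε) ∈ surv := by
  have hq := two_le h.lf
  simp only [chk, Bool.or_eq_true, decide_eq_true_eq] at hc
  rcases hc with ((hc | hc) | hc) | hc
  · obtain ⟨x, -, hx⟩ := List.any_eq_true.1 hc
    simp only [bad, Bool.and_eq_true, decide_eq_true_eq, List.all_eq_true] at hx
    obtain ⟨hg, ⟨h1, h2⟩, h3⟩ := hx
    exact absurd (Nat.mod_eq_zero_of_dvd (h.dvd_bb hg ⟨Nat.dvd_of_mod_eq_zero h2, fun k k1 k2 =>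
      h3 k (List.mem_range'_1.2 (by omega))⟩)) h1
  · obtain ⟨r, hr, hx⟩ := List.any_eq_true.1 hc
    simp only [Bool.and_eq_true, decide_eq_true_eq, List.all_eq_true] at hx
    obtain ⟨⟨r2, h1, h2⟩, h3⟩ := hx
    obtain ⟨f, hf, e⟩ := h.lf.pw
    obtain ⟨d, η, ⟨d0, hη, hd⟩, h4⟩ := h.lf.one r 1 (ps_prime r hr) r2
      (fun e' => h2 (Nat.mod_eq_zero_of_dvd (e' ▸ e ▸ dvd_pow_self p hf.ne'))) one_pos
      (by rw [pow_one]; exact h.mem r (ps_prime r hr) (Nat.dvd_of_mod_eq_zero h1))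
    rw [pow_one, ← tor_cast (by omega) _ hη, Int.natCast_dvd_natCast] at h4
    exact absurd (Nat.mod_eq_zero_of_dvd h4) (h3 d (List.mem_range'_1.2 (by omega)) η
      (by simpa [Sg] using hη) (by omega))
  · obtain ⟨f, -, e⟩ := h.lf.pw
    have h1 : ∀ r, r.Prime → r ∣ q → r = p := fun r hr hd =>
      (Nat.prime_dvd_prime_iff_eq hr h.lf.prime).1 (hr.dvd_of_dvd_pow (e ▸ hd))
    have h3 := h1 3 Nat.prime_three
    have h2 := h1 2 Nat.prime_two
    have h19 := h1 19 (by norm_num)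
    have h29 := h1 29 (by norm_num)
    simp only [List.mem_cons, List.not_mem_nil, or_false] at hc
    omega
  · exact hc

theorem Hy.of_chkQ (h : Hy p q N ε ω n M) {d : ℕ} {η : ℤ} (hg : gp q N ε d η = true)
    (hc : chkQ n M (idx d η) q = true) : (n, q, N, ε) ∈ surv := by
  obtain ⟨hη, h1, -⟩ := gp_basic hg
  simp only [chkQ, List.all_eq_true] at hc
  have := hc (d, η) (by rcases hη with rfl | rfl <;> simp [idx]) N (by simp; omega) ε (by
    rcases h.lf.eps with e | ⟨-, e | e⟩ <;> simp [e])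
  rw [hg, decide_eq_true ⟨two_le h.lf, rfl, h.lf.three, h.lf.eps.imp_right And.left⟩] at this
  exact h.of_chk (by simpa using this)

theorem cyc_small {i : ℕ} (hq : 2 ≤ q) (hi : i = 3 ∨ i = 4 ∨ i = 6) :
    ∃ s, q = (if i = 6 then s + 1 else s) ∧
      cyc i q = (if i = 4 then s * s + 1 else s * s + s + 1) ∧ 1 ≤ s := by
  have h := cyc_cast i q (by omega)
  rcases hi with rfl | rfl | rfl
  · refine ⟨q, rfl, ?_, by omega⟩
    rw [Polynomial.cyclotomic_three] at h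
    zify
    simp [h, sq]
  · refine ⟨q, rfl, ?_, by omega⟩
    rw [show 4 = 2 ^ (1 + 1) from rfl,
      Polynomial.cyclotomic_prime_pow_eq_geom_sum Nat.prime_two] at h
    zify
    simp only [Finset.sum_range_succ, Finset.sum_range_zero] at h
    simp at h
    simp [h, sq, add_comm]
  · obtain ⟨s, rfl⟩ : ∃ s, q = s + 1 := ⟨q - 1, by omega⟩
    refine ⟨s, rfl, ?_, by omega⟩
    rw [Polynomial.cyclotomic_six] at h
    zify
    simp [h]
    ring

theorem Hy.of_chkI (h : Hy p q N ε ω n M) (hc : (List.range' 3 68).all (chkI n M) = true) :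
    (n, q, N, ε) ∈ surv := by
  obtain ⟨d, η, hg, r, hr, h1, h2⟩ := exists_prime h.lf
  have hq := two_le h.lf
  have h3 := three_le h.lf.three hg
  obtain ⟨h4, -, h5, -⟩ := h.prime hg hr h1 h2
  have h6 : idx d η ≤ 70 := by
    have := ps_le r h4
    have := hr.two_le
    by_contra h7
    rcases (show r < idx d η ∨ idx d η = r by omega) with e | e
    · rw [Nat.mod_eq_of_lt e] at h5
      omega
    · simp [e] at h5
  have h7 : bb n M (idx d η) ≠ 1 := fun e => hr.one_lt.ne' (Nat.dvd_one.1 (e ▸ h.dvd_bb hg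
    ⟨h1, fun k k1 k2 => hr.coprime_iff_not_dvd.2 (h2 k k1 k2)⟩))
  obtain ⟨m, -, -, hm, h8⟩ := exists_isPrimDiv_cyc_dvd (n := idx d η) (by omega) hq
  replace h8 := h8.trans (Nat.mul_dvd_mul_right (h.dvd_bb hg hm) _)
  have h9 := List.all_eq_true.1 hc _ (List.mem_range'_1.2 (show _ ≤ idx d η ∧ _ by omega))
  refine h.of_chkQ hg ?_
  generalize idx d η = i at *
  simp only [chkI, h7, decide_false, Bool.false_or] at h9
  split_ifs at h9 with hi
  · rw [Bool.and_eq_true, decide_eq_true_eq, List.all_eq_true] at h9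
    have h10 := h9.2 _ (mem_divs _ (fun x hx => by
      obtain ⟨s, hs, rfl⟩ := List.mem_map.1 hx
      exact ps_prime s hs) (h9.1 ▸ h8))
    obtain ⟨s, e1, e2, s1⟩ := cyc_small hq hi
    simp only [chkD, Bool.and_eq_true, decide_eq_true_eq, Bool.or_eq_true] at h10
    obtain rfl : s = isq 100 (cyc i q) (cyc i q) := by
      have h11 : s * s ≤ cyc i q ∧ cyc i q < (s + 1) * (s + 1) := by
        rw [e2]
        split_ifs <;> constructor <;> nlinarith
      exact (Nat.eq_sqrt.2 h11).trans (Nat.eq_sqrt.2 h10.1).symm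
    exact e1 ▸ h10.2.resolve_left fun e => e e2
  · rw [Bool.and_eq_true, decide_eq_true_eq, List.all_eq_true, zsTot_eq] at h9
    have h10 : _ ≤ 4 * (bb n M i * i) :=
      (pow_totient_le_four_mul_cyc i q (by omega) hq).trans (Nat.mul_le_mul_left 4
      (Nat.le_of_dvd (Nat.mul_pos (Nat.gcd_pos_of_pos_left _ h.pos) (by omega)) h8))
    have h11 := lt_of_pow_lt_pow_left₀ _ (by omega) (h10.trans_lt h9.1)
    have := h9.2 q (List.mem_range'_1.2 (by omega))
    rwa [decide_eq_false (not_lt.2 h10), Bool.false_or] at this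

theorem jobNT : JobNT := fun p q N ε ω h n hn a ha h1 h2 => by
  have h3 := List.all_eq_true.1 chkAll n hn
  simp only [chkN, Bool.and_eq_true, decide_eq_true_eq] at h3
  obtain ⟨⟨h4, h5, h6, h7, h8⟩, h9⟩ := h3
  obtain rfl : a = val 2 100 n := by
    by_contra hne
    rcases Nat.lt_or_gt_of_ne hne with e | e
    · exact ha.2 ((pow_dvd_pow 2 e).trans (Nat.dvd_of_mod_eq_zero h4))
    · exact h5 (Nat.mod_eq_zero_of_dvd ((pow_dvd_pow 2 e).trans ha.1))
  exact Hy.of_chkI ⟨h, Nat.dvd_of_mod_eq_zero h6, h7, h8, h1, h2⟩ h9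

end H61.NT
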