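import Cfsg.Agent.H41.LDKit2
import Cfsg.Agent.H61.L3Final
import Cfsg.Agent.H19.L3Norm
import Cfsg.Agent.H19.AschOAux

/-! Job B3L of the tower LD5: reflection groups of rank three with a quasisimple normal subgroup. -/

set_option autoImplicit false

open Cfsg Cfsg.Geo H19 H41.LD
open scoped Matrix MatrixGroups commutatorElement

namespace H61.LD.B3L

universe u

variable {K : Type u} [Field K] {G E : Subgroup (GL (Fin 3) K)} {r s t x y : R 3 K}

theorem two_ne [Finite K] (hT : Thin G) (hle : E ≤ G) (hE : H61.L3.QS E) : (2 : K) ≠ 0 := by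
  intro h2
  have key : ∀ u φ, H25.Tv3.TV E u φ → u ≠ 0 → φ ≠ 0 → Rf G (u, φ) := by
    rintro u φ ⟨a, g, hg, e⟩ hu hφ
    refine ⟨a.trans h2.symm, hu, hφ, g, hle hg, e.trans ?_⟩
    have : (2 : K) • N (u, φ) = 0 := by rw [h2, zero_smul]
    rw [two_smul] at this
    rw [sub_eq_add_neg, ← eq_neg_of_add_eq_zero_left this]
    rfl
  obtain ⟨g, hg, h1, u, φ, a, e⟩ := H25.Tv3.exists_isTv hE h2
  have hu : u ≠ 0 := fun h => h1 (Units.ext (by simp [e, h]))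
  have hφ : φ ≠ 0 := fun h => h1 (Units.ext (by simp [e, h]))
  have h0 : H25.Tv3.TV E u φ := ⟨a, g, hg, e⟩
  refine H25.Tv3.false_of_isolated hE h2 ((H25.Tv3.tb E).opp fun u w φ a b c => ?_) h0 hu hφ
    fun ψ a b => (hT.uniqL (key _ _ a hu b) (key _ _ h0 hu hφ) rfl)
  by_cases hu : u = 0
  · simp [hu]
  by_cases hw : w = 0
  · simp [hw]
  have : u = w := hT.uniqR (key _ _ a hu c) (key _ _ b hw c) rfl
  simp [this]

theorem not_isTv (h : NoTv G) (hle : E ≤ G) (g : GL (Fin 3) K) (hg : g ∈ E) : ¬ H61.L3.IsTv g := by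
  rintro ⟨h1, u, φ, a, e⟩
  rcases h (u, φ) ⟨a, g, hle hg, e⟩ with h0 | h0 <;>
    exact h1 (Units.ext (by simp only at h0; simp [e, h0]))

theorem trc_rf (h : x.2 ⬝ᵥ x.1 = 2) : (rf x h).val.trace = 1 := by
  change (1 - N x).trace = 1
  rw [Matrix.trace_sub, trace_N, h, Matrix.trace_one]
  norm_num

theorem false_of_quad (h2 : (2 : K) ≠ 0) (hs : gspan E = ⊤)
    (hn : ∀ g ∈ G, ∀ x ∈ E, g * x * g⁻¹ ∈ E) (h : NR G r s t) {Q : (Fin 3 → K) → K}
    (hq : IsNondegenerateQuadraticForm Q) (hP : FixesQuadForm (matrixSet E) Q) : False := by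
  let B := oFrm hq
  have hσ : ∀ a, B.σ a = a := fun _ => rfl
  have hsym : ∀ u v, B.f v u = B.f u v := fun u v => by
    change QuadraticMap.polar Q v u = QuadraticMap.polar Q u v
    simp only [QuadraticMap.polar, add_comm v u]
    ring
  have key : ∀ x, Rf G x → ∃ m : K, ∀ v, x.2 ⬝ᵥ v = m * B.f v x.1 := by
    intro x hx
    obtain ⟨c, hc, e⟩ := B.exists_adj_of_sim (B.le_sim_of_nrm hs (fun g hg =>
      isometryGroup_le_Iso hq (mem_isometryGroup.2 (hP _ ⟨g, hg, rfl⟩))) hn hx.mem)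
    have h1 : c = 1 := by
      have := congrArg Matrix.trace e
      rw [B.trace_adj, Matrix.trace_smul, hσ, trc_rf] at this
      have e1 : ((rf x hx.1)⁻¹).val.trace = 1 := trc_rf hx.1
      rw [e1] at this
      simpa using this.symm
    have e2 : ∀ v, (x.2 ⬝ᵥ v) * B.f x.1 x.1 = 2 * B.f v x.1 := fun v => by
      have := B.adj_left (rf x hx.1).val v x.1
      rw [e, h1, one_smul] at this
      change B.f ((1 - N x) *ᵥ v) x.1 = B.f v ((1 - N x) *ᵥ x.1) at this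
      rw [rf_mulVec, rf_mulVec, hx.1, B.sub_left, B.sub_right, B.smul_left, B.smul_right, hσ] at this
      linear_combination -this
    have h3 : B.f x.1 x.1 ≠ 0 := fun h0 => hx.2.1 (B.nondeg _ fun v => by
      have := e2 v
      rw [h0, mul_zero] at this
      exact (mul_eq_zero.1 this.symm).resolve_left h2)
    exact ⟨2 / B.f x.1 x.1, fun v => by field_simp; linear_combination e2 v⟩
  obtain ⟨a, ha⟩ := key r h.r1
  obtain ⟨b, hb⟩ := key s h.r2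
  obtain ⟨c, hc⟩ := key t h.r3
  apply h.ne
  simp only [tau, ha, hb, hc]
  rw [hsym s.1 r.1, hsym t.1 s.1, hsym r.1 t.1]
  ring

/-! ### The group `L₃(2)` -/

/-- The group `SL₃(2)`. -/
abbrev S : Type := SL(3, ZMod 2)

def b0 : S := ⟨!![1, 0, 1; 0, 1, 0; 0, 0, 1], by decide +kernel⟩
def c0 : S := ⟨!![1, 1, 1; 0, 1, 0; 0, 0, 1], by decide +kernel⟩
def y1 : S := ⟨!![1, 0, 0; 0, 0, 1; 0, 1, 0], by decide +kernel⟩
def y2 : S := ⟨!![1, 0, 0; 0, 1, 0; 0, 1, 1], by decide +kernel⟩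

/-- The nine involutions of a point stabiliser. -/
def L9 : List S :=
  [a2, b0, c0, y1, y2, y2 * y1 * y2, b0 * y1 * b0, c0 * y2 * c0, c0 * (y2 * y1 * y2) * c0]

def W3 : List S :=
  [1, ⟨!![0, 0, 1; 0, 1, 0; 1, 0, 0], by decide +kernel⟩,
    ⟨!![1, 0, 1; 0, 1, 0; 1, 0, 0], by decide +kernel⟩]

theorem inv_conj {j : S} (h : j ^ 2 = 1) (h1 : j ≠ 1) : ∃ w, j = w * a2 * w⁻¹ := by
  obtain ⟨q, hq, w, e⟩ := exists_rep2 j
  have key : ∀ q ∈ reps2, q.1 * q.1 = 1 → q.1 = 1 ∨ q.1 = a2 :=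
    of_decide_eq_true (inst := List.decidableBAll _ _) (by decide +kernel)
  have e1 : q.1 = w⁻¹ * j * w := by rw [e]; group
  rcases key q hq (by rw [e1, show w⁻¹ * j * w * (w⁻¹ * j * w) = w⁻¹ * j ^ 2 * w by
    simp [pow_two, mul_assoc], h]; simp) with a | a
  · exact absurd (by rw [e, a]; simp) h1
  · exact ⟨w, a ▸ e⟩

theorem two_key : ∀ x : Matrix (Fin 3) (Fin 3) (ZMod 2), x * x = 1 → x = 1 ∨
    ∃ w ∈ W3, (∃ l ∈ L9, a2 * w = w * l) ∧ ∃ l ∈ L9, x * w.1 = w.1 * l.1 :=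
  forall_sl2 (by decide +kernel)

theorem two_inv {j k : S} (h : j ^ 2 = 1) (h1 : j ≠ 1) (h' : k ^ 2 = 1) (h1' : k ≠ 1) :
    ∃ w, w * j * w⁻¹ ∈ L9 ∧ w * k * w⁻¹ ∈ L9 := by
  obtain ⟨v, rfl⟩ := inv_conj h h1
  obtain ⟨w, -, ⟨l, hl, e⟩, l', hl', e'⟩ := (two_key (v⁻¹ * k * v).1
    (congrArg Subtype.val (show (v⁻¹ * k * v) * (v⁻¹ * k * v) = 1 by
      rw [show (v⁻¹ * k * v) * (v⁻¹ * k * v) = v⁻¹ * k ^ 2 * v by simp [pow_two, mul_assoc], h']
      simp))).resolve_left fun e => h1' (by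
      have : v⁻¹ * k * v = 1 := Subtype.ext e
      rw [show k = v * (v⁻¹ * k * v) * v⁻¹ by group, this]; simp)
  have e2 : v⁻¹ * k * v * w = w * l' := Subtype.ext e'
  refine ⟨(v * w)⁻¹, ?_, ?_⟩
  · rwa [show (v * w)⁻¹ * (v * a2 * v⁻¹) * (v * w)⁻¹⁻¹ = w⁻¹ * (a2 * w) by group, e,
      inv_mul_cancel_left]
  · rwa [show (v * w)⁻¹ * k * (v * w)⁻¹⁻¹ = w⁻¹ * (v⁻¹ * k * v * w) by group, e2,
      inv_mul_cancel_left]

theorem q8_key (x : Matrix (Fin 3) (Fin 3) (ZMod 2)) (q : S × S) (hq : q ∈ reps2) :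
    x * x ≠ (q.1 * q.1).1 ∨ q.1.1 * x * (q.1.1 * x) ≠ (q.1 * q.1).1 ∨ q.1 * q.1 = 1 := by
  have : ∀ x : Matrix (Fin 3) (Fin 3) (ZMod 2), (reps2.all fun q => decide (x * x ≠ (q.1 * q.1).1 ∨
      q.1.1 * x * (q.1.1 * x) ≠ (q.1 * q.1).1 ∨ q.1 * q.1 = 1)) = true :=
    forall_sl2 (by decide +kernel)
  exact of_decide_eq_true (List.all_eq_true.1 (this x) q hq)

theorem noQ8_S (a b : S) (h : b ^ 2 = a ^ 2) (h' : (a * b) ^ 2 = a ^ 2) : a ^ 2 = 1 := by
  obtain ⟨q, hq, w, rfl⟩ := exists_rep2 a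
  simp only [pow_two] at h h' ⊢
  rcases q8_key (w⁻¹ * b * w).1 q hq with a | a | a
  · refine absurd (congrArg Subtype.val
      (show (w⁻¹ * b * w) * (w⁻¹ * b * w) = q.1 * q.1 from ?_)) a
    rw [show (w⁻¹ * b * w) * (w⁻¹ * b * w) = w⁻¹ * (b * b) * w by group, h]
    group
  · refine absurd (congrArg Subtype.val
      (show q.1 * (w⁻¹ * b * w) * (q.1 * (w⁻¹ * b * w)) = q.1 * q.1 from ?_)) a
    rw [show q.1 * (w⁻¹ * b * w) * (q.1 * (w⁻¹ * b * w)) =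
      w⁻¹ * (w * q.1 * w⁻¹ * b * (w * q.1 * w⁻¹ * b)) * w by group, h']
    group
  · rw [show w * q.1 * w⁻¹ * (w * q.1 * w⁻¹) = w * (q.1 * q.1) * w⁻¹ by group, a]
    simp

section lift

variable {Γ : Type*} [Group Γ] {π : E →* Γ}

/-- `j` is the image of minus the reflection `x`. -/
def Lf (G : Subgroup (GL (Fin 3) K)) (π : E →* Γ) (j : Γ) (x : R 3 K) : Prop :=
  Rf G x ∧ ∃ k : E, π k = j ∧ k.1.val = N x - 1

theorem Lf.conj (hle : E ≤ G) (hs : Function.Surjective π) {j : Γ} (h : Lf G π j x) (w : Γ) :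
    ∃ y, Lf G π (w * j * w⁻¹) y := by
  obtain ⟨g, rfl⟩ := hs w
  obtain ⟨h1, k, rfl, e⟩ := h
  refine ⟨cg g.1 x, h1.conj (hle g.2), g * k * g⁻¹, by simp, ?_⟩
  rw [N_cg, Subgroup.coe_mul, Subgroup.coe_mul, Units.val_mul, Units.val_mul, e, mul_sub, sub_mul,
    mul_one, Subgroup.coe_inv, Units.mul_inv]

theorem Lf.uniq (hi : Function.Injective π) {j : Γ} (h : Lf G π j x) (h' : Lf G π j y) :
    N x = N y := by
  obtain ⟨-, k, rfl, e⟩ := h
  obtain ⟨-, k', e1, e'⟩ := h'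
  rw [hi e1, e] at e'
  exact sub_left_injective e'

theorem Lf.of_N {j : Γ} (h : Lf G π j x) (e : N y = N x) : Lf G π j y :=
  ⟨h.1.of_N e, by rw [e]; exact h.2⟩

theorem Lf.cj {j j' : Γ} (h : Lf G π j x) (h' : Lf G π j' y) : Lf G π (j * j' * j) (cj x y) := by
  obtain ⟨h1, k, rfl, e⟩ := h
  obtain ⟨h2, k', rfl, e'⟩ := h'
  refine ⟨h1.cj h2, k * k' * k, by simp, ?_⟩
  rw [N_cj, Subgroup.coe_mul, Subgroup.coe_mul, Units.val_mul, Units.val_mul, e, e']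
  linear_combination (norm := noncomm_ring) -rf_mul_self h1.1

theorem trc_prod {k k' : GL (Fin 3) K} (hx : x.2 ⬝ᵥ x.1 = 2) (hy : y.2 ⬝ᵥ y.1 = 2)
    (e : k.val = N x - 1) (e' : k'.val = N y - 1) :
    trc (k * k') = cc x y - 1 ∧ trc (k * k')⁻¹ = trc (k * k') := by
  have a : k * k = 1 := Units.ext (by
    rw [Units.val_mul, e, Units.val_one]
    linear_combination (norm := noncomm_ring) rf_mul_self hx)
  have b : k' * k' = 1 := Units.ext (by
    rw [Units.val_mul, e', Units.val_one]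
    linear_combination (norm := noncomm_ring) rf_mul_self hy)
  refine ⟨?_, by rw [mul_inv_rev, inv_eq_of_mul_eq_one_right a, inv_eq_of_mul_eq_one_right b,
    trc_mul_comm]⟩
  rw [trc_def, Units.val_mul, e, e', cc_eq, sub_mul, mul_sub, mul_sub, mul_one, one_mul, one_mul,
    Matrix.trace_sub, Matrix.trace_sub, Matrix.trace_sub, trace_N, trace_N, hx, hy, Matrix.trace_one]
  norm_num
  ring

variable (hc : Cov3 E π) (hi : Function.Injective π)
include hc hi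

theorem Lf.cc0 {j j' : Γ} (h : Lf G π j x) (h' : Lf G π j' y) (e : (j * j') ^ 2 = 1)
    (e' : j * j' ≠ 1) : cc x y = 0 := by
  obtain ⟨h1, k, rfl, e1⟩ := h
  obtain ⟨h2, k', rfl, e2⟩ := h'
  have a := trc_of_sq (hc.le (k * k').2) (g := (k * k' : E))
    (congrArg Subtype.val (hi (a₂ := 1) (a₁ := (k * k') ^ 2) (by simpa using e)))
    (fun h => e' (by rw [← map_mul, (Subtype.ext h : k * k' = 1), map_one]))
  linear_combination a - (trc_prod h1.1 h2.1 e1 e2).1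

theorem Lf.cc2 {j j' : Γ} (h : Lf G π j x) (h' : Lf G π j' y) (e : (j * j') ^ 4 = 1)
    (e' : (j * j') ^ 2 ≠ 1) : cc x y = 2 := by
  obtain ⟨h1, k, rfl, e1⟩ := h
  obtain ⟨h2, k', rfl, e2⟩ := h'
  have a := trc_of_four (hc.le (k * k').2) (g := (k * k' : E))
    (congrArg Subtype.val (hi (a₂ := 1) (a₁ := (k * k') ^ 4) (by simpa using e)))
    (fun h => e' (by rw [← map_mul, ← map_pow, (Subtype.ext h : (k * k') ^ 2 = 1), map_one]))
    (trc_prod h1.1 h2.1 e1 e2).2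
  linear_combination a - (trc_prod h1.1 h2.1 e1 e2).1

theorem Lf.cc1 {j j' : Γ} (h : Lf G π j x) (h' : Lf G π j' y) (e : (j * j') ^ 3 = 1)
    (e' : j * j' ≠ 1) : cc x y = 1 := by
  obtain ⟨h1, k, rfl, e1⟩ := h
  obtain ⟨h2, k', rfl, e2⟩ := h'
  have a := trc_of_cube (hc.le (k * k').2) (g := (k * k' : E))
    (congrArg Subtype.val (hi (a₂ := 1) (a₁ := (k * k') ^ 3) (by simpa using e)))
    (fun h => e' (by rw [← map_mul]; exact (hc.ker _).2 h))
  linear_combination a - (trc_prod h1.1 h2.1 e1 e2).1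

omit hc in
theorem Lf.cc4 {j j' : Γ} (h : Lf G π j x) (h' : Lf G π j' y) (e : j * j' = 1) : cc x y = 4 := by
  obtain ⟨h1, k, rfl, e1⟩ := h
  obtain ⟨h2, k', rfl, e2⟩ := h'
  have a : k.1 * k'.1 = 1 := congrArg Subtype.val (hi (a₂ := 1) (a₁ := k * k') (by simpa using e))
  have b := (trc_prod h1.1 h2.1 e1 e2).1
  rw [a, trc_one3] at b
  linear_combination -b

theorem exists_lf (hG : G ≤ E ⊔ scalars (Fin 3) K) (hx : Rf G x) :
    ∃ j, Lf G π j x ∧ j ^ 2 = 1 ∧ j ≠ 1 := by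
  obtain ⟨k, hk, c, e⟩ := H41.LD.mem_sup_scalars (hG hx.mem)
  have e1 : 1 - N x = (c : K) • k.val := by
    have := congrArg Units.val e
    rwa [Units.val_mul, coe_scal, mul_smul_comm, mul_one] at this
  have e2 : ((c : K) * c) • (k.val * k.val) = 1 := by
    rw [← rf_mul_self hx.1, e1, smul_mul_assoc, mul_smul_comm, smul_smul]
  have e3 : π (⟨k, hk⟩ ^ 2) = 1 := by
    refine (hc.ker _).2 ((mem_scalars_iff _).2 ⟨(c * c)⁻¹, ?_⟩)
    rw [← e2, smul_smul, ← Units.val_mul, ← Units.val_mul, inv_mul_cancel, Units.val_one, one_smul,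
      pow_two]
    rfl
  have e4 : k ^ 2 = 1 := congrArg Subtype.val (hi (a₂ := 1) (e3.trans π.map_one.symm))
  have e5 : k ≠ 1 := by
    rintro rfl
    exact N_ne_smul_one (by norm_num) hx.N_ne (1 - c) (by
      rw [sub_smul, one_smul, ← Units.val_one, ← e1, Units.val_one, sub_sub_cancel])
  have e6 : (c : K) = -1 := by
    have a := trc_of_sq (hc.le hk) e4 e5
    have b := congrArg Matrix.trace e1
    rw [Matrix.trace_smul, ← trc_def, a] at b
    have d : (1 - N x).trace = 1 := trc_rf hx.1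
    rw [d, smul_eq_mul] at b
    linear_combination b
  refine ⟨π ⟨k, hk⟩, ⟨hx, ⟨k, hk⟩, rfl, ?_⟩, by rw [← map_pow, e3], fun h => e5 ?_⟩
  · rw [e6, neg_smul, one_smul] at e1
    rw [← neg_neg k.val, ← e1, neg_sub]
  · exact congrArg Subtype.val (hi (a₂ := 1) (h.trans π.map_one.symm))

end lift

/-- A reflection with entries `1, 1, 0` exchanges two lines of the frame. -/
theorem eq_sw {e ε : Fin 3 → Fin 3 → K} (hd : Dual e ε) {i j k : Fin 3} (hij : i ≠ j) (hik : i ≠ k)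
    (hjk : j ≠ k) (h1 : X e ε x i = 1) (h2 : X e ε x j = 1) (h3 : Z e ε x k) :
    ∃ η, η ≠ 0 ∧ N x = N (sw e ε i j η) := by
  have hs : ∀ f : Fin 3 → Matrix (Fin 3) (Fin 3) K, ∑ l, f l = f i + f j + f k := fun f => by
    have : (Finset.univ : Finset (Fin 3)) = {i, j, k} := by
      clear h1 h2 h3
      revert i j k
      decide
    rw [this, Finset.sum_insert (by simp [hij, hik]), Finset.sum_pair hjk, add_assoc]
  have a := hd.sum_eq_one
  rw [hs] at a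
  have e1 : x.1 = (ε i ⬝ᵥ x.1) • e i + (ε j ⬝ᵥ x.1) • e j := by
    have := congrArg (· *ᵥ x.1) a
    simp only [Matrix.add_mulVec, N_mulVec, h3.1, zero_smul, add_zero, Matrix.one_mulVec] at this
    exact this.symm
  have e2 : x.2 = (x.2 ⬝ᵥ e i) • ε i + (x.2 ⬝ᵥ e j) • ε j := by
    have := congrArg (x.2 ᵥ* ·) a
    simp only [Matrix.vecMul_add, vecMul_N, h3.2, zero_smul, add_zero, Matrix.vecMul_one] at this
    exact this.symm
  unfold X at h1 h2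
  generalize ε i ⬝ᵥ x.1 = a0, ε j ⬝ᵥ x.1 = a1, x.2 ⬝ᵥ e i = b0, x.2 ⬝ᵥ e j = b1 at *
  have ha : a1 * b0 ≠ 0 := mul_ne_zero (left_ne_zero_of_mul_eq_one h2) (right_ne_zero_of_mul_eq_one h1)
  have hb : (-(a1 * b0))⁻¹ = -(a0 * b1) :=
    inv_eq_of_mul_eq_one_right (by linear_combination (a1 * b1) * h1 + h2)
  refine ⟨-(a1 * b0), neg_ne_zero.2 ha, ?_⟩
  have : x = (a0 • e i + a1 • e j, b0 • ε i + b1 • ε j) := Prod.ext e1 e2
  rw [this, sw, hb]
  simp only [N_add_left, N_add_right, N_sub_left, N_sub_right, N_smul_left, N_smul_right]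
  match_scalars
  · linear_combination h1
  · ring
  · ring
  · linear_combination -(a1 * b1) * h1

theorem cj_dg {n : ℕ} {e ε : Fin 3 → Fin n → K} (hd : Dual e ε) {i j : Fin 3} (hij : i ≠ j) :
    cj (dg e ε j) (sw e ε i j 1) = sw e ε i j (-1) := by
  simp only [H41.LD.cj, dg, sw, inv_one, one_smul, inv_neg, neg_smul, smul_dotProduct, dotProduct_sub,
    sub_dotProduct, hd.same, hd.ne hij, hd.ne hij.symm]
  refine Prod.ext ?_ ?_ <;> simp only <;> module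

theorem cc_dg {e ε : Fin 3 → Fin 3 → K} (i : Fin 3) (x : R 3 K) :
    cc (dg e ε i) x = 2 * X e ε x i := by
  simp only [cc, dg, X, smul_dotProduct, smul_eq_mul]
  ring

theorem frame {π : E →* S} (h2 : (2 : K) ≠ 0) (hT : Thin G) (hc : Cov3 E π)
    (hi : Function.Injective π) (h0 : ∀ j : S, j ^ 2 = 1 → j ≠ 1 → ∃ x, Lf G π j x) :
    ∃ e ε : Fin 3 → Fin 3 → K, B3 G e ε ∧ ∀ j ∈ L9, ∀ x, Lf G π j x → InB3 e ε x := by
  obtain ⟨xa, ha⟩ := h0 a2 (by decide +kernel) (by decide +kernel)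
  obtain ⟨xb, hb⟩ := h0 b0 (by decide +kernel) (by decide +kernel)
  obtain ⟨xc, hc'⟩ := h0 c0 (by decide +kernel) (by decide +kernel)
  obtain ⟨z1, h1⟩ := h0 y1 (by decide +kernel) (by decide +kernel)
  obtain ⟨z2, h3⟩ := h0 y2 (by decide +kernel) (by decide +kernel)
  -- a frame adapted to the four-group
  have step : ∀ e ε : Fin 3 → Fin 3 → K, Dual e ε → ∀ (i j k : Fin 3) (a b c y : S) (z : R 3 K),
      i ≠ j → i ≠ k → j ≠ k → Lf G π a (dg e ε i) → Lf G π b (dg e ε j) → Lf G π c (dg e ε k) →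
      Lf G π y z → (a * y) ^ 4 = 1 → (a * y) ^ 2 ≠ 1 → (b * y) ^ 4 = 1 → (b * y) ^ 2 ≠ 1 →
      (c * y) ^ 2 = 1 → c * y ≠ 1 → ∃ η, η ≠ 0 ∧ Lf G π y (sw e ε i j η) := by
    intro e ε hd i j k a b c y z hij hik hjk ha hb hc' hy a1 a2 a3 a4 a5 a6
    have d1 := ha.cc2 hc hi hy a1 a2
    have d2 := hb.cc2 hc hi hy a3 a4
    have d3 := hT.of_cc hc'.1 hy.1 (hc'.cc0 hc hi hy a5 a6)
    rw [cc_dg] at d1 d2
    obtain ⟨η, hη, e1⟩ := eq_sw hd hij hik hjk (x := z)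
      (mul_left_cancel₀ h2 (d1.trans (mul_one _).symm))
      (mul_left_cancel₀ h2 (d2.trans (mul_one _).symm))
      ⟨by simpa [dg, h2] using d3.1, d3.2⟩
    exact ⟨η, hη, hy.of_N e1.symm⟩
  have dab := hT.of_cc ha.1 hb.1 (ha.cc0 hc hi hb (by decide +kernel) (by decide +kernel))
  have dac := hT.of_cc ha.1 hc'.1 (ha.cc0 hc hi hc' (by decide +kernel) (by decide +kernel))
  have dbc := hT.of_cc hb.1 hc'.1 (hb.cc0 hc hi hc' (by decide +kernel) (by decide +kernel))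
  have mk : ∀ p q : K, p ≠ 0 → q ≠ 0 →
      Dual ![xa.1, p • xb.1, q • xc.1] ![(2 : K)⁻¹ • xa.2, (2 * p)⁻¹ • xb.2, (2 * q)⁻¹ • xc.2] ∧
      Lf G π a2 (dg ![xa.1, p • xb.1, q • xc.1]
        ![(2 : K)⁻¹ • xa.2, (2 * p)⁻¹ • xb.2, (2 * q)⁻¹ • xc.2] 0) ∧
      Lf G π b0 (dg ![xa.1, p • xb.1, q • xc.1]
        ![(2 : K)⁻¹ • xa.2, (2 * p)⁻¹ • xb.2, (2 * q)⁻¹ • xc.2] 1) ∧
      Lf G π c0 (dg ![xa.1, p • xb.1, q • xc.1]
        ![(2 : K)⁻¹ • xa.2, (2 * p)⁻¹ • xb.2, (2 * q)⁻¹ • xc.2] 2) := by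
    intro p q hp hq
    refine ⟨fun i j => ?_, ha.of_N ?_, hb.of_N ?_, hc'.of_N ?_⟩
    · fin_cases i <;> fin_cases j <;>
        simp [ha.1.1, hb.1.1, hc'.1.1, dab.1, dab.2, dac.1, dac.2, dbc.1, dbc.2, h2] <;> field_simp
    · simp [dg, smul_smul, h2]
    · rw [← N_scale hp xb]
      simp only [dg, Matrix.cons_val, smul_smul]
      congr 3
      field_simp
    · rw [← N_scale hq xc]
      simp only [dg, Matrix.cons_val, smul_smul]
      congr 3
      field_simp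
  obtain ⟨m1, m2, m3, m4⟩ := mk 1 1 one_ne_zero one_ne_zero
  obtain ⟨p, hp, s1⟩ := step _ _ m1 0 1 2 _ _ _ _ _ (by decide) (by decide) (by decide) m2 m3 m4 h1
    (by decide +kernel) (by decide +kernel) (by decide +kernel) (by decide +kernel)
    (by decide +kernel) (by decide +kernel)
  obtain ⟨n1, n2, n3, n4⟩ := mk p 1 hp one_ne_zero
  obtain ⟨q, hq, s2⟩ := step _ _ n1 1 2 0 _ _ _ _ _ (by decide) (by decide) (by decide) n3 n4 n2 h3
    (by decide +kernel) (by decide +kernel) (by decide +kernel) (by decide +kernel)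
    (by decide +kernel) (by decide +kernel)
  obtain ⟨hd, k0, k1, k2⟩ := mk p q hp hq
  generalize he : ![xa.1, p • xb.1, q • xc.1] = e at hd k0 k1 k2
  generalize hε : ![(2 : K)⁻¹ • xa.2, (2 * p)⁻¹ • xb.2, (2 * q)⁻¹ • xc.2] = ε at hd k0 k1 k2
  have t1 : Lf G π y1 (sw e ε 0 1 1) := s1.of_N (by
    subst he hε
    simp [sw, smul_smul, mul_comm])
  have t2 : Lf G π y2 (sw e ε 1 2 1) := s2.of_N (by
    subst he hε
    simp [sw, smul_smul, mul_comm])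
  have t3 : Lf G π (y2 * y1 * y2) (sw e ε 0 2 1) := by
    have := t2.cj t1
    rwa [cj_sw_right hd (by decide) (by decide) (by decide), mul_one] at this
  have u1 := k1.cj t1
  have u2 := k2.cj t2
  have u3 := k2.cj t3
  rw [cj_dg hd (by decide)] at u1 u2 u3
  have fr : Frame G e ε := ⟨hd, t1.1, t2.1⟩
  refine ⟨e, ε, ⟨hd, fun i => ?_, fun i j hij =>
    ⟨fr.sw fr.mu_one hij, fr.sw ⟨neg_ne_zero.2 one_ne_zero, u1.1⟩ hij⟩⟩, fun j hj x hx => ?_⟩
  · fin_cases i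
    exacts [k0.1, k1.1, k2.1]
  simp only [L9, List.mem_cons, List.not_mem_nil, or_false] at hj
  rcases hj with rfl | rfl | rfl | rfl | rfl | rfl | rfl | rfl | rfl
  · exact Or.inl ⟨0, hx.uniq hi k0⟩
  · exact Or.inl ⟨1, hx.uniq hi k1⟩
  · exact Or.inl ⟨2, hx.uniq hi k2⟩
  · exact Or.inr ⟨0, 1, by decide, Or.inl (hx.uniq hi t1)⟩
  · exact Or.inr ⟨1, 2, by decide, Or.inl (hx.uniq hi t2)⟩
  · exact Or.inr ⟨0, 2, by decide, Or.inl (hx.uniq hi t3)⟩
  · exact Or.inr ⟨0, 1, by decide, Or.inr (hx.uniq hi u1)⟩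
  · exact Or.inr ⟨1, 2, by decide, Or.inr (hx.uniq hi u2)⟩
  · exact Or.inr ⟨0, 2, by decide, Or.inr (hx.uniq hi u3)⟩

/-- Every element of `G` lies in `E` up to sign. -/
theorem pm {Γ : Type*} [Group Γ] {π : E →* Γ}
    (hg : G ≤ Subgroup.closure {g | ∃ x, Rf G x ∧ g.val = 1 - N x})
    (h : ∀ x, Rf G x → ∃ j, Lf G π j x) {g : GL (Fin 3) K} (h1 : g ∈ G) : g ∈ E ∨ -g ∈ E := by
  have h2 := hg h1
  clear h1
  induction h2 using Subgroup.closure_induction with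
  | mem g hg =>
    obtain ⟨x, hx, e⟩ := hg
    obtain ⟨j, -, k, -, e'⟩ := h x hx
    have : -g = k.1 := Units.ext (by rw [Units.val_neg, e, e', neg_sub])
    exact Or.inr (this ▸ k.2)
  | one => exact Or.inl E.one_mem
  | mul a b _ _ ha hb =>
    rcases ha with ha | ha <;> rcases hb with hb | hb
    · exact Or.inl (E.mul_mem ha hb)
    · exact Or.inr (by simpa using E.mul_mem ha hb)
    · exact Or.inr (by simpa using E.mul_mem ha hb)
    · exact Or.inl (by simpa using E.mul_mem ha hb)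
  | inv a _ ha => exact ha.imp E.inv_mem fun ha => by simpa using E.inv_mem ha

theorem noQ8_of {Γ : Type*} [Group Γ] {π : E →* Γ} (hi : Function.Injective π)
    (hq : ∀ a b : Γ, b ^ 2 = a ^ 2 → (a * b) ^ 2 = a ^ 2 → a ^ 2 = 1)
    (h : ∀ g ∈ G, g ∈ E ∨ -g ∈ E) {H : Subgroup (GL (Fin 3) K)} (hH : H ≤ G) : NoQ8 H := by
  intro a ha b hb e e'
  have key : ∀ a ∈ E, ∀ b ∈ E, b ^ 2 = a ^ 2 → (a * b) ^ 2 = a ^ 2 → a ^ 2 = 1 := by
    intro a ha b hb e e'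
    refine congrArg Subtype.val (hi (a₁ := ⟨a, ha⟩ ^ 2) (a₂ := 1) ?_)
    rw [map_pow, map_one]
    refine hq _ (π ⟨b, hb⟩) ?_ ?_
    · rw [← map_pow, ← map_pow]; exact congrArg π (Subtype.ext e)
    · rw [← map_mul, ← map_pow, ← map_pow]; exact congrArg π (Subtype.ext e')
  rcases h a (hH ha) with h1 | h1 <;> rcases h b (hH hb) with h2 | h2
  · exact key a h1 b h2 e e'
  · exact key a h1 _ h2 (by simpa using e) (by simpa using e')
  · simpa using key _ h1 b h2 (by simpa using e) (by simpa using e')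
  · simpa using key _ h1 _ h2 (by simpa using e) (by simpa using e')

theorem tl [Finite K] (h : R3 G r s t) (hle : E ≤ G) (hn : ∀ g ∈ G, ∀ x ∈ E, g * x * g⁻¹ ∈ E)
    (hE : H61.L3.QS E) (h2 : (2 : K) ≠ 0) (h7 : (7 : K) ≠ 0)
    (hc : Nat.card (H61.L3.Bar E) = 168) : TL G r s t := by
  have hG := norm_168 hE hn h7 hc
  obtain ⟨e⟩ := equiv_sl32 hE hc
  obtain ⟨π, hπ⟩ := exists_cov3 hE e
  have hi : Function.Injective π := (injective_iff_map_eq_one π).2 (hπ.eq_one_sl32 hE.perfect)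
  have ex : ∀ x, Rf G x → ∃ j, Lf G π j x ∧ j ^ 2 = 1 ∧ j ≠ 1 := fun x => exists_lf hπ hi hG
  refine ⟨noQ8_of hi noQ8_S (fun g => pm h.gen fun x hx => (ex x hx).imp fun _ h => h.1)
    (parG_le _ _ _ _), fun x y hx _ hy _ => ?_, fun x y hx _ hy _ => ?_⟩
  · obtain ⟨j, a, -, -⟩ := ex x hx
    obtain ⟨k, b, -, -⟩ := ex y hy
    by_cases h1 : j * k = 1
    · exact Or.inr (Or.inr (Or.inr (a.cc4 hi b h1)))
    rcases sm_sl2 (j * k) with ⟨-, d | d | d | d⟩ | ⟨-, d, d'⟩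
    · exact Or.inr (Or.inl (a.cc1 hπ hi b d h1))
    · by_cases h3 : (j * k) ^ 2 = 1
      · exact Or.inl (a.cc0 hπ hi b h3 h1)
      · exact Or.inr (Or.inr (Or.inl (a.cc2 hπ hi b d h3)))
    · exact d.1.elim
    · exact d.1.elim
    · obtain ⟨a1, j, rfl, a2⟩ := a
      obtain ⟨b1, k, rfl, b2⟩ := b
      rw [← map_mul] at d d' h1
      exact absurd (trc_prod a1.1 b1.1 a2 b2).2
        (hπ.seven h7 (hi (by rw [map_pow, d, map_one])) h1 d').1
  · obtain ⟨j, a, a1, a2⟩ := ex x hx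
    obtain ⟨k, b, b1, b2⟩ := ex y hy
    obtain ⟨w, c, d⟩ := two_inv a1 a2 b1 b2
    let π' := (MulAut.conj w).toMonoidHom.comp π
    have hπ' : Cov3 E π' := ⟨hπ.toCov.trans (MulAut.conj w), hπ.le⟩
    have hi' : Function.Injective π' := (MulAut.conj w).injective.comp hi
    have tr : ∀ {j x}, Lf G π j x → Lf G π' (w * j * w⁻¹) x := fun ⟨h, k, e, e'⟩ =>
      ⟨h, k, by rw [← e]; rfl, e'⟩
    obtain ⟨e, ε, h3, h4⟩ := frame h2 h.thin hπ' hi' fun l l1 l2 => by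
      obtain ⟨v, rfl⟩ := inv_conj l1 l2
      obtain ⟨v', rfl⟩ := inv_conj a1 a2
      obtain ⟨z, hz⟩ := (tr a).conj hle hπ'.surj (v * (w * v')⁻¹)
      exact ⟨z, by convert hz using 1; group⟩
    exact ⟨e, ε, h3, fun i => h.sup _, h4 _ c x (tr a), h4 _ d y (tr b)⟩

end H61.LD.B3L

universe u in
open H61.LD.B3L in
theorem H61.LD.jobB3L : H41.LD.JobB3L.{u} := by
  intro K _ _ G E r s t h hle hn hE
  have h2 := two_ne h.thin hle hE
  refine ⟨h2, ?_⟩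
  rcases H61.L3.jobNoTv_of_gw H0.gwSimple K h2 E hE (not_isTv (h.tv h2) hle) with
    ⟨Q, hq, hP⟩ | ⟨h7, hc⟩ | h3 | h3
  · exact (false_of_quad h2 (span_of_qs hE) hn h.nr hq hP).elim
  · exact Or.inl (tl h hle hn hE h2 h7 hc)
  · exact Or.inr (Or.inl h3)
  · exact Or.inr (Or.inr h3)
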