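import Cfsg.Agent.H61.LDL2
import Cfsg.Agent.H74.J1M
import Cfsg.Agent.H30.ReeInst
import Cfsg.Agent.H30.ReeCent

/-! Tower LD5, job JR: `J₁` and the Ree groups have no five-dimensional module in characteristic
two. -/

set_option autoImplicit false

namespace H61.LD

open Matrix Cfsg Cfsg.Geo H19 H41.LD H22 MulAction Subgroup
open scoped MatrixGroups

universe u

/-- The weight lemma for an element of prime order. -/
theorem cyc_le_dim {Γ K : Type*} [Group Γ] [Finite Γ] [Field K] [IsAlgClosed K] {n : ℕ}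
    (ρ : Γ →* GL (Fin n) K) {x w : Γ} {l k s : ℕ} (hl : l.Prime) (hx : x ^ l = 1) (hK : (l : K) ≠ 0)
    (h1 : ρ x ≠ 1) (hw : w * x * w⁻¹ = x ^ k) (hk : ∀ i, 0 < i → i < s → ¬ k ^ i ≡ 1 [MOD l]) :
    s ≤ n := by
  have := Fact.mk hl
  have ox : orderOf x = l := orderOf_eq_prime hx fun e => h1 (by rw [e, map_one])
  have hp : ∀ d : ℕ, w ^ d * x * (w ^ d)⁻¹ = x ^ k ^ d := fun d => by
    induction d with
    | zero => simp
    | succ d ih =>
      calc _ = w * (w ^ d * x * (w ^ d)⁻¹) * w⁻¹ := by rw [pow_succ']; group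
        _ = _ := by rw [ih, ← conj_pow, hw, ← pow_mul, pow_succ']
  have key : ∀ d, 0 < d → d < s → ∀ a ∈ zpowers x, w ^ d * a = a * w ^ d → a = 1 :=
    fun d d0 ds a ha e => by
      by_contra a1
      have h2 : zpowers a = zpowers x := eq_of_le_of_card_ge (zpowers_le.2 ha) (by
        rw [Nat.card_zpowers, Nat.card_zpowers, ox]
        refine Nat.le_of_eq ((hl.eq_one_or_self_of_dvd _ ?_).resolve_left
          fun e => a1 (orderOf_eq_one_iff.1 e)).symm
        exact ox ▸ orderOf_dvd_of_mem_zpowers ha)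
      obtain ⟨c, hc⟩ := mem_zpowers_iff.1 (h2.ge (mem_zpowers x))
      have h3 : Commute (w ^ d) x := hc ▸ Commute.zpow_right e c
      have h4 := hp d
      rw [h3.eq, mul_inv_cancel_right] at h4
      refine hk d d0 ds ?_
      rw [← ox, ← pow_eq_pow_iff_modEq, pow_one, ← h4]
  have := card_le_dim ρ (zpowers x) (fun i : Fin s => w ^ (i : ℕ))
    (fun a ha b hb => Hk.comm_zpowers ha hb) hK
    (fun a ha => orderOf_dvd_iff_pow_eq_one.1 (ox ▸ orderOf_dvd_of_mem_zpowers ha))
    ⟨x, mem_zpowers x, h1⟩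
    (fun i => pow_mem (mem_normalizer_fintype fun a ha =>
      Hk.conj_zpowers (hw ▸ pow_mem (mem_zpowers x) k) ha) _) fun i j hij a ha e => by
      rcases lt_or_gt_of_ne (Fin.val_ne_of_ne hij) with h | h
      · obtain ⟨d, hd⟩ := Nat.exists_eq_add_of_lt h
        rw [hd, add_assoc, pow_add, inv_mul_cancel_left] at e
        exact key _ (Nat.succ_pos d) (by omega) a ha e
      · obtain ⟨d, hd⟩ := Nat.exists_eq_add_of_lt h
        rw [hd, add_assoc, pow_add, _root_.mul_inv_rev, inv_mul_cancel_right] at e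
        exact key _ (Nat.succ_pos d) (by omega) a ha
          (Commute.inv_left_iff.1 (show Commute _ a from e))
  rwa [Fintype.card_fin] at this

/-- The weight lemma for `L₂(r)`, `r` odd, in cross characteristic. -/
theorem l2_le_dim {F K : Type*} [Field F] [Finite F] [Field K] [IsAlgClosed K] {n : ℕ}
    (ρ : PSL(2, F) →* GL (Fin n) K) (hρ : Function.Injective ρ) (ho : Odd (Nat.card F))
    (hK : (Nat.card F : K) ≠ 0) : Nat.card F ≤ 2 * n + 1 := by
  obtain ⟨r, hr, _, y, d, -, hd, m⟩ := main_psl_odd ho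
  obtain ⟨b, -, hb, cT⟩ := m.exists_split
  obtain ⟨e, e0, hq⟩ := m.exists_pow
  obtain ⟨g, g1⟩ := ne_bot_iff_exists_ne_one.1 (m.Q_ne_bot (mem_orbit_self _))
  have := Fintype.ofFinite (tor PSL(2, F) (pinf (AlgebraicClosure F)) b)
  have le := card_le_dim ρ ((hur_psl F r).Q (pinf _))
    (fun τ : tor PSL(2, F) (pinf (AlgebraicClosure F)) b => τ)
    (fun a ha b hb => (hur_psl F r).Q_comm ha hb) (m := r)
    (fun e' => hK (by rw [hq, Nat.cast_pow, e', zero_pow e0.ne'])) (fun a ha => ha.2)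
    ⟨g, g.2, fun e => g1 (Subtype.ext (hρ (e.trans (map_one ρ).symm)))⟩
    (fun τ => ((hur_psl F r).normalizer_Q (m.Q_ne_bot (mem_orbit_self _))).ge τ.2.1)
    fun i j hij a ha e => by
      by_contra a1
      have hτ := mul_mem (inv_mem i.2) j.2
      exact hij (Subtype.ext (inv_mul_eq_one.1 ((hur_psl F r).semi _ _ b hb hτ.1 hτ.2
        ((hur_psl F r).mem_Q_of_commute ha a1 e).2)))
  rw [← Nat.card_eq_fintype_card, cT] at le
  omega

open H71 H74 H74.J1 Spor in
theorem j1_frob : ∃ x w : J1, x ^ 7 = 1 ∧ x ≠ 1 ∧ w * x * w⁻¹ = x ^ 3 := by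
  have hxy : ∀ l, valXY l ∈ J1 := mkVal_mem (by
    intro g hg
    simp only [List.mem_cons, List.not_mem_nil, or_false] at hg
    rcases hg with rfl | rfl
    · exact subset_closure (by simp)
    · exact subset_closure (by simp)) (by simp)
  have ev : ∀ u v : List ℕ, mw 7 11 pI tabXY u = mw 7 11 pI tabXY v → evw valXY u = evw valXY v :=
    fun u v h => Units.ext (by
      rw [toM_mw (by norm_num) (by norm_num) toM_pI valXY_tab,
        toM_mw (by norm_num) (by norm_num) toM_pI valXY_tab, h])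
  refine ⟨⟨valXY 0, hxy 0⟩, ⟨evw valXY [3, 1, 3, 1, 3, 3, 1, 2, 0, 2, 1, 1, 2, 1, 2, 2],
    evw_mem fun l _ => hxy l⟩, Subtype.ext ?_, fun e => ?_, Subtype.ext ?_⟩
  · have := ev [0, 0, 0, 0, 0, 0, 0] [] (by decide +kernel)
    simpa [pow_succ, mul_assoc] using this
  · have h2 : jankoMatrixX = 1 := congrArg Units.val (congrArg Subtype.val e)
    exact absurd h2 (by decide +kernel)
  · have := ev ([3, 1, 3, 1, 3, 3, 1, 2, 0, 2, 1, 1, 2, 1, 2, 2] ++ [0])
      ([0, 0, 0] ++ [3, 1, 3, 1, 3, 3, 1, 2, 0, 2, 1, 1, 2, 1, 2, 2]) (by decide +kernel)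
    rw [evw_append, evw_append] at this
    change evw valXY _ * valXY 0 * (evw valXY _)⁻¹ = valXY 0 ^ 3
    rw [mul_inv_eq_iff_eq_mul]
    simpa only [evw_cons _ 0, evw_nil, mul_one, pow_succ, pow_zero, one_mul, mul_assoc] using this

theorem jobJR : JobJR.{u} := by
  rintro Γ _ (⟨F, _, _, m, hm, hF, ⟨e⟩⟩ | ⟨⟨e⟩⟩) K _ _ _ ρ hρ
  · have c := hF
    rw [← Nat.card_eq_fintype_card] at c
    have := l2_le_dim (ρ.comp (e.symm.toMonoidHom.comp (H30.reeG2 hF).ψ))
      (hρ.inj.comp (e.symm.injective.comp (H30.reeG2 hF).ψ_injective))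
      (c ▸ Odd.pow (by decide)) (by
        rw [c, Ne, CharP.cast_eq_zero_iff K 2]
        exact fun h => absurd (Nat.prime_two.dvd_of_dvd_pow h) (by decide))
    have h3 : 3 ^ 3 ≤ 3 ^ (2 * m + 1) := Nat.pow_le_pow_right (by decide) (by omega)
    omega
  · obtain ⟨x, w, h1, h2, h3⟩ := j1_frob
    have := cyc_le_dim (s := 6) (ρ.comp e.symm.toMonoidHom) (by decide) h1
      (by rw [Ne, CharP.cast_eq_zero_iff K 2]; decide)
      (fun h => h2 ((hρ.inj.comp e.symm.injective)
        (h.trans (map_one (ρ.comp e.symm.toMonoidHom)).symm))) h3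
      (fun i h0 h6 => by interval_cases i <;> decide)
    omega

end H61.LD
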