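import Cfsg.Agent.H61.HkIIr
import Cfsg.Agent.H72.HKS1
import Cfsg.Agent.H8.HKNRE
import Cfsg.Agent.H85.E2
import Cfsg.Agent.H2.MinNormal

/-! A Sylow `2`-subgroup normalising a four-group of `H` (job HKS-IIs). -/

set_option autoImplicit false

namespace H61.Hk

open MulAction Cfsg Subgroup H89.K H65 H7.HKS H8.HK

universe u

section two

variable {Γ : Type*} [Group Γ] [Finite Γ]

theorem exists_scn_in (hΓ : IsPGroup 2 Γ) (Q : Subgroup Γ) [Q.Normal] : ∃ A : Subgroup Γ, A.Normal ∧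
    A ≤ Q ∧ IsMulCommutative A ∧ ∀ c ∈ Q, (∀ x ∈ A, x * c = c * x) → c ∈ A := by
  have : Fact (Nat.Prime 2) := ⟨Nat.prime_two⟩
  obtain ⟨A, ⟨h1, h2, h3⟩, hmax⟩ := Set.Finite.exists_maximal
    (s := {A : Subgroup Γ | A.Normal ∧ A ≤ Q ∧ IsMulCommutative A}) (Set.toFinite _)
    ⟨⊥, inferInstance, bot_le, inferInstance⟩
  refine ⟨A, h1, h2, h3, fun c hc hx => ?_⟩
  by_contra hn
  have : Group.IsNilpotent (Γ ⧸ A) := (hΓ.to_quotient _).isNilpotent
  have hC : ((Q ⊓ centralizer (A : Set Γ)).map (QuotientGroup.mk' A)).Normal :=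
    Normal.map inferInstance _ (QuotientGroup.mk'_surjective _)
  obtain ⟨⟨z, ⟨d, hd, rfl⟩, hz⟩, hz1⟩ := (Subgroup.ne_bot_iff_exists_ne_one).1
    (H2.inf_center_ne_bot_of_isNilpotent ((Q ⊓ centralizer (A : Set Γ)).map (QuotientGroup.mk' A))
      fun e => hn ((QuotientGroup.eq_one_iff c).1 (mem_bot.1 (e ▸ ⟨c, ⟨hc, hx⟩, rfl⟩))))
  refine hz1 (Subtype.ext ((QuotientGroup.eq_one_iff d).2 (hmax (y := A ⊔ zpowers d)
    ⟨⟨fun x hx g => ?_⟩, sup_le h2 (zpowers_le.2 hd.1), ?_⟩ le_sup_left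
    (mem_sup_right (mem_zpowers d)))))
  · refine (show A ⊔ zpowers d ≤ (A ⊔ zpowers d).comap (MulAut.conj g).toMonoidHom from
      sup_le (fun y hy => mem_sup_left (h1.conj_mem y hy g)) (zpowers_le.2 ?_)) hx
    have h4 : g * d * g⁻¹ * d⁻¹ ∈ A := (QuotientGroup.eq_one_iff _).1 (by
      have := mem_center_iff.1 hz g
      simp only [QuotientGroup.mk'_apply] at this
      simp [this])
    simpa using mul_mem (mem_sup_left h4) (mem_sup_right (mem_zpowers d))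
  · have h4 : ∀ x ∈ A, ∀ y ∈ A, x * y = y * x := fun x hx y hy =>
      congrArg Subtype.val (h3.1.1 ⟨x, hx⟩ ⟨y, hy⟩)
    have h5 : A ⊔ zpowers d ≤ centralizer (A : Set Γ) ⊓ centralizer {d} :=
      sup_le (fun x hx => ⟨fun y hy => h4 y hy x hx, mem_centralizer_singleton_iff.2 (hd.2 x hx)⟩)
        (zpowers_le.2 ⟨hd.2, mem_centralizer_singleton_iff.2 rfl⟩)
    refine ⟨⟨fun x y => Subtype.ext (mem_centralizer_singleton_iff.1
      ((show A ⊔ zpowers d ≤ centralizer {(y : Γ)} from sup_le (fun w hw =>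
        mem_centralizer_singleton_iff.2 ((h5 y.2).1 w hw)) (zpowers_le.2
          (mem_centralizer_singleton_iff.2 (mem_centralizer_singleton_iff.1 (h5 y.2).2).symm))) x.2))⟩⟩

omit [Finite Γ] in
theorem zpow_cases {t : Γ} (tt : t * t = 1) (c : ℤ) : t ^ c = 1 ∨ t ^ c = t := by
  obtain ⟨d, rfl | rfl⟩ := c.even_or_odd'
  · left; rw [zpow_mul, zpow_two, tt, one_zpow]
  · right; rw [zpow_add_one, zpow_mul, zpow_two, tt, one_zpow, one_mul]

omit [Finite Γ] in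
theorem four_cases {α t x : Γ} {i : ℕ} (ho : orderOf α = 2 ^ (i + 1)) (ht : α ^ 2 ^ i = t)
    (h1 : x * α * x⁻¹ ∈ zpowers α) (h2 : x * x * α = α * (x * x)) :
    x * α * x⁻¹ = α ∨ x * α * x⁻¹ = α * t ∨ x * α * x⁻¹ = α⁻¹ ∨ x * α * x⁻¹ = α⁻¹ * t := by
  obtain ⟨e, he⟩ := mem_zpowers_iff.1 h1
  have tt : t * t = 1 := by rw [← ht, ← pow_add, ← two_mul, ← pow_succ', ← ho, pow_orderOf_eq_one]
  have h3 : α ^ (e * e) = α ^ (1 : ℤ) := by
    rw [zpow_mul, he, conj_zpow, he, zpow_one,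
      show x * (x * α * x⁻¹) * x⁻¹ = x * x * α * (x * x)⁻¹ by group, h2, mul_inv_cancel_right]
  have h4 : (2 : ℤ) ^ (i + 1) ∣ e * e - 1 := by
    have := orderOf_dvd_sub_iff_zpow_eq_zpow.2 h3
    rwa [ho, Nat.cast_pow] at this
  obtain ⟨f, rfl⟩ : Odd e := by
    refine Int.not_even_iff_odd.1 fun h => ?_
    obtain ⟨f, rfl⟩ := h
    have := (dvd_pow_self 2 i.succ_ne_zero).trans h4
    rw [show (f + f) * (f + f) - 1 = 2 * (2 * f * f) - 1 by ring] at this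
    omega
  have h5 : (2 : ℤ) ^ i ∣ 2 * f * (f + 1) := by
    rw [pow_succ', show (2 * f + 1) * (2 * f + 1) - 1 = 2 * (2 * f * (f + 1)) by ring] at h4
    exact (mul_dvd_mul_iff_left two_ne_zero).1 h4
  have key : ∀ c : ℤ, α ^ (2 ^ i * c) = t ^ c := fun c => by
    rw [zpow_mul, ← ht, ← zpow_natCast, Nat.cast_pow, Nat.cast_ofNat]
  rw [← he]
  rcases Int.even_or_odd f with h | h
  · obtain ⟨c, hc⟩ := (IsCoprime.pow_left (Int.isCoprime_two_left.2 h.add_one)).dvd_of_dvd_mul_right h5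
    rw [hc, add_comm, zpow_add, zpow_one, key]
    rcases zpow_cases tt c with e | e <;> simp [e]
  · rw [show 2 * f * (f + 1) = (2 * f + 2) * f by ring] at h5
    obtain ⟨c, hc⟩ := (IsCoprime.pow_left (Int.isCoprime_two_left.2 h)).dvd_of_dvd_mul_right h5
    rw [show 2 * f + 1 = -1 + 2 ^ i * c by omega, zpow_add, zpow_neg_one, key]
    rcases zpow_cases tt c with e | e <;> simp [e]

/-- A normal four-group inside a normal subgroup containing `Z₄ × Z₂`. -/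
theorem exists_four (hΓ : IsPGroup 2 Γ) (Q : Subgroup Γ) [hQ : Q.Normal] {t h k : Γ} (tQ : t ∈ Q)
    (tt : t * t = 1) (t1 : t ≠ 1) (tc : ∀ g, g * t = t * g) (hh : h ∈ Q) (hk : k ∈ Q)
    (h2 : h * h = t) (k2 : k * k = 1) (k1 : k ≠ 1) (kt : k ≠ t) (hc : h * k = k * h)
    (rk : ∀ x ∈ Q, orderOf x = 2 → x ≠ t → ∀ y ∈ Q, y * y = 1 → y * x = x * y →
      y = 1 ∨ y = t ∨ y = x ∨ y = x * t) :
    ∃ κ ∈ Q, κ * κ = 1 ∧ κ ≠ 1 ∧ κ ≠ t ∧ ∀ g, g * κ * g⁻¹ = κ ∨ g * κ * g⁻¹ = κ * t := by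
  have : Fact (Nat.Prime 2) := ⟨Nat.prime_two⟩
  obtain ⟨A, hAn, hAQ, hA, hC⟩ := exists_scn_in hΓ Q
  have ct : ∀ g, g * t * g⁻¹ = t := fun g => mul_inv_eq_iff_eq_mul.2 (tc g)
  by_cases hcy : IsCyclic A
  swap
  · obtain ⟨V, hV, hVA, h4⟩ := H85.exists_normal_four_le hΓ A hA hcy
    have sq : ∀ x ∈ V, x * x = 1 := fun x hx => congrArg Subtype.val (IsKleinFour.mul_self (⟨x, hx⟩ : V))
    obtain ⟨κ, hκ, n1, n2⟩ : ∃ κ ∈ V, κ ≠ 1 ∧ κ ≠ t := by
      by_contra! hn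
      have h5 : (V : Set Γ) ⊆ {1, t} := fun x hx => (eq_or_ne x 1).imp_right (hn x hx)
      have h6 := (Set.ncard_le_ncard h5).trans (Set.ncard_pair t1.symm).le
      rw [← Nat.card_coe_set_eq, SetLike.coe_sort_coe, h4.card_four] at h6
      omega
    refine ⟨κ, hAQ (hVA hκ), sq κ hκ, n1, n2, fun g => ?_⟩
    have h5 := hV.conj_mem κ hκ g
    rcases rk κ (hAQ (hVA hκ)) (ord2 n1 (sq κ hκ)) n2 _ (hAQ (hVA h5)) (sq _ h5)
      (congrArg Subtype.val (hA.1.1 ⟨_, hVA h5⟩ ⟨_, hVA hκ⟩)) with e | e | e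
    · exact (n1 (conj_eq_one_iff.1 e)).elim
    · exact (n2 ((MulAut.conj g).injective (e.trans (ct g).symm))).elim
    · exact e
  obtain ⟨α, rfl⟩ := (Subgroup.isCyclic_iff_exists_zpowers_eq_top _).1 hcy
  have hC' : ∀ c ∈ Q, c * α * c⁻¹ = α → c ∈ zpowers α := fun c hc e => hC c hc fun x hx => by
    obtain ⟨n, rfl⟩ := hx
    exact (Commute.zpow_right (mul_inv_eq_iff_eq_mul.1 e) n).symm
  have nA : ∀ g, g * α * g⁻¹ ∈ zpowers α := fun g => hAn.conj_mem α (mem_zpowers α) g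
  have tA := hC' t tQ (mul_inv_eq_iff_eq_mul.2 (tc α).symm)
  obtain ⟨j, hj⟩ := IsPGroup.iff_orderOf.1 hΓ α
  obtain ⟨i, rfl⟩ : ∃ i, j = i + 1 := Nat.exists_eq_succ_of_ne_zero fun e => by
    rw [e, pow_zero, orderOf_eq_one_iff] at hj
    rw [hj, zpowers_one_eq_bot] at tA
    exact t1 tA
  have inv0 : ∀ y ∈ zpowers α, y * y = 1 → y = 1 ∨ y = α ^ 2 ^ i := fun y hy e => by
    obtain ⟨n, rfl⟩ := mem_zpowers_iff.1 hy
    rw [← zpow_add, ← orderOf_dvd_iff_zpow_eq_one, hj, ← two_mul, pow_succ', Nat.cast_mul] at e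
    obtain ⟨c, rfl⟩ := (mul_dvd_mul_iff_left (two_ne_zero' ℤ)).1 e
    rw [zpow_mul, zpow_natCast]
    exact zpow_cases (by rw [← pow_add, ← two_mul, ← pow_succ', ← hj, pow_orderOf_eq_one]) c
  have ht : α ^ 2 ^ i = t := ((inv0 t tA tt).resolve_left t1).symm
  rw [ht] at inv0
  have odd4 : ∀ n : ℤ, (α ^ (2 * n + 1)) ^ 4 = 1 → α ^ 4 = 1 := fun n e => by
    rw [← zpow_natCast, ← zpow_mul, ← orderOf_dvd_iff_zpow_eq_one, hj, Nat.cast_pow] at e
    rw [← zpow_natCast, ← orderOf_dvd_iff_zpow_eq_one, hj, Nat.cast_pow]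
    exact (IsCoprime.pow_left (Int.isCoprime_two_left.2 ⟨n, rfl⟩)).dvd_of_dvd_mul_left e
  have sq2 : (α * t) ^ (2 : ℤ) = α ^ (2 : ℤ) := by
    rw [Commute.mul_zpow (tc α), zpow_two t, tt, mul_one]
  have fin : α ^ 4 ≠ 1 → ∀ κ ∈ Q, κ * κ = 1 → κ * α * κ⁻¹ = α * t →
      κ ≠ 1 ∧ κ ≠ t ∧ ∀ g, g * κ * g⁻¹ = κ ∨ g * κ * g⁻¹ = κ * t := by
    intro a4 κ hκ κ2 e
    refine ⟨fun e' => t1 (by simpa [e'] using e), fun e' => t1 ?_, fun g => ?_⟩
    · rw [e', ← tc α, mul_inv_cancel_right] at e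
      simpa using e
    obtain ⟨m, hm⟩ := mem_zpowers_iff.1 (nA κ)
    obtain ⟨n, hn⟩ := mem_zpowers_iff.1 (nA g⁻¹)
    obtain ⟨d, hd⟩ : ∃ d, d = κ⁻¹ * (g * κ * g⁻¹) := ⟨_, rfl⟩
    have h3 : d ∈ zpowers α := hC' d (hd ▸ mul_mem (inv_mem hκ) (hQ.conj_mem κ hκ g)) (by
      calc d * α * d⁻¹ = κ⁻¹ * (g * (κ * (g⁻¹ * α * g⁻¹⁻¹) * κ⁻¹) * g⁻¹) * κ := by rw [hd]; group
        _ = κ⁻¹ * (g * (g⁻¹ * (κ * α * κ⁻¹) * g⁻¹⁻¹) * g⁻¹) * κ := by
          rw [← hn, ← conj_zpow (a := κ), ← hm, ← conj_zpow (a := g⁻¹), ← hn, ← zpow_mul, ← zpow_mul,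
            mul_comm m]
        _ = α := by group)
    have h4 : g * κ * g⁻¹ = κ * d := by rw [hd]; group
    have h5 : κ * d * κ⁻¹ * d = 1 := by
      rw [inv_eq_of_mul_eq_one_left κ2, mul_assoc, ← h4, conj_mul, κ2]; group
    obtain ⟨n, rfl⟩ := mem_zpowers_iff.1 h3
    rw [← conj_zpow, e] at h5
    rw [h4]
    obtain ⟨c, rfl | rfl⟩ := n.even_or_odd'
    · rw [zpow_mul, sq2, ← zpow_mul] at h5
      exact (inv0 _ h3 h5).imp (fun e => by rw [e, mul_one]) fun e => by rw [e]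
    · refine (a4 (odd4 c ?_)).elim
      rw [zpow_add_one, zpow_mul, sq2, ← zpow_mul, ← mul_assoc, ← zpow_add_one, mul_assoc, ← tc,
        ← mul_assoc, mul_eq_one_iff_eq_inv, inv_eq_of_mul_eq_one_left tt] at h5
      rw [show 4 = 2 * 2 from rfl, pow_mul, sq, sq, h5, tt]
  have kA : k * α * k⁻¹ ≠ α := fun e => ((inv0 k (hC' k hk e) k2).elim k1 kt)
  have hk' := mul_mem hh hk
  have hk2 : h * k * (h * k) = t := by rw [mul_assoc, ← mul_assoc k, ← hc, mul_assoc, k2, mul_one, h2]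
  have notA : (k * α * k⁻¹ = α⁻¹ ∨ (k * α * k⁻¹ = α⁻¹ * t ∧ α ^ 4 ≠ 1)) → ∀ g ∈ Q, g * g = t →
      g * k = k * g → g * α * g⁻¹ ≠ α := by
    intro e g hg g2 gk e'
    obtain ⟨n, rfl⟩ := mem_zpowers_iff.1 (hC' g hg e')
    have h3 := mul_inv_eq_iff_eq_mul.2 gk.symm
    rw [← conj_zpow] at h3
    rcases e with e | ⟨e, a4⟩
    · rw [e, inv_zpow, inv_eq_iff_mul_eq_one, g2] at h3
      exact t1 h3
    obtain ⟨c, rfl | rfl⟩ := n.even_or_odd'
    · rw [e, Commute.mul_zpow (tc _), zpow_mul t, zpow_two, tt, one_zpow, mul_one, inv_zpow,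
        inv_eq_iff_mul_eq_one, g2] at h3
      exact t1 h3
    · exact a4 (odd4 c (by rw [show 4 = 2 * 2 from rfl, pow_mul, sq, sq, g2, tt]))
  have c1 := (four_cases hj ht (nA k) (by rw [k2, one_mul, mul_one])).resolve_left kA
  have c2 := four_cases hj ht (nA h) (by rw [h2, tc])
  have cmp : h * k * α * (h * k)⁻¹ = h * (k * α * k⁻¹) * h⁻¹ := by group
  have hkk : h * k * k = k * (h * k) := by rw [← mul_assoc, hc]
  by_cases a4 : α ^ 4 = 1
  · exfalso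
    have h3 : α * α = t := (inv0 _ (mul_mem (mem_zpowers α) (mem_zpowers α))
      (by rw [← a4, show 4 = 2 * 2 from rfl, pow_mul, sq, sq])).resolve_left fun e => kA (mul_inv_eq_iff_eq_mul.2 (by
        rcases inv0 α (mem_zpowers α) e with e | e <;> simp [e, tc]))
    have h4 : α * t = α⁻¹ := eq_inv_of_mul_eq_one_left (by rw [mul_assoc, ← tc, ← mul_assoc, h3, tt])
    have h5 : α⁻¹ * t = α := by rw [← h3, inv_mul_cancel_left]
    rw [h4, h5] at c1 c2
    have h6 : k * α * k⁻¹ = α⁻¹ := by tauto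
    rcases (show h * α * h⁻¹ = α ∨ h * α * h⁻¹ = α⁻¹ by tauto) with e | e
    · exact notA (Or.inl h6) h hh h2 hc e
    · exact notA (Or.inl h6) _ hk' hk2 hkk (by rw [cmp, h6, ← conj_inv, e, inv_inv])
  rcases c1 with c1 | c1
  · exact ⟨k, hk, k2, fin a4 k hk k2 c1⟩
  have nA' := notA (c1.imp_right fun e => ⟨e, a4⟩)
  obtain ⟨g, hg, g2, e⟩ : ∃ g ∈ Q, g * g = t ∧ g * α * g⁻¹ = α * t := by
    have ti : t⁻¹ = t := inv_eq_of_mul_eq_one_left tt
    have h3 := nA' _ hk' hk2 hkk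
    rcases c2 with e | e | e | e
    · exact (nA' h hh h2 hc e).elim
    · exact ⟨h, hh, h2, e⟩
    · rcases c1 with c1 | c1
      · exact (h3 (by rw [cmp, c1, ← conj_inv, e, inv_inv])).elim
      · exact ⟨_, hk', hk2, by rw [cmp, c1, ← conj_mul, ← conj_inv, e, inv_inv, ct]⟩
    · rcases c1 with c1 | c1
      · exact ⟨_, hk', hk2, by rw [cmp, c1, ← conj_inv, e, mul_inv_rev, inv_inv, ti, tc]⟩
      · exact (h3 (by
          rw [cmp, c1, ← conj_mul, ← conj_inv, e, mul_inv_rev, inv_inv, ti, ct, ← tc, mul_assoc, tt,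
            mul_one])).elim
  obtain ⟨n, rfl⟩ : ∃ n, i = n + 2 := Nat.exists_eq_add_of_le' (by
    by_contra hn
    exact a4 (orderOf_dvd_iff_pow_eq_one.1 (hj ▸ pow_dvd_pow 2 (show i + 1 ≤ 2 by omega))))
  have h3 : Commute g (α ^ 2 ^ (n + 1)) := by
    rw [pow_succ', pow_mul]
    refine Commute.pow_right (mul_inv_eq_iff_eq_mul.1 ?_) _
    rw [← conj_pow, e, Commute.mul_pow (tc α), sq t, tt, mul_one]
  have h4 : g * α ^ 2 ^ (n + 1) * (g * α ^ 2 ^ (n + 1)) = 1 := by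
    rw [← sq, h3.mul_pow, sq, g2, ← pow_mul, ← pow_succ, ht, tt]
  have h5 := mul_mem hg (hAQ (npow_mem_zpowers α (2 ^ (n + 1))))
  exact ⟨_, h5, h4, fin a4 _ h5 h4 (by rw [← e]; group)⟩

end two

open Equiv.Perm in
theorem sign_two_fixed {Ω : Type*} [Fintype Ω] [DecidableEq Ω] {τ : Equiv.Perm Ω} {a b : Ω} {m : ℕ}
    (hab : a ≠ b) (ha : τ a = a) (hb : τ b = b) (h1 : τ ^ 2 ^ (m + 1) = 1)
    (h2 : ∀ c, (τ ^ 2 ^ m) c = c → c = a ∨ c = b) :
    ∃ d, Fintype.card Ω - 2 = 2 ^ (m + 1) * d ∧ sign τ = (-1) ^ d := by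
  have hcyc : τ.cycleType = Multiset.replicate τ.cycleType.card (2 ^ (m + 1)) := by
    rw [Multiset.eq_replicate]
    refine ⟨rfl, fun k hk => ?_⟩
    obtain ⟨i, hi, hki⟩ := (Nat.dvd_prime_pow Nat.prime_two).1
      ((dvd_of_mem_cycleType hk).trans (orderOf_dvd_of_pow_eq_one h1))
    by_contra hne
    obtain ⟨e, he⟩ : k ∣ 2 ^ m := hki ▸ pow_dvd_pow 2 (by
      rcases hi.lt_or_eq with h | h
      · omega
      · exact absurd (h ▸ hki) hne)
    obtain ⟨c, ρ, rfl, hd, hc, rfl⟩ := mem_cycleType_iff.mp hk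
    obtain ⟨x, hx⟩ := hc.nonempty_support
    have h3 : ρ x = x := (hd x).resolve_left (by simpa using hx)
    have h4 := h2 x (by
      rw [hd.commute.eq, hd.commute.symm.mul_pow, he, pow_mul c, ← hc.orderOf, pow_orderOf_eq_one,
        one_pow, mul_one]
      exact pow_apply_eq_self_of_apply_eq_self h3 _)
    have h5 : (c * ρ) x = x := by rcases h4 with rfl | rfl <;> assumption
    rw [mul_apply, h3] at h5
    exact mem_support.1 hx h5
  have h0 : Fintype.card (Function.fixedPoints τ) = 2 := by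
    rw [← Nat.card_eq_fintype_card, Nat.card_coe_set_eq, ← Set.ncard_pair hab]
    congr 1
    ext c
    exact ⟨fun h => h2 c (pow_apply_eq_self_of_apply_eq_self h _), by rintro (rfl | rfl) <;> assumption⟩
  have h3 := card_fixedPoints τ
  have h4 := sum_cycleType_le τ
  rw [hcyc, Multiset.sum_replicate, smul_eq_mul, mul_comm] at h3 h4
  have h5 : Fintype.card Ω - 2 = 2 ^ (m + 1) * τ.cycleType.card := by omega
  refine ⟨_, h5, ?_⟩
  rw [sign_of_cycleType_eq_replicate (by positivity) hcyc, if_neg (Nat.not_odd_iff_even.2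
    (even_two.pow_of_ne_zero m.succ_ne_zero)), h0, h5, Nat.mul_div_cancel_left _ (by positivity)]

open II in
theorem jobIIs : JobIIs.{u} := by
  intro G Ω _ _ _ U a b t h hC rk ⟨k, hk, ok, kt⟩
  classical
  have : Fact (Nat.Prime 2) := ⟨Nat.prime_two⟩
  have := h.t2.finite
  have := Fintype.ofFinite Ω
  have hab := h.ne
  have hn : Fintype.card Ω - 2 = Nat.card (U a) - 1 := by
    rw [← Nat.card_eq_fintype_card, H72.HKS.card_eq h.toRg a]
    rfl
  have fx : ∀ c, toPermHom G Ω t c = c → c = a ∨ c = b := fun c hc => by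
    rcases (H72.HKS.fx_mem h.toRg hab (Set.singleton_subset_iff.2 h.st) c).1 (by simpa using hc) with
      e | ⟨u, hu, rfl⟩
    · exact Or.inl e
    · rw [h.cu, mem_bot] at hu
      exact Or.inr (by rw [hu, one_smul])
  have sg : ∀ g : G, Equiv.Perm.sign (toPermHom G Ω g) = 1 :=
    (H72.HKS.par h.toCore.pre).2.1 (Equiv.Perm.sign.comp (toPermHom G Ω))
  have t2 : toPermHom G Ω t ^ 2 = 1 := by rw [← map_pow, sq, tt h, map_one]
  obtain ⟨P⟩ : Nonempty (Sylow 2 (centralizer ({t} : Set G))) := inferInstance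
  set S := (P : Subgroup (centralizer ({t} : Set G))).map (Subgroup.subtype _) with hS
  have hS2 : IsPGroup 2 S := P.2.map _
  have hSC : S ≤ centralizer {t} := map_subtype_le _
  have hSo : Odd (S.relIndex (centralizer {t})) := by
    rw [relIndex, hS, subgroupOf, comap_map_eq_self_of_injective (subtype_injective _)]
    exact Nat.not_even_iff_odd.1 fun e => P.not_dvd_index e.two_dvd
  have cst : ∀ n ∈ centralizer ({t} : Set G), ∀ x ∈ St G a b, n * x * n⁻¹ ∈ St G a b := by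
    intro n hn x hx
    rcases (h.cent n).1 (mem_centralizer_singleton_iff.1 hn) with e | e
    · exact mul_mem (mul_mem e hx) (inv_mem e)
    · exact swap_conj_mem e.1 e.2 hx
  obtain ⟨g, q, F₁, F₂, _, _, _, _, x₁, y₁, x₂, y₂, θ₁, θ₂, D⟩ := hC k hk ok kt
  obtain ⟨s, sS, sJ⟩ : ∃ s ∈ S, s ∈ Jsw t a b := by
    obtain ⟨⟨h1, h2⟩, -⟩ := (D.js _).2 ⟨0, rfl⟩
    generalize sl2n x₁ y₁ 1 * g ^ 0 = s at h1 h2
    obtain ⟨c, hc⟩ := isConj_iff.1 h1
    have s2 : s * s = 1 := by rw [← hc, conj_mul, tt h]; group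
    obtain ⟨n, hn, h3⟩ := conj_into (P := zpowers s) hSo
      (zpowers_le.2 (mem_centralizer_singleton_iff.2 ((h.cent s).2 (Or.inr h2)))) (by
        rintro ⟨_, j, rfl⟩
        exact ⟨1, Subtype.ext (by
          rw [pow_one, coe_pow, sq, ← (Commute.refl s).mul_zpow, s2, one_zpow, coe_one])⟩)
    refine ⟨_, h3 s (mem_zpowers s), h1.trans (isConj_iff.2 ⟨n, rfl⟩), ?_⟩
    have h5 := (H89.K.conj_smul_eq (g := n)).2 h2.1
    have h6 := (H89.K.conj_smul_eq (g := n)).2 h2.2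
    rcases (h.cent n).1 (mem_centralizer_singleton_iff.1 hn) with e | e
    · rw [mem_stabilizer_iff.1 e.1, mem_stabilizer_iff.1 e.2] at h5 h6
      exact ⟨h5, h6⟩
    · rw [e.1, e.2] at h5 h6
      exact ⟨h6, h5⟩
  have k2 := sq_of_ord2 ok
  obtain ⟨r, hr⟩ : ∃ r, q = 4 * r + 1 := ⟨q / 4, by have := D.mod; omega⟩
  have g2 : g ^ r * g ^ r = t := by
    rw [← pow_add, ← D.half, hr]
    congr 1
    omega
  have gk : Commute (g ^ r) k := Commute.pow_left D.gk r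
  have gS := pow_mem D.gst r
  obtain ⟨n, hn', h3⟩ := conj_into (P := zpowers (g ^ r) ⊔ zpowers k) hSo
    (sup_le (zpowers_le.2 (mem_centralizer_singleton_iff.2 (tc h gS)))
      (zpowers_le.2 (mem_centralizer_singleton_iff.2 (tc h hk)))) (by
      refine IsPGroup.to_sup_of_normal_right' (IsPGroup.of_card (n := 2) ?_ )
        (IsPGroup.of_card (n := 1) (by rw [Nat.card_zpowers, ok, pow_one])) (zpowers_le.2 ?_)
      · rw [Nat.card_zpowers]
        exact orderOf_eq_prime_pow (by rw [pow_one, sq, g2]; exact t_ne h)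
          (by rw [pow_succ, pow_mul, pow_one, sq, sq, g2, tt h])
      · exact centralizer_le_normalizer _ fun x hx => by
          obtain ⟨j, rfl⟩ := hx
          exact (gk.zpow_right j).symm)
  have nt : n * t * n⁻¹ = t := mul_inv_eq_iff_eq_mul.2 (mem_centralizer_singleton_iff.1 hn')
  have tS : t ∈ S := by
    have := h3 _ (mem_sup_left (mem_zpowers _))
    have := mul_mem this this
    rwa [conj_mul, g2, nt] at this
  have : ((St G a b).subgroupOf S).Normal := ⟨fun x hx y => cst y (hSC y.2) x hx⟩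
  obtain ⟨⟨κ, κS⟩, hκ, κ2, κ1, κt, hκ'⟩ := exists_four hS2 ((St G a b).subgroupOf S) (t := ⟨t, tS⟩)
    (h := ⟨_, h3 _ (mem_sup_left (mem_zpowers _))⟩) (k := ⟨_, h3 _ (mem_sup_right (mem_zpowers _))⟩)
    h.st (Subtype.ext (tt h)) (fun e => t_ne h (congrArg Subtype.val e))
    (fun y => Subtype.ext (mem_centralizer_singleton_iff.1 (hSC y.2))) (cst n hn' _ gS)
    (cst n hn' _ hk) (Subtype.ext (conj_mul.trans (by rw [g2, nt])))
    (Subtype.ext (conj_mul.trans (by rw [k2]; simp)))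
    (fun e => ne_of_ord2 ok (conj_eq_one_iff.1 (congrArg Subtype.val e)))
    (fun e => kt ((MulAut.conj n).injective ((congrArg Subtype.val e).trans nt.symm)))
    (Subtype.ext (conj_mul.trans (by rw [gk.eq]; exact conj_mul.symm)))
    fun x hx ox xt y hy y2 yx => by
      simpa only [Subtype.ext_iff, coe_mul, coe_one] using rk x hx ((orderOf_coe x).trans ox)
        (fun e => xt (Subtype.ext e)) y hy (congrArg Subtype.val y2) (congrArg Subtype.val yx)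
  have hκ3 : ∀ y ∈ S, y * κ * y⁻¹ = κ ∨ y * κ * y⁻¹ = κ * t := fun y hy =>
    (hκ' ⟨y, hy⟩).imp (congrArg Subtype.val) (congrArg Subtype.val)
  have κ3 : κ * κ = 1 := congrArg Subtype.val κ2
  have hκ4 : κ ∈ St G a b := hκ
  refine ⟨S, κ, s, hS2, ?_, hSC, κS, hκ, ord2 (fun e => κ1 (Subtype.ext e)) κ3,
    fun e => κt (Subtype.ext e), sS, sJ, hκ3, fun y hy sw y2 => ?_, fun m hm y hy e => hm ?_⟩
  · rw [← relIndex_mul_index hSC]
    exact hSo.mul h.oddC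
  · refine mul_inv_eq_iff_eq_mul.1 ((hκ3 y hy).resolve_right fun e => ?_)
    have e1 : (y * κ) ^ 2 = t := by
      rw [inv_eq_of_mul_eq_one_left y2] at e
      rw [sq, ← mul_assoc, e, tc h hκ4, mul_assoc, κ3, mul_one]
    have ea : toPermHom G Ω (y * κ) a = b := by
      change (y * κ) • a = b
      rw [mul_smul, mem_stabilizer_iff.1 hκ4.1, sw.1]
    have eb : toPermHom G Ω (y * κ) b = a := by
      change (y * κ) • b = a
      rw [mul_smul, mem_stabilizer_iff.1 hκ4.2, sw.2]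
    have e2 : (toPermHom G Ω (y * κ) * Equiv.swap a b) ^ 2 ^ 1 = toPermHom G Ω t := by
      rw [pow_one, Commute.mul_pow (by
        rw [Commute, SemiconjBy, Equiv.mul_swap_eq_swap_mul, ea, eb, Equiv.swap_comm]),
        sq (Equiv.swap a b), Equiv.swap_mul_self, mul_one, ← map_pow, e1]
    obtain ⟨d, d1, d2⟩ := sign_two_fixed (τ := toPermHom G Ω (y * κ) * Equiv.swap a b) (m := 1) hab
      (by rw [Equiv.Perm.mul_apply, Equiv.swap_apply_left, eb])
      (by rw [Equiv.Perm.mul_apply, Equiv.swap_apply_right, ea])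
      (by rw [pow_succ, pow_mul, e2, t2]) (e2 ▸ fx)
    rw [map_mul, sg, Equiv.Perm.sign_swap hab, one_mul, eq_comm,
      neg_one_pow_eq_neg_one_iff_odd (by decide), Nat.odd_iff] at d2
    rw [hn, D.cardU, hr, show (4 * r + 1) ^ 2 = 8 * (2 * r * r + r) + 1 by ring] at d1
    omega
  · have e2 : toPermHom G Ω y ^ 2 ^ m = toPermHom G Ω t := by rw [← map_pow, e]
    obtain ⟨d, d1, d2⟩ := sign_two_fixed (τ := toPermHom G Ω y) (m := m) hab hy.1 hy.2
      (by rw [pow_succ, pow_mul, e2, t2]) (e2 ▸ fx)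
    rw [sg, eq_comm, neg_one_pow_eq_one_iff_even (by decide)] at d2
    obtain ⟨c, rfl⟩ := d2
    exact ⟨c, by rw [← hn, d1]; ring⟩

end H61.Hk
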