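import Cfsg.Agent.H72.HKS1
import Cfsg.Agent.H8.HKNRb

/-! Lines of type R (job HKS-NRR). -/

set_option autoImplicit false

namespace H61.Hk

open MulAction Cfsg Subgroup H89.K H65 H7.HKS H8.HK
open scoped commutatorElement

universe u

variable {G Ω : Type u} [Group G] [Finite G] [MulAction G Ω] {U : Ω → Subgroup G} {p : ℕ}
  {a b : Ω}

omit [Finite G] in
theorem mem_fx1 {w : G} {c : Ω} : c ∈ Fx Ω {w} ↔ w • c = c := by simp

omit [Finite G] in
theorem card_fx1 (w : G) : Nat.card {c : Ω // w • c = c} = (Fx Ω {w}).ncard := by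
  rw [← Nat.card_coe_set_eq]
  exact Nat.card_congr (Equiv.subtypeEquivRight fun _ => mem_fx1.symm)

omit [Finite G] [MulAction G Ω] in
theorem cu_empty (U : Ω → Subgroup G) (a : Ω) : CU U ∅ a = U a :=
  inf_eq_left.2 fun _ _ _ h => h.elim

omit [Finite G] in
theorem fx_res {N : Subgroup G} {F : Set Ω} {Y : Type u} [Group Y] [MulAction Y F] {π : N →* Y}
    (h : IsRes N F Y π) (g : N) (hF : Fx Ω {(g : G)} ⊆ F) :
    (Fx F {π g}).ncard = (Fx Ω {(g : G)}).ncard := by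
  rw [← Set.ncard_image_of_injective _ Subtype.val_injective]
  congr 1
  ext c
  constructor
  · rintro ⟨c, hc, rfl⟩
    exact mem_fx1.2 (h.smul_eq_iff.1 (mem_fx1.1 hc))
  · exact fun hc => ⟨⟨c, hF hc⟩, mem_fx1.2 (h.smul_eq_iff.2 (mem_fx1.1 hc)), rfl⟩

/-- The number of conjugates of `w` carrying `a` to `b`. -/
theorem count_sw (h : T2 G Ω) (hab : a ≠ b) {w : G} {q : ℕ} (hq : (Fx Ω {w}).ncard = q + 1)
    (hw : w ∈ St G a b) (hu : ∀ x, IsConj w x → x ∈ St G a b → x = w) :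
    {x | IsConj w x ∧ x • a = b}.ncard * ((q + 1) * q) = Nat.card Ω - (q + 1) := by
  have hK : ∀ x ∈ {x | IsConj w x}, ∀ g : G, g * x * g⁻¹ ∈ {x | IsConj w x} :=
    fun x hx g => hx.trans (isConj_iff.2 ⟨g, rfl⟩)
  have hi : ∀ x ∈ {x | IsConj w x}, Nat.card {c : Ω // x • c = c} = q + 1 :=
    fun x hx => (card_fix_of_isConj hx).trans ((card_fx1 w).trans hq)
  have h1 := h.count_two _ hK hi hab
  have h2 := h.count_move _ hK hi hab
  rw [show {x | x ∈ {x | IsConj w x} ∧ x ∈ St G a b} = {w} from Set.eq_singleton_iff_unique_mem.2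
    ⟨⟨IsConj.refl w, hw⟩, fun x hx => hu x hx.1 hx.2⟩, Set.ncard_singleton, mul_one,
    Nat.add_sub_cancel] at h1
  have h3 : 0 < {x | IsConj w x}.ncard := (Set.ncard_pos (Set.toFinite _)).2 ⟨w, IsConj.refl w⟩
  refine Nat.eq_of_mul_eq_mul_left h3 ?_
  rw [h2, ← h1]
  simp only [Set.mem_ofPred_eq]
  ring

theorem isSquare_neg {F : Type*} [Field F] [Fintype F] (h : Fintype.card F % 4 = 3) {μ : F}
    (h0 : μ ≠ 0) (hμ : ¬ IsSquare μ) : IsSquare (-μ) := by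
  classical
  have h1 : ¬ IsSquare (-1 : F) := fun e => FiniteField.isSquare_neg_one_iff.1 e h
  rw [← quadraticChar_neg_one_iff_not_isSquare] at h1 hμ
  rw [← quadraticChar_one_iff_isSquare (neg_ne_zero.2 h0), ← neg_one_mul, map_mul, h1, hμ]
  norm_num

/-- An involution centralising `w` and interchanging `a`, `b` acts on the fixed points of `w` as an
involution of `L`. -/
theorem ree_swap (k2 : Kit2.{u}) (h : Rg U) (hl : Loc U) (hab : a ≠ b) {q : ℕ} {w s : G}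
    (D : RD U ∅ a b q w) (s2 : s * s = 1) (sw : s * w = w * s) (hs : Sw s a b)
    (hf : ∀ c ∈ Fx Ω {w}, ∀ d ∈ Fx Ω {w}, s • c = c → s • d = d → c = d) :
    ∃ l ∈ LX U ∅, orderOf l = 2 ∧ l * w = w * l ∧ s * l = l * s ∧ ∀ c ∈ Fx Ω {w}, s • c = l • c := by
  have hc := D.cardw
  have hm := D.comm
  have he := D.exp
  obtain ⟨f, hq⟩ := D.pow
  rw [cu_empty] at hc hm he
  have hq3 : q % 4 = 3 := by
    rw [hq, pow_succ, pow_mul, Nat.mul_mod, Nat.pow_mod]
    norm_num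
  have hX : ({w} : Set G) ⊆ St G a b := Set.singleton_subset_iff.2 D.st
  have hne : CU U {w} a ≠ ⊥ := fun e => by
    rw [show U a ⊓ centralizer {w} = ⊥ from e, card_bot] at hc
    omega
  rcases hl {w} a b hab hX ⟨w, rfl, ne_of_ord2 D.ord⟩ hne with ⟨h7, E, hE⟩ |
    ⟨F, _, _, x, y, hL⟩ | ⟨F, _, _, x, y, hL, h3, -⟩ | ⟨q', w', D'⟩
  · obtain ⟨g, hg⟩ := hE.cyc.exists_generator
    have h1 := orderOf_eq_card_of_forall_mem_zpowers hg
    have h2 : orderOf g ∣ 3 := orderOf_dvd_of_pow_eq_one (Subtype.ext (he g g.2))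
    have := Nat.le_of_dvd (by norm_num) h2
    omega
  · obtain ⟨ho, hA, -, -, -, hn, -, -, -, hsw, -⟩ := k2.bas h.sr hab inf_le_left inf_le_left hL
    have hF : Fintype.card F % 4 = 3 := by rw [← hA, hc, hq3]
    obtain ⟨μ, h0, h1, -, h2⟩ := k2.swp h hab hX hL s
      (centralizer_le_normalizer _ (mem_centralizer_singleton_iff.2 sw)) hs
      (fun c _ => by rw [← mul_smul, s2, one_smul]) (by
        have := h.t2.finite
        refine le_trans ((Set.ncard_le_one (Set.toFinite _)).2 fun c hc d hd => ?_) one_le_two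
        exact hf c (mem_fx1.2 (hc w (by simp))) d (mem_fx1.2 (hd w (by simp))) (hc s (by simp))
          (hd s (by simp)))
    have hμ : IsSquare μ := by
      by_contra hμ
      obtain ⟨c, e⟩ := isSquare_neg hF h0 hμ
      have c0 : c ≠ 0 := fun e' => h0 (by rw [e', mul_zero] at e; exact neg_eq_zero.1 e)
      have hx : ∀ c, x c ∈ CU U {w} a := fun c => (hL.rx _).2 ⟨c, rfl⟩
      have e1 : ∀ c, c ≠ 0 → -μ = c * c → s • x c • b = x c • b := fun c c0 e => by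
        rw [h1 c c0, ← neg_div, e, mul_div_cancel_right₀ _ c0]
      have e2 := hf _ ((H72.HKS.fx_mem h hab hX _).2 (Or.inr ⟨_, hx c, rfl⟩)) _
        ((H72.HKS.fx_mem h hab hX _).2 (Or.inr ⟨_, hx (-c), rfl⟩)) (e1 c c0 e)
        (e1 (-c) (neg_ne_zero.2 c0) (by rw [e]; ring))
      have e3 := hL.inj (H72.HKS.reg_eq h hab (hx c).1 (hx (-c)).1 e2)
      have e4 : (2 : F) ≠ 0 := fun e => by
        have := FiniteField.even_card_of_char_two (F := F)
          (CharP.ringChar_of_prime_eq_zero Nat.prime_two (by exact_mod_cast e))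
        omega
      exact c0 ((mul_eq_zero.1 (show 2 * c = 0 by linear_combination e3)).resolve_left e4)
    obtain ⟨l, hl1, hl2⟩ := h2.2 hμ
    have ha : a ∈ Fx Ω {w} := mem_fx1.2 D.st.1
    have hb : b ∈ Fx Ω {w} := mem_fx1.2 D.st.2
    have hlw : Sw l a b := ⟨(hl2 a ha).symm.trans hs.1, (hl2 b hb).symm.trans hs.2⟩
    obtain ⟨d, d0, hd⟩ := hsw l (k2.lx h hab hX hL ▸ hl1) hlw
    have hle : LX U {w} ≤ LX U ∅ := iSup₂_le fun c _ =>
      le_iSup₂_of_le c (fun _ h => h.elim) (by rw [cu_empty]; exact inf_le_left)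
    have l4 : l ^ 2 ^ 2 = 1 := by
      rw [show l ^ 2 ^ 2 = l * l * (l * l) by rw [sq, pow_mul, sq, sq], hd, hn d d0,
        hL.rel.h_mul' (by simp) (by simp), neg_mul_neg, mul_one, hL.rel.h_one]
    obtain ⟨E, -, -, hE, hE'⟩ := D.syl
    obtain ⟨g, -, hg⟩ := conj_into (P := zpowers l) hE' (zpowers_le.2 (hle hl1)) (by
      rintro ⟨_, k, rfl⟩
      exact ⟨2, Subtype.ext (by
        rw [coe_pow, coe_one, ← zpow_natCast, ← zpow_mul, mul_comm, zpow_mul, zpow_natCast, l4,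
          one_zpow])⟩)
    have l2 : l * l = 1 := by
      have := hE _ (hg l (mem_zpowers l))
      rwa [conj_mul, conj_eq_one_iff] at this
    refine ⟨l, hle hl1, ord2 (fun e => hab ?_) l2,
      mem_centralizer_singleton_iff.1 (H72.HKS.lx_le hl1), ?_, hl2⟩
    · rw [← hlw.1, e, one_smul]
    · have := H72.HKS.lx_comm h hab hX (l * s)
        (fun c hc => by rw [mul_smul, hl2 c hc, ← mul_smul, l2, one_smul]) l hl1
      rwa [mul_assoc, mul_right_inj] at this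
  · have h1 : Nat.card (ZU U {w} a) = _ := (k2.bas h.sr hab (inf_le_left.trans inf_le_left)
      (inf_le_left.trans inf_le_left) hL).2.1
    rw [show ZU U {w} a = CU U {w} a from inf_eq_left.2 fun g hg k hk => hm k hk g hg, h3] at h1
    have := Nat.pow_lt_pow_right (Fintype.one_lt_card (α := F)) (show 1 < 3 by norm_num)
    rw [pow_one] at this
    omega
  · obtain ⟨f', hq'⟩ := D'.pow
    have h1 := D'.der
    rw [show ⁅CU U {w} a, CU U {w} a⁆ = ⊥ from commutator_eq_bot_iff_le_centralizer.2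
      fun g hg k hk => hm k hk g hg, card_bot, hq'] at h1
    have := Nat.one_lt_pow (show 2 * f' + 1 ≠ 0 by omega) (show 1 < 3 by norm_num)
    omega

/-- The bound for an involution fixing all fixed points of `w`. -/
theorem fx_le (hM : H7.HKS.Main.{u}) (hB : JobBnd.{u}) (h : NR U p) (hab : a ≠ b) {w k : G} {q : ℕ}
    (hw : w ∈ St G a b) (w2 : w * w = 1) (k2 : k * k = 1) (k1 : k ≠ 1) (wk : w * k = k * w)
    (hq : (Fx Ω {w}).ncard = q + 1) (q2 : 2 ≤ q) (hf : Fx Ω {w} ⊆ Fx Ω {k}) :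
    (Fx Ω {k}).ncard - 1 ≤ q ^ 3 := by
  have := h.t2.finite
  obtain ⟨Y, _, _, _, π, hr, hR⟩ := h.loc {k} (two_single k2) ⟨k, rfl, k1⟩
    (le_trans (by omega) (Set.ncard_le_ncard hf))
  let a' : Fx Ω {k} := ⟨a, hf (mem_fx1.2 hw.1)⟩
  let b' : Fx Ω {k} := ⟨b, hf (mem_fx1.2 hw.2)⟩
  have hab' : a' ≠ b' := fun e => hab (congrArg Subtype.val e)
  let w' : centralizer ({k} : Set G) := ⟨w, mem_centralizer_singleton_iff.2 wk⟩
  have hv : π w' ∈ St Y a' b' := hr.mem_St.2 hw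
  have h1 := H72.HKS.fx_card hR hab' (Set.singleton_subset_iff.2 hv)
  rw [fx_res hr w' hf, hq, Nat.add_right_cancel_iff] at h1
  obtain ⟨hl, ht⟩ := hM _ _ _ hR
  have h2 := hB _ _ _ a' b' (π w') hR hl hab' (ht _ _ hab') hv
    (by rw [← map_mul, show w' * w' = 1 from Subtype.ext w2, map_one])
    (fun e => by rw [e, card_bot] at h1; omega)
  have h3 := H72.HKS.card_eq hR a'
  rw [Nat.card_coe_set_eq] at h3
  rw [← h1] at h2
  omega

omit [Finite G] in
theorem smul_mem_Ln (h : Sp U) (g : G) {c : Ω} (hc : c ∈ Ln U a b) :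
    g • c ∈ Ln U (g • a) (g • b) := fun x hx => by
  have h1 := h.conj g⁻¹ _ x hx.1
  rw [inv_smul_smul, inv_inv] at h1
  have h2 := hc (g⁻¹ * x * g) ⟨h1, mem_stabilizer_iff.2 (by
    rw [mul_smul, mul_smul, mem_stabilizer_iff.1 hx.2, inv_smul_smul])⟩
  rwa [mul_smul, mul_smul, inv_smul_eq_iff] at h2

omit [Finite G] in
theorem conj_mem_LS (h : NR U p) (g : G) {x : G} (hx : x ∈ LS U a b) :
    g * x * g⁻¹ ∈ LS U (g • a) (g • b) :=
  (show LS U a b ≤ (LS U (g • a) (g • b)).comap (MulAut.conj g).toMonoidHom from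
    iSup₂_le fun c hc z hz => (le_iSup₂_of_le (f := fun c (_ : c ∈ Ln U (g • a) (g • b)) => Zc U c)
      (g • c) (smul_mem_Ln h.toSp g hc) le_rfl : Zc U (g • c) ≤ _) (h.zsr.conj g c z hz)) hx

omit [Finite G] in
theorem LS_sym (h : NR U p) (hab : a ≠ b) {c d : Ω} (hcd : c ≠ d) (hc : c ∈ Ln U a b)
    (hd : d ∈ Ln U a b) : LS U c d = LS U a b := by
  rw [LS, LS, Ln, Ln, h.sym hab hcd hc hd]

theorem jobNRR (k2 : Kit2.{u}) (hM : H7.HKS.Main.{u}) (hB : JobBnd.{u}) : JobNRR.{u} := by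
  intro G Ω _ _ _ U p a b Y _ _ _ π a' b' h hab ea eb hr hR ⟨q, w', D⟩
  classical
  have := h.t2.finite
  have hab' : a' ≠ b' := fun e => hab (ea.symm.trans ((congrArg Subtype.val e).trans eb))
  obtain ⟨l1, l2, -, l4, l5⟩ := h.ls hab
  have hN : LS U a b ≤ normalizer (Xs U a b : Set G) := l1.trans (centralizer_le_normalizer _)
  have hsm : ∀ g : normalizer (Xs U a b : Set G), ∀ c ∈ Ln U a b, ∀ d ∈ Ln U a b,
      ∀ hc hd, π g • (⟨c, hc⟩ : Ln U a b) = ⟨d, hd⟩ ↔ (g : G) • c = d :=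
    fun g c _ d _ _ _ => hr.smul_eq_iff
  have inj : ∀ t t' : normalizer (Xs U a b : Set G), (t : G) ∈ LS U a b → (t' : G) ∈ LS U a b →
      (t : G) * t = 1 → (t' : G) * t' = 1 → π t = π t' → (t : G) = t' := by
    intro t t' h1 h2 h3 h4 e
    obtain ⟨z, -, hz⟩ := l5 t h1 fun c _ => by rw [← mul_smul, h3, one_smul]
    refine (hz t ⟨h1, h3, fun _ _ => rfl⟩).trans (hz t' ⟨h2, h4, fun c hc => ?_⟩).symm
    exact (hr.smul t' ⟨c, hc⟩).symm.trans (e ▸ hr.smul t ⟨c, hc⟩)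
  have img : ∀ t : normalizer (Xs U a b : Set G), (t : G) ∈ LS U a b →
      π t ∈ LX (Quo U (Ln U a b) π) ∅ := fun t ht => by
    have : LS U a b ≤ ((LX (Quo U (Ln U a b) π) ∅).comap π).map (Subgroup.subtype _) :=
      iSup₂_le fun c hc z hz => ⟨⟨z, hN (le_iSup₂ (f := fun c (_ : c ∈ Ln U a b) => Zc U c) c hc hz)⟩,
        H72.HKS.mem_lx (c := ⟨c, hc⟩) (fun _ h => h.elim) (by
          rw [cu_empty]
          exact ⟨_, hz.1, rfl⟩), rfl⟩
    obtain ⟨t', h1, h2⟩ := this ht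
    rwa [← show t' = t from Subtype.ext h2]
  obtain ⟨f, hq⟩ := D.pow
  have q3 : 3 ≤ q := hq ▸ Nat.le_self_pow (by omega) 3
  have hcF : (Ln U a b).ncard = q ^ 3 + 1 := by
    rw [← Nat.card_coe_set_eq, H72.HKS.card_eq hR a', ← D.card, cu_empty]
  have hq1 : Odd q := hq ▸ Odd.pow (by decide)
  let M : Subgroup Y := ((LS U a b).subgroupOf _).map π
  have : ((LS U a b).subgroupOf (normalizer (Xs U a b : Set G))).Normal :=
    normal_subgroupOf_of_le_normalizer l2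
  have hMn : M.Normal := Normal.map inferInstance π hr.surj
  have wM : w' ∈ M := by
    have h1 := orbit_card M a'
    rw [show {c | ∃ u ∈ M, u • a' = c} = Set.univ from Set.eq_univ_of_forall fun c => by
      obtain ⟨l, hl, e⟩ := l4 _ a'.2 _ c.2
      exact ⟨_, ⟨⟨l, hN hl⟩, hl, rfl⟩, hr.smul_eq_iff.2 e⟩, Set.ncard_univ,
      Nat.card_coe_set_eq, hcF] at h1
    have : Fact (Nat.Prime 2) := ⟨Nat.prime_two⟩
    obtain ⟨⟨_, t, ht, rfl⟩, hv⟩ := exists_prime_orderOf_dvd_card' (G := M) 2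
      (h1 ▸ Dvd.dvd.mul_right (hq1.pow.add_one).two_dvd _)
    rw [← orderOf_coe] at hv
    obtain ⟨g, -, hg⟩ := D.one _ (img t ht) hv
    have := hMn.conj_mem _ ⟨t, ht, rfl⟩ g⁻¹
    rwa [← hg, show g⁻¹ * (g * w' * g⁻¹) * g⁻¹⁻¹ = w' by group] at this
  have lift : ∀ v ∈ LX (Quo U (Ln U a b) π) ∅, orderOf v = 2 →
      ∃ t : normalizer (Xs U a b : Set G), (t : G) ∈ LS U a b ∧ (t : G) * t = 1 ∧ π t = v := by
    intro v hv ho
    obtain ⟨g, -, hg⟩ := D.one v hv ho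
    obtain ⟨l, hl, e⟩ := hg ▸ hMn.conj_mem _ wM g
    obtain ⟨t, ⟨h1, h2, h3⟩, -⟩ := l5 l hl fun c hc => by
      rw [← mul_smul, ← coe_mul, ← hsm _ c hc c hc hc hc, map_mul, e, sq_of_ord2 ho, one_smul]
    refine ⟨⟨t, hN h1⟩, h1, h2, ?_⟩
    rw [← e, ← mul_inv_eq_one, ← map_inv, ← map_mul, hr.eq_one_iff]
    intro c hc
    have h4 := norm_mem_Fx (inv_mem l.2) hc
    exact (mul_smul t (l : G)⁻¹ c).trans ((h3 _ h4).trans (smul_inv_smul _ _))
  have hst : ∀ t : normalizer (Xs U a b : Set G), π t ∈ St Y a' b' ↔ (t : G) ∈ St G a b :=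
    fun t => by rw [hr.mem_St, ea, eb]
  obtain ⟨⟨w, wN⟩, wL, w2, hw⟩ := lift w' D.mem D.ord
  dsimp only at wL w2
  have wS : w ∈ St G a b := (hst ⟨w, wN⟩).1 (hw ▸ D.st)
  have w1 : w ≠ 1 := fun e => ne_of_ord2 D.ord (by
    rw [← hw, show (⟨w, wN⟩ : normalizer (Xs U a b : Set G)) = 1 from Subtype.ext e, map_one])
  have sqπ : ∀ t : normalizer (Xs U a b : Set G), (t : G) * t = 1 → π t * π t = 1 := fun t ht => by
    rw [← map_mul, show t * t = 1 from Subtype.ext ht, map_one]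
  have ordπ : ∀ t : normalizer (Xs U a b : Set G), (t : G) ∈ LS U a b → (t : G) * t = 1 →
      (t : G) ≠ 1 → orderOf (π t) = 2 := fun t h1 h2 h3 =>
    ord2 (fun e => h3 (h.nr2 hab t (l1 h1) h2 (hr.eq_one_iff.1 e))) (sqπ t h2)
  have uq : ∀ v ∈ LS U a b, v ∈ St G a b → v * v = 1 → v ≠ 1 → v = w := fun v h1 h2 h3 h4 =>
    inj ⟨v, hN h1⟩ ⟨w, wN⟩ h1 wL h3 w2 (hw ▸ D.uniq _ (img _ h1) ((hst _).2 h2) (ordπ _ h1 h3 h4))
  have wF : Fx Ω {w} ⊆ Ln U a b := fun c hc x hx => by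
    obtain ⟨-, m, -, -, h1⟩ := h.fx {w} hab (two_single w2) (Set.singleton_subset_iff.2 wS)
    exact h1 ⟨w, rfl, w1⟩ x ⟨hx, mem_centralizer_singleton_iff.2 (l1 wL x hx)⟩ c hc
  have hq' : (Fx (Ln U a b) {w'}).ncard = q + 1 := by
    rw [H72.HKS.fx_card hR hab' (Set.singleton_subset_iff.2 D.st), ← D.cardw, cu_empty]
  have hqw : (Fx Ω {w}).ncard = q + 1 := by rw [← hq', ← hw, fx_res hr ⟨w, wN⟩ wF]
  have two : ∀ x, IsConj w x → ∀ c d, c ≠ d → x • c = c → x • d = d → x ∈ LS U c d := by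
    intro x hx c d hcd hc hd
    obtain ⟨g, rfl⟩ := isConj_iff.1 hx
    have key : ∀ c, (g * w * g⁻¹) • c = c → c ∈ Ln U (g • a) (g • b) := fun c hc => by
      have := smul_mem_Ln h.toSp g (wF (mem_fx1.2 (show w • g⁻¹ • c = g⁻¹ • c by
        rw [eq_inv_smul_iff, ← mul_smul, ← mul_smul, hc])))
      rwa [smul_inv_smul] at this
    rw [LS_sym h (fun e => hab (smul_left_cancel g e)) hcd (key c hc) (key d hd)]
    exact conj_mem_LS h g wL
  have sqJ : ∀ x, IsConj w x → x * x = 1 ∧ x ≠ 1 := fun x hx => by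
    obtain ⟨g, rfl⟩ := isConj_iff.1 hx
    exact ⟨by rw [conj_mul, w2]; group, by rwa [Ne, conj_eq_one_iff]⟩
  have uJ : ∀ x, IsConj w x → x ∈ St G a b → x = w := fun x hx hs =>
    uq x (two x hx a b hab hs.1 hs.2) hs (sqJ x hx).1 (sqJ x hx).2
  obtain ⟨m, i, e1, -, -, e2, e3⟩ := h.dvd hab
  rw [hcF, Nat.add_right_cancel_iff] at e1
  subst e1
  have hn : q ^ 3 * q ^ 3 < Nat.card Ω - 1 := by
    rw [e3, Nat.add_sub_cancel]
    exact Nat.mul_lt_mul_of_pos_right e2 (by positivity)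
  obtain ⟨s, sJ, sa, sL⟩ : ∃ s, IsConj w s ∧ s • a = b ∧ s ∉ LS U a b := by
    by_contra! hcon
    have c1 := count_sw h.t2 hab hqw wS uJ
    have c2 := count_sw hR.t2 hab' hq' D.st fun x hx hs => by
      obtain ⟨g, rfl⟩ := isConj_iff.1 hx
      refine D.uniq _ (mem_normalizer_iff.1 (H72.HKS.lx_norm hR (show g ∈ normalizer ∅ from
        fun _ => Iff.rfl)) _ |>.1 D.mem) hs ?_
      rw [← D.ord]
      exact (MulAut.conj g).orderOf_eq w'
    rw [Nat.card_coe_set_eq, hcF] at c2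
    have c3 : {x | IsConj w x ∧ x • a = b}.ncard ≤ {x | IsConj w' x ∧ x • a' = b'}.ncard := by
      refine Set.ncard_le_ncard_of_injOn
        (fun x => if hx : x ∈ normalizer (Xs U a b : Set G) then π ⟨x, hx⟩ else 1)
        (fun x hx => ?_) (fun x hx y hy e => ?_)
      · have h1 := hcon x hx.1 hx.2
        rw [dif_pos (hN h1)]
        obtain ⟨g, -, hg⟩ := D.one _ (img ⟨x, hN h1⟩ h1) (ordπ _ h1 (sqJ x hx.1).1 (sqJ x hx.1).2)
        exact ⟨isConj_iff.2 ⟨g, hg⟩, hr.smul_eq_iff.2 (by rw [ea, eb]; exact hx.2)⟩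
      · have h1 := hcon x hx.1 hx.2
        have h2 := hcon y hy.1 hy.2
        simp only [dif_pos (hN h1), dif_pos (hN h2)] at e
        exact inj _ _ h1 h2 (sqJ x hx.1).1 (sqJ y hy.1).1 e
    have c4 := Nat.mul_le_mul_right ((q + 1) * q) c3
    have c5 : q ^ 3 ≤ q ^ 3 * q ^ 3 := Nat.le_mul_self _
    have c6 : q ≤ q ^ 3 := Nat.le_self_pow (by norm_num) q
    omega
  have s2 := (sqJ s sJ).1
  have sb : s • b = a := by rw [← sa, ← mul_smul, s2, one_smul]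
  have sw : s * w = w * s := mul_inv_eq_iff_eq_mul.1
    (uJ _ (isConj_iff.2 ⟨s, rfl⟩) (swap_conj_mem sa sb wS))
  obtain ⟨ha, hb⟩ := mem_Ln h.toSp a b
  have sN : s ∈ normalizer (Xs U a b : Set G) := by
    have key : ∀ x ∈ Xs U a b, s * x * s⁻¹ ∈ Xs U a b := fun x hx => by
      rw [← h.sym hab hab.symm hb ha]
      exact ⟨sa ▸ h.conj s a x hx.1, (swap_conj_mem sa sb ⟨h.fix a x hx.1, hx.2⟩).1⟩
    refine fun x => ⟨key x, fun hx => ?_⟩
    have := key _ hx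
    rwa [show s * (s * x * s⁻¹) * s⁻¹ = (s * s) * x * (s * s)⁻¹ by group, s2, one_mul, inv_one,
      mul_one] at this
  have wfx : ∀ c : Ln U a b, c ∈ Fx (Ln U a b) {w'} ↔ w • (c : Ω) = c := fun c => by
    rw [mem_fx1, ← hw, hr.smul_eq_iff]
  obtain ⟨l', h1, h2, h3, h4, h5⟩ := ree_swap k2 hR (hM _ _ _ hR).1 hab' D (sqπ ⟨s, sN⟩ s2)
    (by rw [← hw, ← map_mul, ← map_mul]; exact congrArg π (Subtype.ext sw))
    ⟨hr.smul_eq_iff.2 (by rw [ea, eb]; exact sa), hr.smul_eq_iff.2 (by rw [ea, eb]; exact sb)⟩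
    fun c _ d _ hc hd => by
      by_contra hcd
      have hcd' : (c : Ω) ≠ d := fun e => hcd (Subtype.ext e)
      exact sL (LS_sym h hab hcd' c.2 d.2 ▸
        two s sJ c d hcd' (hr.smul_eq_iff.1 hc) (hr.smul_eq_iff.1 hd))
  obtain ⟨l, lL, ll, rfl⟩ := lift l' h1 h2
  have cm : ∀ g : normalizer (Xs U a b : Set G), π g * π l = π l * π g → (g : G) * l = l * g :=
    fun g e => mul_inv_eq_iff_eq_mul.1 (inj (g * l * g⁻¹) l ((mem_normalizer_iff.1 (l2 g.2) _).1 lL)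
      lL (by rw [coe_mul, coe_mul, coe_inv, conj_mul, ll]; group) ll
      (by rw [map_mul, map_mul, map_inv, e, mul_inv_cancel_right]))
  have sl : s * l = l * s := cm ⟨s, sN⟩ h4
  have wl : w * l = l * w := cm ⟨w, wN⟩ (by rw [hw, h3])
  have kf : Fx Ω {w} ⊆ Fx Ω {s * l} := fun c hc => mem_fx1.2 (by
    have := congrArg Subtype.val (h5 ⟨c, wF hc⟩ ((wfx _).2 (mem_fx1.1 hc)))
    rw [hr.smul, hr.smul] at this
    rw [mul_smul, ← this, ← mul_smul, s2, one_smul])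
  have k2' : s * l * (s * l) = 1 := by
    calc s * l * (s * l) = s * (l * s) * l := by group
      _ = s * s * (l * l) := by rw [← sl]; group
      _ = 1 := by rw [s2, ll, mul_one]
  have wk : w * (s * l) = s * l * w := by rw [← mul_assoc, ← sw, mul_assoc, wl, mul_assoc]
  have kL : s * l ∉ LS U a b := fun e => sL ((mul_mem_cancel_right lL).1 e)
  have b1 := fx_le hM hB h hab wS w2 k2' (fun e => kL (e ▸ one_mem _)) wk hqw (by omega) kf
  have b2 := fx_le hM hB h hab (k := w * (s * l)) wS w2 (by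
      calc w * (s * l) * (w * (s * l)) = w * (s * l * w) * (s * l) := by group
        _ = w * w * (s * l * (s * l)) := by rw [← wk]; group
        _ = 1 := by rw [w2, k2', mul_one])
    (fun e => kL ((mul_mem_cancel_left wL).1 (e ▸ one_mem _)))
    (by rw [mul_assoc w (s * l), ← wk]) hqw (by omega)
    fun c hc => mem_fx1.2 (by rw [mul_smul, mem_fx1.1 (kf hc), mem_fx1.1 hc])
  have hw := h.wie w (s * l) hab wS
    ⟨mem_fx1.1 (kf (mem_fx1.2 wS.1)), mem_fx1.1 (kf (mem_fx1.2 wS.2))⟩ w2 k2' wk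
  rw [show Fx Ω {w, s * l} = Fx Ω {w} from Set.Subset.antisymm
    (fun c hc => mem_fx1.2 (hc w (by simp))) (fun c hc g hg => by
      rcases hg with rfl | rfl
      · exact mem_fx1.1 hc
      · exact mem_fx1.1 (kf hc)), hqw, Nat.add_sub_cancel] at hw
  have b3 := Nat.mul_le_mul (Nat.mul_le_mul_left q b1) b2
  rw [← hw] at b3
  have b4 := Nat.mul_lt_mul_of_pos_right hn (show 0 < q ^ 2 by positivity)
  have b5 : q * q ^ 3 * q ^ 3 ≤ q ^ 3 * q ^ 3 * q ^ 2 := by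
    calc q * q ^ 3 * q ^ 3 = q ^ 3 * q ^ 3 * q := by ring
      _ ≤ _ := Nat.mul_le_mul_left _ (Nat.le_self_pow (by norm_num) q)
  omega

end H61.Hk
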