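import Cfsg.Agent.H7.HKSSpec3
import Cfsg.Agent.H61.HkIIs
import Cfsg.Agent.H61.HkNRR
import Cfsg.Agent.H3.HkKit2
import Cfsg.Agent.H5.Wielandt

/-! HKS tower, job PSb: an involution of type `PSL₂(q)`, `q ≡ 3 (mod 4)`, in `2`-rank one. -/

set_option autoImplicit false

namespace H61.Hk

open MulAction Cfsg Subgroup H89.K H65 H7.HKS H31.HK H8.HK

universe u

section grp

variable {G : Type u} [Group G] [Finite G]

/-- A fixed point free involution inverts. -/
theorem inv_of_fpf {W : Subgroup G} {t : G} (ht : t ∈ normalizer (W : Set G)) (tt : t * t = 1)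
    (h : ∀ w ∈ W, t * w = w * t → w = 1) {w : G} (hw : w ∈ W) : t * w * t⁻¹ = w⁻¹ := by
  let φ : W → W := fun v => ⟨t * v * t⁻¹, (mem_normalizer_iff.1 ht v).1 v.2⟩
  let ψ : W →* W := MonoidHom.mk' φ fun v v' => Subtype.ext (by simp [φ, mul_assoc])
  have h1 : MonoidHom.FixedPointFree ψ := fun v hv => Subtype.ext (h v v.2 (by
    have : t * v * t⁻¹ = v := congrArg Subtype.val hv
    rw [← mul_inv_eq_iff_eq_mul, this]))
  have h2 : Function.Involutive ψ := fun v => Subtype.ext (by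
    change t * (t * v * t⁻¹) * t⁻¹ = v
    rw [show t * (t * v * t⁻¹) * t⁻¹ = (t * t) * v * (t * t)⁻¹ by group, tt]; simp)
  exact congrArg Subtype.val (congrFun (h1.coe_eq_inv_of_involutive h2) ⟨w, hw⟩)

omit [Finite G] in
/-- An element of prime order fixes a point of an invariant set of size prime to `p`. -/
theorem fix_of_prime {Ω : Type*} [MulAction G Ω] {S : Set Ω} (hS : S.Finite) {g : G} {p : ℕ}
    (hp : p.Prime) (hg : g ^ p = 1) (hi : ∀ c ∈ S, g • c ∈ S) (hd : ¬ p ∣ S.ncard) :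
    ∃ c ∈ S, g • c = c := by
  classical
  have := Fact.mk hp
  have := hS.fintype
  have hi' : ∀ c, MulAction.toPerm g c ∈ S ↔ c ∈ S := fun c => ⟨fun hc => by
    have : ∀ k : ℕ, g ^ k • g • c ∈ S := fun k => by
      induction k with
      | zero => simpa using hc
      | succ k ih => rw [pow_succ', mul_smul]; exact hi _ ih
    have e := this (p - 1)
    rwa [← mul_smul, ← pow_succ, Nat.sub_add_cancel hp.one_le, hg, one_smul] at e, hi c⟩
  obtain ⟨c, hc⟩ := Equiv.Perm.exists_fixed_point_of_prime (p := p) (n := 1)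
    (σ := (MulAction.toPerm g).subtypePerm hi')
    (by rwa [← Nat.card_eq_fintype_card, Nat.card_coe_set_eq])
    (by
      ext c
      rw [pow_one, Equiv.Perm.subtypePerm_pow]
      change ((MulAction.toPermHom G Ω g) ^ p) c = c
      rw [← map_pow, hg, map_one]; rfl)
  exact ⟨c, c.2, congrArg Subtype.val hc⟩

omit [Finite G] in
/-- An involution interchanging two involutions with product of odd order centralises an
involution of the dihedral group. -/
theorem mid_comm {x w : G} {k : ℕ} (xx : x * x = 1) (ww : w * w = 1)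
    (hk : (x * (w * x * w)) ^ (2 * k + 1) = 1) :
    (x * (w * x * w)) ^ k * x * ((x * (w * x * w)) ^ k * x) = 1 ∧
      (x * (w * x * w)) ^ k * x * w = w * ((x * (w * x * w)) ^ k * x) ∧
      x * (x * (w * x * w)) * x⁻¹ = (x * (w * x * w))⁻¹ ∧
      w * (x * (w * x * w)) * w⁻¹ = (x * (w * x * w))⁻¹ := by
  have xi : x⁻¹ = x := inv_eq_of_mul_eq_one_right xx
  have wi : w⁻¹ = w := inv_eq_of_mul_eq_one_right ww
  set y := x * (w * x * w) with hy
  have e1 : x * y * x⁻¹ = y⁻¹ := by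
    rw [hy]; simp only [mul_inv_rev, xi, wi, ← mul_assoc, xx, one_mul]
  have e2 : w * y * w⁻¹ = y⁻¹ := by
    rw [hy]; simp only [mul_inv_rev, xi, wi, mul_assoc, ww, mul_one]
  have p1 : x * y ^ k * x⁻¹ = (y ^ k)⁻¹ := by rw [← conj_pow, e1, inv_pow]
  have p2 : w * y ^ k * w⁻¹ = (y ^ k)⁻¹ := by rw [← conj_pow, e2, inv_pow]
  refine ⟨?_, ?_, e1, e2⟩
  · calc y ^ k * x * (y ^ k * x) = y ^ k * (x * y ^ k * x⁻¹) := by rw [xi]; group
      _ = 1 := by rw [p1, mul_inv_cancel]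
  · have e3 : w * x * w = y⁻¹ * x := by
      rw [← e1, hy, xi]; simp only [← mul_assoc, xx, one_mul]; simp only [mul_assoc, xx, mul_one]
    have e4 : (y ^ k)⁻¹ * y⁻¹ = y ^ k := by
      rw [← mul_inv_rev, inv_eq_iff_mul_eq_one, ← pow_succ', ← pow_add, ← hk]; congr 1; omega
    calc y ^ k * x * w = (y ^ k)⁻¹ * (y⁻¹ * x) * w := by rw [← mul_assoc, e4]
      _ = w * y ^ k * w⁻¹ * (w * x * w) * w := by rw [p2, e3]
      _ = w * (y ^ k * x) * (w * w) := by group
      _ = _ := by rw [ww, mul_one]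

open H46 in
/-- The Wielandt formula for a dihedral group of order `2 l` acting on a nilpotent group of odd
order, the involution centralising no element of order `l`. -/
theorem fw_dih {W : Subgroup G} {t y : G} {l : ℕ} (hn : Group.IsNilpotent W)
    (ho : Odd (Nat.card W)) (ht : t ∈ normalizer (W : Set G)) (hy : y ∈ normalizer (W : Set G))
    (t2 : orderOf t = 2) (hl : l.Prime) (l2 : l ≠ 2) (yl : orderOf y = l)
    (ty : t * y * t⁻¹ = y⁻¹) (hd : ¬ l ∣ Nat.card ↥(W ⊓ centralizer {t})) :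
    Nat.card ↥(W ⊓ centralizer {t, y, y⁻¹}) ^ 2 * Nat.card W =
      Nat.card ↥(W ⊓ centralizer {t}) ^ 2 * Nat.card ↥(W ⊓ centralizer {y, y⁻¹}) := by
  have tt := sq_of_ord2 t2
  have D := nil_isDp_piCoreOf {l}ᶜ hn
  rw [compl_compl] at D
  set A := piCoreOf {l}ᶜ W
  set B := piCoreOf {l} W
  have hK : zpowers y ≤ Nrm W := zpowers_le.2 hy
  have hR : zpowers t ≤ Nrm W := zpowers_le.2 ht
  have hX : zpowers y ⊔ zpowers t ≤ Nrm W := sup_le hK hR
  have c1 : Cent (zpowers t) = centralizer {t} := by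
    rw [Cent, zpowers_eq_closure, centralizer_closure]
  have c2 : Cent (zpowers y) = centralizer {y, y⁻¹} := by
    rw [Cent, zpowers_eq_closure, centralizer_closure]
    ext g
    simp only [mem_centralizer_iff, Set.mem_singleton_iff, forall_eq, Set.mem_insert_iff,
      forall_eq_or_imp]
    exact ⟨fun h => ⟨h, (Commute.inv_left (show Commute y g from h)).eq⟩, fun h => h.1⟩
  have c3 : Cent (zpowers y ⊔ zpowers t) = centralizer {t, y, y⁻¹} := by
    rw [Cent, zpowers_eq_closure, zpowers_eq_closure, ← Subgroup.closure_union, centralizer_closure]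
    ext g
    simp only [mem_centralizer_iff, Set.mem_singleton_iff, forall_eq, Set.mem_insert_iff,
      Set.mem_union, or_imp, forall_and]
    exact ⟨fun h => ⟨h.2, h.1, (Commute.inv_left (show Commute y g from h.1)).eq⟩,
      fun h => ⟨h.2.1, h.1⟩⟩
  have oy : Odd (Nat.card (zpowers y)) := by rw [Nat.card_zpowers, yl]; exact hl.odd_of_ne_two l2
  have sd : IsSd (zpowers y) (zpowers t) (zpowers y ⊔ zpowers t) := ⟨zpowers_le.2
    (mem_normalizer_fintype fun z hz => (inv_zpowers ty hz).symm ▸ inv_mem hz),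
    (disjoint_of_coprime_natCard (by
      rw [Nat.card_zpowers t, t2]; exact Nat.coprime_two_right.2 oy)).eq_bot, rfl⟩
  have hF : IsFrob (zpowers y) (zpowers t) (zpowers y ⊔ zpowers t) := by
    refine ⟨sd, ?_, ?_, fun x hx x1 => ?_⟩
    · rw [Ne, zpowers_eq_bot]; rintro rfl; exact hl.one_lt.ne (by rw [← yl, orderOf_one])
    · rw [Ne, zpowers_eq_bot]; exact ne_of_ord2 t2
    · obtain ⟨i, rfl⟩ := mem_zpowers_iff.1 hx
      rcases zpow_cases tt i with e | e
      · exact absurd e x1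
      rw [e, eq_bot_iff]
      rintro z ⟨z1, z2⟩
      have e1 := inv_zpowers ty z1
      rw [← mem_centralizer_singleton_iff.1 z2, mul_inv_cancel_right] at e1
      exact eq_one_of_sq oy z1 (by nth_rewrite 1 [e1]; exact inv_mul_cancel z)
  have e := H5.frobenius_wielandt hF (nrm_piCoreOf {l}ᶜ hX) (by
      rw [← sd.card, Nat.card_zpowers, Nat.card_zpowers, yl, t2]
      exact Nat.Coprime.mul_right ((isPi_compl_singleton_iff_coprime hl).1 (isPi_piCoreOf _ _))
        (Nat.coprime_two_right.2 (ho.of_dvd_nat (card_dvd_of_le D.le_left))))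
    (by have := nil_of_le hn D.le_left; infer_instance)
  have b1 : B ⊓ Cent (zpowers t) = ⊥ := IsPi.eq_bot (π := {l}) (isPi_piCoreOf _ _).inf_left
    ((isPi_compl_singleton hl).2 fun h => hd (h.trans (card_dvd_of_le
      (inf_le_inf D.le_right c1.le))))
  have hi : ∀ w ∈ B, t * w * t⁻¹ = w⁻¹ := fun w hw =>
    inv_of_fpf (nrm_le_nrm_piCoreOf _ _ ht) tt (fun v hv e => mem_bot.1 (b1 ▸ ⟨hv,
      c1 ▸ mem_centralizer_singleton_iff.2 e.symm⟩)) hw
  have b2 : B ≤ Cent (zpowers y) := le_cent_symm (zpowers_le.2 (H72.HKS.mem_of_odd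
    (hl.odd_of_ne_two l2) (by rw [← yl, pow_orderOf_eq_one]; exact one_mem _) fun w hw => by
      have h1 := hi _ ((mem_normalizer_iff.1 (nrm_le_nrm_piCoreOf {l} _ hy) w).1 hw)
      rw [show t * (y * w * y⁻¹) * t⁻¹ = (t * y * t⁻¹) * (t * w * t⁻¹) * (t * y * t⁻¹)⁻¹ by group,
        ty, hi w hw] at h1
      calc w * (y * y) = w * y * (y * w * y⁻¹)⁻¹ * y * w := by group
        _ = _ := by rw [← h1]; group))
  have b3 : B ⊓ Cent (zpowers y ⊔ zpowers t) = ⊥ :=
    eq_bot_iff.2 ((inf_le_inf_left _ (cent_anti le_sup_right)).trans b1.le)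
  have d1 := (D.centr (nrm_piCoreOf _ hR) (nrm_piCoreOf _ hR)).card
  have d2 := (D.centr (nrm_piCoreOf _ hK) (nrm_piCoreOf _ hK)).card
  have d3 := (D.centr (nrm_piCoreOf _ hX) (nrm_piCoreOf _ hX)).card
  rw [b1, card_bot, mul_one] at d1
  rw [b3, card_bot, mul_one] at d3
  rw [inf_eq_left.2 b2] at d2
  rw [Nat.card_zpowers, t2] at e
  rw [← c1, ← c2, ← c3, ← d1, ← d2, ← d3, ← D.card, ← mul_assoc, e, mul_assoc]

theorem ps_num {q j r m β γ : ℕ} (h3 : 3 < q) (j0 : 0 < j) (rp : 0 < r)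
    (fw : r ^ 2 * (q * (2 * (q - 1) * j + 1)) = q ^ 2 * m)
    (hb : β * (q + 1) = γ * (2 * (q - 1) * j)) (lt : β < γ * (q - 1))
    (key : m ≤ r ^ 2 ∨ (3 ≤ r ∧ m = r * (r + 2)) ∨ (r = 1 ∧ 1 < m)) : False := by
  obtain ⟨n, rfl⟩ : ∃ n, q = n + 1 := ⟨q - 1, by omega⟩
  rw [Nat.add_sub_cancel] at fw hb lt
  have f1 : r ^ 2 * (2 * n * j + 1) = (n + 1) * m :=
    Nat.eq_of_mul_eq_mul_left (show 0 < n + 1 by omega) (by linear_combination fw)
  have j1 : 2 * n ≤ 2 * n * j := Nat.le_mul_of_pos_right _ j0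
  rcases key with h | ⟨h, rfl⟩ | ⟨rfl, h⟩
  · have : r ^ 2 * (2 * n * j + 1) ≤ r ^ 2 * (n + 1) := by
      rw [f1, mul_comm]; exact Nat.mul_le_mul_right _ h
    have := Nat.le_of_mul_le_mul_left this (by positivity)
    omega
  · have f2 : r * (2 * n * j + 1) = (n + 1) * (r + 2) :=
      Nat.eq_of_mul_eq_mul_left rp (by linear_combination f1)
    nlinarith
  · have d : n ∣ m - 1 := (Nat.dvd_add_right (dvd_mul_right n m)).1 ⟨2 * j, by
      have : n * (2 * j) + 1 = n * m + m := by linear_combination f1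
      omega⟩
    have := Nat.le_of_dvd (by omega) d
    have h1 : γ * (2 * n * j) < γ * (n * (n + 1 + 1)) := by
      rw [← hb, ← mul_assoc]; exact Nat.mul_lt_mul_of_pos_right lt (by omega)
    have h2 := Nat.lt_of_mul_lt_mul_left h1
    have h4 : (n + 1) * (n + 1) ≤ (n + 1) * m := Nat.mul_le_mul_left _ (by omega)
    nlinarith

end grp

variable {G Ω : Type u} [Group G] [Finite G] [MulAction G Ω] {U : Ω → Subgroup G} {a b : Ω}
  {t v w : G}

omit [Finite G] in
theorem r1_cases (r : R1 G Ω) (hab : a ≠ b) (ht : Iv t a b) (hv : v ∈ St G a b) (v2 : v * v = 1)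
    (vt : v * t = t * v) : v = 1 ∨ v = t := by
  by_contra hc
  rw [not_or] at hc
  exact r a b t v hab ⟨ht, ⟨hv, ord2 hc.1 v2⟩, Ne.symm hc.2, vt.symm⟩

theorem odd_prod (r : R1 G Ω) (hab : a ≠ b) (ht : Iv t a b) (hv : Iv v a b) :
    Odd (orderOf (t * v)) := by
  rw [← Nat.not_even_iff_odd]
  rintro ⟨m, hm⟩
  have tt := sq_of_ord2 ht.2
  have vv := sq_of_ord2 hv.2
  have ti := inv_eq_of_mul_eq_one_right tt
  have pos := orderOf_pos (t * v)
  have z2 : (t * v) ^ m * (t * v) ^ m = 1 := by rw [← pow_add, ← hm, pow_orderOf_eq_one]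
  have e : t * (t * v) * t⁻¹ = (t * v)⁻¹ := by
    rw [← mul_assoc, tt, one_mul, mul_inv_rev, inv_eq_of_mul_eq_one_right vv]
  have e1 : t * (t * v) ^ m * t⁻¹ = (t * v) ^ m := by
    rw [← conj_pow, e, inv_pow, inv_eq_of_mul_eq_one_right z2]
  rcases r1_cases r hab ht (pow_mem (mul_mem ht.1 hv.1) m) z2
    (mul_inv_eq_iff_eq_mul.1 e1).symm with h | h
  · exact absurd (Nat.le_of_dvd (by omega) (orderOf_dvd_of_pow_eq_one h)) (by omega)
  · have c : t * (t * v) = t * v * t := by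
      nth_rewrite 1 [← h]; nth_rewrite 4 [← h]; exact (Commute.self_pow _ m).symm.eq
    rw [mul_assoc] at c
    rcases r1_cases r hab ht hv.1 vv (mul_left_cancel c).symm with h' | h'
    · exact ne_of_ord2 hv.2 h'
    · rw [h', tt, orderOf_one] at hm; omega

/-- An involution interchanging `a` and `b` centralises an involution fixing them. -/
theorem exists_mid (r : R1 G Ω) (hab : a ≠ b) (hv : Iv v a b) (ww : w * w = 1) (hw : Sw w a b) :
    ∃ k : ℕ, Iv ((v * (w * v * w)) ^ k * v) a b ∧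
      (v * (w * v * w)) ^ k * v * w = w * ((v * (w * v * w)) ^ k * v) ∧
      w * (v * (w * v * w)) * w⁻¹ = (v * (w * v * w))⁻¹ ∧
      ∀ s, s = (v * (w * v * w)) ^ k * v → s * (v * (w * v * w)) * s⁻¹ = (v * (w * v * w))⁻¹ := by
  have wi := inv_eq_of_mul_eq_one_right ww
  have hv' : Iv (w * v * w) a b := by
    nth_rewrite 2 [← wi]
    exact ⟨swap_conj_mem hw.1 hw.2 hv.1, by rw [H46.orderOf_conj]; exact hv.2⟩
  obtain ⟨k, hk⟩ := odd_prod r hab hv hv'
  have h0 : (v * (w * v * w)) ^ (2 * k + 1) = 1 := by rw [← hk, pow_orderOf_eq_one]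
  obtain ⟨h1, h2, h3, h4⟩ := mid_comm (sq_of_ord2 hv.2) ww h0
  refine ⟨k, ⟨mul_mem (pow_mem (mul_mem hv.1 hv'.1) k) hv.1, ord2 (fun e => ?_) h1⟩, h2, h4, ?_⟩
  · have e1 : v = ((v * (w * v * w)) ^ k)⁻¹ := eq_inv_of_mul_eq_one_right e
    have e2 : v ^ (2 * k + 1) = 1 := by
      rw [e1, inv_pow, ← pow_mul, mul_comm k, pow_mul, h0, one_pow, inv_one]
    rw [pow_succ, pow_mul, sq, sq_of_ord2 hv.2, one_pow, one_mul] at e2
    exact ne_of_ord2 hv.2 e2
  · rintro s rfl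
    generalize v * (w * v * w) = y at h3 ⊢
    calc y ^ k * v * y * (y ^ k * v)⁻¹ = y ^ k * (v * y * v⁻¹) * (y ^ k)⁻¹ := by group
      _ = _ := by rw [h3]; group

omit [Finite G] in
theorem zeta_cases {F : Type} [Field F] [Finite F] {x y : F → G} {A B : Subgroup G}
    (C : Cx U x y A B a b) (r : R1 G Ω) (ht : Iv t a b) (hA : t ∈ normalizer (A : Set G))
    (hB : t ∈ normalizer (B : Set G)) : sl2h x y (-1) = 1 ∨ sl2h x y (-1) = t := by
  obtain ⟨l, σ, -, -, -, -, h⟩ := C.semi ht.1 hA hB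
  have n1 : (-1 : F) ≠ 0 := neg_ne_zero.2 one_ne_zero
  have e := h (-1) n1
  rw [map_neg, map_one, mul_inv_eq_iff_eq_mul] at e
  exact r1_cases r C.ne ht ⟨C.ha n1, C.hb n1⟩
    (by rw [C.rel.h_mul' n1 n1, neg_mul_neg, one_mul, C.rel.h_one]) e.symm

/-- The situation of the jobs PS. -/
structure PS (U : Ω → Subgroup G) (a b : Ω) (t : G) {F : Type} [Field F] [Fintype F]
    (x y : F → G) : Prop where
  co : Core U
  r1 : R1 G Ω
  ne : a ≠ b
  iv : Iv t a b
  ld : LD x y (CU U {t} a) (CU U {t} b) a b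
  nsl : ¬ SLt U t
  mod : Fintype.card F % 4 = 3

namespace PS

variable {F : Type} [Field F] [Fintype F] {x y : F → G} (P : PS U a b t x y)
include P

omit [Finite G] in
theorem cx : Cx U x y (CU U {t} a) (CU U {t} b) a b :=
  ⟨P.co.toRg.sr, P.ne, inf_le_left, inf_le_left, P.ld⟩

omit [Finite G] in
theorem sub : {t} ⊆ (St G a b : Set G) := Set.singleton_subset_iff.2 P.iv.1

omit [Finite G] in
theorem tt : t * t = 1 := sq_of_ord2 P.iv.2

omit [Finite G] in
theorem card : Nat.card (CU U {t} a) = Fintype.card F := by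
  rw [P.cx.card_A, Nat.card_eq_fintype_card]

omit [Finite G] in
theorem cu_ne : CU U {t} a ≠ ⊥ := fun e => by
  have := P.card
  rw [e, card_bot] at this
  exact Fintype.one_lt_card.ne this

omit [Finite G] in
theorem lx : LX U {t} = CU U {t} a ⊔ CU U {t} b := lx_eq P.co.toRg P.ne P.sub

omit [Field F] [Fintype F] P in
theorem comm {l : G} (hl : l ∈ LX U {t}) : l * t = t * l :=
  mem_centralizer_singleton_iff.1 (H72.HKS.lx_le hl)

omit [Finite G] in
theorem n_lx {d : F} (hd : d ≠ 0) : sl2n x y d ∈ LX U {t} := P.lx ▸ P.cx.n_mem hd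

theorem zeta : sl2h x y (-1) = 1 :=
  (zeta_cases P.cx P.r1 P.iv (norm_CU P.co.toSp P.iv.1.1 rfl)
    (norm_CU P.co.toSp P.iv.1.2 rfl)).resolve_right fun e => P.nsl (by
      have := P.cx.h_mem (neg_ne_zero.2 (one_ne_zero (α := F)))
      rwa [e, ← P.lx] at this)

theorem nn {d : F} (hd : d ≠ 0) : sl2n x y d * sl2n x y d = 1 := by rw [n_sq P.ld.rel hd, P.zeta]

theorem n_neg {d : F} (hd : d ≠ 0) : sl2n x y (-d) = sl2n x y d := by
  rw [P.ld.rel.n_neg, inv_eq_of_mul_eq_one_right (P.nn hd)]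

omit [Finite G] in
theorem nsq : ¬ IsSquare (-1 : F) := by
  rw [FiniteField.isSquare_neg_one_iff, not_not]; exact P.mod

theorem nofix (ww : w * w = 1) (wt : w * t = t * w) (w1 : w ≠ 1) (w2 : w ≠ t) {c : Ω}
    (hc : c ∈ Fx Ω {t}) : w • c ≠ c := fun e => by
  have := P.co.t2.finite
  obtain ⟨d, ⟨d1, d2⟩, d3⟩ := fix_of_prime (S := Fx Ω {t} \ {c}) (g := w) (Set.toFinite _)
    Nat.prime_two (by rw [sq, ww]) (fun d hd => ⟨H72.HKS.smul_mem_fx
      (mem_centralizer_singleton_iff.2 wt) hd.1, fun e' => hd.2 (by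
        rw [Set.mem_singleton_iff] at e' ⊢
        exact MulAction.injective w (e'.trans e.symm))⟩) (by
      rw [Set.ncard_sdiff_singleton_of_mem hc, H72.HKS.fx_card P.co.toRg P.ne P.sub, P.card]
      have := P.mod
      omega)
  rcases r1_cases P.r1 d2 ⟨⟨mem_fx1.1 d1, mem_fx1.1 hc⟩, P.iv.2⟩ ⟨d3, e⟩ ww wt with h | h
  exacts [w1 h, w2 h]

theorem swap_form (ww : w * w = 1) (wt : w * t = t * w) (hw : Sw w a b) :
    ∃ d, d ≠ 0 ∧ (w = sl2n x y d ∨ w = sl2n x y d * t) := by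
  have w1 : w ≠ 1 := fun e => P.ne (by rw [← hw.1, e, one_smul])
  have w2 : w ≠ t := fun e => P.ne (by rw [← hw.1, e, P.iv.1.1])
  have hn : w ∈ normalizer ({t} : Set G) :=
    centralizer_le_normalizer _ (mem_centralizer_singleton_iff.2 wt)
  obtain ⟨μ, h0, h1, -, h2⟩ := H3.HK2.kit2.swp P.co.toRg P.ne P.sub P.ld w hn hw
    (fun c _ => by rw [← mul_smul, ww, one_smul]) (by
      rw [show Fx Ω (insert w {t}) = ∅ from Set.eq_empty_of_forall_notMem fun c hc =>
        P.nofix ww wt w1 w2 (H3.HK2.mem_ins.1 hc).2 (H3.HK2.mem_ins.1 hc).1]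
      simp)
  have hs : IsSquare μ := by
    by_contra hs
    obtain ⟨c, hc⟩ := isSquare_neg P.mod h0 hs
    have c0 : c ≠ 0 := fun e => h0 (by rw [e, mul_zero, neg_eq_zero] at hc; exact hc)
    refine P.nofix ww wt w1 w2 ((H72.HKS.fx_mem P.co.toRg P.ne P.sub (x c • b)).2
      (Or.inr ⟨_, P.cx.xA c, rfl⟩)) ?_
    rw [h1 c c0, ← neg_div, hc, mul_div_cancel_right₀ _ c0]
  obtain ⟨l, hl, e⟩ := h2.2 hs
  obtain ⟨d, d0, rfl⟩ := P.cx.sw (P.lx ▸ hl) ⟨(e a (H3.HK2.fx_a P.sub)) ▸ hw.1,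
    (e b (H3.HK2.fx_b P.sub)) ▸ hw.2⟩
  have k1 : ∀ c ∈ Fx Ω {t}, (sl2n x y d * w) • c = c := fun c hc => by
    rw [mul_smul, e c hc, ← mul_smul, P.nn d0, one_smul]
  have k2 := H72.HKS.lx_comm P.co.toRg P.ne P.sub _ k1 _ hl
  rw [← mul_assoc, P.nn d0, one_mul] at k2
  have ew : w = sl2n x y d * (sl2n x y d * w) := by rw [← mul_assoc, P.nn d0, one_mul]
  rcases r1_cases P.r1 P.ne P.iv (v := sl2n x y d * w)
    ⟨k1 a (H3.HK2.fx_a P.sub), k1 b (H3.HK2.fx_b P.sub)⟩ (by rw [← mul_assoc, k2, ww])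
    (by rw [mul_assoc, wt, ← mul_assoc, comm hl, mul_assoc]) with h | h
  · exact ⟨d, d0, Or.inl (by rw [ew, h, mul_one])⟩
  · exact ⟨d, d0, Or.inr (by rw [ew, h])⟩

theorem inv_form (ww : w * w = 1) (wt : w * t = t * w) : w ∈ LX U {t} ∨ w * t ∈ LX U {t} := by
  by_cases w1 : w = 1
  · exact Or.inl (w1 ▸ one_mem _)
  by_cases w2 : w = t
  · exact Or.inr (by rw [w2, P.tt]; exact one_mem _)
  have ha := H3.HK2.fx_a (Ω := Ω) P.sub
  obtain ⟨l, hl, l1, l2⟩ := H72.HKS.lx_two P.co.toRg P.ne P.sub P.cu_ne a ha (w • a)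
    (H72.HKS.smul_mem_fx (mem_centralizer_singleton_iff.2 wt) ha) (P.nofix ww wt w1 w2 ha).symm
  have lt := comm hl
  obtain ⟨d, d0, e⟩ := P.swap_form (w := l⁻¹ * w * l)
    (by rw [show l⁻¹ * w * l * (l⁻¹ * w * l) = l⁻¹ * (w * w) * l by group, ww]; simp)
    (by rw [mul_assoc, lt, mul_assoc, ← mul_assoc w, wt, ← mul_assoc, ← mul_assoc,
      (Commute.inv_left (show Commute l t from lt)).eq]; group)
    ⟨by rw [mul_smul, mul_smul, l1, ← l2, inv_smul_smul],
     by rw [mul_smul, mul_smul, l2, ← mul_smul w, ww, one_smul, inv_smul_eq_iff, l1]⟩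
  have m := mul_mem (mul_mem hl (P.n_lx d0)) (inv_mem hl)
  rcases e with e | e
  · exact Or.inl (by rw [← e] at m; convert m using 1; group)
  · refine Or.inr ?_
    convert m using 1
    rw [← mul_inv_eq_iff_eq_mul, inv_eq_of_mul_eq_one_right P.tt] at e
    rw [← e, mul_assoc (l⁻¹ * w), lt]; group

/-- The number of involutions interchanging `a`, `b` and centralising `t`. -/
theorem beta (h1 : H89.K.One G) :
    {w ∈ Jsw t a b | w * t = t * w}.ncard = Fintype.card F - 1 := by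
  classical
  let f : F → G := fun d => if IsSquare d then sl2n x y d else sl2n x y d * t
  have hsq : ∀ {c d : F}, c ≠ 0 → d ≠ 0 → sl2n x y c = sl2n x y d → (IsSquare c ↔ IsSquare d) →
      c = d := fun {c d} hc hd e hs => by
    have e1 := n_n P.ld.rel hc hd
    rw [e, P.ld.rel.n_mul_neg] at e1
    rcases P.cx.pm_of_comm (div_ne_zero hc hd) (by rw [← e1, one_mul, mul_one]) with h | h
    · exact (div_eq_one_iff_eq hd).1 h
    · exfalso
      by_cases hc' : IsSquare c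
      · exact P.nsq (h ▸ hc'.div (hs.1 hc'))
      · refine hc' ?_
        have := isSquare_neg P.mod hd (mt hs.2 hc')
        rw [div_eq_iff hd, neg_one_mul] at h
        rwa [h]
  have hmix : ∀ {c d : F}, c ≠ 0 → d ≠ 0 → sl2n x y c ≠ sl2n x y d * t := fun hc hd e =>
    P.nsl (by
      have := mul_mem (inv_mem (P.n_lx hd)) (P.n_lx hc)
      rwa [e, inv_mul_cancel_left] at this)
  have hinj : Set.InjOn f {0}ᶜ := fun c hc d hd e => by
    by_cases h : IsSquare c <;> by_cases h' : IsSquare d <;> simp only [f, h, h', if_true,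
      if_false] at e
    · exact hsq hc hd e (iff_of_true h h')
    · exact absurd e (hmix hc hd)
    · exact absurd e.symm (hmix hd hc)
    · exact hsq hc hd (mul_right_cancel e) (iff_of_false h h')
  have hs : ∀ {w : G}, w * w = 1 → Sw w a b → w ∈ Jsw t a b := fun ww hw =>
    ⟨h1 _ _ P.iv.2 (ord2 (fun e => P.ne (by rw [← hw.1, e, one_smul])) ww), hw⟩
  have e : {w ∈ Jsw t a b | w * t = t * w} = f '' {0}ᶜ := by
    ext w
    constructor
    · rintro ⟨⟨h2, h3⟩, h4⟩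
      have ww : w * w = 1 := by
        obtain ⟨g, rfl⟩ := isConj_iff.1 h2
        rw [conj_mul, P.tt, mul_one, mul_inv_cancel]
      obtain ⟨d, d0, e | e⟩ := P.swap_form ww h4 h3
      · by_cases h : IsSquare d
        · exact ⟨d, d0, by simp only [f, h, if_true, e]⟩
        · exact ⟨-d, neg_ne_zero.2 d0, by
            simp only [f, isSquare_neg P.mod d0 h, if_true, e, P.n_neg d0]⟩
      · by_cases h : IsSquare d
        · have h' : ¬ IsSquare (-d) := fun h' => P.nsq (by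
            have := h'.div h
            rwa [neg_div, div_self d0] at this)
          exact ⟨-d, neg_ne_zero.2 d0, by simp only [f, h', if_false, e, P.n_neg d0]⟩
        · exact ⟨d, d0, by simp only [f, h, if_false, e]⟩
    · rintro ⟨d, d0, rfl⟩
      have c := comm (P.n_lx d0)
      by_cases h : IsSquare d <;> simp only [f, h, if_true, if_false]
      · exact ⟨hs (P.nn d0) (P.ld.sw d d0), c⟩
      · refine ⟨hs ?_ ⟨by rw [mul_smul, P.iv.1.1, P.cx.na d0],
          by rw [mul_smul, P.iv.1.2, P.cx.nb d0]⟩, by rw [c, mul_assoc, c]⟩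
        rw [mul_assoc, ← mul_assoc t, ← c, mul_assoc, P.tt, mul_one, P.nn d0]
  rw [e, hinj.ncard_image, Set.ncard_compl, Set.ncard_singleton, Nat.card_eq_fintype_card]

omit P in
/-- Local types U and R contain the involution. -/
theorem ur_mem (h : Rg U) (r : R1 G Ω) (hab : a ≠ b) (ht : Iv t a b) {X : Set G}
    (hX : X ⊆ St G a b) (hn : t ∈ normalizer X) (hT : TU U X a b ∨ TR U X a b) :
    t ∈ LX U X ∧ CU U X a ⊓ centralizer {t} ≠ ⊥ := by
  rcases hT with ⟨K, _, _, x', y', L, c1, c2, -⟩ | ⟨q, w, D⟩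
  · have C : Cx U x' y' (ZU U X a) (ZU U X b) a b :=
      ⟨h.sr, hab, inf_le_left.trans inf_le_left, inf_le_left.trans inf_le_left, L⟩
    have nz : ∀ c, t • c = c → t ∈ normalizer (ZU U X c : Set G) := fun c hc =>
      inf_normalizer_le_normalizer_inf ⟨H3.HK2.norm_CU h.sr hn hc,
        H46.nrm_le_nrm_cent _ (H3.HK2.norm_CU h.sr hn hc)⟩
    have cz := C.card_A
    rw [Nat.card_eq_fintype_card (α := K)] at cz
    have k1 : 1 < Fintype.card K := Fintype.one_lt_card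
    rcases zeta_cases C r ht (nz a ht.1.1) (nz b ht.1.2) with e | e
    · have : centralizer {sl2h x' y' (-1)} = ⊤ := eq_top_iff.2 fun g _ => by
        rw [mem_centralizer_singleton_iff, e, mul_one, one_mul]
      rw [this, inf_top_eq] at c2
      rw [← c2, c1] at cz
      exact absurd cz (Nat.ne_of_gt (by
        conv_lhs => rw [← pow_one (Fintype.card K)]
        exact Nat.pow_lt_pow_right k1 (by norm_num)))
    · refine ⟨?_, fun e' => ?_⟩
      · rw [lx_eq h hab hX, ← e]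
        exact SetLike.le_def.1 (sup_le_sup inf_le_left inf_le_left)
          (C.h_mem (neg_ne_zero.2 one_ne_zero))
      · rw [← e, c2] at e'
        rw [e', card_bot] at cz
        omega
  · have e := D.uniq _ ((mem_normalizer_iff.1 (H72.HKS.lx_norm h hn) w).1 D.mem)
      (mul_mem (mul_mem ht.1 D.st) (inv_mem ht.1)) (by rw [H46.orderOf_conj, D.ord])
    rcases r1_cases r hab ht D.st (sq_of_ord2 D.ord) (mul_inv_eq_iff_eq_mul.1 e).symm with e | e
    · exact absurd e (ne_of_ord2 D.ord)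
    · subst e
      refine ⟨D.mem, fun e' => ?_⟩
      obtain ⟨f, hf⟩ := D.pow
      have := D.cardw
      rw [e', card_bot, hf, eq_comm, Nat.pow_eq_one] at this
      omega

theorem semireg (k3 : Kit3.{u}) {l u : G} (hl : l ∈ LX U {t} ⊓ St G a b) (hu : u ∈ U a)
    (lu : l * u = u * l) : l = 1 ∨ u = 1 := by
  by_contra hc
  rw [not_or] at hc
  obtain ⟨c, c0, rfl⟩ := P.cx.st (P.lx ▸ hl.1) hl.2
  have pm : c * c ≠ 1 := fun e => hc.1 (by
    rcases mul_self_eq_one_iff.1 e with rfl | rfl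
    exacts [P.ld.rel.h_one, P.zeta])
  have hX : {sl2h x y c} ⊆ (St G a b : Set G) := Set.singleton_subset_iff.2 hl.2
  have hn : t ∈ normalizer ({sl2h x y c} : Set G) :=
    centralizer_le_normalizer _ (mem_centralizer_singleton_iff.2 (comm hl.1).symm)
  have hb : CU U {sl2h x y c} a ⊓ centralizer {t} = ⊥ := eq_bot_iff.2 fun w hw => by
    obtain ⟨e, rfl⟩ := (P.ld.rx w).1 ⟨hw.1.1, hw.2⟩
    have e1 := h_x P.ld.rel c0 e
    rw [← mem_centralizer_singleton_iff.1 hw.1.2, mul_inv_cancel_right] at e1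
    have e2 : (c * c - 1) * e = 0 := by linear_combination (P.ld.inj e1).symm
    rw [(mul_eq_zero.1 e2).resolve_left (sub_ne_zero.2 pm), P.ld.rel.x_zero]
    exact one_mem _
  have hne : CU U {sl2h x y c} a ≠ ⊥ := fun e =>
    hc.2 (mem_bot.1 (e ▸ ⟨hu, mem_centralizer_singleton_iff.2 lu.symm⟩))
  rcases P.co.loc _ a b P.ne hX ⟨_, rfl, hc.1⟩ hne with ⟨h7, E, D⟩ | ⟨K, _, _, x', y', L⟩ | h
  · have := (k3.an P.co.toRg P.ne hX D t hn).2 P.iv.1 (fun c _ => by rw [P.tt, one_smul]) 1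
      (by rw [hb, card_bot])
    omega
  · have C : Cx U x' y' _ _ a b := ⟨P.co.toRg.sr, P.ne, inf_le_left, inf_le_left, L⟩
    have nA := H3.HK2.norm_CU P.co.toRg.sr hn P.iv.1.1
    have nB := H3.HK2.norm_CU P.co.toRg.sr hn P.iv.1.2
    have fp : ∀ w ∈ CU U {sl2h x y c} a, t * w = w * t → w = 1 := fun w hw e =>
      mem_bot.1 (hb ▸ ⟨hw, mem_centralizer_singleton_iff.2 e.symm⟩)
    have z : sl2h x' y' (-1) = 1 := (zeta_cases C P.r1 P.iv nA nB).resolve_right fun e =>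
      one_ne_zero (L.inj ((fp _ (C.xA 1) (e ▸ (C.zeta (mem_sup_left (C.xA 1))).symm)).trans
        L.rel.x_zero.symm))
    obtain ⟨m, σ, -, s1, -, s2, -⟩ := C.semi P.iv.1 nA nB
    have e1 := (s1 1).symm.trans (inv_of_fpf nA P.tt fp (C.xA 1))
    rw [← x_neg L.rel] at e1
    have nn : sl2n x' y' 1 * sl2n x' y' 1 = 1 := by rw [L.rel.n_one_sq, z]
    have e2 := s2 1 one_ne_zero
    rw [L.inj e1, L.rel.n_neg, inv_eq_of_mul_eq_one_right nn, mul_inv_eq_iff_eq_mul] at e2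
    have e3 : sl2n x' y' 1 * sl2h x y c = sl2h x y c * sl2n x' y' 1 :=
      mem_centralizer_singleton_iff.1 (H72.HKS.lx_le
        (lx_eq P.co.toRg P.ne hX ▸ C.n_mem one_ne_zero))
    obtain ⟨d, d0, e⟩ := P.swap_form nn e2.symm (L.sw 1 one_ne_zero)
    have e4 : sl2n x y d * sl2h x y c = sl2h x y c * sl2n x y d := by
      rcases e with e | e
      · rwa [e] at e3
      · rw [e, mul_assoc, ← comm hl.1, ← mul_assoc, ← mul_assoc] at e3
        exact mul_right_cancel e3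
    have e5 := n_h P.ld.rel c0 d0
    rw [e4, mul_inv_cancel_right] at e5
    have e6 := P.ld.rel.h_mul' c0 c0
    nth_rewrite 1 [e5] at e6
    rw [P.ld.rel.h_mul' (inv_ne_zero c0) c0, inv_mul_cancel₀ c0, P.ld.rel.h_one] at e6
    rcases P.cx.pm_of_comm (mul_ne_zero c0 c0) (by rw [← e6, one_mul, mul_one]) with h | h
    exacts [pm h, P.nsq ⟨c, h.symm⟩]
  · exact (ur_mem P.co.toRg P.r1 P.ne P.iv hX hn h).2 hb

/-- An element of prime order in a dihedral subgroup of `C(t)` has order prime to `q`. -/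
theorem not_dvd {s z : G} {l : ℕ} (ss : s * s = 1) (st : s * t = t * s) (s1 : s ≠ 1) (s2 : s ≠ t)
    (vv : v * v = 1) (vt : v * t = t * v) (ho : Odd (orderOf (s * v))) (hz : z ∈ zpowers (s * v))
    (hl : l.Prime) (zl : orderOf z = l) : ¬ l ∣ Fintype.card F := fun hd => by
  have := P.co.t2.finite
  have m1 : ∀ {w : G}, w * w = 1 → w * t = t * w → ∃ m ∈ LX U {t}, w = m ∨ w = m * t :=
    fun {w} ww wt => (P.inv_form ww wt).elim (fun h => ⟨w, h, Or.inl rfl⟩)
      fun h => ⟨w * t, h, Or.inr (by rw [mul_assoc, P.tt, mul_one])⟩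
  have m2 : s * v ∈ LX U {t} := by
    refine H72.HKS.mem_of_odd ho (by rw [pow_orderOf_eq_one]; exact one_mem _) ?_
    obtain ⟨m, hm, e⟩ := m1 ss st
    obtain ⟨m', hm', e'⟩ := m1 vv vt
    have k := mul_mem (mul_mem hm hm') (mul_mem hm hm')
    have c1 : Commute t m := (comm hm).symm
    have c2 : Commute t m' := (comm hm').symm
    have c3 : Commute t (m * m') := c1.mul_right c2
    have k2 : m * m' * t * (m * m' * t) = m * m' * (m * m') := by
      rw [mul_assoc, ← mul_assoc t, c3.eq, mul_assoc (m * m') t, P.tt, mul_one]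
    rcases e with rfl | rfl <;> rcases e' with rfl | rfl
    · exact k
    · rwa [← mul_assoc s m' t, k2]
    · rwa [mul_assoc m t v, c2.eq, ← mul_assoc m v t, k2]
    · rwa [mul_assoc m t, ← mul_assoc t, c2.eq, mul_assoc m', P.tt, mul_one]
  have zL : z ∈ LX U {t} := zpowers_le.2 m2 hz
  have zp : z ^ l = 1 := zl ▸ pow_orderOf_eq_one z
  obtain ⟨c, c1, c2⟩ := fix_of_prime (S := Fx Ω {t}) (g := z) (Set.toFinite _) hl zp
    (fun c hc => H72.HKS.smul_mem_fx (H72.HKS.lx_le zL) hc) (by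
      rw [H72.HKS.fx_card P.co.toRg P.ne P.sub, P.card]
      exact fun h => hl.one_lt.ne' (Nat.dvd_one.1 ((Nat.dvd_add_right hd).1 h)))
  have si : s * z * s⁻¹ = z⁻¹ := inv_zpowers (by
    rw [← mul_assoc, ss, one_mul, mul_inv_rev, inv_eq_of_mul_eq_one_right vv]) hz
  have d2 : z • s • c = s • c := by
    rw [← inv_smul_eq_iff, smul_eq_iff_eq_inv_smul, inv_inv, eq_comm, ← inv_inv z, ← si,
      ← inv_smul_eq_iff, inv_inv, H89.K.conj_smul_eq, c2]
  obtain ⟨g, hg, g1, g2⟩ := H72.HKS.lx_two P.co.toRg P.ne P.sub P.cu_ne c c1 (s • c)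
    (H72.HKS.smul_mem_fx (mem_centralizer_singleton_iff.2 st) c1) (P.nofix ss st s1 s2 c1).symm
  obtain ⟨e, e0, he⟩ := P.cx.st (g := g⁻¹ * z * g)
    (P.lx ▸ mul_mem (mul_mem (inv_mem hg) zL) hg)
    (mem_St.2 ⟨by rw [mul_smul, mul_smul, g1, c2, inv_smul_eq_iff, g1],
      by rw [mul_smul, mul_smul, g2, d2, inv_smul_eq_iff, g2]⟩)
  have hp : ∀ n : ℕ, sl2h x y e ^ n = sl2h x y (e ^ n) := fun n => by
    induction n with
    | zero => rw [pow_zero, pow_zero, P.ld.rel.h_one]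
    | succ n ih => rw [pow_succ, ih, P.ld.rel.h_mul' (pow_ne_zero n e0) e0, pow_succ]
  have h1 : l ∣ Fintype.card F - 1 := by
    rw [← zl, ← H46.orderOf_conj g⁻¹, inv_inv, he, orderOf_dvd_iff_pow_eq_one, hp,
      FiniteField.pow_card_sub_one_eq_one e e0, P.ld.rel.h_one]
  exact hl.one_lt.ne' (Nat.dvd_one.1 ((Nat.dvd_sub_iff_right Fintype.card_pos hd).1 h1))

theorem strict (h1 : H89.K.One G) (hw : w ∈ Jsw t a b) (wt : w * t = t * w) (hv : Iv v a b)
    (vt : v ≠ t) (vw : v * w = w * v) :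
    (Jsw t a b).ncard < (Jst t a b).ncard * (Fintype.card F - 1) := by
  classical
  have := Fintype.ofFinite G
  obtain ⟨c1, -⟩ := H72.HKS.cnt P.co.toRg P.ne P.iv.1 P.iv.2 P.cu_ne rfl
  have fl : ∀ (A : Set G) (p : G → Prop), (A.toFinset.filter p).card = {x ∈ A | p x}.ncard :=
    fun A p => by rw [← Set.ncard_coe_finset]; congr 1; ext x; simp
  have c6 : ∀ s ∈ Jst t a b, {w ∈ Jsw t a b | s * w = w * s}.ncard = Fintype.card F - 1 :=
      fun s hs => by
    obtain ⟨g, hg, rfl⟩ := c1 s hs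
    have k : ∀ g ∈ St G a b, ∀ w ∈ Jsw t a b, g * w * g⁻¹ ∈ Jsw t a b := fun g hg w hw =>
      ⟨hw.1.trans (isConj_iff.2 ⟨g, rfl⟩),
        by simpa only [mem_St.1 hg] using (H89.K.conj_smul_eq (g := g)).2 hw.2.1,
        by simpa only [mem_St.1 hg] using (H89.K.conj_smul_eq (g := g)).2 hw.2.2⟩
    rw [← P.beta h1,
      ← Set.ncard_image_of_injective {w ∈ Jsw t a b | w * t = t * w} (MulAut.conj g).injective]
    congr 1
    refine Set.ext fun w => ⟨fun hw => ⟨g⁻¹ * w * g⁻¹⁻¹, ⟨k _ (inv_mem hg) w hw.1, ?_⟩,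
      by simp [mul_assoc]⟩, ?_⟩
    · calc _ = g⁻¹ * (w * (g * t * g⁻¹)) * g := by group
        _ = _ := by rw [← hw.2]; group
    · rintro ⟨w, hw, rfl⟩
      exact ⟨k g hg w hw.1, by rw [MulAut.conj_apply, conj_mul, conj_mul, hw.2]⟩
  have e := Finset.sum_card_bipartiteAbove_eq_sum_card_bipartiteBelow
    (s := (Jst t a b).toFinset) (t := (Jsw t a b).toFinset) (fun s w : G => s * w = w * s)
  replace e := (Finset.sum_const_nat (m := Fintype.card F - 1) fun s hs =>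
    (fl _ _).trans (c6 s (Set.mem_toFinset.1 hs))).symm.trans e
  rw [Set.ncard_eq_toFinset_card', Set.ncard_eq_toFinset_card' (Jst t a b), e,
    Finset.card_eq_sum_ones]
  refine Finset.sum_lt_sum (fun u hu => ?_) ⟨w, Set.mem_toFinset.2 hw, ?_⟩
  · obtain ⟨u1, u2⟩ := Set.mem_toFinset.1 hu
    obtain ⟨g, rfl⟩ := isConj_iff.1 u1
    obtain ⟨k, k1, k2, -⟩ := exists_mid P.r1 P.ne P.iv
      (by rw [conj_mul, P.tt, mul_one, mul_inv_cancel]) u2
    exact Finset.card_pos.2 ⟨_, (Finset.mem_bipartiteBelow _).2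
      ⟨Set.mem_toFinset.2 ⟨h1 _ _ P.iv.2 k1.2, k1.1⟩, k2⟩⟩
  · exact Finset.one_lt_card.2 ⟨t, (Finset.mem_bipartiteBelow _).2
      ⟨Set.mem_toFinset.2 ⟨IsConj.refl t, P.iv.1⟩, wt.symm⟩, v, (Finset.mem_bipartiteBelow _).2
      ⟨Set.mem_toFinset.2 ⟨h1 _ _ P.iv.2 hv.2, hv.1⟩, vw⟩, vt.symm⟩

theorem count (k3 : Kit3.{u}) (h1 : H89.K.One G) (h4 : ¬ 4 ∣ Nat.card (St G a b)) :
    ∃ j, 0 < j ∧ Nat.card (U a) = Fintype.card F * (2 * (Fintype.card F - 1) * j + 1) ∧
      (Jsw t a b).ncard * (Fintype.card F + 1) =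
        (Jst t a b).ncard * (2 * (Fintype.card F - 1) * j) := by
  obtain ⟨-, c2, c3, -⟩ := H72.HKS.cnt P.co.toRg P.ne P.iv.1 P.iv.2 P.cu_ne P.card
  obtain ⟨i, hi⟩ : Fintype.card F ∣ Nat.card (U a) := P.card ▸ card_dvd_of_le inf_le_left
  obtain ⟨-, -, s3, -⟩ := k3.sy1 P.co.toRg P.ne P.sub P.ld
  have s4 := s3 P.zeta
  have d1 := H46.Semiregular.dvd_pred (K := U a) (H := LX U {t} ⊓ St G a b)
    (fun l hl l1 => eq_bot_iff.2 fun u hu => mem_bot.2 ((P.semireg k3 hl hu.1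
      (mem_centralizer_singleton_iff.1 hu.2).symm).resolve_left l1))
    fun l hl => norm_U P.co.toSp hl.2.1
  have og : Odd (Jst t a b).ncard := by
    rw [← Nat.not_even_iff_odd]
    rintro ⟨m, hm⟩
    obtain ⟨n, hn⟩ : 2 ∣ Nat.card ↥(St G a b ⊓ centralizer {t}) := by
      rw [← P.iv.2]
      exact orderOf_dvd_natCard _ ⟨P.iv.1, mem_centralizer_singleton_iff.2 rfl⟩
    exact h4 ⟨m * n, by rw [← c2, hm, hn]; ring⟩
  have pos : 0 < (Jsw t a b).ncard := lt_of_lt_of_le (by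
    rw [P.beta h1]; have := P.mod; omega) (Set.ncard_le_ncard (Set.sep_subset _ _))
  have q4 := P.mod
  generalize Fintype.card F = q at *
  generalize Nat.card ↥(LX U {t} ⊓ St G a b) = τ at *
  obtain rfl : q = 2 * τ + 1 := by omega
  have i0 : i ≠ 0 := fun e => Nat.card_pos.ne' (by rw [hi, e, mul_zero])
  obtain ⟨i, rfl⟩ := Nat.exists_eq_succ_of_ne_zero i0
  have c4 : (Jsw t a b).ncard * (2 * τ + 1 + 1) = (Jst t a b).ncard * i := by
    refine Nat.eq_of_mul_eq_mul_left (show 0 < 2 * τ + 1 by omega) ?_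
    rw [hi, Nat.mul_succ _ i, Nat.add_sub_cancel] at c3
    linear_combination c3
  have d2 : τ ∣ i := by
    rw [hi, show (2 * τ + 1) * (i + 1) - 1 = τ * (2 * (i + 1)) + i by
      rw [Nat.sub_eq_iff_eq_add (Nat.mul_pos (by omega) (by omega))]; ring] at d1
    exact (Nat.dvd_add_right (dvd_mul_right _ _)).1 d1
  have d3 : 4 ∣ i := (Nat.Coprime.pow_left 2 (Nat.coprime_two_left.2 og)).dvd_of_dvd_mul_left
    (c4 ▸ Dvd.dvd.mul_left (by omega) _)
  obtain ⟨j, hj⟩ := Nat.Coprime.mul_dvd_of_dvd_of_dvd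
    (Nat.Coprime.pow_left 2 (Nat.coprime_two_left.2 (Nat.odd_iff.2 (by omega)))) d3 d2
  have e : 2 * (2 * τ + 1 - 1) * j = i := by rw [hj, Nat.add_sub_cancel]; ring
  refine ⟨j, Nat.pos_of_ne_zero ?_, by rw [e, hi], by rw [e, c4]⟩
  rintro rfl
  rw [hj, mul_zero, mul_zero] at c4
  exact absurd c4 (Nat.mul_pos pos (by omega)).ne'

theorem uniq (k3 : Kit3.{u}) (h1 : H89.K.One G) (h4 : ¬ 4 ∣ Nat.card (St G a b))
    (h3 : 3 < Fintype.card F) (hv : Iv v a b) : v = t := by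
  by_contra vt
  have n0 := P.nn one_ne_zero
  have n1 := P.ld.sw 1 one_ne_zero
  have n2 := comm (P.n_lx one_ne_zero)
  obtain ⟨w, s, ww, hw, wt, hs, st, sw⟩ : ∃ w s : G, w * w = 1 ∧ Sw w a b ∧ w * t = t * w ∧
      Iv s a b ∧ s ≠ t ∧ s * w = w * s := by
    obtain ⟨k, k1, k2, k3, k4⟩ := exists_mid P.r1 P.ne hv n0 n1
    by_cases e : (v * (sl2n x y 1 * v * sl2n x y 1)) ^ k * v = t
    · refine ⟨sl2n x y 1 * t, v, ?_, ⟨by rw [mul_smul, P.iv.1.1, n1.1],
        by rw [mul_smul, P.iv.1.2, n1.2]⟩, by rw [n2, mul_assoc, n2], hv, vt, ?_⟩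
      · rw [mul_assoc, ← mul_assoc t, ← n2, mul_assoc, P.tt, mul_one, n0]
      · have k5 := k4 t e.symm
        generalize v * (sl2n x y 1 * v * sl2n x y 1) = z at k3 k5 e
        have c1 : Commute (sl2n x y 1 * t) z := by
          rw [Commute, SemiconjBy, ← mul_inv_eq_iff_eq_mul]
          calc _ = sl2n x y 1 * (t * z * t⁻¹) * (sl2n x y 1)⁻¹ := by group
            _ = _ := by rw [k5, ← conj_inv, k3, inv_inv]
        have c2 : Commute (sl2n x y 1 * t) t := Commute.mul_left n2 (Commute.refl t)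
        rw [eq_inv_mul_of_mul_eq e]
        exact ((c1.pow_right k).inv_right.mul_right c2).symm
    · exact ⟨_, _, n0, n1, n2, k1, e, k2⟩
  have w1 : w ≠ 1 := fun e => P.ne (by rw [← hw.1, e, one_smul])
  have w2 : t ≠ w := fun e => P.ne (by rw [← hw.1, ← e, P.iv.1.1])
  have cw := h1 _ _ P.iv.2 (ord2 w1 ww)
  have lt := P.strict h1 ⟨cw, hw⟩ wt hs st sw
  obtain ⟨j, j0, hN, hb⟩ := P.count k3 h1 h4
  have ss := sq_of_ord2 hs.2
  have oo := odd_prod P.r1 P.ne P.iv hs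
  have o1 : orderOf (t * s) ≠ 1 := fun e => st (by
    rw [orderOf_eq_one_iff] at e
    exact mul_left_cancel (e.trans P.tt.symm))
  obtain ⟨l, hl, dl⟩ := Nat.exists_prime_and_dvd o1
  obtain ⟨z, hz, zl⟩ : ∃ z ∈ zpowers (t * s), orderOf z = l :=
    ⟨_, pow_mem (mem_zpowers _) _, orderOf_pow_orderOf_div (orderOf_pos _).ne' dl⟩
  have l2 : l ≠ 2 := by rintro rfl; exact (Nat.not_even_iff_odd.2 oo) (even_iff_two_dvd.2 dl)
  have tz : t * z * t⁻¹ = z⁻¹ := inv_zpowers (by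
    rw [← mul_assoc, P.tt, one_mul, mul_inv_rev, inv_eq_of_mul_eq_one_right ss]) hz
  have zH : z ∈ St G a b := zpowers_le.2 (mul_mem P.iv.1 hs.1) hz
  have nd : ¬ l ∣ Fintype.card F := by
    obtain ⟨g, rfl⟩ := isConj_iff.1 cw
    have cc : ∀ {u : G}, u * (g * t * g⁻¹) = g * t * g⁻¹ * u →
        g⁻¹ * u * g⁻¹⁻¹ * t = t * (g⁻¹ * u * g⁻¹⁻¹) := fun {u} e => by
      calc _ = g⁻¹ * (u * (g * t * g⁻¹)) * g := by group
        _ = _ := by rw [e]; group
    refine P.not_dvd (s := g⁻¹ * t * g⁻¹⁻¹) (v := g⁻¹ * s * g⁻¹⁻¹) (z := g⁻¹ * z * g⁻¹⁻¹)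
      (by rw [conj_mul, P.tt, mul_one, mul_inv_cancel]) (cc wt.symm)
      (fun e => ne_of_ord2 P.iv.2 (conj_eq_one_iff.1 e))
      (fun e => w2 (by nth_rewrite 2 [← e]; group))
      (by rw [conj_mul, ss, mul_one, mul_inv_cancel]) (cc sw)
      (by rwa [conj_mul, H46.orderOf_conj]) ?_ hl (by rw [H46.orderOf_conj, zl])
    obtain ⟨i, rfl⟩ := mem_zpowers_iff.1 hz
    rw [conj_mul, ← conj_zpow]
    exact zpow_mem (mem_zpowers _) i
  have fw := fw_dih (P.co.nil a) (P.co.odd a) (norm_U P.co.toSp P.iv.1.1) (norm_U P.co.toSp zH.1)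
    P.iv.2 hl l2 zl tz (P.card ▸ nd)
  have hX : {z, z⁻¹} ⊆ (St G a b : Set G) := Set.pair_subset zH (inv_mem zH)
  have hX' : {t, z, z⁻¹} ⊆ (St G a b : Set G) := Set.insert_subset P.iv.1 hX
  have hn : t ∈ normalizer ({z, z⁻¹} : Set G) := mem_normalizer_fintype (by
    rintro n (rfl | rfl)
    · exact Or.inr tz
    · exact Or.inl (by rw [← conj_inv, tz, inv_inv]))
  have z1 : z ≠ 1 := fun e => hl.one_lt.ne' (by rw [← zl, e, orderOf_one])
  have ec : CU U {z, z⁻¹} a ⊓ centralizer {t} = CU U {t, z, z⁻¹} a := by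
    ext u
    simp only [mem_inf, mem_centralizer_iff, Set.mem_insert_iff, Set.mem_singleton_iff,
      forall_eq_or_imp, forall_eq]
    tauto
  have ro : Odd (Nat.card (CU U {t, z, z⁻¹} a)) :=
    (P.co.odd a).of_dvd_nat (card_dvd_of_le inf_le_left)
  have fx := H72.HKS.fx_card P.co.toRg P.ne hX'
  have key : Nat.card (CU U {z, z⁻¹} a) ≤ Nat.card (CU U {t, z, z⁻¹} a) ^ 2 ∨
      (3 ≤ Nat.card (CU U {t, z, z⁻¹} a) ∧ Nat.card (CU U {z, z⁻¹} a) =
        Nat.card (CU U {t, z, z⁻¹} a) * (Nat.card (CU U {t, z, z⁻¹} a) + 2)) ∨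
      (Nat.card (CU U {t, z, z⁻¹} a) = 1 ∧ 1 < Nat.card (CU U {z, z⁻¹} a)) := by
    by_cases hne : CU U {z, z⁻¹} a = ⊥
    · exact Or.inl (by rw [hne, card_bot]; exact Nat.one_le_pow _ _ Nat.card_pos)
    rcases P.co.loc _ a b P.ne hX ⟨z, Or.inl rfl, z1⟩ hne with
      ⟨h7, E, D⟩ | ⟨K, _, _, x', y', L⟩ | h
    · rcases (k3.an P.co.toRg P.ne hX D t hn).2 P.iv.1 (fun c _ => by rw [P.tt, one_smul]) _
        (by rw [ec]) with e | e
      · exact Or.inl (by rw [e]; exact Nat.le_self_pow two_ne_zero _)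
      · refine Or.inr (Or.inl ⟨?_, e⟩)
        obtain ⟨n, hn⟩ := ro
        rcases n with _ | n
        · rw [hn] at e; omega
        · omega
    · have C : Cx U x' y' _ _ a b := ⟨P.co.toRg.sr, P.ne, inf_le_left, inf_le_left, L⟩
      by_cases tr : Triv Ω {z, z⁻¹} t
      · refine Or.inl ?_
        rw [← ec, inf_eq_left.2 fun u hu => mem_centralizer_singleton_iff.2
          (H72.HKS.lx_comm P.co.toRg P.ne hX t tr u (H72.HKS.mem_lx (H3.HK2.fx_a hX) hu)).symm]
        exact Nat.le_self_pow two_ne_zero _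
      obtain ⟨d, φ, -, -, o⟩ := k3.out P.co.toRg P.ne hX L
      rcases o ⟨t, hn⟩ (fun c _ => by
        change (t * t) • c = c
        rw [P.tt, one_smul]) tr with ⟨-, -, r, r1, r2⟩ | ⟨-, r2, -⟩ | ⟨-, r2, -⟩
      · refine Or.inl ?_
        rw [C.card_A, Nat.card_eq_fintype_card, r1, Nat.add_right_cancel (r2.symm.trans fx)]
      · exact Or.inr (Or.inr ⟨Nat.add_right_cancel (fx.symm.trans r2),
          (one_lt_card_iff_ne_bot _).2 hne⟩)
      · exact absurd (r2 ▸ H3.HK2.fx_a hX') (Set.notMem_empty a)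
    · have e := H72.HKS.lx_le (ur_mem P.co.toRg P.r1 P.ne P.iv hX hn h).1 z (Or.inl rfl)
      rw [← e, mul_inv_cancel_right] at tz
      have : l ∣ 2 := zl ▸ orderOf_dvd_of_pow_eq_one (by
        rw [sq]; nth_rewrite 1 [tz]; exact inv_mul_cancel z)
      exact absurd ((Nat.prime_dvd_prime_iff_eq hl Nat.prime_two).1 this) l2
  have rp : 0 < Nat.card (CU U {t, z, z⁻¹} a) := Nat.card_pos
  change Nat.card (CU U {t, z, z⁻¹} a) ^ 2 * _ = Nat.card (CU U {t} a) ^ 2 *
    Nat.card (CU U {z, z⁻¹} a) at fw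
  rw [P.card, hN] at fw
  generalize Nat.card (CU U {t, z, z⁻¹} a) = r at *
  generalize Nat.card (CU U {z, z⁻¹} a) = m at *
  generalize Fintype.card F = q at *
  exact ps_num h3 j0 rp fw hb lt key

end PS

theorem jobPSb (k3 : Kit3.{u}) : JobPSb.{u} := by
  intro G Ω _ _ _ U a b t h r hab ht ⟨F, _, _, x, y, L⟩ h3 ns h1 h8 h4 _
  have c : Nat.card (CU U {t} a) = Fintype.card F := by
    rw [(Cx.mk h.toRg.sr hab inf_le_left inf_le_left L).card_A, Nat.card_eq_fintype_card]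
  have P : PS U a b t x y := ⟨h.toCore, r, hab, ht, L, ns, by omega⟩
  have hu : ∀ v, Iv v a b → v = t := fun v hv => P.uniq k3 h1 h4 (c ▸ h3) hv
  refine ⟨hu, ?_, fun l hl u hu => P.semireg k3 hl hu⟩
  obtain ⟨j, j0, hN, hb⟩ := P.count k3 h1 h4
  have e1 : Jst t a b = {t} := Set.eq_singleton_iff_unique_mem.2 ⟨⟨IsConj.refl t, ht.1⟩,
    fun v hv => hu v ⟨hv.2, by
      obtain ⟨g, rfl⟩ := isConj_iff.1 hv.1
      rw [H46.orderOf_conj, ht.2]⟩⟩
  have e2 : {w ∈ Jsw t a b | w * t = t * w} = Jsw t a b := Set.sep_eq_self_iff_mem_true.2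
    fun w hw => mul_inv_eq_iff_eq_mul.1 (hu _ ⟨swap_conj_mem hw.2.1 hw.2.2 ht.1,
      by rw [H46.orderOf_conj, ht.2]⟩)
  rw [← e2, P.beta h1, e1, Set.ncard_singleton, one_mul] at hb
  rw [hN, ← hb, c]
  obtain ⟨n, hn⟩ : ∃ n, Fintype.card F = n + 1 := ⟨_, (Nat.succ_pred_eq_of_pos Fintype.card_pos).symm⟩
  rw [hn, Nat.add_sub_cancel]; ring

end H61.Hk
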