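import Cfsg.Agent.H41.LDSpec
import Cfsg.Agent.H22.Weights
import Cfsg.Agent.H18.L2Act
import Cfsg.Agent.H61.PSLOdd
import Cfsg.Agent.H61.HkPSb

/-! Tower LD5, job L2: five-dimensional representations of `L₂(r)` have real traces. -/

set_option autoImplicit false

namespace H61.LD

open Matrix Cfsg Cfsg.Geo H19 H41.LD H22 MulAction
open scoped MatrixGroups

universe u

/-- The weight lemma: elements normalising an abelian subgroup `Q` whose quotients act without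
fixed points on `Q` give distinct non-trivial weights. -/
theorem card_le_dim {Γ K ι : Type*} [Group Γ] [Finite Γ] [Field K] [IsAlgClosed K] [Fintype ι]
    {n : ℕ} (ρ : Γ →* GL (Fin n) K) (Q : Subgroup Γ) (τ : ι → Γ)
    (hc : ∀ a ∈ Q, ∀ b ∈ Q, a * b = b * a) {m : ℕ} (hm : (m : K) ≠ 0) (hp : ∀ a ∈ Q, a ^ m = 1)
    (hne : ∃ a ∈ Q, ρ a ≠ 1) (hn : ∀ i, τ i ∈ Subgroup.normalizer (Q : Set Γ))
    (fpf : ∀ i j, i ≠ j → ∀ a ∈ Q, (τ i)⁻¹ * τ j * a = a * ((τ i)⁻¹ * τ j) → a = 1) :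
    Fintype.card ι ≤ n := by
  let R : Γ →* Module.End K (Fin n → K) :=
    (Matrix.toLinAlgEquiv' (n := Fin n) (R := K)).toMulEquiv.toMonoidHom.comp
      ((Units.coeHom _).comp ρ)
  let f : Q → Module.End K (Fin n → K) := fun a => R a
  obtain ⟨χ, v, hv, v0, a₀, h0⟩ : ∃ χ v, v ∈ wt f χ ∧ v ≠ 0 ∧ ∃ a, χ a ≠ 1 := by
    by_contra hh
    push Not at hh
    obtain ⟨a, ha, h1⟩ := hne
    refine h1 (Units.ext ((Matrix.toLinAlgEquiv' (n := Fin n) (R := K)).injective ?_))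
    rw [Units.val_one, map_one]
    refine ext_of_wt f (fun s t => ?_) (fun s => ⟨m, hm, ?_⟩) (f ⟨a, ha⟩) 1 fun χ v hv => ?_
    · change R s * R t = R t * R s
      rw [← map_mul, ← map_mul, hc _ s.2 _ t.2]
    · change R s ^ m = 1
      rw [← map_pow, hp _ s.2, map_one]
    · by_cases v0 : v = 0
      · rw [v0, map_zero, map_zero]
      · rw [hv, hh χ v hv v0, one_smul]; rfl
  have mul : ∀ a b, χ (a * b) = χ a * χ b := fun a b => smul_left_injective K v0 (by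
    change χ (a * b) • v = (χ a * χ b) • v
    rw [← hv, mul_comm (χ a), mul_smul, ← hv a, ← map_smul, ← hv b]
    change R (a * b) v = _
    rw [map_mul]; rfl)
  let c : ∀ {σ : Γ}, σ ∈ Subgroup.normalizer (Q : Set Γ) → Q →* Q := fun {σ} hσ =>
    MonoidHom.mk' (fun a => ⟨σ⁻¹ * a * σ⁻¹⁻¹, (Subgroup.mem_normalizer_iff.1 (inv_mem hσ) _).1 a.2⟩)
      fun a b => Subtype.ext (by simp [mul_assoc])
  have li := linearIndependent_of_wt f (fun i a => χ (c (hn i) a)) (fun i j e => ?_)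
    (fun i => R (τ i) v) (fun i a => ?_) fun i e => v0 ?_
  · simpa using li.fintype_card_le_finrank
  · by_contra hij
    have hσ := mul_mem (inv_mem (hn i)) (hn j)
    have h1 : MonoidHom.FixedPointFree (c hσ) := fun a ha => Subtype.ext (fpf i j hij a a.2 (by
      have : ((τ i)⁻¹ * τ j)⁻¹ * a * ((τ i)⁻¹ * τ j)⁻¹⁻¹ = a := congrArg Subtype.val ha
      rw [inv_inv, mul_assoc, inv_mul_eq_iff_eq_mul] at this
      exact this.symm))
    obtain ⟨b, rfl⟩ := h1.commutatorMap_surjective a₀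
    have e1 := congrFun e (c (inv_mem (hn i)) b)
    have e2 : c (hn i) (c (inv_mem (hn i)) b) = b := Subtype.ext (by simp [c, mul_assoc])
    have e3 : c (hn j) (c (inv_mem (hn i)) b) = c hσ b := Subtype.ext (by simp [c, mul_assoc])
    simp only [e2, e3] at e1
    have e4 := mul (b / c hσ b) (c hσ b)
    rw [div_mul_cancel, ← e1] at e4
    have e5 : χ b ≠ 0 := fun e0 => v0 (by
      have := hv (b⁻¹ * b)
      rw [mul, e0, mul_zero, zero_smul, inv_mul_cancel] at this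
      rw [← this]
      change v = R 1 v
      rw [map_one]; rfl)
    exact h0 (mul_right_cancel₀ e5 (e4.symm.trans (one_mul _).symm))
  · rw [← map_smul, ← hv]
    change (R a * R (τ i)) v = (R (τ i) * R ((τ i)⁻¹ * a * (τ i)⁻¹⁻¹)) v
    rw [← map_mul, ← map_mul]
    congr 2
    group
  · have : (R (τ i)⁻¹ * R (τ i)) v = 0 := by rw [Module.End.mul_apply, e, map_zero]
    rwa [← map_mul, inv_mul_cancel, map_one] at this

theorem jobL2 : JobL2.{u} := by
  intro F _ _ p hp h4 ho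
  by_contra hc
  simp only [not_or] at hc
  refine hc.2.2 fun K _ _ _ ρ hρ => ?_
  have := Fact.mk hp
  obtain ⟨r, hr, hF⟩ := exists_char F
  obtain ⟨y, m⟩ := main_psl (F := F) r
  rintro _ ⟨g, rfl⟩
  have real : ∀ w : PSL(2, F), w * g * w⁻¹ = g⁻¹ → trc (ρ g)⁻¹ = trc (ρ g) := fun w e => by
    rw [← map_inv, ← e, map_mul, map_mul, map_inv, trc_conj]
  by_cases hg : g ^ r = 1
  swap
  · obtain ⟨w, -, e⟩ := H18.L2.real_of m hg
    exact real w e
  by_cases hpr : p = r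
  · subst hpr
    refine frobenius_inj K p ?_
    rw [frobenius_def, frobenius_def, ← trc_pow_char, ← trc_pow_char, inv_pow, ← map_pow, hg,
      map_one, inv_one]
  by_cases g1 : g = 1
  · rw [g1, map_one, inv_one]
  obtain ⟨e, e0, hq⟩ := m.exists_pow
  rw [Nat.card_eq_fintype_card] at hq
  have hd : r ∣ Fintype.card F := hq ▸ dvd_pow_self _ e0.ne'
  have hO : Odd (Fintype.card F) := ho.elim id fun e2 =>
    hq ▸ (hr.out.odd_of_ne_two fun e3 => hpr (e2.trans e3.symm)).pow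
  obtain ⟨x, hx⟩ := (hur_psl F r).fix g
  have gQ : g ∈ (hur_psl F r).Q x := ⟨hx, hg⟩
  have hx' := m.mem_orbit_of_Q fun e => g1 (Subgroup.mem_bot.1 (e ▸ gQ))
  obtain ⟨b, hb, hbx⟩ := m.exists_ne_mem_orbit x
  have cT := m.card_tor_split hx' hb hbx.symm
  have nQ : ∀ τ ∈ tor PSL(2, F) x b, τ ∈ Subgroup.normalizer ((hur_psl F r).Q x : Set _) :=
    fun τ hτ => ((hur_psl F r).normalizer_Q (m.Q_ne_bot hx')).ge hτ.1
  have fpf : ∀ τ ∈ tor PSL(2, F) x b, τ ≠ 1 → ∀ a ∈ (hur_psl F r).Q x, τ * a = a * τ → a = 1 :=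
    fun τ hτ τ1 a ha e => by
      by_contra a1
      exact τ1 ((hur_psl F r).semi τ x b hbx.symm hτ.1 hτ.2
        ((hur_psl F r).mem_Q_of_commute ha a1 e).2)
  rw [Nat.card_eq_fintype_card (α := F), Nat.gcd_eq_left (by obtain ⟨k, hk⟩ := hO; omega)] at cT
  by_cases h2 : 2 ∣ Nat.card (tor PSL(2, F) x b)
  · have := Fact.mk Nat.prime_two
    obtain ⟨τ, hτ⟩ := exists_prime_orderOf_dvd_card' 2 h2
    rw [← Subgroup.orderOf_coe] at hτ
    exact real τ (Hk.inv_of_fpf (nQ _ τ.2) (H8.HK.sq_of_ord2 hτ)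
      (fpf _ τ.2 (H8.HK.ne_of_ord2 hτ)) gQ)
  exfalso
  have := Fintype.ofFinite (tor PSL(2, F) x b)
  have le := card_le_dim ρ ((hur_psl F r).Q x) (fun τ : tor PSL(2, F) x b => τ)
    (fun a ha b hb => (hur_psl F r).Q_comm ha hb) (m := r)
    (fun e => hpr ((Nat.prime_dvd_prime_iff_eq hp hr.out).1 ((CharP.cast_eq_zero_iff K p r).1 e)))
    (fun a ha => ha.2) ⟨g, gQ, fun e => g1 (hρ.inj (e.trans (map_one ρ).symm))⟩
    (fun τ => nQ _ τ.2) fun i j hij => fpf _ (mul_mem (inv_mem i.2) j.2)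
      fun e => hij (Subtype.ext (inv_mul_eq_one.1 e))
  rw [← Nat.card_eq_fintype_card] at le
  obtain ⟨k, hk⟩ := hO
  have h7 : Fintype.card F = 7 ∨ Fintype.card F = 11 := by omega
  rcases h7 with h | h
  · exact hc.1 ⟨h, fun e => hpr (e.trans ((Nat.prime_dvd_prime_iff_eq hr.out (by norm_num)).1
      (h ▸ hd)).symm)⟩
  · exact hc.2.1 ⟨h, fun e => hpr (e.trans ((Nat.prime_dvd_prime_iff_eq hr.out (by norm_num)).1
      (h ▸ hd)).symm)⟩

end H61.LD
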