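import Cfsg.Agent.H41.LDKit
import Cfsg.Agent.H42.OddOrder

/-! Job S2 of the tower LD5: two facts on finite subgroups of `GL₂`. -/

set_option autoImplicit false

open Cfsg Cfsg.Geo H19 H41.LD
open scoped Matrix MatrixGroups commutatorElement

namespace H61.LD.S2

universe u

variable {K : Type u} [Field K]

/-- The group `GL₂`. -/
abbrev G2 (K : Type u) [Field K] : Type u := GL (Fin 2) K

/-- The matrix of `g` in the basis `P`. -/
def mx (P g : G2 K) : Matrix (Fin 2) (Fin 2) K := (P⁻¹ * g * P).val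

theorem mx_mul (P g h : G2 K) : mx P (g * h) = mx P g * mx P h := by
  unfold mx
  rw [← Units.val_mul]
  congr 1
  group

theorem mx_det (P g : G2 K) : (mx P g).det = g.val.det := by
  unfold mx
  rw [Units.val_mul, Units.val_mul]
  exact Matrix.det_units_conj' P g.val

theorem mx_trace (P g : G2 K) : (mx P g).trace = g.val.trace := by
  unfold mx
  rw [Units.val_mul, Units.val_mul, Matrix.trace_mul_comm, ← mul_assoc, Units.mul_inv, one_mul]

theorem mx_det_ne (P g : G2 K) : mx P g 0 0 * mx P g 1 1 - mx P g 0 1 * mx P g 1 0 ≠ 0 := by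
  rw [← Matrix.det_fin_two, mx_det]
  exact Matrix.GeneralLinearGroup.det_ne_zero g

theorem mx_inj (P : G2 K) {g h : G2 K} (e : mx P g = mx P h) : g = h := by
  have : P⁻¹ * g * P = P⁻¹ * h * P := Units.ext e
  simpa using this

theorem scal_of_mx {P g : G2 K} (h1 : mx P g 0 1 = 0) (h2 : mx P g 1 0 = 0)
    (h3 : mx P g 0 0 = mx P g 1 1) : g ∈ scalars (Fin 2) K := by
  have hd := mx_det_ne P g
  have h0 : mx P g 0 0 ≠ 0 := fun h => hd (by rw [h, h1]; ring)
  have : P⁻¹ * g * P ∈ scalars (Fin 2) K := by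
    rw [mem_scalars_iff]
    refine ⟨Units.mk0 _ h0, ?_⟩
    change mx P g = _
    ext i j
    fin_cases i <;> fin_cases j <;> simp [h1, h2, h3]
  have h := (scalars_normal (ι := Fin 2) (F := K)).conj_mem _ this P
  simpa [mul_assoc] using h

/-- Cayley-Hamilton for trace zero and determinant one. -/
theorem sq_neg {g : G2 K} (hd : g.val.det = 1) (ht : g.val.trace = 0) : g ^ 2 = -1 := by
  rw [Matrix.det_fin_two] at hd
  rw [Matrix.trace_fin_two] at ht
  apply Units.ext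
  rw [pow_two, Units.val_mul, Units.val_neg, Units.val_one]
  ext i j
  fin_cases i <;> fin_cases j <;> simp [Matrix.mul_apply, Fin.sum_univ_two]
  · linear_combination (g.val 0 0) * ht - hd
  · linear_combination (g.val 0 1) * ht
  · linear_combination (g.val 1 0) * ht
  · linear_combination (g.val 1 1) * ht - hd

theorem scal_sl {g : G2 K} (hd : g.val.det = 1) (hs : g ∈ scalars (Fin 2) K) : g = 1 ∨ g = -1 := by
  obtain ⟨c, hc⟩ := (mem_scalars_iff g).1 hs
  rw [hc, Matrix.det_smul, Matrix.det_one, Fintype.card_fin, mul_one] at hd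
  have : (c : K) = 1 ∨ (c : K) = -1 := sq_eq_one_iff.1 hd
  rcases this with h | h
  · left; apply Units.ext; rw [hc, h]; simp
  · right; apply Units.ext; rw [hc, h]; simp

/-- The only involution of `SL₂` is `-1`. -/
theorem inv_sl (h2 : (2 : K) ≠ 0) {g : G2 K} (hd : g.val.det = 1) (hg : g * g = 1) :
    g = 1 ∨ g = -1 := by
  refine scal_sl hd ?_
  have e : g.val * g.val = 1 := by rw [← Units.val_mul, hg, Units.val_one]
  have e00 := congrFun (congrFun e 0) 0
  have e01 := congrFun (congrFun e 0) 1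
  have e10 := congrFun (congrFun e 1) 0
  have e11 := congrFun (congrFun e 1) 1
  simp [Matrix.mul_apply, Fin.sum_univ_two] at e00 e01 e10 e11
  rw [Matrix.det_fin_two] at hd
  have ht : g.val 0 0 + g.val 1 1 ≠ 0 := by
    intro h
    apply h2
    linear_combination (g.val 0 0) * h - e00 - hd
  have hb : g.val 0 1 = 0 := (mul_eq_zero.1 (by linear_combination e01)).resolve_right ht
  have hc : g.val 1 0 = 0 := (mul_eq_zero.1 (by linear_combination e10)).resolve_right ht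
  have ha : g.val 0 0 - g.val 1 1 = 0 :=
    (mul_eq_zero.1 (by linear_combination e00 - e11)).resolve_right ht
  refine scal_of_mx (P := 1) ?_ ?_ ?_ <;> simp [mx, hb, hc, sub_eq_zero.1 ha]

theorem neg_one_ne (h2 : (2 : K) ≠ 0) : (-1 : G2 K) ≠ 1 := by
  intro h
  have e : (-1 : G2 K).val = (1 : G2 K).val := by rw [h]
  have := congrFun (congrFun e 0) 0
  simp at this
  exact h2 (by linear_combination -this)

theorem comm_det (a b : G2 K) : (⁅a, b⁆ : G2 K).val.det = 1 := by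
  have : Matrix.GeneralLinearGroup.det (⁅a, b⁆ : G2 K) = 1 := by
    rw [map_commutatorElement, commutatorElement_eq_one_iff_mul_comm, mul_comm]
  exact congrArg Units.val this

/-- Elements whose commutator is scalar commute when there is no quaternion group. -/
theorem q8 (h2 : (2 : K) ≠ 0) {H : Subgroup (G2 K)} (hs : H ≤ specialLinear (Fin 2) K)
    (hq : NoQ8 H) {a b : G2 K} (ha : a ∈ H) (hb : b ∈ H) (h : ⁅a, b⁆ ∈ scalars (Fin 2) K) :
    Commute a b := by
  rcases scal_sl (comm_det a b) h with e | e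
  · exact commutatorElement_eq_one_iff_commute.1 e
  exfalso
  have e1 : a * b = -(b * a) := by
    have : a * b = ⁅a, b⁆ * (b * a) := by rw [commutatorElement_def]; group
    rw [this, e]; simp
  have tz : ∀ x y : G2 K, x * y = -(y * x) → y.val.trace = 0 := by
    intro x y e
    have e2 : x⁻¹⁻¹ * y * x⁻¹ = -y := by
      rw [inv_inv, e]; simp
    have := mx_trace x⁻¹ y
    unfold mx at this
    rw [e2, Units.val_neg, Matrix.trace_neg] at this
    exact (mul_eq_zero.1 (by linear_combination -this : (2 : K) * _ = 0)).resolve_left h2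
  have sa := sq_neg (mem_specialLinear.1 (hs ha)) (tz b a (by rw [e1]; simp))
  have sb := sq_neg (mem_specialLinear.1 (hs hb)) (tz a b e1)
  have sab := sq_neg (mem_specialLinear.1 (hs (H.mul_mem ha hb)))
    (tz a (a * b) (by rw [mul_assoc a b a, e1]; simp))
  exact neg_one_ne h2 (sa ▸ hq a ha b hb (by rw [sa, sb]) (by rw [sa, sab]))

/-- A solvable group has an invariant subgroup which is abelian modulo a normal subgroup. -/
theorem last_term {Γ : Type*} [Group Γ] (Z : Subgroup Γ) (n : ℕ) : ∀ H : Subgroup Γ,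
    (fun A : Subgroup Γ => ⁅A, A⁆)^[n] H ≤ Z → ¬ H ≤ Z → ∃ A ≤ H, ¬ A ≤ Z ∧ ⁅A, A⁆ ≤ Z ∧
      ∀ g : Γ, (∀ x ∈ H, g * x * g⁻¹ ∈ H) → ∀ x ∈ A, g * x * g⁻¹ ∈ A := by
  induction n with
  | zero => intro H h h'; exact absurd h h'
  | succ n ih =>
    intro H h h'
    by_cases hc : ⁅H, H⁆ ≤ Z
    · exact ⟨H, le_rfl, h', hc, fun _ h => h⟩
    obtain ⟨A, hA, h1, h2, h3⟩ := ih ⁅H, H⁆ h hc
    refine ⟨A, hA.trans (Subgroup.commutator_le_self H), h1, h2, fun g hg => h3 g fun x hx => ?_⟩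
    have hm : H.map (MulAut.conj g).toMonoidHom ≤ H := by
      rintro _ ⟨y, hy, rfl⟩
      exact hg y hy
    have : (⁅H, H⁆ : Subgroup Γ).map (MulAut.conj g).toMonoidHom ≤ ⁅H, H⁆ := by
      rw [Subgroup.map_commutator]
      exact Subgroup.commutator_mono hm hm
    exact this ⟨x, hx, rfl⟩

theorem iter_eq {Γ : Type*} [Group Γ] (H : Subgroup Γ) (n : ℕ) :
    (fun A : Subgroup Γ => ⁅A, A⁆)^[n] H = (derivedSeries H n).map H.subtype := by
  induction n with
  | zero => simp [← MonoidHom.range_eq_map]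
  | succ n ih => rw [Function.iterate_succ_apply', ih, derivedSeries_succ, Subgroup.map_commutator]

theorem core {H : Subgroup (G2 K)} (hs : Group.IsSolvable H)
    (hq : ∀ a ∈ H, ∀ b ∈ H, ⁅a, b⁆ ∈ scalars (Fin 2) K → Commute a b)
    (h : ¬ H ≤ scalars (Fin 2) K) : ∃ c ∈ H, c ∉ scalars (Fin 2) K ∧
      ∀ g : G2 K, (∀ x ∈ H, g * x * g⁻¹ ∈ H) → Commute c (g * c * g⁻¹) := by
  obtain ⟨n, hn⟩ := hs.solvable
  obtain ⟨A, hA, h1, h2, h3⟩ := last_term (scalars (Fin 2) K) n H (by rw [iter_eq, hn]; simp) h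
  obtain ⟨c, hc, hc'⟩ := SetLike.not_le_iff_exists.1 h1
  refine ⟨c, hA hc, hc', fun g hg => ?_⟩
  have := h3 g hg c hc
  exact hq _ (hA hc) _ (hA this) (h2 (Subgroup.commutator_mem_commutator hc this))

theorem mx_of {P g : G2 K} {C : Matrix (Fin 2) (Fin 2) K} (e : g.val * P.val = P.val * C) :
    mx P g = C := by
  unfold mx
  rw [Units.val_mul, Units.val_mul, mul_assoc, e, ← mul_assoc, Units.inv_mul, one_mul]

theorem mx_mul_left (P Q g : G2 K) : mx (P * Q) g = mx Q (P⁻¹ * g * P) := by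
  unfold mx
  congr 1
  group

theorem tri1 [IsAlgClosed K] (c : G2 K) : ∃ P : G2 K, mx P c 1 0 = 0 := by
  by_cases h : c.val 1 0 = 0
  · exact ⟨1, by simpa [mx] using h⟩
  obtain ⟨l, hl⟩ := IsAlgClosed.exists_pow_nat_eq
    ((c.val 0 0 - c.val 1 1) ^ 2 + 4 * c.val 0 1 * c.val 1 0) (n := 2) two_pos
  obtain ⟨v, hv⟩ : ∃ v : K, c.val 1 0 * v ^ 2 + (c.val 1 1 - c.val 0 0) * v - c.val 0 1 = 0 := by
    obtain ⟨v, hv⟩ := IsAlgClosed.exists_root
      (Polynomial.C (c.val 1 0) * Polynomial.X ^ 2 + Polynomial.C (c.val 1 1 - c.val 0 0) *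
        Polynomial.X + Polynomial.C (- c.val 0 1))
      (by rw [Polynomial.degree_quadratic h]; decide)
    refine ⟨v, ?_⟩
    simp at hv
    linear_combination hv
  refine ⟨Matrix.GeneralLinearGroup.mkOfDetNeZero !![v, -1; 1, 0] (by simp [Matrix.det_fin_two]), ?_⟩
  rw [mx_of (C := !![c.val 1 0 * v + c.val 1 1, - c.val 1 0; 0, c.val 0 0 - v * c.val 1 0])]
  · simp
  · ext i j
    fin_cases i <;> fin_cases j <;> simp [Matrix.mul_apply, Fin.sum_univ_two]
    · linear_combination -hv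
    · ring

/-- Triangular form. -/
theorem tri [IsAlgClosed K] (c : G2 K) :
    ∃ P : G2 K, mx P c 1 0 = 0 ∧ (mx P c 0 1 = 0 ∨ mx P c 0 0 = mx P c 1 1) := by
  obtain ⟨P, hP⟩ := tri1 c
  by_cases h : mx P c 0 0 = mx P c 1 1
  · exact ⟨P, hP, Or.inr h⟩
  have h' : mx P c 1 1 - mx P c 0 0 ≠ 0 := fun e => h (sub_eq_zero.1 e).symm
  refine ⟨P * Matrix.GeneralLinearGroup.mkOfDetNeZero
    !![1, mx P c 0 1 / (mx P c 1 1 - mx P c 0 0); 0, 1] (by simp [Matrix.det_fin_two]), ?_⟩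
  rw [mx_mul_left, mx_of (C := !![mx P c 0 0, 0; 0, mx P c 1 1])]
  · simp
  · change mx P c * _ = _
    ext i j
    fin_cases i <;> fin_cases j <;> simp [Matrix.mul_apply, Fin.sum_univ_two, hP]
    field_simp
    ring

theorem ent {A B : Matrix (Fin 2) (Fin 2) K} (i j : Fin 2) :
    (A * B) i j = A i 0 * B 0 j + A i 1 * B 1 j := by
  simp [Matrix.mul_apply, Fin.sum_univ_two]

theorem comm_diag {P c d : G2 K} (h1 : mx P c 1 0 = 0) (h2 : mx P c 0 1 = 0)
    (h3 : mx P c 0 0 ≠ mx P c 1 1) (h : Commute c d) : mx P d 1 0 = 0 ∧ mx P d 0 1 = 0 := by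
  have e : mx P c * mx P d = mx P d * mx P c := by rw [← mx_mul, ← mx_mul, h.eq]
  have e1 := congrFun (congrFun e 1) 0
  have e2 := congrFun (congrFun e 0) 1
  rw [ent, ent, h1] at e1
  rw [ent, ent, h2] at e2
  have h' := sub_ne_zero.2 h3
  exact ⟨(mul_eq_zero.1 (by linear_combination -e1)).resolve_right h',
    (mul_eq_zero.1 (by linear_combination e2)).resolve_right h'⟩

theorem lineA {P c g : G2 K} (h1 : mx P c 1 0 = 0) (h2 : mx P c 0 1 = 0)
    (h3 : mx P c 0 0 ≠ mx P c 1 1) (h : Commute c (g * c * g⁻¹)) :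
    (mx P g 1 0 = 0 ∧ mx P g 0 1 = 0) ∨ (mx P g 0 0 = 0 ∧ mx P g 1 1 = 0) := by
  obtain ⟨d1, d2⟩ := comm_diag h1 h2 h3 h
  have e : mx P (g * c * g⁻¹) * mx P g = mx P g * mx P c := by
    rw [← mx_mul, ← mx_mul]; congr 1; group
  have e00 := congrFun (congrFun e 0) 0
  have e01 := congrFun (congrFun e 0) 1
  have e10 := congrFun (congrFun e 1) 0
  have e11 := congrFun (congrFun e 1) 1
  simp only [ent, h1, h2, d1, d2] at e00 e01 e10 e11
  have hd := mx_det_ne P g
  have h' := sub_ne_zero.2 h3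
  have k0 : mx P g 0 0 * mx P g 0 1 = 0 := (mul_eq_zero.1
    (by linear_combination mx P g 0 0 * e01 - mx P g 0 1 * e00)).resolve_right h'
  have k1 : mx P g 1 0 * mx P g 1 1 = 0 := (mul_eq_zero.1
    (by linear_combination mx P g 1 0 * e11 - mx P g 1 1 * e10)).resolve_right h'
  rcases mul_eq_zero.1 k0 with a | a <;> rcases mul_eq_zero.1 k1 with b | b
  · exact absurd (by rw [a, b]; ring) hd
  · exact Or.inr ⟨a, b⟩
  · exact Or.inl ⟨b, a⟩
  · exact absurd (by rw [a, b]; ring) hd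

theorem lineB {P c g : G2 K} (h1 : mx P c 1 0 = 0) (h2 : mx P c 0 1 ≠ 0)
    (h3 : mx P c 0 0 = mx P c 1 1) (h : Commute c (g * c * g⁻¹)) : mx P g 1 0 = 0 := by
  have e' : mx P c * mx P (g * c * g⁻¹) = mx P (g * c * g⁻¹) * mx P c := by
    rw [← mx_mul, ← mx_mul, h.eq]
  have e : mx P (g * c * g⁻¹) * mx P g = mx P g * mx P c := by
    rw [← mx_mul, ← mx_mul]; congr 1; group
  have f := congrFun (congrFun e' 0) 0
  have e10 := congrFun (congrFun e 1) 0
  have e11 := congrFun (congrFun e 1) 1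
  simp only [ent, h1, h3] at f e10 e11
  have d1 : mx P (g * c * g⁻¹) 1 0 = 0 :=
    (mul_eq_zero.1 (by linear_combination f)).resolve_left h2
  rw [d1] at e10 e11
  have : mx P g 1 0 * mx P g 1 0 * mx P c 0 1 = 0 := by
    linear_combination mx P g 1 1 * e10 - mx P g 1 0 * e11
  exact mul_self_eq_zero.1 ((mul_eq_zero.1 this).resolve_right h2)

/-- Without transvections, non-scalar elements are diagonalisable. -/
theorem diag_of [IsAlgClosed K] (h2 : (2 : K) ≠ 0) {H : Subgroup (G2 K)}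
    (hs : H ≤ specialLinear (Fin 2) K) (ht : NoTv H) {c : G2 K} (hc : c ∈ H)
    (hc' : c ∉ scalars (Fin 2) K) :
    ∃ P : G2 K, mx P c 1 0 = 0 ∧ mx P c 0 1 = 0 ∧ mx P c 0 0 ≠ mx P c 1 1 := by
  obtain ⟨P, h1, h⟩ := tri c
  by_cases h3 : mx P c 0 1 = 0
  · exact ⟨P, h1, h3, fun e => hc' (scal_of_mx h3 h1 e)⟩
  exfalso
  have h4 := h.resolve_left h3
  have hd : mx P c 1 1 * mx P c 1 1 = 1 := by
    have := mx_det P c
    rw [mem_specialLinear.1 (hs hc), Matrix.det_fin_two, h1, h4] at this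
    linear_combination this
  have h5 : mx P c 1 1 ≠ 0 := fun e => by simp [e] at hd
  let x : R 2 K := (![1, 0], ![0, 2 * mx P c 1 1 * mx P c 0 1])
  have hx : mx P (c * c) = 1 + N x := by
    rw [mx_mul]
    ext i j
    fin_cases i <;> fin_cases j <;> simp [ent, N, x, h1, h4, hd]
    ring
  have hN : N x ≠ 0 := by
    intro e
    have := congrFun (congrFun e 0) 1
    simp [N, x, Matrix.vecMulVec_apply, h2, h5, h3] at this
  refine N_cg_ne P hN (N_eq_zero.2 (ht (cg P x) ⟨?_, c * c, H.mul_mem hc hc, ?_⟩))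
  · rw [cg_dot]; simp [x]
  · have : c * c = P * (P⁻¹ * (c * c) * P) * P⁻¹ := by group
    rw [this, Units.val_mul, Units.val_mul, N_cg]
    change P.val * mx P (c * c) * _ = _
    rw [hx, mul_add, add_mul, mul_one, Units.mul_inv]

theorem cyc_of_diag {Γ : Type*} [Group Γ] [Finite Γ] (ρ : Γ →* G2 K) (hi : Function.Injective ρ)
    (hs : ∀ g, (ρ g).val.det = 1) (P : G2 K) (h : ∀ g, mx P (ρ g) 1 0 = 0 ∧ mx P (ρ g) 0 1 = 0) :
    IsCyclic Γ := by
  let f : Γ →* K :=
    { toFun := fun g => mx P (ρ g) 0 0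
      map_one' := by simp [mx]
      map_mul' := fun a b => by rw [map_mul, mx_mul, ent, (h a).2]; ring }
  refine isCyclic_of_injective_ringHom f ?_
  intro a b e
  change mx P (ρ a) 0 0 = mx P (ρ b) 0 0 at e
  have da := mx_det P (ρ a)
  have db := mx_det P (ρ b)
  rw [hs, Matrix.det_fin_two, (h _).1] at da db
  refine hi (mx_inj P ?_)
  ext i j
  fin_cases i <;> fin_cases j <;> simp [h, e]
  rw [e] at da
  linear_combination mx P (ρ b) 1 1 * da - mx P (ρ a) 1 1 * db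

theorem cyc_p [IsAlgClosed K] (h2 : (2 : K) ≠ 0) {H : Subgroup (G2 K)}
    (hs : H ≤ specialLinear (Fin 2) K) (ht : NoTv H) (hq : NoQ8 H) {Γ : Type*} [Group Γ] [Finite Γ]
    {p : ℕ} [Fact p.Prime] (hp : IsPGroup p Γ) (ρ : Γ →* G2 K) (hi : Function.Injective ρ)
    (hm : ∀ g, ρ g ∈ H) : IsCyclic Γ := by
  have hd : ∀ g, (ρ g).val.det = 1 := fun g => mem_specialLinear.1 (hs (hm g))
  let Z := (scalars (Fin 2) K).comap ρ
  rcases subsingleton_or_nontrivial (Γ ⧸ Z) with hZ | hZ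
  · refine cyc_of_diag ρ hi hd 1 fun g => ?_
    have : g ∈ Z := (QuotientGroup.eq_one_iff g).1 (Subsingleton.elim _ _)
    obtain ⟨c, hc⟩ := (mem_scalars_iff _).1 this
    simp [mx, hc]
  obtain ⟨⟨q, hq1⟩, hq2⟩ := @exists_ne _ (hp.to_quotient Z).center_nontrivial 1
  obtain ⟨c, rfl⟩ := QuotientGroup.mk_surjective q
  have hc : ρ c ∉ scalars (Fin 2) K := fun e =>
    hq2 (Subtype.ext ((QuotientGroup.eq_one_iff c).2 e))
  obtain ⟨P, h1, h3, h4⟩ := diag_of h2 hs ht (hm c) hc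
  refine cyc_of_diag ρ hi hd P fun g => comm_diag h1 h3 h4 (q8 h2 hs hq (hm c) (hm g) ?_)
  rw [← map_commutatorElement]
  refine (QuotientGroup.eq_one_iff (N := Z) _).1 ?_
  change QuotientGroup.mk' Z ⁅c, g⁆ = 1
  rw [map_commutatorElement, commutatorElement_eq_one_iff_mul_comm]
  exact (Subgroup.mem_center_iff.1 hq1 _).symm

theorem mx_dot (P g : G2 K) (i j : Fin 2) :
    (P⁻¹).val i ⬝ᵥ g.val *ᵥ (fun k => P.val k j) = mx P g i j := by
  unfold mx
  rw [Units.val_mul, Units.val_mul, mul_assoc]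
  rfl

theorem part2 [IsAlgClosed K] (h2 : (2 : K) ≠ 0) (H : Subgroup (G2 K)) (hf : Finite H)
    (hs : H ≤ specialLinear (Fin 2) K) (ht : NoTv H) :
    ¬ NoQ8 H ∨ H ≤ scalars (Fin 2) K ∨ ∃ e ε : Fin 2 → Fin 2 → K, Dual e ε ∧
      ∀ g : GL (Fin 2) K, (∀ x ∈ H, g * x * g⁻¹ ∈ H) →
        (ε 1 ⬝ᵥ g.val *ᵥ e 0 = 0 ∧ ε 0 ⬝ᵥ g.val *ᵥ e 1 = 0) ∨
        (ε 0 ⬝ᵥ g.val *ᵥ e 0 = 0 ∧ ε 1 ⬝ᵥ g.val *ᵥ e 1 = 0) := by
  by_cases hq : NoQ8 H
  swap
  · exact Or.inl hq
  by_cases hz : H ≤ scalars (Fin 2) K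
  · exact Or.inr (Or.inl hz)
  have : IsZGroup H := ⟨fun p hp S => by
    have := Fact.mk hp
    exact cyc_p h2 hs ht hq S.isPGroup' (H.subtype.comp (S : Subgroup H).subtype)
      (H.subtype_injective.comp (Subgroup.subtype_injective _)) fun g => g.1.2⟩
  obtain ⟨c, hc, hc', h⟩ := core (H := H) inferInstance (fun a ha b hb => q8 h2 hs hq ha hb) hz
  obtain ⟨P, h1, h3, h4⟩ := diag_of h2 hs ht hc hc'
  refine Or.inr (Or.inr ⟨fun j k => P.val k j, fun i => (P⁻¹).val i, fun i j => ?_, fun g hg => ?_⟩)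
  · have := congrFun (congrFun (Units.inv_mul P) i) j
    rw [Matrix.one_apply] at this
    exact this
  · simp only [mx_dot]
    exact lineA h1 h3 h4 (h g hg)

theorem mx_rf (P : G2 K) {x : R 2 K} (h : x.2 ⬝ᵥ x.1 = 2) : N (cg P⁻¹ x) = 1 - mx P (rf x h) := by
  unfold mx
  rw [N_cg, Units.val_mul, Units.val_mul, inv_inv]
  change _ = 1 - _ * (1 - N x) * _
  rw [mul_sub, sub_mul, mul_one, Units.inv_mul, sub_sub_cancel]

theorem det_rf {x : R 2 K} (h : x.2 ⬝ᵥ x.1 = 2) : (rf x h).val.det = -1 := by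
  change (1 - N x).det = _
  simp only [dotProduct, Fin.sum_univ_two] at h
  simp [Matrix.det_fin_two, N, Matrix.vecMulVec_apply]
  linear_combination -h

theorem part1 [IsAlgClosed K] (h2 : (2 : K) ≠ 0) (G : Subgroup (G2 K)) (r s t : R 2 K)
    (hf : Finite G) (hn : NR G r s t) (H : Subgroup (G2 K))
    (hH : ∀ x ∈ ({r, s, t} : Set (R 2 K)), ∀ g ∈ G, g.val = 1 - N x → g ∈ H) : -1 ∈ H := by
  by_contra hm
  let L : Subgroup (G2 K) := G ⊓ H
  let M : Subgroup (G2 K) := L ⊓ specialLinear (Fin 2) K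
  have : Finite M := Finite.of_injective _ (Subgroup.inclusion_injective (inf_le_left.trans inf_le_left : M ≤ G))
  have hM : (-1 : G2 K) ∉ M := fun e => hm e.1.2
  have hd : ∀ g ∈ M, g.val.det = 1 := fun g hg => mem_specialLinear.1 hg.2
  have hr : rf r hn.r1.1 ∈ L := ⟨hn.r1.mem, hH r (by simp) _ hn.r1.mem rfl⟩
  have hs : rf s hn.r2.1 ∈ L := ⟨hn.r2.mem, hH s (by simp) _ hn.r2.mem rfl⟩
  have ht : rf t hn.r3.1 ∈ L := ⟨hn.r3.mem, hH t (by simp) _ hn.r3.mem rfl⟩
  have hmul : ∀ {x y : R 2 K} (hx : x.2 ⬝ᵥ x.1 = 2) (hy : y.2 ⬝ᵥ y.1 = 2), rf x hx ∈ L → rf y hy ∈ L →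
      rf x hx * rf y hy ∈ M := fun hx hy a b => ⟨L.mul_mem a b, mem_specialLinear.2 (by
        rw [Units.val_mul, Matrix.det_mul, det_rf, det_rf]; ring)⟩
  have hodd : Odd (Nat.card M) := by
    by_contra ho
    obtain ⟨g, hg⟩ := exists_prime_orderOf_dvd_card' (G := M) 2
      (even_iff_two_dvd.1 (Nat.not_odd_iff_even.1 ho))
    have e : g.1 * g.1 = 1 := by
      have := pow_orderOf_eq_one g
      rw [hg, pow_two] at this
      exact congrArg Subtype.val this
    rcases inv_sl h2 (hd _ g.2) e with e | e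
    · have : g = 1 := Subtype.ext e
      rw [this, orderOf_one] at hg
      omega
    · exact hM (e ▸ g.2)
  have hz : ¬ M ≤ scalars (Fin 2) K := by
    intro hz
    have a := hmul _ _ hr hs
    rcases scal_sl (hd _ a) (hz a) with e | e
    · apply hn.N_ne
      have e1 : (1 - N r) * (1 - N s) = 1 := congrArg Units.val e
      have : 1 - N r = 1 - N s := by
        have e2 := congrArg (· * (1 - N s)) e1
        simpa only [mul_assoc, rf_mul_self hn.r2.1, mul_one, one_mul] using e2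
      exact sub_right_injective this
    · exact hM (e ▸ a)
  obtain ⟨c, hc, hc', h⟩ := core (H := M) (H42.odd_order hodd) (fun a ha b hb e => by
    rcases scal_sl (comm_det a b) e with e | e
    · exact commutatorElement_eq_one_iff_commute.1 e
    · exact absurd (e ▸ M.mul_mem (M.mul_mem (M.mul_mem ha hb) (M.inv_mem ha)) (M.inv_mem hb)) hM) hz
  have hcm : ∀ g ∈ L, Commute c (g * c * g⁻¹) := fun g hg => h g fun x hx =>
    ⟨L.mul_mem (L.mul_mem hg hx.1) (L.inv_mem hg), mem_specialLinear.2 (by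
      have := mx_det g⁻¹ x
      rw [hd x hx] at this
      simpa [mx] using this)⟩
  obtain ⟨P, h1, h3⟩ := tri c
  apply hn.ne
  rw [← tau_cg P⁻¹ r s t, ← tau_cg P⁻¹ r t s, tau_eq, tau_eq, mx_rf P hn.r1.1, mx_rf P hn.r2.1,
    mx_rf P hn.r3.1]
  have up : mx P (rf r hn.r1.1) 1 0 = 0 → mx P (rf s hn.r2.1) 1 0 = 0 →
      mx P (rf t hn.r3.1) 1 0 = 0 → ((1 - mx P (rf r hn.r1.1)) * (1 - mx P (rf s hn.r2.1)) *
        (1 - mx P (rf t hn.r3.1))).trace = ((1 - mx P (rf r hn.r1.1)) * (1 - mx P (rf t hn.r3.1)) *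
        (1 - mx P (rf s hn.r2.1))).trace := by
    intro a b c
    simp [Matrix.trace_fin_two, ent, a, b, c]
    ring
  by_cases h4 : mx P c 0 1 = 0
  swap
  · have h5 := h3.resolve_left h4
    exact up (lineB h1 h4 h5 (hcm _ hr)) (lineB h1 h4 h5 (hcm _ hs)) (lineB h1 h4 h5 (hcm _ ht))
  have h5 : mx P c 0 0 ≠ mx P c 1 1 := fun e => hc' (scal_of_mx h4 h1 e)
  have mix : ∀ {x y : R 2 K} (hx : x.2 ⬝ᵥ x.1 = 2) (hy : y.2 ⬝ᵥ y.1 = 2), rf x hx ∈ L → rf y hy ∈ L →
      (mx P (rf x hx) 1 0 = 0 ∧ mx P (rf x hx) 0 1 = 0) →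
      (mx P (rf y hy) 0 0 = 0 ∧ mx P (rf y hy) 1 1 = 0) → False := by
    intro x y hx hy a b d e
    have m := hmul hx hy a b
    refine hM (sq_neg (hd _ m) ?_ ▸ M.pow_mem m 2)
    rw [← mx_trace P, mx_mul]
    simp [Matrix.trace_fin_two, ent, d.1, d.2, e.1, e.2]
  rcases lineA h1 h4 h5 (hcm _ hr) with a | a <;> rcases lineA h1 h4 h5 (hcm _ hs) with b | b <;>
    rcases lineA h1 h4 h5 (hcm _ ht) with d | d
  · exact up a.1 b.1 d.1
  · exact (mix _ _ hr ht a d).elim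
  · exact (mix _ _ hr hs a b).elim
  · exact (mix _ _ hr hs a b).elim
  · exact (mix _ _ hs hr b a).elim
  · exact (mix _ _ hs hr b a).elim
  · exact (mix _ _ ht hr d a).elim
  · simp [Matrix.trace_fin_two, ent, a.1, a.2, b.1, b.2, d.1, d.2]
    ring

end H61.LD.S2

universe u in
theorem H61.LD.jobS2 : H41.LD.JobS2.{u} := fun _ _ _ h2 =>
  ⟨fun G r s t hf hn H hH => S2.part1 h2 G r s t hf hn H hH,
    fun H hf hs ht => S2.part2 h2 H hf hs ht⟩
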