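import Cfsg.Agent.H53.C6Pre
import Cfsg.Agent.H61.Dickson
import Cfsg.Agent.H61.HurSolv

/-! Three corollaries of Dickson's theorem in `GL₂` (job C6P-DK). -/

set_option autoImplicit false

namespace H61.C6

open Matrix MatrixGroups MulAction Cfsg.Geo Subgroup
open scoped commutatorElement

universe u

variable {F : Type u} [Field F]

local notation "π" => ProjGenLinGroup.mk

theorem mk_smul (g : GL (Fin 2) F) (x : PL F) :
    (π g : PGL(2, F)) • x = GeneralLinearGroup.map (algebraMap F (AlgebraicClosure F)) g • x := by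
  rw [pglAct_def, pglEmb, ProjGenLinGroup.map_mk, pgl_mk_smul]

theorem fix_inf {g : GL (Fin 2) F} :
    (π g : PGL(2, F)) • pinf (AlgebraicClosure F) = pinf _ ↔ g.val 1 0 = 0 := by
  rw [mk_smul, gl_smul_pinf_eq_pinf]; simp

theorem fix_zero {g : GL (Fin 2) F} :
    (π g : PGL(2, F)) • pt (0 : AlgebraicClosure F) = pt 0 ↔ g.val 0 1 = 0 := by
  rw [mk_smul, gl_smul_pt_eq_pt]; simp

theorem inf_zero {g : GL (Fin 2) F} :
    (π g : PGL(2, F)) • pinf (AlgebraicClosure F) = pt 0 ↔ g.val 0 0 = 0 := by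
  rw [mk_smul, gl_smul_pinf_eq_pt]; simp

theorem zero_inf {g : GL (Fin 2) F} :
    (π g : PGL(2, F)) • pt (0 : AlgebraicClosure F) = pinf _ ↔ g.val 1 1 = 0 := by
  rw [mk_smul, gl_smul_pt_eq_pinf]; simp

theorem mk_eq_one {g : GL (Fin 2) F} : (π g : PGL(2, F)) = 1 ↔ g ∈ scalars (Fin 2) F := by
  rw [ProjGenLinGroup.mk_eq_one, GeneralLinearGroup.center_eq_range_scalar]
  rfl

theorem mk_eq {g h : GL (Fin 2) F} (e : (π g : PGL(2, F)) = π h) :
    ∃ c : F, c ≠ 0 ∧ h.val = c • g.val := by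
  obtain ⟨c, rfl⟩ := ProjGenLinGroup.mk_eq_mk_iff.1 e
  refine ⟨c, c.ne_zero, ?_⟩
  rw [Units.val_mul, GeneralLinearGroup.coe_scalar, scalar_apply, ← smul_eq_mul_diagonal]

theorem diag_pow {δ : GL (Fin 2) F} {a b : F} (h : δ.val = !![a, 0; 0, b]) (n : ℕ) :
    (π δ : PGL(2, F)) ^ n = 1 ↔ a ^ n = b ^ n := by
  have e : (δ ^ n).val = !![a ^ n, 0; 0, b ^ n] := by
    induction n with
    | zero => simp [one_fin_two]
    | succ n ih => rw [pow_succ, Units.val_mul, ih, h]; simp [pow_succ]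
  rw [← map_pow, mk_eq_one, mem_scalars_iff, e]
  constructor
  · rintro ⟨c, hc⟩
    have h1 := congrFun (congrFun hc 0) 0
    have h2 := congrFun (congrFun hc 1) 1
    simp at h1 h2
    rw [h1, h2]
  · intro hc
    have h0 : a ^ n ≠ 0 := fun h0 => by
      have := (δ ^ n).det_ne_zero
      rw [e, det_fin_two_of, h0] at this
      simp at this
    refine ⟨Units.mk0 _ h0, ?_⟩
    ext i j
    fin_cases i <;> fin_cases j <;> simp [hc]

/-- Two matrices with a common fixed point which commute up to a scalar commute. -/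
theorem eq_one_of_fix {A B : GL (Fin 2) F} {c : F} {x : PL F} (hA : (π A : PGL(2, F)) • x = x)
    (hB : (π B : PGL(2, F)) • x = x) (h : A.val * B.val = c • (B.val * A.val)) : c = 1 := by
  induction x using Projectivization.ind with | h v hv =>
  rw [mk_smul, Projectivization.smul_mk, Projectivization.mk_eq_mk_iff] at hA hB
  obtain ⟨α, hα⟩ := hA
  obtain ⟨β, hβ⟩ := hB
  set f := algebraMap F (AlgebraicClosure F)
  have h1 : A.val.map f *ᵥ v = (α : AlgebraicClosure F) • v := hα.symm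
  have h2 : B.val.map f *ᵥ v = (β : AlgebraicClosure F) • v := hβ.symm
  have h3 : A.val.map f * B.val.map f = f c • (B.val.map f * A.val.map f) := by
    rw [← Matrix.map_mul, ← Matrix.map_mul, h]
    ext i j
    simp only [Matrix.map_apply, Matrix.smul_apply, smul_eq_mul, map_mul]
  have h4 := congrArg (· *ᵥ v) h3
  simp only [smul_mulVec, ← mulVec_mulVec, h1, h2, mulVec_smul, smul_smul] at h4
  have h5 := smul_left_injective _ hv h4
  refine f.injective ((mul_right_cancel₀ (mul_ne_zero α.ne_zero β.ne_zero) ?_))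
  rw [map_one, one_mul, ← h5, mul_comm]

theorem small4 : ∀ x : Equiv.Perm (Fin 4), x ^ 3 = 1 ∨ x ^ 4 = 1 := by decide +kernel

theorem small5 : ∀ x : Equiv.Perm (Fin 5), Equiv.Perm.sign x = 1 → x ^ 3 = 1 ∨ x ^ 4 = 1 ∨ x ^ 5 = 1 := by
  decide +kernel

theorem even_of_perfect [Finite F] {P : Type*} [Group P] (hP : commutator P = ⊤)
    (f : P →* PGL(2, F)) {H : Subgroup (GL (Fin 2) F)} (hf : f.range ≤ H.map π) {w : P}
    (h1 : f w ≠ 1) (h2 : f w * f w = 1) : Even (Nat.card (⁅H, H⁆ : Subgroup (GL (Fin 2) F))) := by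
  have h3 : f w ∈ (⁅H, H⁆ : Subgroup (GL (Fin 2) F)).map π := by
    rw [map_commutator]
    refine commutator_mono hf hf ?_
    rw [MonoidHom.range_eq_map, ← map_commutator]
    exact ⟨w, (show w ∈ commutator P from hP ▸ mem_top w), rfl⟩
  have : Fact (Nat.Prime 2) := ⟨Nat.prime_two⟩
  have h4 := orderOf_dvd_natCard _ h3
  rw [orderOf_eq_prime (by rw [sq, h2]) h1] at h4
  exact even_iff_two_dvd.2 (h4.trans (card_map_dvd _ _))

/-- Dickson's theorem for a subgroup of `GL₂`. -/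
theorem dk [Finite F] (p : ℕ) [Fact p.Prime] [CharP F p] (H : Subgroup (GL (Fin 2) F)) :
    (∃ x : PL F, ∀ h ∈ H, (π h : PGL(2, F)) • x = x) ∨
    (∃ x y : PL F, x ≠ y ∧ ∀ h ∈ H, (π h : PGL(2, F)) ∈ pairStab PGL(2, F) x y) ∨
    (∀ h ∈ H, (π h : PGL(2, F)) ^ 3 = 1 ∨ (π h : PGL(2, F)) ^ 4 = 1) ∨
    ((∀ h ∈ H, (π h : PGL(2, F)) ^ 3 = 1 ∨ (π h : PGL(2, F)) ^ 4 = 1 ∨ (π h : PGL(2, F)) ^ 5 = 1) ∧
      Even (Nat.card (⁅H, H⁆ : Subgroup (GL (Fin 2) F)))) ∨
    ∃ (k : Subfield F) (C : GL (Fin 2) F),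
      (∀ h ∈ H, ∃ B : GL (Fin 2) k, (π (C⁻¹ * h * C) : PGL(2, F)) =
        π (GeneralLinearGroup.map k.subtype B)) ∧
      ∀ s : SL(2, k), ∃ h ∈ H, (π (C⁻¹ * h * C) : PGL(2, F)) =
        π (GeneralLinearGroup.map k.subtype (SpecialLinearGroup.toGL s)) := by
  obtain ⟨y, m⟩ := main_pgl (F := F) p
  have tr : ∀ {P : Type} [Group P] (e : H.map π ≃* P) (h : GL (Fin 2) F) (hh : h ∈ H) (n : ℕ),
      e ⟨π h, h, hh, rfl⟩ ^ n = 1 → (π h : PGL(2, F)) ^ n = 1 := fun e h hh n hn => by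
    rw [← map_pow, map_eq_one_iff _ e.injective] at hn
    exact congrArg Subtype.val hn
  rcases dickson_pgl p m (H.map π) with ⟨a, -, ha⟩ | ⟨a, -, ha⟩ | ⟨a, b, hab, -, h, -⟩ | ⟨-, ⟨e⟩⟩ |
    ⟨-, ⟨e⟩⟩ | ⟨-, ⟨e⟩⟩ | ⟨k, γ, H₀, h0, h⟩
  · exact Or.inl ⟨a, fun h hh => ha ⟨h, hh, rfl⟩⟩
  · exact Or.inl ⟨a, fun h hh => ha ⟨h, hh, rfl⟩⟩
  · exact Or.inr (Or.inl ⟨a, b, hab, fun g hg => h ⟨g, hg, rfl⟩⟩)
  · exact Or.inr (Or.inr (Or.inl fun h hh => (small4 (e ⟨π h, h, hh, rfl⟩).1).imp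
      (fun h3 => tr e h hh 3 (Subtype.ext h3)) fun h3 => tr e h hh 4 (Subtype.ext h3)))
  · exact Or.inr (Or.inr (Or.inl fun h hh => (small4 _).imp (tr e h hh 3) (tr e h hh 4)))
  · refine Or.inr (Or.inr (Or.inr (Or.inl ⟨fun h hh =>
      (small5 (e ⟨π h, h, hh, rfl⟩).1 (e ⟨π h, h, hh, rfl⟩).2).imp
        (fun h3 => tr e h hh 3 (Subtype.ext h3)) (Or.imp (fun h3 => tr e h hh 4 (Subtype.ext h3))
          fun h3 => tr e h hh 5 (Subtype.ext h3)), ?_⟩)))
    refine even_of_perfect (commutator_alternatingGroup_eq_top (α := Fin 5) (by simp))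
      ((H.map π).subtype.comp e.symm.toMonoidHom) (by rintro _ ⟨x, rfl⟩; exact (e.symm x).2)
      (w := ⟨Equiv.swap 0 1 * Equiv.swap 2 3, by simp⟩) (fun h => ?_) ?_
    · have := (map_eq_one_iff e.symm e.symm.injective).1 (Subtype.ext h)
      exact absurd (congrArg Subtype.val this) (by decide)
    · rw [← map_mul]
      exact (congrArg _ (Subtype.ext (by decide))).trans (map_one _)
  obtain ⟨C, rfl⟩ := ProjGenLinGroup.mk_surjective γ
  refine Or.inr (Or.inr (Or.inr (Or.inr ⟨k, C, fun g hg => ?_, fun s => ?_⟩)))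
  · have : (MulAut.conj (π C)⁻¹).toMonoidHom (π g) ∈ H₀.map (ProjGenLinGroup.map k.subtype) :=
      h ▸ ⟨_, ⟨g, hg, rfl⟩, rfl⟩
    obtain ⟨B, -, hB⟩ := this
    obtain ⟨B, rfl⟩ := ProjGenLinGroup.mk_surjective B
    exact ⟨B, by rw [← ProjGenLinGroup.map_mk, hB]; simp⟩
  · have h1 : SpecialLinearGroup.toPGL s ∈ H₀ := by
      rcases h0 with ⟨rfl, -⟩ | ⟨rfl, -⟩
      · trivial
      · exact ⟨s, rfl⟩
    have h2 : ProjGenLinGroup.map k.subtype (SpecialLinearGroup.toPGL s) ∈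
        (H.map π).map (MulAut.conj (π C)⁻¹).toMonoidHom := h ▸ ⟨_, h1, rfl⟩
    obtain ⟨_, ⟨f, hf, rfl⟩, hf2⟩ := h2
    exact ⟨f, hf, by rw [← ProjGenLinGroup.map_mk, ← MonoidHom.comp_apply π, ← hf2]; simp⟩

theorem pair_case (p : ℕ) [Fact p.Prime] [CharP F p] {δ g : GL (Fin 2) F} {a b : F} {x y : PL F}
    (hδ : δ.val = !![a, 0; 0, b]) (hab : a ^ 2 ≠ b ^ 2) (hxy : x ≠ y)
    (h1 : (π δ : PGL(2, F)) ∈ pairStab PGL(2, F) x y)
    (h2 : (π g : PGL(2, F)) ∈ pairStab PGL(2, F) x y) :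
    (g.val 0 1 = 0 ∧ g.val 1 0 = 0) ∨ (g.val 0 0 = 0 ∧ g.val 1 1 = 0) := by
  have h3 : (π δ : PGL(2, F)) ∈ tor PGL(2, F) (pinf (AlgebraicClosure F)) (pt 0) :=
    ⟨fix_inf.2 (by simp [hδ]), fix_zero.2 (by simp [hδ])⟩
  have h4 : (π g : PGL(2, F)) ∈ pairStab PGL(2, F) (pinf (AlgebraicClosure F)) (pt 0) := by
    rcases (hur_pglF F p).tor_eq_of_mem (pinf_ne_pt 0) hxy
      (fun e => hab ((diag_pow hδ 2).1 (by rwa [sq]))) (mul_mem h3 h3) (Hur.mul_self_mem_tor h1) with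
      ⟨rfl, rfl⟩ | ⟨rfl, rfl⟩
    · exact h2
    · rwa [pairStab_swap]
  exact h4.imp (fun h => ⟨fix_zero.1 h.2, fix_inf.1 h.1⟩) fun h => ⟨inf_zero.1 h.1, zero_inf.1 h.2⟩

theorem fix_case (p : ℕ) [Fact p.Prime] [CharP F p] {δ : GL (Fin 2) F} {a b : F} {x : PL F}
    (hδ : δ.val = !![a, 0; 0, b]) (hab : a ≠ b) (h : (π δ : PGL(2, F)) • x = x) :
    x = pinf _ ∨ x = pt 0 :=
  (hur_pglF F p).fix_two (fun e => hab (by simpa using (diag_pow hδ 1).1 (by rwa [pow_one])))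
    (pinf_ne_pt 0) (fix_inf.2 (by simp [hδ])) (fix_zero.2 (by simp [hδ])) h

theorem exists_char (F : Type*) [Field F] [Finite F] : ∃ p, Fact p.Prime ∧ CharP F p :=
  ⟨ringChar F, ⟨CharP.char_is_prime F _⟩, inferInstance⟩

theorem jobDKa : H53.C6.JobDKa.{u} := by
  intro F _ _ H r a b δ s g hr h5 ho hδH hδ hsH hs hg g1 g2
  obtain ⟨p, _, _⟩ := exists_char F
  have hpow : ∀ n, (π δ : PGL(2, F)) ^ n = 1 ↔ r ∣ n := fun n => by
    rw [diag_pow hδ, ← ho, orderOf_dvd_iff_pow_eq_one, div_pow, div_eq_one, Units.ext_iff,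
      Units.val_pow_eq_pow_val, Units.val_pow_eq_pow_val]
  have hn : ∀ n, 0 < n → n < 5 → (π δ : PGL(2, F)) ^ n ≠ 1 := fun n h0 h1 e => by
    have := Nat.le_of_dvd h0 ((hpow n).1 e)
    omega
  rcases dk p H with ⟨x, h⟩ | ⟨x, y, hxy, h⟩ | h | h | ⟨k, C, h1, h2⟩
  · rcases fix_case p hδ (fun e => hn 1 (by omega) (by omega) ((diag_pow hδ 1).2 (by rw [e])))
      (h δ hδH) with rfl | rfl
    · simpa [hs] using fix_inf.1 (h s hsH)
    · simpa [hs] using fix_zero.1 (h s hsH)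
  · exact ((pair_case p hδ (fun e => hn 2 (by omega) (by omega) ((diag_pow hδ 2).2 e)) hxy
      (h δ hδH) (h g hg)).elim g1 g2).elim
  · exact ((h δ hδH).elim (hn 3 (by omega) (by omega)) (hn 4 (by omega) (by omega))).elim
  · exact h.2
  obtain ⟨B, hB⟩ := h1 δ hδH
  obtain ⟨y, m⟩ := main_pgl (F := k) p
  have h3 := m.orderOf_le (π B)
  have h4 : r ∣ orderOf (π B : PGL(2, k)) := (hpow _).1 (by
    have : (π (C⁻¹ * δ * C) : PGL(2, F)) ^ orderOf (π B : PGL(2, k)) = 1 := by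
      rw [hB, ← ProjGenLinGroup.map_mk, ← map_pow, pow_orderOf_eq_one, map_one]
    rwa [map_mul, map_mul, map_inv, conj_pow', conj_eq_one_iff'] at this)
  have h6 := Nat.le_of_dvd (orderOf_pos _) h4
  obtain ⟨c, c0, c1⟩ : ∃ c : k, c ≠ 0 ∧ c ^ 2 ≠ 1 := by
    classical
    have := Fintype.ofFinite k
    obtain ⟨c, -, hc⟩ := Finset.exists_mem_notMem_of_card_lt_card (s := {0, 1, -1})
      (t := (Finset.univ : Finset k)) (lt_of_le_of_lt Finset.card_le_three (by
        rw [Finset.card_univ, ← Nat.card_eq_fintype_card]; omega))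
    simp only [Finset.mem_insert, Finset.mem_singleton, not_or] at hc
    exact ⟨c, hc.1, by simp [hc]⟩
  have hinj := (MulAut.conj (π C : PGL(2, F))).injective.comp (pgl_map_injective k.subtype)
  refine even_of_perfect (SL2.commutator_eq_top c0 c1)
    (((MulAut.conj (π C)).toMonoidHom.comp (ProjGenLinGroup.map k.subtype)).comp
      SpecialLinearGroup.toPGL) ?_ (w := weyl k) (fun e => ?_) ?_
  · rintro _ ⟨s, rfl⟩
    obtain ⟨h, hh, e⟩ := h2 s
    exact ⟨h, hh, by simp [← e, mul_assoc]⟩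
  · rw [MonoidHom.comp_apply, map_eq_one_iff _ hinj, MonoidHom.comp_apply] at e
    have := fix_inf.1 (show (π (SpecialLinearGroup.toGL (weyl k)) : PGL(2, k)) • _ = _ by
      rw [e, one_smul])
    simp [weyl] at this
  · rw [← map_mul, MonoidHom.comp_apply, map_eq_one_iff _ hinj, MonoidHom.comp_apply, mk_eq_one,
      mem_scalars_iff]
    refine ⟨-1, ?_⟩
    ext i j
    fin_cases i <;> fin_cases j <;> simp [weyl]

theorem mem_of_quadratic [Finite F] (hF : ¬ IsSquare (Nat.card F)) (k : Subfield F) {x : F}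
    {s t : k} (h : x ^ 2 + s * x + t = 0) : x ∈ k := by
  by_contra hx
  have hi : IsIntegral k x := Algebra.IsIntegral.isIntegral x
  have h1 : 2 ≤ (minpoly k x).natDegree := (minpoly.two_le_natDegree_iff hi).2 fun ⟨y, hy⟩ =>
    hx (hy ▸ y.2)
  have h2 : (minpoly k x).natDegree ≤ 2 := by
    have h3 := minpoly.min k x (p := Polynomial.X ^ 2 + Polynomial.C s * Polynomial.X +
      Polynomial.C t) (by monicity!) (by simp; exact h)
    exact Polynomial.natDegree_le_iff_degree_le.2 (h3.trans (by compute_degree!))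
  obtain ⟨m, hm⟩ := minpoly.degree_dvd hi
  refine hF ⟨Nat.card k ^ m, ?_⟩
  rw [Module.natCard_eq_pow_finrank (K := k), hm, le_antisymm h2 h1, two_mul, pow_add]

theorem not_small {y : GL (Fin 2) F} (h : ∀ m, 1 ≤ m → m ≤ 5 → y ^ m ∉ scalars (Fin 2) F) {m : ℕ}
    (h1 : 1 ≤ m) (h5 : m ≤ 5) : (π y : PGL(2, F)) ^ m ≠ 1 := fun e =>
  h m h1 h5 (mk_eq_one.1 (by rwa [map_pow]))

theorem jobDKb : H53.C6.JobDKb.{u} := by
  intro F _ _ H a b δ g y hF hδH hδ hab hg g1 g2 g3 hy hs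
  obtain ⟨p, _, _⟩ := exists_char F
  have hab' : a ≠ b := fun e => hab (by rw [e])
  rcases dk p H with ⟨x, h⟩ | ⟨x, y, hxy, h⟩ | h | ⟨h, -⟩ | ⟨k, C, h1, h2⟩
  · rcases fix_case p hδ hab' (h δ hδH) with rfl | rfl
    · exact (g2 (fix_inf.1 (h g hg))).elim
    · exact (g1 (fix_zero.1 (h g hg))).elim
  · rcases pair_case p hδ hab hxy (h δ hδH) (h g hg) with h3 | h3
    · exact (g1 h3.1).elim
    · exact (g3.elim (· h3.1) (· h3.2)).elim
  · exact ((h y hy).elim (not_small hs (by omega) (by omega))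
      (not_small hs (by omega) (by omega))).elim
  · rcases h y hy with h | h | h <;> exact (not_small hs (by omega) (by omega) h).elim
  obtain ⟨B, hB⟩ := h1 δ hδH
  obtain ⟨l, l0, hl⟩ := mk_eq hB
  set D := (C⁻¹).val with hD
  have dD : D 0 0 * D 1 1 - D 0 1 * D 1 0 ≠ 0 := by
    rw [← det_fin_two]; exact (C⁻¹).det_ne_zero
  have key : ∀ {h : GL (Fin 2) F} {M : Matrix (Fin 2) (Fin 2) F} {l : F},
      M = l • (C⁻¹ * h * C).val → M * D = l • (D * h.val) := fun {h M l} e => by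
    rw [e, smul_mul_assoc, hD, ← Units.val_mul, mul_inv_cancel_right, Units.val_mul]
  have e := key hl
  have e1 := congrFun (congrFun e 0) 0
  have e2 := congrFun (congrFun e 1) 0
  have e3 := congrFun (congrFun e 0) 1
  have e4 := congrFun (congrFun e 1) 1
  simp [hδ, Matrix.mul_apply, Fin.sum_univ_two] at e1 e2 e3 e4
  obtain ⟨v, w, μ, hv, hw⟩ : ∃ (v w : k) (μ : F), D 0 0 = μ * v ∧ D 1 0 = μ * w := by
    by_cases h0 : D 1 0 = 0
    · exact ⟨1, 0, D 0 0, by simp, by simp [h0]⟩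
    refine ⟨⟨D 0 0 / D 1 0, ?_⟩, 1, D 1 0, by simp [mul_div_cancel₀ _ h0], by simp⟩
    by_cases hb : B.val 1 0 = 0
    · by_cases hc : B.val 1 1 - B.val 0 0 = 0
      · exfalso
        have hb' : (B.val 1 0 : F) = 0 := by simp [hb]
        have hc' : (B.val 1 1 : F) = B.val 0 0 := by simpa [sub_eq_zero] using hc
        have h3 : (B.val 1 1 : F) = l * a := mul_right_cancel₀ h0 (by
          linear_combination e2 - D 0 0 * hb')
        have h4 : (B.val 0 1 : F) = 0 := (mul_eq_zero.1 (show B.val 0 1 * D 1 0 = 0 by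
          linear_combination e1 + D 0 0 * hc' - D 0 0 * h3)).resolve_right h0
        have h5 : l * (a - b) ≠ 0 := mul_ne_zero l0 (sub_ne_zero.2 hab')
        have h6 : D 1 1 = 0 := (mul_eq_zero.1 (show l * (a - b) * D 1 1 = 0 by
          linear_combination e4 - D 0 1 * hb' - D 1 1 * h3)).resolve_left h5
        have h7 : D 0 1 = 0 := (mul_eq_zero.1 (show l * (a - b) * D 0 1 = 0 by
          linear_combination e3 - D 1 1 * h4 - D 0 1 * h3 + D 0 1 * hc')).resolve_left h5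
        exact dD (by rw [h6, h7]; ring)
      · have hc' : ((B.val 1 1 - B.val 0 0 : k) : F) ≠ 0 := fun e => hc (Subtype.ext e)
        have hb' : (B.val 1 0 : F) = 0 := by simp [hb]
        convert (B.val 0 1 / (B.val 1 1 - B.val 0 0)).2 using 1
        rw [Subfield.coe_div, div_eq_div_iff h0 hc']
        push_cast
        refine mul_left_cancel₀ h0 ?_
        linear_combination D 0 0 * e2 - D 1 0 * e1 - D 0 0 * D 0 0 * hb'
    · have hb' : (B.val 1 0 : F) ≠ 0 := by simpa using hb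
      refine mem_of_quadratic hF k (s := (B.val 1 1 - B.val 0 0) / B.val 1 0)
        (t := -B.val 0 1 / B.val 1 0) ?_
      push_cast
      field_simp
      linear_combination D 0 0 * e2 - D 1 0 * e1
  obtain ⟨h, hh, e'⟩ := h2 (sl2 (1 - v * w) (v ^ 2) (-w ^ 2) (1 + v * w) (by ring))
  obtain ⟨n, n0, hn⟩ := mk_eq e'
  have f := key hn
  have f1 := congrFun (congrFun f 0) 0
  have f2 := congrFun (congrFun f 1) 0
  have f3 := congrFun (congrFun f 0) 1
  have f4 := congrFun (congrFun f 1) 1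
  simp [Matrix.mul_apply, Fin.sum_univ_two] at f1 f2 f3 f4
  simp only [hv, hw] at dD f1 f2 f3 f4
  have k1 : n * h.val 0 0 = 1 := mul_left_cancel₀ dD (by
    linear_combination (-D 1 1) * f1 + D 0 1 * f2)
  have k2 : n * h.val 1 0 = 0 := mul_left_cancel₀ dD (by
    linear_combination μ * w * f1 - μ * v * f2)
  have k3 : n * h.val 1 1 = 1 := mul_left_cancel₀ dD (by
    linear_combination μ * w * f3 - μ * v * f4)
  have k4 : n * h.val 0 1 ≠ 0 := fun k4 => by
    have t1 : v * (μ * v * D 1 1 - D 0 1 * (μ * w)) = 0 := by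
      linear_combination μ * f3 + μ * μ * v * k4 + μ * D 0 1 * k3
    have t2 : w * (μ * v * D 1 1 - D 0 1 * (μ * w)) = 0 := by
      linear_combination μ * f4 + μ * μ * w * k4 + μ * D 1 1 * k3
    exact dD (by rw [(mul_eq_zero.1 t1).resolve_right dD, (mul_eq_zero.1 t2).resolve_right dD]; ring)
  have k5 : n • h.val = !![1, n * h.val 0 1; 0, 1] := by
    ext i j
    fin_cases i <;> fin_cases j
    exacts [k1, rfl, k2, k3]
  have k6 : ∀ m : ℕ, n ^ m • (h ^ m).val = !![1, m * (n * h.val 0 1); 0, 1] := fun m => by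
    induction m with
    | zero => simp [one_fin_two]
    | succ m ih =>
      rw [pow_succ, pow_succ, Units.val_mul, ← smul_mul_smul_comm, ih, k5]
      simp [add_mul, add_comm]
  have := Fintype.ofFinite F
  refine ⟨-(n * h.val 0 1), neg_ne_zero.2 k4, h ^ (Fintype.card F - 1), pow_mem hh _, ?_⟩
  have k7 := k6 (Fintype.card F - 1)
  rwa [FiniteField.pow_card_sub_one_eq_one n n0, one_smul, Nat.cast_pred Fintype.card_pos,
    FiniteField.cast_card_eq_zero, zero_sub, neg_one_mul] at k7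

theorem jobDKs : H53.C6.JobDKs := by
  intro F _ _ H i j y g hF h2 hsc hi hj hij hy hs hg hc
  obtain ⟨p, _, _⟩ := exists_char F
  rcases dk p H with ⟨x, h⟩ | ⟨x, z, hxz, h⟩ | h | ⟨h, -⟩ | ⟨k, C, -, h⟩
  · have := eq_one_of_fix (c := -1) (h i hi) (h j hj) (by rw [hij, neg_one_smul])
    exact (h2 (by linear_combination -this)).elim
  · have h3 : (π (y ^ 2) : PGL(2, F)) ∈ tor PGL(2, F) x z := by
      rw [sq, map_mul]
      exact Hur.mul_self_mem_tor (h y hy)
    have h4 : (π (g * y ^ 2 * g⁻¹) : PGL(2, F)) ∈ tor PGL(2, F) x z := by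
      rw [← conj_pow, sq, map_mul]
      exact Hur.mul_self_mem_tor (h _ (mul_mem (mul_mem hg hy) (inv_mem hg)))
    have h5 := (hur_pglF F p).tor_comm hxz h3 h4
    rw [← map_mul, ← map_mul] at h5
    obtain ⟨c, -, h6⟩ := mk_eq h5
    rw [Units.val_mul _ (y ^ 2), Units.val_mul (y ^ 2)] at h6
    refine (hc (Units.ext ?_)).elim
    rw [Units.val_mul _ (y ^ 2), Units.val_mul (y ^ 2), h6, eq_one_of_fix h4.1 h3.1 h6, one_smul]
  · exact ((h y hy).elim (not_small hs (by omega) (by omega))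
      (not_small hs (by omega) (by omega))).elim
  · rcases h y hy with h | h | h <;> exact (not_small hs (by omega) (by omega) h).elim
  obtain ⟨m, -, hm⟩ := exists_card_pow_subfield k
  have hk : ∀ x : F, x ∈ k := by
    have h3 : Nat.card k = Nat.card F := by
      have := (hm ▸ hF : (Nat.card k ^ m).Prime).eq_one_of_pow
      rwa [this, pow_one] at hm
    intro x
    obtain ⟨y, rfl⟩ := (k.subtype.injective.bijective_of_nat_card_le h3.ge).2 x
    exact y.2
  intro s hs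
  have hd : (C⁻¹ * s * C).val.det = 1 := by
    rw [Units.val_mul, Units.val_mul, det_mul, det_mul, H25.mem_specialLinear.1 hs, mul_one, ← det_mul,
      Units.inv_mul, det_one]
  obtain ⟨f, hf, e⟩ := h ⟨Matrix.of fun i j => ⟨(C⁻¹ * s * C).val i j, hk _⟩, k.subtype.injective
    ((k.subtype.map_det _).trans (hd.trans (map_one _).symm))⟩
  have e' : (π (C⁻¹ * f * C) : PGL(2, F)) = π (C⁻¹ * s * C) := e.trans (congrArg _ (Units.ext rfl))
  have e2 : (π (f⁻¹ * s) : PGL(2, F)) = 1 := by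
    simp only [map_mul, mul_left_inj, mul_right_inj] at e'
    rw [map_mul, map_inv, e', inv_mul_cancel]
  exact (mul_mem_cancel_left (inv_mem hf)).1 (hsc (mk_eq_one.1 e2))

end H61.C6
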