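import Cfsg.Agent.H61.HkG2p
import Cfsg.Agent.H61.HkPSb
import Cfsg.Agent.H23.HkC4
import Cfsg.Agent.H7.HKT

/-! HKS tower, job G2a: the kernel of `C(z)` on the fixed points of `z` is `Q₈` or `SL₂(3)`. -/

set_option autoImplicit false

namespace H61.Hk

open MulAction Cfsg Subgroup H89.K H65 H7.HKS H31.HK H8.HK H23.HK
open scoped Matrix MatrixGroups

universe u

local notation "π" => Matrix.ProjGenLinGroup.mk

theorem mul_pow_mem {G : Type*} [Group G] {L : Subgroup G} {m r : G} (hm : m ∈ L)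
    (hr : ∀ l ∈ L, r * l * r⁻¹ ∈ L) (n : ℕ) : (m * r) ^ n * (r ^ n)⁻¹ ∈ L := by
  induction n with
  | zero => simp
  | succ n ih =>
    rw [show (m * r) ^ (n + 1) * (r ^ (n + 1))⁻¹ = m * (r * ((m * r) ^ n * (r ^ n)⁻¹) * r⁻¹) by
      rw [pow_succ', pow_succ' r]; group]
    exact mul_mem hm (hr _ ih)

variable {G Ω : Type u} [Group G] [Finite G] [MulAction G Ω] {U : Ω → Subgroup G} {a b : Ω}
  {z v g k r : G}

/-- The torus of `L_z`. -/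
abbrev TT (U : Ω → Subgroup G) (a b : Ω) (z : G) : Subgroup G := LX U {z} ⊓ St G a b

/-- The elements of `C_H(z)` centralising the torus. -/
abbrev YY (U : Ω → Subgroup G) (a b : Ω) (z : G) : Subgroup G :=
  St G a b ⊓ Cz z ⊓ centralizer (TT U a b z : Set G)

namespace G2

variable (h : S4 U a b z)
include h

theorem K_le : Kh Ω {z} ≤ YY U a b z := fun _ hk =>
  ⟨⟨h.KS hk, hk.2⟩, fun _ hl => (h.KL hk hl.1).symm⟩

theorem T_le : TT U a b z ≤ YY U a b z := fun τ hτ => by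
  obtain ⟨F, _, _, x, y, L, -, eL, -⟩ := h.data
  have C : Cx U x y _ _ a b := ⟨h.rg.sr, h.ne, inf_le_left, inf_le_left, L⟩
  refine ⟨⟨hτ.2, h.LC hτ.1⟩, fun l hl => ?_⟩
  obtain ⟨c, c0, rfl⟩ := C.st (eL ▸ hτ.1) hτ.2
  obtain ⟨d, d0, rfl⟩ := C.st (eL ▸ hl.1) hl.2
  rw [L.rel.h_mul' c0 d0, L.rel.h_mul' d0 c0, mul_comm]

omit [Finite G] in
theorem z_T : z ∈ TT U a b z := ⟨h.sl, h.iv.1⟩

theorem Y_sq (k3 : Kit3.{u}) (hg : g ∈ YY U a b z) :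
    ∃ τ ∈ TT U a b z, ∃ κ ∈ Kh Ω {z}, g * g = τ * κ := by
  obtain ⟨F, _, _, x, y, L, -, eL, -⟩ := h.data
  have C : Cx U x y _ _ a b := ⟨h.rg.sr, h.ne, inf_le_left, inf_le_left, L⟩
  obtain ⟨l, l0, e⟩ := (k3.sy1 h.rg h.ne h.sub L).2.2.2.2.2 g hg.1.1 (nor_sing.2 hg.1.2)
    fun l hl => (hg.2 l hl).symm
  have m : sl2h x y l ∈ TT U a b z := ⟨eL ▸ C.h_mem l0, C.ha l0, C.hb l0⟩
  have m2 : (sl2h x y l)⁻¹ * (g * g) ∈ YY U a b z := mul_mem (inv_mem (T_le h m)) (mul_mem hg hg)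
  refine ⟨_, m, _, H7.HKT.kh_of h.rg h.ne h.iv.1 m2.1.1 (mem_Cz.1 m2.1.2) fun u hu => ?_,
    (mul_inv_cancel_left _ _).symm⟩
  obtain ⟨c, rfl⟩ := (L.rx u).1 hu
  rw [← mul_inv_eq_iff_eq_mul]
  calc _ = (sl2h x y l)⁻¹ * (g * (g * x c * g⁻¹) * g⁻¹) * sl2h x y l := by group
    _ = _ := by rw [e, e, ← mul_assoc l, ← sq, ← h_x L.rel l0]; group

theorem Y_ne (A : AS U a b z v) (A' : AS U a b v z) :
    ∃ g ∈ YY U a b z, ∀ τ ∈ TT U a b z, ∀ κ ∈ Kh Ω {z}, g ≠ τ * κ := by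
  obtain ⟨F, _, _, x, y, L, -, eL, -⟩ := h.data
  have C : Cx U x y _ _ a b := ⟨h.rg.sr, h.ne, inf_le_left, inf_le_left, L⟩
  obtain ⟨ν, hν⟩ := FiniteField.exists_nonsquare (F := F) fun e => C.two_ne (by
    have := ringChar.Nat.cast_ringChar (R := F)
    rwa [e] at this)
  obtain ⟨g, hg, e⟩ := A'.tr _ (C.xA 1) _ (C.xA ν) (H7.HKT.x_ne L one_ne_zero)
    (H7.HKT.x_ne L fun e => hν (e ▸ IsSquare.zero))
  refine ⟨g, ⟨⟨hg.2, mem_Cz.2 (A'.cv g hg)⟩, fun l hl => A.comm l hl g hg⟩, ?_⟩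
  rintro τ hτ κ hκ rfl
  obtain ⟨c, c0, rfl⟩ := C.st (eL ▸ hτ.1) hτ.2
  rw [mul_assoc _ κ, h.KL hκ (eL ▸ mem_sup_left (C.xA 1)),
    show sl2h x y c * (x 1 * κ) * (sl2h x y c * κ)⁻¹ = sl2h x y c * x 1 * (sl2h x y c)⁻¹ by group,
    h_x L.rel c0] at e
  exact hν ⟨c, by rw [← L.inj e]; ring⟩

theorem dec2 (nf : NF U z a b) (hr : r ∈ Cz z) (r2 : Two r) :
    ∃ m ∈ LX U {z}, ∃ g ∈ YY U a b z, r = m * g := by
  obtain ⟨F, _, _, x, y, L, -, eL, c, -⟩ := h.data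
  have hne : CU U {z} a ≠ ⊥ := fun e => by
    rw [e, card_bot] at c
    exact Fintype.one_lt_card.ne c
  obtain ⟨m, hm, m1, m2⟩ := H72.HKS.lx_two h.rg h.ne h.sub hne _ (H72.HKS.smul_mem_fx hr h.aF) _
    (H72.HKS.smul_mem_fx hr h.bF) fun e => h.ne (MulAction.injective r e)
  have s1 : m⁻¹ * r ∈ St G a b :=
    mem_St.2 ⟨by rw [mul_smul, ← m1, inv_smul_smul], by rw [mul_smul, ← m2, inv_smul_smul]⟩
  have s2 : m⁻¹ * r ∈ Cz z := mul_mem (inv_mem (h.LC hm)) hr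
  refine ⟨m, hm, m⁻¹ * r, ⟨⟨s1, s2⟩, ?_⟩, (mul_inv_cancel_left _ _).symm⟩
  obtain ⟨j, hj⟩ := r2
  have p1 := mul_pow_mem (inv_mem hm) (fun l hl => h.cjL hr hl) (2 ^ j)
  rw [hj, inv_one, mul_one] at p1
  have p2 := (T_le h ⟨p1, pow_mem s1 _⟩).2
  obtain ⟨i, o, ho, e⟩ := Nat.exists_eq_two_pow_mul_odd (orderOf_pos (m⁻¹ * r)).ne'
  have p3 : (m⁻¹ * r) ^ o ∈ centralizer (TT U a b z : Set G) := fun l hl =>
    (nf _ (pow_mem s1 o) (mem_Cz.1 (pow_mem s2 o))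
      ⟨i, by rw [← pow_mul, mul_comm, ← e, pow_orderOf_eq_one]⟩ l hl).symm
  generalize m⁻¹ * r = w at p2 p3 ⊢
  have := Nat.gcd_eq_gcd_ab (2 ^ j) o
  rw [(Nat.Coprime.pow_left j (Nat.coprime_two_left.2 ho)).gcd_eq_one, Nat.cast_one] at this
  rw [← zpow_one w, this, zpow_add, zpow_mul, zpow_mul, zpow_natCast, zpow_natCast]
  exact Subgroup.mul_mem _ (Subgroup.zpow_mem _ p2 _) (Subgroup.zpow_mem _ p3 _)

/-- The linear representation on the elements inverted by `z`. -/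
theorem rep (k3 : Kit3.{u}) (hq : HasQ Ω z) (hv : Fr z v a b) (h' : S4 U a b v)
    (A : AS U a b z v) : ∃ (E : Type) (_ : Field E) (_ : Fintype E)
      (ρ : YY U a b z →* GL (Fin 2) E), (2 : E) ≠ 0 ∧
      (∀ g : YY U a b z, (π (ρ g) : PGL(2, E)) = 1 ↔ (g : G) ∈ TT U a b z) ∧
      (∀ g : YY U a b z, (g : G) = z → (ρ g).val = (-1 : E) • 1) ∧
      ∀ p : ℕ, p.Prime → p ∣ Fintype.card E → ∀ κ ∈ Kh Ω {z}, κ ^ p = 1 → κ = 1 := by
  obtain ⟨E, _, _, x, y, L, -, eL, cE, -⟩ := h'.data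
  have C : Cx U x y _ _ a b := ⟨h.rg.sr, h.ne, inf_le_left, inf_le_left, L⟩
  have sc : ∀ τ ∈ TT U a b z, ∃ l : E, l ≠ 0 ∧ ∀ c, τ * x c * τ⁻¹ = x (l * c) := fun τ hτ =>
    (k3.sy1 h.rg h.ne h'.sub L).2.2.2.2.2 τ hτ.2 (nor_sing.2 (mem_Cz.2 (A.cv τ hτ)))
      fun l hl => A.comm τ hτ l hl
  have sc' : ∀ l : E, l ≠ 0 → ∃ τ ∈ TT U a b z, ∀ c, τ * x c * τ⁻¹ = x (l * c) := fun l hl => by
    obtain ⟨τ, hτ, e⟩ := A.tr _ (C.xA 1) _ (C.xA l) (H7.HKT.x_ne L one_ne_zero) (H7.HKT.x_ne L hl)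
    obtain ⟨l', -, e'⟩ := sc τ hτ
    obtain rfl : l' = l := by rw [← mul_one l', L.inj ((e' 1).symm.trans e)]
    exact ⟨τ, hτ, e'⟩
  have zi := h.tinv
  have zx : ∀ c, z * x c * z = (x c)⁻¹ := fun c =>
    h.c4.neg h.ne (H7.HKT.fr_symm hv) _ (C.xA c)
  obtain ⟨κ, hκ, good⟩ : ∃ κ ∈ Kh Ω {z}, ∀ c d, x c = κ * x d * κ⁻¹ → c = 0 := by
    by_contra hc
    push Not at hc
    have key : ∀ κ ∈ Kh Ω {z}, ∃ μ : E, μ ≠ 0 ∧ ∀ e, κ * x e * κ⁻¹ = x (μ * e) := fun κ hκ => by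
      obtain ⟨c, d, e1, c0⟩ := hc κ hκ
      have d0 : d ≠ 0 := fun e => H7.HKT.x_ne L c0 (by
        rw [e1, e, L.rel.x_zero, mul_one, mul_inv_cancel])
      refine ⟨c / d, div_ne_zero c0 d0, fun e => ?_⟩
      by_cases e0 : e = 0
      · rw [e0, mul_zero, L.rel.x_zero, mul_one, mul_inv_cancel]
      obtain ⟨τ, hτ, e2⟩ := sc' (e / d) (div_ne_zero e0 d0)
      have e3 := e2 d
      rw [div_mul_cancel₀ _ d0] at e3
      rw [← e3, show c / d * e = e / d * c by ring, ← e2, e1]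
      calc _ = (κ * τ) * x d * (κ * τ)⁻¹ := by group
        _ = _ := by rw [h.KL hκ hτ.1]; group
    obtain ⟨k, hk, k', hk', k2, -, kk⟩ := hq
    obtain ⟨μ, μ0, e1⟩ := key k hk
    obtain ⟨μ', μ0', e2⟩ := key k' hk'
    have e3 : k' * k = z * (k * k') := by
      rw [mul_inv_eq_iff_eq_mul.1 kk, ← mul_assoc, ← k2, inv_eq_iff_mul_eq_one.2 (show
        k * (k * k * k) = 1 by rw [← mul_assoc, ← mul_assoc, mul_assoc (k * k), k2, h.sq])]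
    have e4 : x (μ' * (μ * 1)) = z * x (μ * (μ' * 1)) * z := by
      rw [← e2, ← e1, ← e1, ← e2]
      calc _ = (k' * k) * x 1 * (k' * k)⁻¹ := by group
        _ = _ := by rw [e3, mul_inv_rev, zi]; group
    rw [zx, ← x_neg L.rel] at e4
    exact mul_ne_zero C.two_ne (mul_ne_zero μ0 μ0') (by linear_combination L.inj e4)
  let e : (Fin 2 → E) → G := fun w => x (w 0) * (κ * x (w 1) * κ⁻¹)
  have xU : ∀ c, x c ∈ U a := fun c => (C.xA c).1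
  have kU : ∀ c, κ * x c * κ⁻¹ ∈ U a := fun c => conj_U h.rg.toSp (h.KS hκ).1 (xU c)
  have eU : ∀ w, e w ∈ U a := fun w => mul_mem (xU _) (kU _)
  have add : ∀ u w, e (u + w) = e u * e w := fun u w => by
    simp only [e, Pi.add_apply]
    rw [← L.rel.x_add, ← L.rel.x_add, ← conj_mul (b := κ), mul_assoc (x (u 0)), mul_assoc (x (u 0)),
      ← mul_assoc (x (w 0)), A.ab _ (xU (w 0)) _ (kU (u 1)), mul_assoc _ (x (w 0))]
  have e0 : e 0 = 1 := by simpa using add 0 0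
  have en : ∀ w, e (-w) = (e w)⁻¹ := fun w =>
    eq_inv_of_mul_eq_one_left (by rw [← add, neg_add_cancel, e0])
  have inj : Function.Injective e := fun u w hh => by
    have e1 : e (u - w) = 1 := by rw [sub_eq_add_neg, add, en, hh, mul_inv_cancel]
    have e2 : x ((u - w) 0) = κ * x (-(u - w) 1) * κ⁻¹ := by
      rw [x_neg L.rel, ← conj_inv]; exact eq_inv_of_mul_eq_one_left e1
    have e3 := good _ _ e2
    rw [e3, L.rel.x_zero, eq_comm, conj_eq_one_iff] at e2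
    have e4 := neg_eq_zero.1 (L.inj (e2.trans L.rel.x_zero.symm))
    ext i
    fin_cases i
    exacts [sub_eq_zero.1 e3, sub_eq_zero.1 e4]
  have ez : ∀ w, z * e w * z = (e w)⁻¹ := fun w => by
    have : z * (κ * x (w 1) * κ⁻¹) * z = (κ * x (w 1) * κ⁻¹)⁻¹ := by
      rw [conj_inv, ← zx]
      calc _ = (z * κ) * x (w 1) * (z⁻¹ * κ)⁻¹ := by group
        _ = _ := by rw [zi, ← mem_Cz.1 hκ.2, mul_inv_rev, zi]; group
    calc _ = z * x (w 0) * z * (z * (κ * x (w 1) * κ⁻¹) * z) := by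
          rw [show ∀ s t : G, z * s * z * (z * t * z) = z * s * (z * z) * t * z from
            fun s t => by group, h.sq]; simp only [e]; group
      _ = _ := by rw [zx, this, ← mul_inv_rev, A.ab _ (kU _) _ (xU _)]
  have cE2 : Nat.card (Fin 2 → E) = Fintype.card E ^ 2 := by simp
  have sur : ∀ u ∈ U a, z * u * z = u⁻¹ → ∃ w, e w = u := by
    have : Set.range e = {u | u ∈ U a ∧ z * u * z = u⁻¹} := by
      refine Set.eq_of_subset_of_ncard_le (by rintro _ ⟨w, rfl⟩; exact ⟨eU w, ez w⟩) ?_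
      rw [Set.ncard_range_of_injective inj, cE2]
      refine (Set.ncard_le_ncard (t := Set.range fun p : CU U {v} a × CU U {z * v} a =>
        (p.1 * p.2 : G)) ?_).trans ((Finite.card_range_le _).trans ?_)
      · rintro u ⟨hu, e1⟩
        obtain ⟨w₁, h1, w₂, h2, w₃, h3, rfl⟩ := H72.HKS.wie_prod (h.rg.odd a)
          (norm_U h.rg.toSp h.iv.1.1) (norm_U h.rg.toSp h'.iv.1.1) h.sq h'.sq hv.2.2.2 hu
          (h.rg.nil a)
        have n2 := h.c4.neg h.ne (H7.HKT.fr_symm hv) _ h2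
        have n3 := h.c4.neg h.ne (H7.HKT.fr_symm (H7.HKT.fr_mul hv)) _ h3
        have n1 : z * w₁ * z = w₁ := by rw [← mem_Cz.1 h1.2, mul_assoc, h.sq, mul_one]
        have : w₁ * w₂⁻¹ * w₃⁻¹ = w₁⁻¹ * w₂⁻¹ * w₃⁻¹ := by
          rw [← mul_inv_rev, ← mul_inv_rev w₃, A.ab _ h2.1 _ h1.1, A.ab _ h3.1 _ (mul_mem h1.1 h2.1),
            ← e1, ← n2, ← n3]
          nth_rewrite 1 [← n1]
          rw [show ∀ s t r : G, z * s * z * (z * t * z) * (z * r * z) =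
            z * s * (z * z) * t * (z * z) * r * z from fun s t r => by group, h.sq]; group
        have e2 : w₁ = 1 := eq_one_of_sq (h.rg.odd a) h1.1 (by
          nth_rewrite 1 [mul_right_cancel (mul_right_cancel this)]; exact inv_mul_cancel _)
        exact ⟨(⟨w₂, h2⟩, ⟨w₃, h3⟩), by rw [e2, one_mul]⟩
      · rw [Nat.card_prod, A.czv, ← A.cz, cE, sq]
    exact fun u h1 h2 => this.ge ⟨h1, h2⟩
  have eT : ∀ τ ∈ TT U a b z, ∀ l, (∀ c, τ * x c * τ⁻¹ = x (l * c)) →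
      ∀ w, τ * e w * τ⁻¹ = e (l • w) := fun τ hτ l hl w => by
    simp only [e, Pi.smul_apply, smul_eq_mul, ← hl, ← conj_mul (b := τ)]
    congr 1
    calc _ = (τ * κ) * x (w 1) * (τ * κ)⁻¹ := by group
      _ = _ := by rw [← h.KL hκ hτ.1]; group
  obtain ⟨ρ, hρ⟩ := exists_rep (YY U a b z) e inj add (fun g hg u => by
      obtain ⟨w, hw⟩ := sur _ (conj_U h.rg.toSp hg.1.1.1 (eU u)) (by
        rw [conj_inv, ← ez]
        calc _ = (z * g) * e u * (z⁻¹ * g)⁻¹ := by group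
          _ = _ := by rw [zi, ← mem_Cz.1 hg.1.2, mul_inv_rev, zi]; group)
      exact ⟨w, hw.symm⟩) fun l hl => by
    obtain ⟨τ, hτ, e1⟩ := sc' l hl
    exact ⟨τ, fun g hg => (hg.2 τ hτ).symm, eT τ hτ l e1⟩
  refine ⟨E, inferInstance, inferInstance, ρ, C.two_ne, fun g => ?_, fun g hg => ?_, fun p hp hd κ' hκ' kp => ?_⟩
  · rw [C6.mk_eq_one, Geo.mem_scalars_iff]
    constructor
    · rintro ⟨c, hc⟩
      obtain ⟨τ, hτ, e1⟩ := sc' c c.ne_zero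
      have := A.cW (τ⁻¹ * g) (mul_mem (inv_mem hτ.2) g.2.1.1) fun u hu hz => by
        obtain ⟨w, rfl⟩ := sur u hu hz
        have e2 := hρ g w
        rw [hc, Matrix.smul_mulVec, Matrix.one_mulVec, ← eT τ hτ _ e1] at e2
        calc _ = τ⁻¹ * (g * e w * (g : G)⁻¹) * g := by group
          _ = _ := by rw [e2]; group
      rwa [← inv_mul_eq_one.1 this]
    · intro hg
      obtain ⟨l, l0, e1⟩ := sc _ hg
      exact ⟨Units.mk0 l l0, Matrix.ext_iff_mulVec.2 fun w => inj (by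
        rw [← hρ, eT _ hg l e1, Matrix.smul_mulVec, Matrix.one_mulVec]; rfl)⟩
  · exact Matrix.ext_iff_mulVec.2 fun w => inj (by
      rw [← hρ, hg, zi, ez, Matrix.smul_mulVec, Matrix.one_mulVec, neg_one_smul, en])
  · obtain ⟨_, ⟨w, w0, rfl⟩, hw⟩ := fix_of_prime (G := ConjAct G) (Ω := G) (S := e '' {0}ᶜ)
      (g := ConjAct.toConjAct κ') (Set.toFinite _) hp (by rw [← map_pow, kp, map_one])
      (by
        rintro _ ⟨w, w0, rfl⟩
        refine ⟨_, fun e1 => w0 ?_, (hρ ⟨κ', K_le h hκ'⟩ w).symm⟩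
        have := hρ ⟨κ', K_le h hκ'⟩ w
        rw [e1, e0, conj_eq_one_iff, ← e0] at this
        exact inj this)
      (by
        rw [Set.ncard_image_of_injective _ inj, Set.ncard_compl, Set.ncard_singleton, cE2]
        exact fun h => hp.one_lt.ne' (Nat.dvd_one.1 ((Nat.dvd_sub_iff_right
          (Nat.one_le_pow _ _ Fintype.card_pos) (hd.trans (dvd_pow_self _ two_ne_zero))).1 h)))
    exact (A.semiK κ' hκ' _ (eU w) (ez w) (mul_inv_eq_iff_eq_mul.1 hw)).resolve_right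
      fun e1 => w0 (inj (e1.trans e0.symm))

/-- `k` is a square modulo `L_z`. -/
def Sq (U : Ω → Subgroup G) (z k : G) : Prop :=
  ∃ r ∈ Cz z, Two r ∧ ∃ l ∈ LX U {z}, r * r = l * k

theorem step (k3 : Kit3.{u}) (one : H89.K.One G) (nf : NF U z a b) {n : G} (hn : n ∈ LX U {z})
    (n2 : n * n = z) (hk : k ∈ Kh Ω {z}) (k2 : k * k = z) :
    ∃ g : G, g * (n * k) * g⁻¹ = z ∧ ∃ l ∈ LX U {z}, ∃ κ ∈ Kh Ω {z}, l * l = z ∧ κ * κ = z ∧
      g * z * g⁻¹ = l * κ ∧ Sq U z κ := by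
  have c := h.KL hk hn
  have nK : ∀ s ∈ Kh Ω {z}, n * k ≠ s := fun s hs e => by
    have : n ∈ Kh Ω {z} := by rw [eq_mul_inv_of_mul_eq e]; exact mul_mem hs (inv_mem hk)
    rcases h.LK hn this with e | e
    · exact h.t1 (by rw [← n2, e, mul_one])
    · exact h.t1 (by rw [← n2, e, h.sq])
  obtain ⟨g, hg⟩ := isConj_iff.1 (one (n * k) z (ord2 (nK 1 (one_mem _)) (by
    rw [mul_assoc, ← mul_assoc k, c, mul_assoc, k2, ← mul_assoc, n2, h.sq])) h.iv.2)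
  have r1 : g * n * g⁻¹ ∈ Cz z := mem_Cz.2 (by
    rw [← hg, conj_mul, conj_mul, mul_assoc n k, c])
  have r2 : g * n * g⁻¹ * (g * n * g⁻¹) = g * z * g⁻¹ := cj_sq n2 g
  have u2 : g * z * g⁻¹ * (g * z * g⁻¹) = 1 := by rw [conj_mul, h.sq, mul_one, mul_inv_cancel]
  have r4 : Two (g * n * g⁻¹) := ⟨2, by
    rw [show (2 : ℕ) ^ 2 = 2 * 2 from rfl, pow_mul, sq, sq, r2, u2]⟩
  obtain ⟨m, hm, w, hw, e⟩ := dec2 h nf r1 r4
  obtain ⟨τ, hτ, κ, hκ, e'⟩ := Y_sq h k3 hw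
  have hl : m * (w * m * w⁻¹) * τ ∈ LX U {z} := mul_mem (mul_mem hm (h.cjL hw.1.2 hm)) hτ.1
  have e1 : g * z * g⁻¹ = m * (w * m * w⁻¹) * τ * κ := by
    rw [← r2, e, mul_assoc _ τ, ← e']; group
  obtain ⟨l2, κ2⟩ := h.lk_sq hl hκ (e1 ▸ u2) (e1 ▸ fun e => h.t1 (conj_eq_one_iff.1 e))
    (e1 ▸ fun e => nK z t_mem_Kh (by
      rw [← e] at hg
      exact mul_left_cancel (mul_right_cancel hg)))
  exact ⟨g, hg, _, hl, κ, hκ, l2, κ2, e1, _, r1, r4, _, hl, r2.trans e1⟩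

theorem not_dih (k3 : Kit3.{u}) (one : H89.K.One G) (nf : NF U z a b) (hq : HasQ Ω z)
    (D : ∀ κ ∈ Kh Ω {z}, ∀ κ' ∈ Kh Ω {z}, κ * κ = z → κ' * κ' = z → Sq U z κ → Sq U z κ' →
      κ' = κ ∨ κ' = z * κ) : False := by
  obtain ⟨F, _, _, x, y, L, ez, eL, -⟩ := h.data
  have hn : sl2n x y 1 ∈ LX U {z} := eL ▸ H7.HKT.n_mem L 1
  have n2 : sl2n x y 1 * sl2n x y 1 = z := by rw [L.rel.n_one_sq, ez]
  generalize sl2n x y 1 = n at hn n2
  obtain ⟨k, hk, k', hk', k2, k2', kk⟩ := hq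
  obtain ⟨-, -, -, -, k₀, hk₀, -, k0, -, sq0⟩ := step h k3 one nf hn n2 hk k2
  have key : ∀ κ ∈ Kh Ω {z}, κ * κ = z → ∃ g : G, g * (n * κ) * g⁻¹ = z ∧
      g * z * g⁻¹ = n * k₀ := fun κ hκ κ2 => by
    obtain ⟨g, g1, l, hl, κ₁, hκ₁, l2, κ₁2, g2, sq1⟩ := step h k3 one nf hn n2 hκ κ2
    obtain ⟨l', hl', l2', g3⟩ : ∃ l' ∈ LX U {z}, l' * l' = z ∧ g * z * g⁻¹ = l' * k₀ := by
      rcases D _ hk₀ _ hκ₁ k0 κ₁2 sq0 sq1 with e | e
      · exact ⟨l, hl, l2, e ▸ g2⟩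
      · refine ⟨l * z, mul_mem hl h.sl, ?_, by rw [g2, e, mul_assoc]⟩
        rw [mul_assoc, ← mul_assoc z, ← mem_Cz.1 (h.LC hl), mul_assoc, h.sq, mul_one, l2]
    obtain ⟨m, hm, e⟩ := h.L4 k3 hl' hn l2' n2
    refine ⟨m * g, ?_, ?_⟩
    · calc _ = m * (g * (n * κ) * g⁻¹) * m⁻¹ := by group
        _ = _ := by rw [g1, mem_Cz.1 (h.LC hm), mul_inv_cancel_right]
    · calc _ = m * (g * z * g⁻¹) * m⁻¹ := by group
        _ = _ := by rw [g3, ← e, mul_assoc m, mul_assoc l', (Commute.inv_right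
          (show Commute k₀ m from h.KL hk₀ hm)).eq]; group
  have all : ∀ κ ∈ Kh Ω {z}, κ * κ = z → Sq U z κ := fun κ hκ κ2 => by
    obtain ⟨g, g1, g2⟩ := key κ hκ κ2
    obtain ⟨g₀, g3, g4⟩ := key k₀ hk₀ k0
    obtain ⟨r, r1, ⟨j, r2⟩, l, hl, r3⟩ := sq0
    have c : g⁻¹ * g₀ ∈ Cz z := mem_Cz.2 (by
      rw [← mul_inv_eq_iff_eq_mul]
      calc _ = g⁻¹ * (g₀ * z * g₀⁻¹) * g := by group
        _ = _ := by rw [g4, ← g2]; group)
    have c2 : g⁻¹ * g₀ * (n * k₀) * (g⁻¹ * g₀)⁻¹ = n * κ := by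
      calc _ = g⁻¹ * (g₀ * (n * k₀) * g₀⁻¹) * g := by group
        _ = _ := by rw [g3, ← g1]; group
    generalize g⁻¹ * g₀ = γ at c c2
    refine ⟨γ * r * γ⁻¹, mul_mem (mul_mem c r1) (inv_mem c),
      ⟨j, by rw [conj_pow, r2, mul_one, mul_inv_cancel]⟩, _,
      mul_mem (mul_mem (h.cjL c hl) (inv_mem (h.cjL c hn))) hn, ?_⟩
    rw [conj_mul, r3, mul_assoc _ n κ, ← c2]; group
  rcases D _ hk _ hk' k2 k2' (all k hk k2) (all k' hk' k2') with e | e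
  · rw [e, mul_inv_cancel_right] at kk
    exact h.t1 (by rw [← k2]; nth_rewrite 1 [kk]; exact inv_mul_cancel k)
  · rw [e, mul_assoc z k k, k2, h.sq, one_mul, mul_inv_rev, h.tinv] at kk
    exact h.t1 (mul_left_cancel (kk.trans (mul_one _).symm))

end G2

open G2 in
theorem jobG2a (k3 : Kit3.{u}) (as : JobAS.{u}) : JobG2a.{u} := by
  intro G Ω _ _ _ U a b z c4 hab hz sl one hq nf
  have h : S4 U a b z := ⟨⟨c4, hab, hz⟩, sl⟩
  obtain ⟨v, hv⟩ := c4.ex hab hz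
  have h' : S4 U a b v := h.of_conj hv.2.1 (one _ _ hz.2 hv.2.1.2)
  have A := as G Ω U a b z v c4 hab hv sl h'.sl
  have A' := as G Ω U a b v z c4 hab (H7.HKT.fr_symm hv) h'.sl sl
  obtain ⟨E, _, _, ρ, two, ker, neg, pp⟩ := rep h k3 hq hv h' A
  let ψ : YY U a b z →* PGL(2, E) := (π).comp ρ
  have ker' : ∀ g : YY U a b z, (g : G) ∈ Kh Ω {z} → ψ g = 1 → (g : G) = 1 ∨ (g : G) = z :=
    fun g hg e => h.LK ((ker g).1 e).1 hg
  have kz : ∀ g : YY U a b z, (g : G) = z → ψ g = 1 := fun g e => (ker g).2 (by rw [e]; exact z_T h)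
  have sq1 : ∀ {g : G}, g = 1 ∨ g = z → g * g = 1 := by
    rintro _ (rfl | rfl)
    exacts [mul_one 1, h.sq]
  obtain ⟨p, hp⟩ := CharP.exists E
  have hp' := Fact.mk (CharP.char_is_prime E p)
  have p2 : p ≠ 2 := by rintro rfl; exact two (CharP.cast_eq_zero E 2)
  rcases pgl_idx2 p p2 (H := ψ.range) (M := ((Kh Ω {z}).subgroupOf _).map ψ) (map_le_range _ _)
    (by
      rintro _ ⟨g, rfl⟩
      obtain ⟨τ, hτ, κ, hκ, e⟩ := Y_sq h k3 g.2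
      refine ⟨⟨κ, K_le h hκ⟩, hκ, ?_⟩
      rw [← map_mul, show g * g = ⟨τ, T_le h hτ⟩ * ⟨κ, K_le h hκ⟩ from Subtype.ext e, map_mul,
        show ψ ⟨τ, T_le h hτ⟩ = 1 from (ker _).2 hτ, one_mul])
    (fun hle => by
      obtain ⟨g, hg, ne⟩ := Y_ne h A A'
      obtain ⟨κ, hκ, e⟩ := hle ⟨⟨g, hg⟩, rfl⟩
      exact ne _ ((ker (⟨g, hg⟩ * κ⁻¹)).1 (show ψ _ = 1 by
        rw [map_mul, map_inv, e, mul_inv_cancel])) κ hκ (inv_mul_cancel_right _ _).symm)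
    (fun x hx => by
      obtain ⟨k, hk, k', hk', k2, -, kk⟩ := hq
      have e3 : (⟨k', K_le h hk'⟩ * ⟨k, K_le h hk⟩ : YY U a b z) =
          ⟨z, K_le h t_mem_Kh⟩ * (⟨k, K_le h hk⟩ * ⟨k', K_le h hk'⟩) := Subtype.ext (by
        change k' * k = z * (k * k')
        rw [mul_inv_eq_iff_eq_mul.1 kk, ← mul_assoc, ← k2, inv_eq_iff_mul_eq_one.2 (show
          k * (k * k * k) = 1 by rw [← mul_assoc, ← mul_assoc, mul_assoc (k * k), k2, h.sq])])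
      have := C6.eq_one_of_fix (c := -1) (hx ⟨⟨k', K_le h hk'⟩, rfl⟩) (hx ⟨⟨k, K_le h hk⟩, rfl⟩) (by
        rw [← Units.val_mul, ← map_mul, e3, map_mul, Units.val_mul, neg _ rfl, map_mul,
          Units.val_mul, Matrix.smul_mul, Matrix.one_mul])
      exact two (by linear_combination -this))
    (by
      rintro _ ⟨κ, hκ, rfl⟩ e
      rw [← map_pow] at e
      have e1 := sq1 (ker' (κ ^ p) (pow_mem (mem_subgroupOf.1 hκ) p) e)
      have e2 := pp p hp'.out (by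
        obtain ⟨n, -, hn⟩ := FiniteField.card E p
        rw [hn]; exact dvd_pow_self _ n.ne_zero) (κ * κ) (mul_mem hκ hκ) (by
          rw [(Commute.refl _).mul_pow]; exact e1)
      rcases h.Kinv hκ e2 with e3 | e3
      · rw [show κ = 1 from Subtype.ext e3, map_one]
      · exact kz _ e3) with ⟨o, c⟩ | D
  · refine ⟨hq, fun k hk k' hk' k2 k2' => ?_, fun g hg => ?_⟩
    · have := c _ ⟨⟨k', K_le h hk'⟩, hk', rfl⟩ (by rw [← map_mul]; exact kz _ k2') _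
        ⟨⟨k, K_le h hk⟩, hk, rfl⟩ (by rw [← map_mul]; exact kz _ k2)
      have ki : z * k = k⁻¹ := eq_inv_of_mul_eq_one_left (by rw [mul_assoc, k2, h.sq])
      rcases ker' (⟨k', K_le h hk'⟩ * ⟨k, K_le h hk⟩ * ⟨k', K_le h hk'⟩⁻¹ * ⟨k, K_le h hk⟩⁻¹)
        (mul_mem (mul_mem (mul_mem hk' hk) (inv_mem hk')) (inv_mem hk)) (by
          rw [map_mul, map_mul, map_mul, this, map_inv, map_inv]; group) with e | e
      · change k' * k * k'⁻¹ * k⁻¹ = 1 at e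
        rw [mul_inv_eq_one, mul_inv_eq_iff_eq_mul] at e
        exact (h.sq_eq hk hk' k2 k2' e.symm).imp_right fun e => Or.inl (e.trans ki)
      · change k' * k * k'⁻¹ * k⁻¹ = z at e
        exact Or.inr (Or.inr ((mul_inv_eq_iff_eq_mul.1 e).trans ki))
    · refine (o _ ⟨⟨g, K_le h hg⟩, hg, rfl⟩).imp (fun e => ?_) fun e => ?_
      · rw [← map_mul] at e
        exact (show g ^ 4 = g * g * (g * g) by simp only [pow_succ, pow_zero, one_mul,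
          mul_assoc]).trans (sq1 (ker' _ (mul_mem hg hg) e))
      · rw [← map_mul, ← map_mul] at e
        exact (show g ^ 6 = g * g * g * (g * g * g) by simp only [pow_succ, pow_zero, one_mul,
          mul_assoc]).trans (sq1 (ker' _ (mul_mem (mul_mem hg hg) hg) e))
  · refine (not_dih h k3 one nf hq fun κ hκ κ' hκ' κ2 κ2' s s' => ?_).elim
    have key : ∀ κ (hκ : κ ∈ Kh Ω {z}), κ * κ = z → Sq U z κ → ∃ g : YY U a b z,
        ψ g * ψ g = ψ ⟨κ, K_le h hκ⟩ ∧ ψ g * ψ g * (ψ g * ψ g) = 1 ∧ ψ g * ψ g ≠ 1 := by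
      rintro κ hκ κ2 ⟨r, r1, r2, l, hl, r3⟩
      obtain ⟨m, hm, g, hg, rfl⟩ := dec2 h nf r1 r2
      have e : ψ ⟨g, hg⟩ * ψ ⟨g, hg⟩ = ψ ⟨κ, K_le h hκ⟩ := by
        rw [← mul_inv_eq_one, ← map_inv, ← map_mul, ← map_mul]
        refine (ker _).2 (show g * g * κ⁻¹ ∈ TT U a b z from
          ⟨?_, mul_mem (mul_mem hg.1.1 hg.1.1) ((St G a b).inv_mem (h.KS hκ))⟩)
        have := mul_mem (inv_mem (mul_mem hm (h.cjL hg.1.2 hm))) hl
        rw [eq_mul_inv_of_mul_eq r3.symm] at this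
        rwa [show (m * (g * m * g⁻¹))⁻¹ * (m * g * (m * g) * κ⁻¹) = g * g * κ⁻¹ by group] at this
      refine ⟨_, e, by rw [e, ← map_mul]; exact kz _ κ2, fun e' => h.t1 ?_⟩
      rw [← κ2]
      exact sq1 (ker' _ hκ (e.symm.trans e'))
    obtain ⟨g, g1, g2, g3⟩ := key κ hκ κ2 s
    obtain ⟨g', g1', g2', g3'⟩ := key κ' hκ' κ2' s'
    have e := D _ ⟨g, rfl⟩ _ ⟨g', rfl⟩ g2 g3 g2' g3'
    rw [g1, g1'] at e
    refine (ker' (⟨κ', K_le h hκ'⟩ * ⟨κ, K_le h hκ⟩⁻¹) (mul_mem hκ' (inv_mem hκ)) (by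
      rw [map_mul, map_inv, e, mul_inv_cancel])).imp (fun e => mul_inv_eq_one.1 e)
      fun e => mul_inv_eq_iff_eq_mul.1 e

end H61.Hk
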