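import Cfsg.Agent.H91.CL3Spec

/-! CL3 tower, job Aff2. -/

set_option autoImplicit false

namespace H61.CL

open H91.CL AddSubgroup
open scoped Pointwise

theorem jobAff2 (idem : JobIDEM) (add1 : JobADD1) (ham : JobHAM) : JobAff2 := by
  intro V G _ _ _ _ _
  induction hn : Nat.card V using Nat.strong_induction_on generalizing V G with | _ n ih =>
  intro A h2 nA cA oA fA
  rcases subsingleton_or_nontrivial V with hV | hV
  · exact fun _ _ _ _ _ => Subsingleton.elim _ _
  rcases idem V G hV 2 A Nat.prime_two (fun v => (two_nsmul v).trans (h2 v)) nA cA oA with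
    ⟨J, d, hJ⟩ | ⟨K, _, _, _, hs, hc, -⟩
  swap
  · refine add1 V G K h2 ?_ hs
    obtain ⟨v, v0⟩ := exists_ne (0 : V)
    obtain ⟨a, ha, e⟩ : ∃ a ∈ A, a • v ≠ v := by by_contra! c; exact v0 (fA v c)
    obtain ⟨c, hc⟩ := hc a ha
    have := Fintype.ofFinite K
    rw [Nat.card_eq_fintype_card]
    exact Fintype.two_lt_card_iff.2 ⟨0, 1, c, zero_ne_one,
      fun k => v0 ((smul_eq_zero_iff_eq a).1 (by rw [hc, ← k, zero_smul])),
      fun k => e (by rw [hc, ← k, one_smul])⟩
  intro h h0 t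
  refine ham V G J d h h0 t fun W hW => ?_
  have st : ∀ (g : G) {x}, x ∈ W → x ≠ 0 → g • x ∈ W → g • W = W := fun g x hx x0 hg =>
    d.eq (d.perm g W hW) hW ((smul_ne_zero_iff_ne g).2 x0) (smul_mem_pointwise_smul x g W hx) hg
  obtain ⟨u, hu, u0⟩ := d.exists_ne hW
  obtain ⟨c, g₀, e0, e1, -⟩ := t 0 u u
  obtain rfl : c = 0 := by simpa [h0] using e0.symm
  have m : ∀ w ∈ W, g₀⁻¹ • h w ∈ W := fun w hw => by
    obtain ⟨c, g, e2, e3, e4⟩ := t 0 u w
    obtain rfl : c = 0 := by simpa [h0] using e2.symm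
    rw [e4, zero_add, ← mul_smul, ← st (g₀⁻¹ * g) hu u0 (by
      rw [mul_smul, ← zero_add (g • u), ← e3, e1, zero_add, inv_smul_smul]; exact hu)]
    exact smul_mem_pointwise_smul w _ W hw
  let k : Equiv.Perm W := Equiv.ofBijective (fun w => ⟨_, m w w.2⟩)
    (Finite.injective_iff_bijective.1 fun a b e =>
      Subtype.ext (h.injective (MulAction.injective _ (congrArg Subtype.val e))))
  let _ := subAct (H := MulAction.stabilizer G W) W fun g x hx =>
    (show g.1 • W = W from g.2).le (smul_mem_pointwise_smul x g.1 W hx)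
  have key := ih _ (hn ▸ card_lt (d.ne_top hW)) W (MulAction.stabilizer G W) rfl (A.subgroupOf _)
    (fun v => Subtype.ext (h2 v)) inferInstance (fun a ha b hb => Subtype.ext (cA _ ha _ hb))
    (fun c => oA (c.trans (Subgroup.card_comap_dvd_of_injective _ _ Subtype.val_injective)))
    (fun v hv => Subtype.ext (fA v fun a ha =>
      congrArg Subtype.val (hv ⟨a, hJ W hW a ha⟩ ha))) k
    (Subtype.ext (by simp [k, h0])) fun x y z => by
      by_cases e : x = y ∧ y = z
      · exact ⟨k x - x, 1, by simp, by simp [e.1], by simp [e.1, e.2]⟩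
      obtain ⟨c, g, e1, e2, e3⟩ := t x y z
      have s : ∀ {a b : W}, a ≠ b → h a = c + g • a.1 → h b = c + g • b.1 → (g₀⁻¹ * g) • W = W :=
        fun {a b} ab ea eb => st _ (sub_mem a.2 b.2) (sub_ne_zero.2 (Subtype.val_injective.ne ab)) (by
          rw [mul_smul, smul_sub, ← add_sub_add_left_eq_sub _ _ c, ← ea, ← eb, smul_sub]
          exact sub_mem (m _ a.2) (m _ b.2))
      have s' : (g₀⁻¹ * g) • W = W := (not_and_or.1 e).elim (s · e1 e2) (s · e2 e3)
      have f : ∀ {a : W}, h a = c + g • a.1 → (k a).1 = g₀⁻¹ • c + (g₀⁻¹ * g) • a.1 := fun ea => by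
        rw [mul_smul, ← smul_add, ← ea]; rfl
      exact ⟨⟨g₀⁻¹ • c, by
        rw [eq_sub_iff_add_eq.2 (f e1).symm]
        exact sub_mem (k x).2 (s'.le (smul_mem_pointwise_smul _ _ W x.2))⟩, ⟨_, s'⟩,
        Subtype.ext (f e1), Subtype.ext (f e2), Subtype.ext (f e3)⟩
  intro x hx y hy
  exact MulAction.injective g₀⁻¹ ((congrArg Subtype.val (key ⟨x, hx⟩ ⟨y, hy⟩)).trans (smul_add _ _ _).symm)

end H61.CL
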