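import Cfsg.Agent.H24.CxKit

/-! Tower CX, job Sec: abelian sections as coefficient systems. -/

set_option autoImplicit false

namespace H61.CXS

open Subgroup Cfsg H98 H24.Cx

universe u v

section
variable {G : Type u} [Group G] {A A' B B' : Subgroup G} {a b : G}

theorem of_mem_SU (ha : a ∈ A) : ZG.of a ∈ SU A := AddSubgroup.subset_closure ⟨a, ha, rfl⟩

theorem rel_mem (B : Subgroup G) (ha : a ∈ A) (hb : b ∈ A) :
    ZG.of (a * b) - ZG.of a - ZG.of b ∈ SV A B :=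
  AddSubgroup.subset_closure (Or.inl ⟨a, ha, b, hb, rfl⟩)

theorem of_mem_SV (A : Subgroup G) (hb : b ∈ B) : ZG.of b ∈ SV A B :=
  AddSubgroup.subset_closure (Or.inr ⟨b, hb, rfl⟩)

theorem SU_ind {W : Type v} [AddCommGroup W] (θ : ZG G →+ W) {N : AddSubgroup W}
    (h : ∀ a ∈ A, θ (ZG.of a) ∈ N) : ∀ w ∈ SU A, θ w ∈ N :=
  (AddSubgroup.closure_le (N.comap θ)).2 (by rintro _ ⟨a, ha, rfl⟩; exact h a ha)

theorem SV_ind {W : Type v} [AddCommGroup W] (θ : ZG G →+ W) {N : AddSubgroup W}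
    (h : ∀ a ∈ A, ∀ b ∈ A, θ (ZG.of (a * b)) - θ (ZG.of a) - θ (ZG.of b) ∈ N)
    (h' : ∀ b ∈ B, θ (ZG.of b) ∈ N) : ∀ w ∈ SV A B, θ w ∈ N :=
  (AddSubgroup.closure_le (N.comap θ)).2 (by
    rintro _ (⟨a, ha, b, hb, rfl⟩ | ⟨b, hb, rfl⟩)
    · show θ _ ∈ N
      rw [map_sub, map_sub]
      exact h a ha b hb
    · exact h' b hb)

theorem SU_le {N : AddSubgroup (ZG G)} (h : ∀ a ∈ A, ZG.of a ∈ N) : SU A ≤ N :=
  SU_ind (AddMonoidHom.id _) h

theorem SV_le {N : AddSubgroup (ZG G)}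
    (h : ∀ a ∈ A, ∀ b ∈ A, ZG.of (a * b) - ZG.of a - ZG.of b ∈ N) (h' : ∀ b ∈ B, ZG.of b ∈ N) :
    SV A B ≤ N := SV_ind (AddMonoidHom.id _) h h'

theorem SU_mono (h : A ≤ A') : SU A ≤ SU A' := SU_le fun _ ha => of_mem_SU (h ha)

theorem SV_mono (h : A ≤ A') (h' : B ≤ B') : SV A B ≤ SV A' B' :=
  SV_le (fun _ ha _ hb => rel_mem _ (h ha) (h hb)) fun _ hb => of_mem_SV _ (h' hb)

theorem SV_le_SU (h : B ≤ A) : SV A B ≤ SU A :=
  SV_le (fun _ ha _ hb => sub_mem (sub_mem (of_mem_SU (mul_mem ha hb)) (of_mem_SU ha)) (of_mem_SU hb))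
    fun _ hb => of_mem_SU (h hb)

theorem SU_le_SV (A B : Subgroup G) : SU B ≤ SV A B := SU_le fun _ hb => of_mem_SV _ hb

theorem conj_mem_cj (g : G) (ha : a ∈ A) : g * a * g⁻¹ ∈ cj g A := mem_cj.2 (by simpa [mul_assoc])

theorem smul_SU {g : G} (h : cj g A ≤ A') : ∀ w ∈ SU A, g • w ∈ SU A' :=
  SU_ind (DistribSMul.toAddMonoidHom _ g) fun a ha => by
    show g • ZG.of a ∈ _
    rw [ZG.smul_of]
    exact of_mem_SU (h (conj_mem_cj g ha))

theorem smul_SV {g : G} (h : cj g A ≤ A') (h' : cj g B ≤ B') : ∀ w ∈ SV A B, g • w ∈ SV A' B' :=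
  SV_ind (DistribSMul.toAddMonoidHom _ g) (fun a ha b hb => by
    show g • ZG.of (a * b) - g • ZG.of a - g • ZG.of b ∈ _
    rw [ZG.smul_of, ZG.smul_of, ZG.smul_of, ← conj_mul]
    exact rel_mem _ (h (conj_mem_cj g ha)) (h (conj_mem_cj g hb))) fun b hb => by
    show g • ZG.of b ∈ _
    rw [ZG.smul_of]
    exact of_mem_SV _ (h' (conj_mem_cj g hb))

theorem k1 (A B : Subgroup G) : ∀ w ∈ SU A, ∃ a ∈ A, w - ZG.of a ∈ SV A B := by
  intro w hw
  induction hw using AddSubgroup.closure_induction with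
  | mem w hw =>
    obtain ⟨a, ha, rfl⟩ := hw
    exact ⟨a, ha, by rw [sub_self]; exact zero_mem _⟩
  | zero => exact ⟨1, one_mem _, by rw [zero_sub]; exact neg_mem (of_mem_SV _ (one_mem _))⟩
  | add x y _ _ hx hy =>
    obtain ⟨a, ha, hx⟩ := hx
    obtain ⟨b, hb, hy⟩ := hy
    refine ⟨a * b, mul_mem ha hb, ?_⟩
    have := sub_mem (add_mem hx hy) (rel_mem B ha hb)
    rwa [show x - ZG.of a + (y - ZG.of b) - (ZG.of (a * b) - ZG.of a - ZG.of b) =
      x + y - ZG.of (a * b) by abel] at this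
  | neg x _ hx =>
    obtain ⟨a, ha, hx⟩ := hx
    refine ⟨a⁻¹, inv_mem ha, ?_⟩
    have := sub_mem (sub_mem (rel_mem B ha (inv_mem ha)) hx)
      (of_mem_SV A (show a * a⁻¹ ∈ B by rw [mul_inv_cancel]; exact one_mem _))
    rwa [show ZG.of (a * a⁻¹) - ZG.of a - ZG.of a⁻¹ - (x - ZG.of a) - ZG.of (a * a⁻¹) =
      -x - ZG.of a⁻¹ by abel] at this

theorem k2 (h : ∀ g ∈ A, ∀ a ∈ A, g * a * g⁻¹ * a⁻¹ ∈ B) (ha : a ∈ A) (hv : ZG.of a ∈ SV A B) :
    a ∈ B := by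
  classical
  have hn : (B.subgroupOf A).Normal := ⟨fun b hb g => mem_subgroupOf.2 (by
    have := mul_mem (h g g.2 b b.2) (mem_subgroupOf.1 hb)
    rwa [inv_mul_cancel_right] at this)⟩
  let _ : CommGroup (A ⧸ B.subgroupOf A) :=
    { (inferInstance : Group (A ⧸ B.subgroupOf A)) with
      mul_comm := fun x y => QuotientGroup.induction_on x fun x =>
        QuotientGroup.induction_on y fun y => by
          rw [← QuotientGroup.mk_mul, ← QuotientGroup.mk_mul, QuotientGroup.eq, mem_subgroupOf]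
          have := h _ (inv_mem y.2) _ (inv_mem x.2)
          simpa [mul_assoc] using this }
  let φ : G → Additive (A ⧸ B.subgroupOf A) := fun g =>
    if k : g ∈ A then Additive.ofMul (QuotientGroup.mk ⟨g, k⟩) else 0
  have hφ : ∀ g (k : g ∈ A), φ g = Additive.ofMul (QuotientGroup.mk ⟨g, k⟩) := fun g k => dif_pos k
  have := SV_ind (N := ⊥) (ZG.lift φ) (fun a ha b hb => by
    rw [ZG.lift_of, ZG.lift_of, ZG.lift_of, hφ a ha, hφ b hb, hφ _ (mul_mem ha hb),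
      AddSubgroup.mem_bot, sub_sub, ← ofMul_mul, ← QuotientGroup.mk_mul]
    exact sub_self _) (fun b hb => by
    rw [ZG.lift_of, AddSubgroup.mem_bot]
    by_cases k : b ∈ A
    · rw [hφ b k, (QuotientGroup.eq_one_iff _).2 (mem_subgroupOf.2 hb)]
      rfl
    · exact dif_neg k) _ hv
  rw [ZG.lift_of, hφ a ha, AddSubgroup.mem_bot] at this
  exact mem_subgroupOf.1 ((QuotientGroup.eq_one_iff (⟨a, ha⟩ : A)).1 this)

theorem k3 (h : B ≤ A) {k : G} (hk : ∀ a ∈ A, k * a * k⁻¹ * a⁻¹ ∈ B) :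
    ∀ w ∈ SU A, k • w - w ∈ SV A B :=
  SU_ind (DistribSMul.toAddMonoidHom _ k - AddMonoidHom.id _) fun a ha => by
    show k • ZG.of a - ZG.of a ∈ _
    have := add_mem (rel_mem B (h (hk a ha)) ha) (of_mem_SV A (hk a ha))
    rw [inv_mul_cancel_right] at this
    rw [ZG.smul_of]
    convert this using 1
    abel

theorem nsmul_of (B : Subgroup G) (ha : a ∈ A) (n : ℕ) : n • ZG.of a - ZG.of (a ^ n) ∈ SV A B := by
  induction n with
  | zero => rw [zero_nsmul, zero_sub, pow_zero]; exact neg_mem (of_mem_SV _ (one_mem _))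
  | succ n ih =>
    have := sub_mem ih (rel_mem B (pow_mem ha n) ha)
    rw [succ_nsmul, pow_succ]
    convert this using 1
    abel

theorem k4 (B : Subgroup G) {n : ℕ} (h : ∀ a ∈ A, a ^ n = 1) : ∀ w ∈ SU A, n • w ∈ SV A B :=
  SU_ind (nsmulAddMonoidHom n) fun a ha => by
    show n • ZG.of a ∈ _
    have := add_mem (nsmul_of B ha n) (of_mem_SV A (show a ^ n ∈ B by rw [h a ha]; exact one_mem _))
    rwa [sub_add_cancel] at this

end

section
variable {p : ℕ} {G : Type u} [Group G] {Γ Y P : Subgroup G} {C C' : Subgroup G → Prop}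
  {A B : Subgroup G → Subgroup G}

theorem secU_pos (h : C P) : secU C A P = SU (A P) := cut_pos h
theorem secU_neg (h : ¬ C P) : secU C A P = ⊤ := cut_neg h
theorem secV_pos (h : C P) : secV C A B P = SV (A P) (B P) := cut_pos h
theorem secV_neg (h : ¬ C P) : secV C A B P = ⊤ := cut_neg h

theorem k5 (hp : Pair p Γ Y) (h : SecH p Γ Y C A B) : Sys p Γ Y (secU C A) (secV C A B) := by
  refine ⟨fun P r => ?_, fun P Q r s e => ?_, fun P Q r s e => ?_, fun g hg P r w hw => ?_,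
    fun g hg P r w hw => ?_, fun P r g hg w hw => ?_⟩
  all_goals by_cases c : C P
  · rw [secU_pos c, secV_pos c]; exact SV_le_SU (h.le1 P r c)
  · rw [secU_neg c]; exact le_top
  · rw [secU_pos c, secU_pos (h.up.mono P Q r s e c)]; exact SU_mono (h.antiA P Q r s e c)
  · rw [secU_neg c]; exact le_top
  · rw [secV_pos c, secV_pos (h.up.mono P Q r s e c)]
    exact SV_mono (h.antiA P Q r s e c) (h.antiB P Q r s e c)
  · rw [secV_neg c]; exact le_top
  · rw [secU_pos c] at hw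
    rw [secU_pos (h.up.inv g hg P r c)]
    exact smul_SU (h.eqA g hg P r c) w hw
  · rw [secU_neg fun k => c ((h.up.inv' hp hg r).1 k)]; trivial
  · rw [secV_pos c] at hw
    rw [secV_pos (h.up.inv g hg P r c)]
    exact smul_SV (h.eqA g hg P r c) (h.eqB g hg P r c) w hw
  · rw [secV_neg fun k => c ((h.up.inv' hp hg r).1 k)]; trivial
  · rw [secU_pos c] at hw
    rw [secV_pos c]
    exact k3 (h.le1 P r c) (h.com P r c g hg) w hw
  · rw [secV_neg c]; trivial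

theorem secH_res (h : SecH p Γ Y C A B) (hC : Up p Γ Y C') (e : ∀ P, Rel p Γ Y P → C' P → C P) :
    SecH p Γ Y C' A B :=
  ⟨hC, fun P r c => h.le1 P r (e P r c), fun P r c => h.le2 P r (e P r c),
    fun P r c => h.com P r (e P r c), fun P Q r s k c => h.antiA P Q r s k (e P r c),
    fun P Q r s k c => h.antiB P Q r s k (e P r c), fun g hg P r c => h.eqA g hg P r (e P r c),
    fun g hg P r c => h.eqB g hg P r (e P r c)⟩

theorem exists_exp [Finite G] [Fact p.Prime] (h : IsPGroup p P) :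
    ∃ e : ℕ, ∀ a ∈ P, a ^ p ^ e = 1 := by
  obtain ⟨e, he⟩ := h.exists_card_eq
  exact ⟨e, fun a ha => by
    rw [← he]; exact congrArg Subtype.val (pow_card_eq_one' (x := (⟨a, ha⟩ : P)))⟩

end

theorem secK : SecK.{u} := fun _ _ A B =>
  ⟨k1 A B, fun _ h _ ha hv => k2 h ha hv, fun h _ hk => k3 h hk, fun _ h => k4 B h,
    fun _ _ _ _ _ _ hp h => k5 hp h⟩

section
variable {p : ℕ} {G X : Type u} [Group G] [MulAction G X] {Γ Y : Subgroup G}
  {C C' : Subgroup G → Prop} {A A₁ A₂ B : Subgroup G → Subgroup G} {n : ℕ}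

theorem match_sec {A₁ A₂ B : Subgroup G} (h : A₂ ≤ A₁)
    (hc : ∀ g ∈ A₁, ∀ a ∈ A₁, g * a * g⁻¹ * a⁻¹ ∈ B) :
    Match (AddMonoidHom.id (ZG G)) (SU A₂) (SV A₂ B) (SV A₁ A₂) (SV A₁ B) := by
  refine Or.inr ⟨fun w hw => SU_le_SV _ _ hw, fun w hw => ?_, fun w hw => ⟨fun k => ?_, fun k => ?_⟩⟩
  · have : SV A₁ A₂ ≤ SU A₂ ⊔ SV A₁ B :=
      SV_le (fun a ha b hb => AddSubgroup.mem_sup_right (rel_mem B ha hb))
        fun b hb => AddSubgroup.mem_sup_left (of_mem_SU hb)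
    obtain ⟨x, hx, y, hy, rfl⟩ := AddSubgroup.mem_sup.1 (this hw)
    exact ⟨x, hx, by rwa [AddMonoidHom.id_apply, add_sub_cancel_left]⟩
  · obtain ⟨a, ha, e⟩ := k1 A₂ B w hw
    have e1 : ZG.of a ∈ SV A₁ B := by
      have := sub_mem k (SV_mono h le_rfl e)
      rwa [AddMonoidHom.id_apply, sub_sub_cancel] at this
    have := add_mem e (of_mem_SV A₂ (k2 hc (h ha) e1))
    rwa [sub_add_cancel] at this
  · exact SV_mono h le_rfl k

theorem l1 (hX : Good p G X) (hp : Pair p Γ Y) (h1 : SecH p Γ Y C A₁ B) (h2 : SecH p Γ Y C A₂ B)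
    (h3 : SecH p Γ Y C A₁ A₂) (v1 : Van X Γ Y (secU C A₁) (secV C A₁ B) n)
    (v2 : Van X Γ Y (secU C A₂) (secV C A₂ B) (n + 1)) :
    Van X Γ Y (secU C A₁) (secV C A₁ A₂) n := by
  have e : ∀ P, Rel p Γ Y P → secV C A₁ B P ≤ secV C A₁ A₂ P := fun P r => by
    by_cases c : C P
    · rw [secV_pos c, secV_pos c]; exact SV_mono le_rfl (h2.le1 P r c)
    · rw [secV_neg c, secV_neg c]
  refine van_quot hX hp (k5 hp h1) (k5 hp h3) e v1 ((van_iso hX hp (k5 hp h2)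
    ((k5 hp h1).mid (k5 hp h3) e) (AddMonoidHom.id _) (fun _ _ _ => rfl) fun P r => ?_).1 v2)
  by_cases c : C P
  · rw [secU_pos c, secV_pos c, secV_pos c, secV_pos c]
    exact match_sec (h3.le1 P r c) fun g hg => h1.com P r c g (h1.le2 P r c hg)
  · rw [secV_neg c, secV_neg c, secV_neg c]
    exact Or.inl ⟨le_top, le_top⟩

theorem l2 [Finite G] [Fact p.Prime] (av : JobAV.{u}) (hX : Good p G X) (hp : Pair p Γ Y)
    (h : SecH p Γ Y C A B) (hC : Up p Γ Y C') (e : ∀ P, Rel p Γ Y P → C' P → C P)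
    (k : ∀ P, Rel p Γ Y P → C P → ¬ C' P → ∃ K : Subgroup G, K ≤ Γ ⊓ normalizer (P : Set G) ∧
      Γ ⊓ normalizer (P : Set G) ≤ normalizer (K : Set G) ∧ p ∣ (P ⊓ K).relIndex K ∧
      ∀ k ∈ K, ∀ a ∈ A P, k * a * k⁻¹ * a⁻¹ ∈ B P)
    (v : Van X Γ Y (secU C A) (secV C A B) n) : Van X Γ Y (secU C' A) (secV C' A B) n := by
  have s := k5 hp h
  refine (van_congr hX hp (s.cutR hp hC) (k5 hp (secH_res h hC e)) fun P r => ?_).1
    (van_quot hX hp s (s.cutR hp hC) (fun P r => s.le_cut r) v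
      (av p G X (ZG G) Γ Y _ _ hX hp (s.cutL hp hC) (fun P r ne => ?_) _))
  · by_cases c : C' P
    · refine Or.inr ⟨?_, ?_⟩
      · rw [secU_pos c, secU_pos (e P r c)]
      · rw [cut_pos c, secV_pos c, secV_pos (e P r c)]
    · exact Or.inl ⟨by rw [cut_neg c], by rw [secV_neg c]; exact le_top⟩
  · have c' : ¬ C' P := fun c => ne (by rw [cut_pos c])
    have c : C P := by_contra fun c => ne (by rw [secV_neg c]; exact le_top)
    obtain ⟨K, a1, a2, a3, a4⟩ := k P r c c'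
    obtain ⟨m, hm⟩ := exists_exp r.isP
    rw [cut_neg c', secU_pos c, secV_pos c]
    exact ⟨K, a1, a2, a3, fun g hg w hw _ => k3 (h.le1 P r c) (a4 g hg) w hw, m,
      k4 _ fun a ha => hm a (h.le2 P r c ha)⟩

theorem l3 [Finite G] [Fact p.Prime] (hX : Good p G X) (hp : Pair p Γ Y) (h : Y ≤ center G) :
    Van X Γ Y (secU (fun _ => True) fun _ => Y) (secV (fun _ => True) (fun _ => Y) fun _ => ⊥)
      (n + 1) := by
  have hc : ∀ g : G, ∀ a ∈ Y, g * a * g⁻¹ * a⁻¹ ∈ (⊥ : Subgroup G) := fun g a ha => by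
    rw [mem_center_iff.1 (h ha) g, mul_inv_cancel_right, mul_inv_cancel]
    exact one_mem _
  have h1 : ∀ g ∈ Γ, ∀ w ∈ SU Y, g • w ∈ SU Y := fun g hg => smul_SU (cj_eq_self (hp.nor hg)).le
  have h2 : ∀ g ∈ Γ, ∀ w ∈ SV Y ⊥, g • w ∈ SV Y ⊥ := fun g hg =>
    smul_SV (cj_eq_self (hp.nor hg)).le (cj_bot g).le
  have s : SecH p Γ Y (fun _ => True) (fun _ => Y) fun _ => ⊥ :=
    ⟨up_true, fun _ _ _ => bot_le, fun _ r _ => r.ge, fun _ _ _ g _ => hc g,
      fun _ _ _ _ _ _ => le_rfl, fun _ _ _ _ _ _ => le_rfl,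
      fun _ hg _ _ _ => (cj_eq_self (hp.nor hg)).le, fun g _ _ _ _ => (cj_bot g).le⟩
  obtain ⟨m, hm⟩ := exists_exp hp.isP
  refine (van_congr hX hp (sys_fixMod (SV_le_SU bot_le) h1 h2) (k5 hp s) fun P _ =>
    Or.inr ⟨?_, ?_⟩).1 (van_cone hX hp h1 h2 (k4 ⊥ hm))
  · rw [secU_pos trivial]
    exact le_antisymm (fun _ a => a.1) fun w hw => ⟨hw, fun g _ => k3 bot_le (hc g) w hw⟩
  · rw [secV_pos trivial]

end

theorem jobSecL : JobSecL.{u} := fun av _ _ _ _ _ _ _ _ _ _ hX hp =>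
  ⟨fun _ _ _ _ _ => l1 hX hp, fun _ _ _ _ _ => l2 av hX hp, fun _ => l3 hX hp⟩

end H61.CXS
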