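import Cfsg.Agent.H96.U2CenSpec

/-! S3275, central case: the piece Q4a. -/

set_option autoImplicit false

namespace H61.CenQ4a
open Subgroup H98 H48.DP H96.Cen
universe u

theorem exists_three {Γ : Type*} [Group Γ] {x : Γ} (k : ℕ) (h : x ^ 3 ^ k = 1) (h1 : x ≠ 1) :
    ∃ j : ℕ, x ^ j ≠ 1 ∧ (x ^ j) ^ 3 = 1 := by
  induction k with
  | zero => exact absurd (by simpa using h) h1
  | succ k ih =>
    by_cases hk : x ^ 3 ^ k = 1
    · exact ih hk
    · exact ⟨3 ^ k, hk, by rw [← pow_mul, ← pow_succ, h]⟩

theorem core (ol : OL.{u}) (W : Type u) [AddCommGroup W] [Finite W] (F : Subgroup (Au W))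
    (a x : Au W) (v c : W) (q : Qd F a v c) (h27 : 27 ≤ Nat.card F) (x1 : x ≠ 1)
    (x3 : x ^ 3 = 1) (hc : ∀ f ∈ F, Commute x f) (hi : a * x * a = x⁻¹) : False := by
  classical
  have two := q.two
  have xxx : ∀ p : W, x • x • x • p = p := fun p => by
    rw [← mul_smul, ← mul_smul, ← pow_three', x3, one_smul]
  have xinv : x⁻¹ = x * x := by
    rw [inv_eq_iff_mul_eq_one, ← pow_three, x3]
  have ax : ∀ p : W, a • x • p = x • x • a • p := fun p => by
    have : a * x = x * x * a := by
      rw [← xinv, ← hi, mul_assoc, q.aa, mul_one]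
    rw [← mul_smul, this, mul_smul, mul_smul]
  have xa : ∀ p : W, x • a • p = a • x • x • p := fun p => by rw [ax, ax, xxx]
  let N : AddSubgroup W :=
    { carrier := {p | p + x • p + x • x • p = 0}
      zero_mem' := by simp
      add_mem' := fun {p r} hp hr => by
        simp only [Set.mem_ofPred_eq, smul_add] at *
        linear_combination (norm := abel1) hp + hr
      neg_mem' := fun {p} hp => by
        simp only [Set.mem_ofPred_eq, smul_neg] at *
        linear_combination (norm := abel1) -hp }
  let Z : AddSubgroup W :=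
    { carrier := {p | x • p = p}
      zero_mem' := by simp
      add_mem' := fun {p r} hp hr => by
        simp only [Set.mem_ofPred_eq, smul_add] at *
        rw [hp, hr]
      neg_mem' := fun {p} hp => by
        simp only [Set.mem_ofPred_eq, smul_neg] at *
        rw [hp] }
  have mN : ∀ {p : W}, p ∈ N ↔ p + x • p + x • x • p = 0 := Iff.rfl
  have mZ : ∀ {p : W}, p ∈ Z ↔ x • p = p := Iff.rfl
  have cf : ∀ f ∈ F, ∀ p : W, x • f • p = f • x • p := fun f hf p => by
    rw [← mul_smul, (hc f hf).eq, mul_smul]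
  have fN : ∀ f ∈ F, ∀ p ∈ N, f • p ∈ N := fun f hf p hp => by
    rw [mN] at *
    rw [cf f hf, cf f hf, ← smul_add, ← smul_add, hp, smul_zero]
  have fZ : ∀ f ∈ F, ∀ p ∈ Z, f • p ∈ Z := fun f hf p hp => by
    rw [mZ] at *
    rw [cf f hf, hp]
  have xN : ∀ p ∈ N, x • p ∈ N := fun p hp => by
    rw [mN] at *
    rw [← smul_add, ← smul_add, hp, smul_zero]
  have aN : ∀ p ∈ N, a • p ∈ N := fun p hp => by
    rw [mN] at *
    rw [← ax, xa, ← smul_add, ← smul_add, add_right_comm, hp, smul_zero]
  have aZ : ∀ p ∈ Z, a • p ∈ Z := fun p hp => by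
    rw [mZ] at *
    rw [xa, hp, hp]
  have NZ : ∀ p ∈ N, p ∈ Z → p = 0 := fun p hp hz => by
    rw [mN] at hp; rw [mZ] at hz
    rw [hz, hz, two, zero_add] at hp
    exact hp
  have dec : ∀ p : W, ∃ r ∈ N, ∃ z ∈ Z, p = r + z := fun p =>
    ⟨x • p + x • x • p, by
      rw [mN]; simp only [smul_add, xxx]
      linear_combination (norm := abel1) two p + two (x • p) + two (x • x • p),
    p + x • p + x • x • p, by
      rw [mZ]; simp only [smul_add, xxx]; abel, by
      linear_combination (norm := abel1) -two (x • p) - two (x • x • p)⟩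
  set I : Finset W := {0, v, c, v + c} with hI
  have cI : I.card ≤ 4 := Finset.card_le_four
  have mI : ∀ p : W, a • p + p ∈ I := fun p => by
    have e : ∀ w : W, p + w + p = w := fun w => by
      linear_combination (norm := abel1) two p
    rcases q.im p with h | h | h | h <;> rw [h] <;> simp [hI, two, e]
  by_cases vN : v ∈ N
  · set S : Finset W := (I ×ˢ I).image fun ij => ij.1 + x • ij.2 with hS
    have cS : S.card ≤ 16 := Finset.card_image_le.trans (by
      rw [Finset.card_product]; nlinarith)
    have NS : ∀ p ∈ N, p ∈ S := fun p hp => by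
      refine Finset.mem_image.2 ⟨(a • x • a • p + x • a • p, a • p + p),
        Finset.mem_product.2 ⟨mI _, mI _⟩, ?_⟩
      have e : a • x • a • p = x • x • p := by
        rw [ax, ← mul_smul a a, q.aa, one_smul]
      rw [mN] at hp
      simp only [smul_add, e]
      linear_combination (norm := abel1) hp + two (x • a • p) - two p
    have := Nat.card_le_card_of_injective
      (fun f : F => (⟨(f : Au W) • v, NS _ (fN f f.2 v vN)⟩ : S)) fun f g h => by
        have h1 : (f : Au W) • v = (g : Au W) • v := congrArg Subtype.val h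
        have h2 := q.reg ((g : Au W)⁻¹ * f) (mul_mem (inv_mem g.2) f.2)
          (by rw [mul_smul, h1, inv_smul_smul])
        exact Subtype.ext (inv_mul_eq_one.1 h2).symm
    rw [Nat.card_eq_finsetCard] at this
    omega
  · obtain ⟨p, hp⟩ := q.vp
    obtain ⟨p1, h1, p0, h0, rfl⟩ := dec p
    have hv : v = (a • p1 + p1) + (a • p0 + p0) := by
      rw [smul_add] at hp
      linear_combination (norm := abel1) -hp - two p1 - two p0
    have v1N : a • p1 + p1 ∈ N := add_mem (aN _ h1) h1
    have v0Z : a • p0 + p0 ∈ Z := add_mem (aZ _ h0) h0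
    have v00 : a • p0 + p0 ≠ 0 := fun h => vN (by rw [hv, h, add_zero]; exact v1N)
    obtain ⟨r, hr, n0⟩ : ∃ r ∈ N, a • r + r ≠ 0 := by
      by_contra hn
      push Not at hn
      have at' : ∀ r ∈ N, a • r = r := fun r hr => by
        linear_combination (norm := abel1) hn r hr - two r
      refine x1 (LinearEquiv.ext fun w => ?_)
      obtain ⟨r, hr, z, hz, rfl⟩ := dec w
      have hx : x • r = r := by
        have := ax r
        rw [at' _ (xN r hr), at' r hr] at this
        exact (MulAction.injective x this).symm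
      show x • (r + z) = r + z
      rw [smul_add, hx, mZ.1 hz]
    have n1N : a • r + r ∈ N := add_mem (aN _ hr) hr
    have sI : a • r + r + (a • p0 + p0) ∈ I := by
      have := mI (r + p0)
      rw [smul_add] at this
      convert this using 1; abel
    generalize hn1 : a • r + r = n1 at n0 n1N sI
    generalize hv0 : a • p0 + p0 = v0 at v0Z v00 sI hv
    have d1 : n1 ≠ v0 := fun h => n0 (NZ _ n1N (h ▸ v0Z))
    have d2 : n1 + v0 ∉ N := fun h => v00 (NZ _ (by simpa using sub_mem h n1N) v0Z)
    have d3 : n1 + v0 ∉ Z := fun h => n0 (NZ _ n1N (by simpa using sub_mem h v0Z))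
    have eT : ({0, n1, v0, n1 + v0} : Finset W) = I := by
      refine Finset.eq_of_subset_of_card_le (fun w hw => ?_) (cI.trans (le_of_eq ?_))
      · simp only [Finset.mem_insert, Finset.mem_singleton] at hw
        rcases hw with rfl | rfl | rfl | rfl
        · simp [hI]
        · rw [← hn1]; exact mI r
        · rw [← hv0]; exact mI p0
        · exact sI
      · symm
        rw [Finset.card_eq_four]
        exact ⟨0, n1, v0, n1 + v0, n0.symm, v00.symm, fun h => d2 (h ▸ zero_mem N), d1,
          fun h => d2 (h ▸ n1N), fun h => d3 (h ▸ v0Z), rfl⟩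
    have mT : ∀ w : W, a • w + w = 0 ∨ a • w + w = n1 ∨ a • w + w = v0 ∨ a • w + w = n1 + v0 :=
      fun w => by
        have := mI w
        rw [← eT] at this
        simpa using this
    have e : ∀ w t : W, a • w + w = t → a • w = w + t := fun w t h => by
      linear_combination (norm := abel1) h - two w
    have tN : ∀ w ∈ N, a • w + w = 0 ∨ a • w + w = n1 := fun w hw => by
      have hw' : a • w + w ∈ N := add_mem (aN _ hw) hw
      rcases mT w with h | h | h | h
      · exact Or.inl h
      · exact Or.inr h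
      · exact absurd (NZ _ (h ▸ hw') v0Z) v00
      · exact absurd (h ▸ hw') d2
    have tZ : ∀ w ∈ Z, a • w + w = 0 ∨ a • w + w = v0 := fun w hw => by
      have hw' : a • w + w ∈ Z := add_mem (aZ _ hw) hw
      rcases mT w with h | h | h | h
      · exact Or.inl h
      · exact absurd (NZ _ n1N (h ▸ hw')) n0
      · exact Or.inr h
      · exact absurd (h ▸ hw') d3
    have o1 := (ol W F a N n1 two q.F3 q.aa q.nF fN n1N n0 ⟨r, hr, e _ _ hn1⟩ fun w hw =>
      (tN w hw).imp (fun h => by simpa using e _ _ h) (e _ _)).2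
    have o2 := (ol W F a Z v0 two q.F3 q.aa q.nF fZ v0Z v00 ⟨p0, h0, e _ _ hv0⟩ fun w hw =>
      (tZ w hw).imp (fun h => by simpa using e _ _ h) (e _ _)).2
    have o3 := relIndex_inf_le (H := MulAction.stabilizer (Au W) n1)
      (K := MulAction.stabilizer (Au W) v0) (L := F)
    have bot : MulAction.stabilizer (Au W) n1 ⊓ MulAction.stabilizer (Au W) v0 ⊓ F = ⊥ := by
      rw [eq_bot_iff]
      rintro f ⟨⟨f1, f0⟩, hf⟩
      have f1 : f • n1 = n1 := f1
      have f0 : f • v0 = v0 := f0
      refine q.reg f hf ?_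
      rcases tN p1 h1 with h | h <;> rw [hv, h]
      · rw [zero_add, f0]
      · rw [smul_add, f1, f0]
    rw [← inf_relIndex_right, bot, relIndex_bot_left] at o3
    nlinarith

theorem jobQ4a : JobQ4a.{u} := by
  intro ol W _ _ F a x v c q h27 xF x1 hc hi
  obtain ⟨k, hk⟩ := q.F3 ⟨x, xF⟩
  obtain ⟨j, j1, j3⟩ := exists_three k (x := x) (by simpa using congrArg Subtype.val hk) x1
  refine core ol W F a (x ^ j) v c q h27 j1 j3 (fun f hf => (hc f hf).pow_left j) ?_
  have ai : a⁻¹ = a := inv_eq_of_mul_eq_one_right q.aa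
  rw [← inv_pow, ← hi]
  nth_rewrite 2 [← ai]
  nth_rewrite 4 [← ai]
  rw [conj_pow]

end H61.CenQ4a
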