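/- D3 tower (row S5261): `JobN1` and `JobN2` (blueprints/D3.md). -/
import Cfsg.Agent.H90.D3Kit
import Cfsg.Agent.H9.RFFix

set_option autoImplicit false
set_option linter.unusedSectionVars false
set_option linter.unusedSimpArgs false

open Subgroup H90.D3
open H90.RF (cm Au Pr Lg cm_eq_one conj_eq_cm)

universe v

namespace H61.D3N

section Gen
variable {P : Type*} [Group P] {X U C : Subgroup P} {Y : Subgroup (Equiv.Perm P)}

theorem tr {a b c : P} (h : a⁻¹ * b ∈ U) (k : b⁻¹ * c ∈ U) : a⁻¹ * c ∈ U := by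
  simpa [mul_assoc] using mul_mem h k

theorem sy {a b : P} (h : a⁻¹ * b ∈ U) : b⁻¹ * a ∈ U := by simpa using inv_mem h

theorem mp [Finite P] (UX : U ≤ X) (hU : ∀ β, Au X β → Pr β U) {β : P → P} (h : Au X β) {a b : P}
    (ha : a ∈ X) (hb : b ∈ X) : (β a)⁻¹ * β b ∈ U ↔ a⁻¹ * b ∈ U := by
  have m := mul_mem (inv_mem ha) hb
  rw [← h.inv ha, ← h.mul _ (inv_mem ha) _ hb]
  exact ⟨h.mem_of UX (hU β h) m, hU β h _⟩

/-- the member of a coset of inner automorphisms that commutes with `k` -/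
theorem rigid [Finite P] (l : Lg X Y) (hC : ∀ c ∈ X, c ∈ C ↔ ∀ w ∈ X, cm c w = 1)
    (UX : U ≤ X) (hU : ∀ β, Au X β → Pr β U)
    (cinn : ∀ s ∈ X, ∀ c ∈ X, cm s c ∈ U)
    (rad : ∀ y ∈ Y, (∀ c ∈ X, c⁻¹ * y c ∈ U) → ∃ s ∈ X, ∀ c ∈ X, y c = s * c * s⁻¹)
    {ν : P → P} (aν : Au X ν) {k g : Equiv.Perm P} (hk : k ∈ Y) (hg : g ∈ Y)
    (fpf : ∀ s ∈ X, s⁻¹ * k s ∈ C → s ∈ C) (kν : ∀ c ∈ X, ν (k c) = k (ν c))
    (gν : ∀ c ∈ X, (ν c)⁻¹ * g c ∈ U) :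
    ∃ m ∈ Y, ∃ β, Au X β ∧ (∀ c ∈ X, c⁻¹ * β c ∈ U) ∧ (∀ c ∈ X, m c = ν (β c)) ∧
      ∀ t ∈ Y, ∀ t' ∈ Y, Commute k t → Commute k t' →
        (∀ c ∈ X, ν (t c) = t' (ν c)) → ∀ c ∈ X, β (t c) = t (β c) := by
  have cX : ∀ s ∈ X, ∀ c ∈ X, s * c * s⁻¹ ∈ X := fun s hs c hc => mul_mem (mul_mem hs hc) (inv_mem hs)
  let J : Subgroup (Equiv.Perm P) :=
    { carrier := {y | y ∈ Y ∧ ∃ s ∈ X, ∀ c ∈ X, y c = s * c * s⁻¹}
      one_mem' := ⟨one_mem _, 1, one_mem _, fun c _ => by simp⟩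
      mul_mem' := fun {y y'} ⟨hy, s, hs, e⟩ ⟨hy', s', hs', e'⟩ => ⟨mul_mem hy hy', s * s', mul_mem hs hs',
        fun c hc => by rw [Equiv.Perm.mul_apply, e' c hc, e _ (cX _ hs' c hc)]; group⟩
      inv_mem' := fun {y} ⟨hy, s, hs, e⟩ => ⟨inv_mem hy, s⁻¹, inv_mem hs, fun c hc => by
        rw [Equiv.Perm.inv_eq_iff_eq, e _ (cX _ (inv_mem hs) c hc)]; group⟩ }
  have ak := l.au k hk
  have ak' := l.au _ (inv_mem hk)
  have kc : ∀ (y : Equiv.Perm P) s, s ∈ X → (∀ c ∈ X, y c = s * c * s⁻¹) →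
      ∀ c ∈ X, (k * y * k⁻¹) c = k s * c * (k s)⁻¹ := fun y s hs e c hc => by
    rw [Equiv.Perm.mul_apply, Equiv.Perm.mul_apply, e _ (ak'.mem c hc), ak.conj hs (ak'.mem c hc),
      show k (k⁻¹ c) = c from k.apply_symm_apply c]
  let δ : J →* J := MonoidHom.mk' (fun y => ⟨k * y * k⁻¹, mul_mem (mul_mem hk y.2.1) (inv_mem hk),
    y.2.2.elim fun s h => ⟨k s, ak.mem s h.1, kc y s h.1 h.2⟩⟩) fun y y' => Subtype.ext (by
      change k * (y.1 * y'.1) * k⁻¹ = k * y.1 * k⁻¹ * (k * y'.1 * k⁻¹)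
      group)
  have one : ∀ y ∈ J, k * y * k⁻¹ = y → y = 1 := fun y ⟨hy, s, hs, e⟩ h => by
    have z := (hC s hs).1 (fpf s hs ((hC _ (mul_mem (inv_mem hs) (ak.mem s hs))).2 fun w hw => by
      have q := kc y s hs e w hw
      rw [h, e w hw] at q
      rw [cm_eq_one]
      calc _ = s⁻¹ * (k s * w * (k s)⁻¹) * k s := by group
        _ = _ := by rw [← q]; group))
    exact l.ext hy (one_mem _) fun c hc => by
      rw [e c hc, conj_eq_cm, z c hc, mul_one, Equiv.Perm.one_apply]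
  have dv : ∀ A ∈ Y, ∀ B ∈ Y, (∀ c ∈ X, (A c)⁻¹ * B c ∈ U) → A⁻¹ * B ∈ J := fun A hA B hB h =>
    have m := mul_mem (inv_mem hA) hB
    ⟨m, rad _ m fun c hc => (mp UX hU (l.au A hA) hc ((l.au _ m).mem c hc)).1 (by simpa using h c hc)⟩
  obtain ⟨ι, ck⟩ := H9.RF.fix_coset (ι := J.subtype) (δ := δ) (k := k) (fun _ => rfl)
    (fun y e => Subtype.ext (one y y.2 (congrArg Subtype.val e))) (g := g)
    ⟨⟨_, dv g hg _ (mul_mem (mul_mem hk hg) (inv_mem hk)) fun c hc => by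
      obtain ⟨c, hc', rfl⟩ := ak.sur c hc
      rw [Equiv.Perm.mul_apply, Equiv.Perm.mul_apply, show k⁻¹ (k c) = c from k.symm_apply_apply c]
      refine tr (sy (gν _ hc)) ?_
      rw [kν c hc', mp UX hU ak (aν.mem c hc') ((l.au g hg).mem c hc')]
      exact gν c hc'⟩, rfl⟩
  obtain ⟨ι, hι, s, hs, e⟩ := ι
  have hm := mul_mem hg hι
  have mν : ∀ c ∈ X, (ν c)⁻¹ * (g * ι) c ∈ U := fun c hc => by
    rw [Equiv.Perm.mul_apply, e c hc]
    exact tr ((mp UX hU aν hc (cX s hs c hc)).2 (cinn s hs c hc)) (gν _ (cX s hs c hc))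
  change Commute k (g * ι) at ck
  generalize g * ι = m at hm mν ck
  have am := l.au m hm
  obtain ⟨μ, aμ, νμ, μν⟩ := aν.exists_inv
  refine ⟨m, hm, fun c => μ (m c), aμ.comp am, fun c hc => ?_, fun c hc => (νμ _ (am.mem c hc)).symm,
    fun t ht t' ht' c1 c2 h c hc => ?_⟩
  · have := (mp UX hU aμ (aν.mem c hc) (am.mem c hc)).2 (mν c hc)
    rwa [μν c hc] at this
  · have q := inv_mul_eq_one.1 (one _ (dv _ (mul_mem ht' hm) _ (mul_mem hm ht) fun c hc => by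
      rw [Equiv.Perm.mul_apply, Equiv.Perm.mul_apply]
      refine tr (sy ?_) (mν _ ((l.au t ht).mem c hc))
      rw [h c hc, mp UX hU (l.au t' ht') (aν.mem c hc) (am.mem c hc)]
      exact mν c hc) (mul_inv_eq_iff_eq_mul.2 ((c2.mul_right ck).inv_right.mul_right (ck.mul_right c1))))
    have d := am.mem c hc
    show μ (m (t c)) = t (μ (m c))
    rw [← Equiv.Perm.mul_apply, ← q, Equiv.Perm.mul_apply, ← μν _ ((l.au t ht).mem _ (aμ.mem _ d)),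
      h _ (aμ.mem _ d), νμ _ d]

/-- the elements on which two automorphisms agree -/
def agr {β γ : P → P} (a : Au X β) (b : Au X γ) : Subgroup P where
  carrier := {u | u ∈ X ∧ β u = γ u}
  one_mem' := ⟨one_mem _, a.one.trans b.one.symm⟩
  mul_mem' := fun {u w} hu hw => ⟨mul_mem hu.1 hw.1, by rw [a.mul u hu.1 w hw.1, b.mul u hu.1 w hw.1, hu.2, hw.2]⟩
  inv_mem' := fun {u} hu => ⟨inv_mem hu.1, by rw [a.inv hu.1, b.inv hu.1, hu.2]⟩

theorem cm_mem {A : Subgroup P} {s m : P} (hs : s ∈ A) (hm : m ∈ A) : cm s m ∈ A :=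
  mul_mem (inv_mem hm) (mul_mem (mul_mem hs hm) (inv_mem hs))

end Gen

variable {K : Type v} [Field K] [Finite K] {T : CF K}

theorem tor_comm {X : Subgroup (Co T)} {Y : Subgroup (Equiv.Perm (Co T))} (l : Lg X Y) {α β : Equiv.Perm (Co T)}
    (hα : α ∈ Y) (hβ : β ∈ Y) {a c : K} {b d : T.k} (e : ∀ u ∈ X, α u = dg T a b u)
    (e' : ∀ u ∈ X, β u = dg T c d u) : Commute α β := l.ext (mul_mem hα hβ) (mul_mem hβ hα) fun u hu => by
  rw [Equiv.Perm.mul_apply, Equiv.Perm.mul_apply, e _ ((l.au β hβ).mem u hu), e' _ ((l.au α hα).mem u hu),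
    e u hu, e' u hu, dg_dg, dg_dg, mul_comm a, mul_comm b]

theorem zero_of {x a : K} (hx : x ≠ 1) (h : x * a = a) : a = 0 := by
  by_contra e
  exact hx (mul_right_cancel₀ e (h.trans (one_mul a).symm))

theorem nm_ne {x : K} (h : x ≠ 0) : T.nm x ≠ 0 :=
  mul_ne_zero (mul_ne_zero h ((map_ne_zero _).2 h)) ((map_ne_zero _).2 ((map_ne_zero _).2 h))

theorem ω0 : T.ω ≠ 0 := fun e => T.ne (by simp [e])
theorem ω1 : T.ω ≠ 1 := fun e => T.ne (by simp [e])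

theorem sh_ω : T.σ (T.sh T.ω) ≠ T.sh T.ω := fun e => T.ne (by
  have h1 := T.σ_nm T.ω
  rw [← T.mul_sh, map_mul, e] at h1
  exact mul_right_cancel₀ (fun z => nm_ne ω0 (by rw [← T.mul_sh, z, mul_zero])) h1)

theorem gen1 {A : Subgroup (Co T)} (hb : ∀ l, xb T l ∈ A) (hc : ∀ t, xc T t ∈ A) (hd : ∀ t, xd T t ∈ A)
    (he : ∀ l, xe T l ∈ A) : sQ1 T ≤ A := fun u hu => by
  have hg : xg T u.gk ∈ A := by
    rw [Z_cm (u := xg T u.gk) ⟨rfl, rfl, rfl, rfl, rfl⟩]; exact cm_mem (hb _) (he _)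
  have h0 : xa T u.a = 1 := by rw [(mem_sQ1 T).1 hu]; rfl
  rw [nf u, h0, one_mul]
  exact mul_mem (mul_mem (mul_mem (mul_mem (hb _) (hc _)) (hd _)) (he _)) hg

theorem gen2 {A : Subgroup (Co T)} (ha : ∀ t, xa T t ∈ A) (hc : ∀ t, xc T t ∈ A) : sQ2 T ≤ A := by
  have h1 : ∀ v, ∃ z ∈ A, z ∈ sZ3 T ∧ z.d = v := fun v => by
    obtain ⟨t, r, t', r', rfl⟩ := T.exists_cr_add v
    have m := fun t r => cm_Q2 (T := T) (s := xc T r) (m := xa T t) rfl rfl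
    refine ⟨_, mul_mem (cm_mem (hc r) (ha t)) (cm_mem (hc r') (ha t')), mul_mem (m _ _) (m _ _), ?_⟩
    simp [cm_d, cm_c, xa, xc]
  have he : ∀ l, xe T l ∈ A := fun l => by
    obtain ⟨v, hv⟩ := T.exists_tr one_ne_zero l
    obtain ⟨z, h1, h2, rfl⟩ := h1 v
    have w := cm_W' h2 (xa T 1)
    have : xe T l = cm z (xa T 1) := Co.ext w.1.symm w.2.1.symm w.2.2.1.symm w.2.2.2.symm
      (by rw [cm_e3' h2]; exact hv.symm) (by rw [cm_g3' h2]; simp [xa, xe])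
    rw [this]; exact cm_mem h1 (ha 1)
  have hg : ∀ l, xg T l ∈ A := fun l => by
    obtain ⟨v, hv⟩ := T.exists_tr one_ne_zero l
    obtain ⟨z, h1, h2, rfl⟩ := h1 v
    have w := cm_W' h2 (xc T 1)
    have : xg T l = cm z (xc T 1) := Co.ext w.1.symm w.2.1.symm w.2.2.1.symm w.2.2.2.symm
      (by rw [cm_e3' h2]; simp [xc, xg]) (by rw [cm_g3' h2]; simpa [xc, xg] using hv.symm)
    rw [this]; exact cm_mem h1 (hc 1)
  have hd : ∀ v, xd T v ∈ A := fun v => by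
    obtain ⟨z, h1, h2, rfl⟩ := h1 v
    have : xd T z.d = z * (xe T z.ek * xg T z.gk)⁻¹ := by
      rw [eq_mul_inv_iff_mul_eq]
      ext <;> simp [xd, xe, xg, h2.1, h2.2.1, h2.2.2]
    rw [this]; exact mul_mem h1 (inv_mem (mul_mem (he _) (hg _)))
  intro u hu
  have h0 : xb T u.bk = 1 := by ext <;> simp [xb, (mem_sQ2 T).1 hu]
  rw [nf u, h0, mul_one]
  exact mul_mem (mul_mem (mul_mem (mul_mem (ha _) (hc _)) (hd _)) (he _)) (hg _)

theorem mem_Z3_of {u : Co T} (hu : u ∈ sQ2 T) (h : ∀ w ∈ sQ2 T, cm u w ∈ sW T) : u ∈ sZ3 T := by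
  have b0 := (mem_sQ2 T).1 hu
  have k : ∀ x : K, (∀ t, T.cr x t = 0) → x = 0 := fun x hx => by
    by_contra e
    obtain ⟨l, hl⟩ := (T.cr_eq_zero e (hx (T.ω * x))).2
    exact T.ne (by rw [mul_right_cancel₀ e hl, T.σ_k])
  refine ⟨k _ fun t => ?_, b0, k _ fun t => ?_⟩
  · simpa [cm_d, xc, b0] using (h (xc T t) rfl).2.2.2
  · simpa [cm_d, xa, b0, T.cr_comm] using (h (xa T t) rfl).2.2.2

theorem mem_W_iff {u : Co T} (hu : u ∈ sQ2 T) : u ∈ sW T ↔ ∀ w ∈ sQ2 T, cm u w = 1 := by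
  refine ⟨fun h w hw => cm_eq_one.2 (cm_eq_one.1 (cm_Q2_W hw h)).symm, fun h => ?_⟩
  have z := mem_Z3_of hu fun w hw => by rw [h w hw]; exact one_mem _
  refine ⟨z.1, z.2.1, z.2.2, T.tr_nd fun v => ?_⟩
  have := congrArg Co.e (h (xa T v) rfl)
  rw [cm_e3' z] at this
  simpa [xa, mul_comm] using this

theorem pr_W {β : Co T → Co T} (a : Au (sQ2 T) β) : Pr β (sW T) := fun u hu =>
  (mem_W_iff (a.mem u (W_le_Q2 hu))).2 fun w hw => by
    obtain ⟨w, hw', rfl⟩ := a.sur w hw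
    rw [← a.cm (W_le_Q2 hu) hw', (mem_W_iff (W_le_Q2 hu)).1 hu w hw', a.one]

theorem pr_Z3 {β : Co T → Co T} (a : Au (sQ2 T) β) : Pr β (sZ3 T) := fun u hu =>
  have h := Z4_le' (Z3_le hu)
  mem_Z3_of (a.mem u h) (a.cm_mem le_rfl a.mem (pr_W a) h fun w _ => cm_W' hu w)

theorem sh_kill {f : K → K} (ha : ∀ s t, f (s + t) = f s + f t) (h : ∀ x, x ≠ 0 → f x = T.sh x * f 1) :
    ∀ x, f x = 0 := by
  have h0 : f 0 = 0 := by simpa using ha 0 0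
  have h' : ∀ x, f x = T.sh x * f 1 := fun x => by
    by_cases e : x = 0
    · rw [e, h0, T.sh_zero, zero_mul]
    · exact h x e
  have k : ∀ s t, T.cr s t * f 1 = 0 := fun s t => by
    have := ha s t
    rw [h' s, h' t, h' (s + t), T.sh_add] at this
    linear_combination this
  obtain ⟨t, r, t', r', e⟩ := T.exists_cr_add 1
  have : f 1 = 0 := by linear_combination f 1 * e + k t r + k t' r'
  intro x
  rw [h', this, mul_zero]

theorem nm_kill {f : K → K} (ha : ∀ s t, f (s + t) = f s + f t) (h : ∀ x, x ≠ 0 → f x = T.nm x * f 1) :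
    ∀ x, f x = 0 := by
  have h0 : f 0 = 0 := by simpa using ha 0 0
  obtain ⟨c, h1, h2⟩ := T.exists_nm_one
  have c1 : c - 1 ≠ 0 := fun e => h2 (by rw [sub_eq_zero.1 e, map_one])
  have c0 : c ≠ 0 := fun e => h2 (by rw [e, map_zero])
  have := ha (c - 1) 1
  rw [sub_add_cancel, h c c0, h1, h _ c1, one_mul] at this
  have f1 : f 1 = 0 := (mul_eq_zero.1 (left_eq_add.1 (this.trans (add_comm _ _)))).resolve_left (nm_ne c1)
  intro x
  by_cases e : x = 0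
  · rw [e, h0]
  · rw [h x e, f1, mul_zero]

theorem jobN2 : JobN2.{v} := by
  intro p _ K _ _ _ T Y0 Y1 Y2 t G h
  have res : ∀ (x : K) (y : T.k), x ≠ 0 → (y : K) ≠ 0 → ∃ α ∈ Y2, ∀ u ∈ sQ2 T, α u = dg T x y u :=
    fun x y hx hy => by
      obtain ⟨η, hη, e⟩ := h x y hx hy
      exact (t.res2 η hη).imp fun α k => ⟨k.1, fun u hu => (k.2 u hu).trans (e u)⟩
  have nd : ∀ x : K, ∀ u ∈ sQ2 T, (dg T x 1 u).nu2 = dg T x 1 u.nu2 := fun x u hu => by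
    ext <;> simp [dg, Co.nu2, (mem_sQ2 T).1 hu, CF.tr, CF.sh, CF.cr, CF.nm, T.cube] <;> ring
  obtain ⟨k, hk, ek⟩ := res T.ω 1 ω0 (by simp)
  obtain ⟨g, hg, eg⟩ := G.1
  obtain ⟨m, hm, β, aβ, e, em, c⟩ := rigid (U := sZ3 T) (C := sW T) t.l2 (fun c hc => mem_W_iff hc)
    (Z3_le.trans Z4_le') (fun _ => pr_Z3)
    (fun _ hs _ hc => cm_Q2 hs hc) t.rad2 au_nu2 hk hg
    (fun s hs h => by
      rw [ek s hs] at h
      have b0 := (mem_sQ2 T).1 hs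
      have a0 : s.a = 0 := zero_of (ω1 (T := T)) (by simpa [dg, neg_add_eq_zero, eq_comm] using h.1)
      have c0 : s.c = 0 := zero_of (ω1 (T := T)) (by
        simpa [dg, a0, b0, neg_add_eq_zero, eq_comm] using h.2.2.1)
      exact ⟨a0, b0, c0, zero_of (x := T.sh T.ω) (fun e => sh_ω (T := T) (by rw [e, map_one])) (by
        have := h.2.2.2
        simp [dg, a0, b0, c0] at this
        linear_combination this)⟩)
    (fun c hc => by rw [ek c hc, ek _ (au_nu2.mem c hc), nd _ c hc])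
    fun c hc => (Q2_mod (au_nu2.mem c hc) ((t.l2.au g hg).mem c hc)).2 (eg c hc)
  have cτ : ∀ x : K, x ≠ 0 → ∀ u ∈ sQ2 T, β (dg T x 1 u) = dg T x 1 (β u) := fun x hx u hu => by
    obtain ⟨τ, hτ, eτ⟩ := res x 1 hx (by simp)
    rw [← eτ u hu, c τ hτ τ hτ (tor_comm t.l2 hk hτ ek eτ) (tor_comm t.l2 hk hτ ek eτ)
      (fun u hu => by rw [eτ u hu, eτ _ (au_nu2.mem u hu), nd _ u hu]) u hu, eτ _ (aβ.mem u hu)]
  have key : ∀ f : K → Co T, (∀ x, f x ∈ sQ2 T) → (∀ x y, f (x + y) = f x * f y) →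
      (∀ x, dg T x 1 (f 1) = f x) → ((∀ x, (f x).a = 0) ∨ ∀ x, (f x).c = 0) →
      (∀ x, (f x).d = 0 ∧ (f x).e = 0 ∧ (f x).g = 0) → ∀ x, β (f x) = f x := fun f h1 h2 h3 h4 h5 => by
    have q := fun x => (Q2_mod (h1 x) (aβ.mem _ (h1 x))).1 (e _ (h1 x))
    have b0 := fun x => (mem_sQ2 T).1 (aβ.mem _ (h1 x))
    have ad := fun x y => (congrArg β (h2 x y)).trans (aβ.mul _ (h1 x) _ (h1 y))
    have sc := fun x hx => (congrArg β (h3 x)).symm.trans (cτ x hx _ (h1 1))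
    have zd := sh_kill (T := T) (f := fun x => (β (f x)).d)
      (fun x y => by rcases h4 with h4 | h4 <;> simp [ad, b0, q, h4]) fun x hx => by simp [sc x hx, dg]
    have ze := nm_kill (T := T) (f := fun x => (β (f x)).e)
      (fun x y => by rcases h4 with h4 | h4 <;> simp [ad, b0, q, h4, zd]) fun x hx => by simp [sc x hx, dg]
    have zg := nm_kill (T := T) (f := fun x => (β (f x)).g)
      (fun x y => by rcases h4 with h4 | h4 <;> simp [ad, b0, q, h4, zd]) fun x hx => by simp [sc x hx, dg]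
    exact fun x => Co.ext (q x).1 ((b0 x).trans (h1 x).symm) (q x).2 ((zd x).trans (h5 x).1.symm)
      ((ze x).trans (h5 x).2.1.symm) ((zg x).trans (h5 x).2.2.symm)
  have all := gen2 (A := agr aβ (Au.id' _))
    (fun x => ⟨rfl, key (xa T) (fun _ => rfl) xa_add (fun x => by ext <;> simp [dg, xa]) (.inr fun _ => rfl)
      (fun _ => ⟨rfl, rfl, rfl⟩) x⟩)
    fun x => ⟨rfl, key (xc T) (fun _ => rfl) xc_add (fun x => by ext <;> simp [dg, xc]) (.inl fun _ => rfl)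
      (fun _ => ⟨rfl, rfl, rfl⟩) x⟩
  exact ⟨m, hm, fun u hu => by rw [em u hu, (all hu).2]; rfl⟩

theorem fix_of {β : Co T → Co T} {u : Co T} (hu : u ∈ sQ1 T) (hb : β u ∈ sQ1 T) (h : u⁻¹ * β u ∈ sZ T)
    {w : Co T} (hw : w ∈ sQ1 T) (h' : u⁻¹ * w ∈ sZ T) (e : (β u).g = w.g) : β u = w := by
  obtain ⟨h1, h2, h3, h4⟩ := (Q1_mod hu hb).1 h
  obtain ⟨k1, k2, k3, k4⟩ := (Q1_mod hu hw).1 h'
  exact Co.ext (hb.trans hw.symm) (h1.trans k1.symm) (h2.trans k2.symm) (h3.trans k3.symm)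
    (h4.trans k4.symm) e

theorem jobN1 : JobN1.{v} := by
  intro p _ K _ _ _ T Y0 Y1 Y2 t G h
  have res : ∀ (x : K) (y : T.k), x ≠ 0 → (y : K) ≠ 0 → ∃ α ∈ Y1, ∀ u ∈ sQ1 T, α u = dg T x y u :=
    fun x y hx hy => by
      obtain ⟨η, hη, e⟩ := h x y hx hy
      exact (t.res1 η hη).imp fun α k => ⟨k.1, fun u hu => (k.2 u hu).trans (e u)⟩
  obtain ⟨g, hg, eg⟩ := G
  have ag := t.l1.au g hg
  have gν : ∀ c ∈ sQ1 T, (Co.nu1 c)⁻¹ * g c ∈ sZ T := fun c hc =>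
    (Q1_mod (au_nu1.mem c hc) (ag.mem c hc)).2 (eg c hc)
  by_cases h2 : ∀ l : T.k, l = 0 ∨ l = 1
  · obtain ⟨μ, aμ, νμ, μν⟩ := (au_nu1 (T := T)).exists_inv
    have aβ := aμ.comp ag
    have e : ∀ c ∈ sQ1 T, c⁻¹ * μ (g c) ∈ sZ T := fun c hc => by
      have := (mp (Z_le.trans W_le_Q1) (fun _ => pr_Z1) aμ (au_nu1.mem c hc) (ag.mem c hc)).2 (gν c hc)
      rwa [μν c hc] at this
    have em : ∀ c ∈ sQ1 T, g c = Co.nu1 (μ (g c)) := fun c hc => (νμ _ (ag.mem c hc)).symm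
    generalize hβ : (fun c => μ (g c)) = β at aβ
    have e' : ∀ c ∈ sQ1 T, c⁻¹ * β c ∈ sZ T := hβ ▸ e
    have em' : ∀ c ∈ sQ1 T, g c = Co.nu1 (β c) := hβ ▸ em
    have q := fun c hc => (Q1_mod hc (aβ.mem c hc)).1 (e' c hc)
    have a0 := fun c hc => (mem_sQ1 T).1 (aβ.mem c hc)
    have dual : ∀ f : K → Co T, (∀ x, f x ∈ sQ1 T) → (∀ x y, f (x + y) = f x * f y) → f 0 = 1 →
        (∀ x, (f x).b = 0) → ((∀ x, (f x).c = 0) ∨ ∀ x, (f x).d = 0) →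
        ∃ v, ∀ x, (β (f x)).g = T.tr (v * x) := fun f h1 h3 h4 h5 h6 =>
      T.exists_dual _ (fun x y => by
        rw [h3, aβ.mul _ (h1 x) _ (h1 y)]
        rcases h6 with h6 | h6 <;> simp [a0 _ (h1 _), q _ (h1 _), h5, h6])
        (fun l x => by rcases h2 l with rfl | rfl <;> simp [h4, aβ.one]) fun x => Co.hg _
    obtain ⟨v, hv⟩ := dual (xc T) (fun _ => rfl) xc_add rfl (fun _ => rfl) (.inr fun _ => rfl)
    obtain ⟨v', hv'⟩ := dual (xd T) (fun _ => rfl) xd_add rfl (fun _ => rfl) (.inl fun _ => rfl)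
    let s := w1 T (β (xe T 1)).gk (-v') v (-(β (xb T 1)).gk)
    have hs : s ∈ sQ1 T := rfl
    have as : Au (sQ1 T) fun c => s * c * s⁻¹ := H90.RF.au_conj (le_normalizer hs)
    have k : ∀ u ∈ sQ1 T, (β u).g = u.g + (cm s u).g → u ∈ agr aβ as := fun u hu e => ⟨hu, by
      have z := cm_Q1 hs hu
      refine fix_of hu (aβ.mem u hu) (e' u hu) (as.mem u hu) z ?_
      show _ = (s * u * s⁻¹).g
      rw [e, conj_eq_cm]
      simp [z.2.2.1, z.2.2.2.1, (mem_sQ1 T).1 hu]⟩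
    have all := gen1 (A := agr aβ as)
      (fun l => by
        rcases h2 l with rfl | rfl
        · exact one_mem _
        · exact k _ rfl (by rw [cm_g1 hs rfl]; simp [s, w1, xb]))
      (fun x => k _ rfl (by rw [cm_g1 hs rfl, hv]; simp [s, w1, xc, mul_comm]))
      (fun x => k _ rfl (by rw [cm_g1 hs rfl, hv']; simp [s, w1, xd, T.tr_neg]))
      fun l => by
        rcases h2 l with rfl | rfl
        · exact one_mem _
        · exact k _ rfl (by rw [cm_g1 hs rfl]; simp [s, w1, xe])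
    obtain ⟨y, hy, ey⟩ := t.inn s⁻¹
    obtain ⟨α, hα, eα⟩ := t.res1 y hy
    refine ⟨g * α, mul_mem hg hα, fun u hu => ?_⟩
    have hu' : s⁻¹ * u * s⁻¹⁻¹ ∈ sQ1 T := mul_mem (mul_mem (inv_mem hs) hu) (inv_mem (inv_mem hs))
    rw [Equiv.Perm.mul_apply, eα u hu, ey, em' _ hu', (all hu').2]
    congr 1
    group
  obtain ⟨y0, y1⟩ := not_forall.1 h2
  obtain ⟨y1, y2⟩ := not_or.1 y1
  have y1' : (y0 : K) ≠ 0 := fun e => y1 (Subtype.ext e)
  have y2' : (y0 : K) ≠ 1 := fun e => y2 (Subtype.ext e)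
  have nd : ∀ x : K, x ≠ 0 → ∀ y : T.k, ∀ u ∈ sQ1 T,
      (dg T x y u).nu1 = dg T x⁻¹ (T.nmk x * y) u.nu1 := fun x hx y u hu => by
    have s1 := (map_ne_zero T.σ).2 hx
    have s2 := (map_ne_zero T.σ).2 s1
    ext <;> simp [dg, Co.nu1, (mem_sQ1 T).1 hu, CF.tr, CF.sh, CF.cr, CF.nm, T.cube] <;> field_simp <;> simp
  obtain ⟨k, hk, ek⟩ := res 1 y0 one_ne_zero y1'
  obtain ⟨m, hm, β, aβ, e, em, c⟩ := rigid (U := sZ T) (C := sZ T) t.l1
    (fun c hc => ⟨fun h w _ => cm_one' h w, mem_Z_of hc⟩) (Z_le.trans W_le_Q1) (fun _ => pr_Z1)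
    (fun _ hs _ hc => cm_Q1 hs hc) t.rad1 au_nu1 hk hg
    (fun s hs h => by
      rw [ek s hs, Q1_mod hs (by simp [mem_sQ1, dg, (mem_sQ1 T).1 hs])] at h
      simp only [dg, one_mul, T.sh_one, T.nm_one] at h
      exact ⟨hs, zero_of y2' h.1, zero_of y2' h.2.1, zero_of y2' h.2.2.1, zero_of y2' h.2.2.2⟩)
    (fun c hc => by
      rw [ek c hc, ek _ (au_nu1.mem c hc), nd 1 one_ne_zero _ c hc]
      rw [inv_one, show T.nmk 1 * y0 = y0 from Subtype.ext (by simp)])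
    gν
  have cτ : ∀ s : K, s ≠ 0 → ∀ u ∈ sQ1 T, (β (dg T (s ^ 2) (T.nmk s)⁻¹ u)).g = (β u).g := fun s hs u hu => by
    have n := nm_ne (T := T) hs
    obtain ⟨τ, hτ, eτ⟩ := res (s ^ 2) (T.nmk s)⁻¹ (pow_ne_zero 2 hs) (by simpa using n)
    obtain ⟨τ', hτ', eτ'⟩ := res (s ^ 2)⁻¹ (T.nmk (s ^ 2) * (T.nmk s)⁻¹) (inv_ne_zero (pow_ne_zero 2 hs))
      (mul_ne_zero (nm_ne (pow_ne_zero 2 hs)) (inv_ne_zero n))
    rw [← eτ u hu, c τ hτ τ' hτ' (tor_comm t.l1 hk hτ ek eτ) (tor_comm t.l1 hk hτ' ek eτ')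
      (fun u hu => by rw [eτ u hu, eτ' _ (au_nu1.mem u hu), nd _ (pow_ne_zero 2 hs) _ u hu]) u hu,
      eτ _ (aβ.mem u hu)]
    simp only [dg, sq, T.nm_mul, Subfield.coe_inv, CF.coe_nmk]
    field_simp
  have q := fun c hc => (Q1_mod hc (aβ.mem c hc)).1 (e c hc)
  have a0 := fun c hc => (mem_sQ1 T).1 (aβ.mem c hc)
  have key : ∀ {A : Type v} [Field A] (f : A → Co T) (l : A), l ≠ 1 → (∀ x, f x ∈ sQ1 T) →
      (∀ x y, f (x + y) = f x * f y) → (∀ x y, T.tr ((f y).c * (f x).d) = (f y).b * (f x).e) →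
      (∀ x, (f x).g = 0) →
      (∀ x, (β (f (l * x))).g = (β (f x)).g) → ∀ x, f x ∈ agr aβ (Au.id' _) :=
    fun f l hl h1 h3 h4 h5 h6 x => by
      refine ⟨h1 x, fix_of (h1 x) (aβ.mem _ (h1 x)) (e _ (h1 x)) (h1 x) (by simp) ?_⟩
      have := h6 (x / (l - 1))
      have l1 := sub_ne_zero.2 hl
      rw [show l * (x / (l - 1)) = x + x / (l - 1) by field_simp; ring, h3, aβ.mul _ (h1 _) _ (h1 _)] at this
      simp [a0 _ (h1 _), q _ (h1 _), h4] at this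
      rw [this]; exact (h5 x).symm
  obtain ⟨s, hs⟩ := T.exists_nm y0
  have s0 : s ≠ 0 := fun e => y1' (by rw [← hs, e, T.nm_zero])
  have hs' : T.nmk s = y0 := Subtype.ext hs
  have n : T.nm T.ω ≠ 0 := nm_ne ω0
  have all := gen1 (A := agr aβ (Au.id' _))
    (key (xb T) y0⁻¹ (by simpa using y2) (fun _ => rfl) xb_add
      (fun x y => by simp [xb]) (fun _ => rfl) fun x => by
        rw [← cτ s s0 (xb T x) rfl, hs']; congr 2; ext <;> simp [dg, xb])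
    (key (xc T) (T.ω ^ 2 * (T.nm T.ω)⁻¹) (fun e => T.ne (T.fix_of_sq (by
        rw [mul_inv_eq_one₀ n] at e
        rw [← map_pow, e, T.σ_nm]))) (fun _ => rfl) xc_add
      (fun x y => by simp [xc]) (fun _ => rfl) fun x => by
        rw [← cτ T.ω ω0 (xc T x) rfl]; congr 2; ext <;> simp [dg, xc])
    (key (xd T) (T.sh T.ω ^ 2 * (T.nm T.ω)⁻¹) (fun e => sh_ω (T.fix_of_sq (by
        rw [mul_inv_eq_one₀ n] at e
        rw [← map_pow, e, T.σ_nm]))) (fun _ => rfl) xd_add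
      (fun x y => by simp [xd]) (fun _ => rfl) fun x => by
        rw [← cτ T.ω ω0 (xd T x) rfl]; congr 2; ext <;> simp [dg, xd, sq, T.sh_mul])
    (key (xe T) y0 y2 (fun _ => rfl) xe_add
      (fun x y => by simp [xe]) (fun _ => rfl) fun x => by
        rw [← cτ s s0 (xe T x) rfl, hs']; congr 2; ext <;> simp [dg, xe, sq, T.nm_mul, hs, y1'])
  exact ⟨m, hm, fun u hu => by rw [em u hu, (all hu).2]; rfl⟩

end H61.D3N
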