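import Cfsg.Agent.H20.DGSpec
import Cfsg.Agent.H28.Degree

/-! Tower DG (S3579): the piece T2. -/

set_option autoImplicit false

namespace H61.DGT2
open Subgroup MulAction Cfsg H98 H20.DG
open scoped ComplexConjugate
universe u v

theorem van {C : Type*} [Group C] [Fintype C] (φ : C → ℂ) (z : C) (t : ℂ) (ht : t ≠ 1)
    (h : ∀ c, φ (c * z) = t * φ c) : ∑ c, φ c = 0 := by
  have e : ∑ c, φ c = t * ∑ c, φ c := by
    rw [Finset.mul_sum, ← Equiv.sum_comp (Equiv.mulRight z)]
    exact Finset.sum_congr rfl fun c _ => h c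
  have : (1 - t) * ∑ c, φ c = 0 := by linear_combination e
  exact (mul_eq_zero.1 this).resolve_left (sub_ne_zero.2 ht.symm)

theorem cn_conj {G : Type*} [Group G] {A : Subgroup G} {n g : G}
    (hn : n ∈ normalizer (A : Set G)) (hg : g ∈ Cn A) : n * g * n⁻¹ ∈ Cn A := by
  rw [mem_centralizer_iff] at *
  intro a ha
  have h1 := (mem_normalizer_iff.1 (inv_mem hn) a).1 ha
  rw [inv_inv] at h1
  have := hg _ h1
  calc a * (n * g * n⁻¹) = n * (n⁻¹ * a * n * g) * n⁻¹ := by group
    _ = n * g * n⁻¹ * a := by rw [this]; group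

theorem jobT2 : JobT2.{u, v} := by
  intro G Ω _ _ _ _ _ p q P A L O hy cy μ ⟨hL, z, hz, hμ⟩
  classical
  cases nonempty_fintype Ω
  have hz1 : (μ z : ℂ) ≠ 1 := fun h => hμ (Units.ext h)
  refine ⟨?_, ?_, H32.isCharacter_indFun _ (H28.isCharacter_of_hom μ), ?_, ?_⟩
  · rw [II, H33.classInner_indFun_right _ _ 
      (H33.isClassFunction_of_isCharacter (H30.isCharacter_fixChar Ω)),
      classInner]
    have split : ∀ c : Cn A, H30.fixChar G Ω c =
        (if (c : G) ∈ L then (p : ℂ) ^ 2 else 0) +
          ∑ x ∈ Finset.univ.filter (fun x => x ∉ O), if (c : G) • x = x then 1 else 0 := by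
      intro c
      rw [H30.fixChar_eq_sum, ← Finset.sum_filter_add_sum_filter_not _ (fun x => x ∈ O)]
      congr 1
      split_ifs with hc
      · rw [Finset.sum_congr rfl (g := fun _ => (1 : ℂ)) fun x hx =>
          if_pos ((cy.memL _).1 hc x (Finset.mem_filter.1 hx).2), Finset.sum_const,
          nsmul_eq_mul, mul_one, ← Nat.cast_pow, ← cy.cardO, Set.ncard_eq_toFinset_card']
        congr 2
        ext x; simp
      · exact Finset.sum_eq_zero fun x hx =>
          if_neg (cy.mv _ c.2 hc x (Finset.mem_filter.1 hx).2)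
    simp only [split, add_mul, Finset.sum_add_distrib]
    rw [van (fun c : Cn A => (∑ x ∈ Finset.univ.filter (fun x => x ∉ O),
        if (c : G) • x = x then (1 : ℂ) else 0) * conj (μ c : ℂ)) z (conj (μ z : ℂ))
        (fun h => hz1 (by simpa using congrArg conj h)) fun c => by
      rw [map_mul, Units.val_mul, map_mul, Finset.sum_congr rfl (g := fun x =>
        if (c : G) • x = x then (1 : ℂ) else 0) fun x hx => by
          have : (z : G) • x = x := (cy.fix x).2 (Finset.mem_filter.1 hx).2 hz
          rw [coe_mul, mul_smul, this]]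
      ring, add_zero]
    rw [Finset.sum_congr rfl (g := fun c : Cn A => if (c : G) ∈ L then (p : ℂ) ^ 2 else 0)
      fun c _ => by
        split_ifs with hc
        · rw [hL c hc]; simp
        · simp, ← Finset.sum_filter, Finset.sum_const, nsmul_eq_mul]
    have e : (Finset.univ.filter fun c : Cn A => (c : G) ∈ L).card = Nat.card L := by
      rw [← Nat.card_congr (subgroupOfEquivOfLe cy.LC).toEquiv, Nat.card_eq_fintype_card,
        ← Fintype.card_subtype]
      exact Fintype.card_congr (Equiv.refl _)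
    have p0 : (p : ℂ) ≠ 0 := by exact_mod_cast hy.pp.ne_zero
    have l0 : (Nat.card L : ℂ) ≠ 0 := H33.natCard_ne_zero L
    rw [e, cy.cardC]
    push_cast
    field_simp
  · rw [II, H33.classInner_indFun_left _ _ (fun _ _ => rfl), classInner,
      van (fun c : Cn A => (μ c : ℂ) * conj (1 : ℂ)) z (μ z) hz1 fun c => by
        rw [map_mul, Units.val_mul]; ring, mul_zero]
  · rw [II, H33.indFun_apply_one]; simp
  · rintro ν ⟨n, hn, h⟩
    refine H33.indFun_conj_subgroup n _ _ (fun g => ⟨fun hg => ?_, cn_conj hn⟩) _ _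
      fun c d e => by rw [h c d e.symm]
    have := cn_conj (inv_mem hn) hg
    rwa [show n⁻¹ * (n * g * n⁻¹) * n⁻¹⁻¹ = g by group] at this

end H61.DGT2
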