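/- Tower EC (row S2884): the component of an involution centraliser in the group of a hexagon and in
the small Ree groups. -/
import Cfsg.Agent.H54.ECSpec
import Cfsg.Agent.H83.LCTop
import Cfsg.Agent.H7.GWCons
import Cfsg.Agent.H61.PSLMin
import Cfsg.Agent.H30.ReeInst
import Cfsg.Agent.H30.ReeCent
import Cfsg.Agent.H72.HexD4
import Cfsg.Agent.H2.BNMod

set_option autoImplicit false
set_option linter.unusedSectionVars false

namespace H61.EC

open Cfsg Subgroup H54.EC H43.KF H83 H12.LC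
open scoped MatrixGroups

theorem quasi_sl2 {F : Type*} [Field F] [Fintype F] (h : 3 < Fintype.card F) :
    IsQuasisimple SL(2, F) :=
  ⟨⟨H7.GW.sl2_perfect (Nat.card_eq_fintype_card (α := F) ▸ h)⟩,
    H61.isSimpleGroup_psl (Nat.card_eq_fintype_card (α := F) ▸ h)⟩

theorem le_nor {G : Type*} [Group G] {A B : Subgroup G} (h : ∀ a ∈ A, ∀ g ∈ B, a * g * a⁻¹ ∈ B) :
    A ≤ normalizer (B : Set G) := fun a ha => mem_normalizer_iff.2 fun g =>
  ⟨h a ha g, fun hg => by simpa [mul_assoc] using h a⁻¹ (inv_mem ha) _ hg⟩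

/-- a quasisimple normal subgroup of an involution centraliser -/
theorem bad_of_hom {G L : Type*} [Group G] [Group L] {x : G} (hx : orderOf x = 2) (f : L →* G)
    (hf : Function.Injective f) (h1 : ∀ a, f a * x = x * f a)
    (h2 : ∀ g, g * x = x * g → ∀ a, g * f a * g⁻¹ ∈ f.range) (hq : IsQuasisimple L)
    (h : ¬ InC 2 L) : Bad G :=
  bad_of_chain (K := f.range) (N := C1 x) hx (by rintro _ ⟨a, rfl⟩; exact mem_C1.2 (h1 a)) le_rfl
    le_normalizer (le_nor (by rintro g hg _ ⟨a, rfl⟩; exact h2 g (mem_C1.1 hg) a))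
    ((H14.quasi_congr (MonoidHom.ofInjective hf)).1 hq)
    fun c => h ((H63.Cp.inC_congr (MonoidHom.ofInjective hf) 2).2 c)

section Hex
variable {G : Type*} [Group G] {F₁ F₂ : Type*} [Field F₁] [Fintype F₁] [Field F₂] [Fintype F₂]
  (x : Hex G F₁ F₂)

/-- the root groups `X r`, `X s` commute -/
def Cm (r s : ZMod 12) : Prop := ∀ a ∈ x.X r, ∀ b ∈ x.X s, a * b = b * a

variable {x} in
theorem Cm.act {m : G} {w : hexW.W} (ha : (hexGRD x).Act m w) {r s : ZMod 12} (h : Cm x r s) :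
    Cm x (w.1 r) (w.1 s) := fun a h1 b h2 => by
  have := h (m⁻¹ * a * m) ((ha r _).2 (by simpa [mul_assoc, hexGRD_X] using h1))
    (m⁻¹ * b * m) ((ha s _).2 (by simpa [mul_assoc, hexGRD_X] using h2))
  calc a * b = m * (m⁻¹ * a * m * (m⁻¹ * b * m)) * m⁻¹ := by group
    _ = _ := by rw [this]; group

theorem cen_psi {r : ZMod 12} (hr : r = 2 ∨ r = 8) {a : G} (ha : a ∈ x.X r) {g : G}
    (hg : g ∈ x.ψ.range) : a * g = g * a := by
  have c : Cm x 0 3 := x.long3
  obtain ⟨m, -, w, h1, e1⟩ := hex_exists_rot x 1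
  obtain ⟨m', -, w', h4, e4⟩ := hex_exists_rot x 4
  have c1 := c.act h1
  have c4 := c.act h4
  rw [e1, e1] at c1
  rw [e4, e4] at c4
  have c2 := c1.act ((hexGRD x).act_n true)
  have c5 := c4.act ((hexGRD x).act_n true)
  rw [← hex_range_ψ] at hg
  refine (mem_centralizer_singleton_iff.1 ((sup_le ?_ ?_ : _ ≤ centralizer {a}) hg)).symm <;>
    intro b hb <;> rw [mem_centralizer_singleton_iff] <;> rcases hr with rfl | rfl
  exacts [(c1 a ha b hb).symm, (c5 a ha b hb).symm, (c2 a ha b hb).symm, (c4 a ha b hb).symm]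

theorem psi_ne_one : x.ψ (-1) ≠ 1 := fun h =>
  sl_neg_one_ne_one (two_ne_zero' x.odd₂) (x.ψ_inj (h.trans (map_one _).symm))

theorem psi_comm {g : G} (hg : g ∈ x.ψ.range) : x.ψ (-1) * g = g * x.ψ (-1) := by
  obtain ⟨a, rfl⟩ := hg
  rw [← map_mul, ← map_mul, neg_mul, mul_neg, one_mul, mul_one]

theorem hxC_iff (r : ZMod 12) : HxC x (x.ψ (-1)) r ↔ r = 2 ∨ r = 5 ∨ r = 8 ∨ r = 11 := by
  have hT := hex_dgψ_le x (neg_one_mem_dg x.ψ)
  have easy : ∀ r : ZMod 12, r = 2 ∨ r = 5 ∨ r = 8 ∨ r = 11 → HxC x (x.ψ (-1)) r := by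
    rintro r (rfl | rfl | rfl | rfl) y hy
    exacts [(cen_psi x (Or.inl rfl) hy ⟨_, rfl⟩).symm, psi_comm x (hex_range_ψ x ▸ mem_sup_left hy),
      (cen_psi x (Or.inr rfl) hy ⟨_, rfl⟩).symm, psi_comm x (hex_range_ψ x ▸ mem_sup_right hy)]
  refine ⟨fun h => ?_, easy r⟩
  obtain ⟨m, hm, w, ha, hw⟩ := hex_exists_rot x 1
  have r₁ : ∀ r, HxC x (x.ψ (-1)) r → HxC x (x.ψ (-1)) (10 - r) := fun r h => by
    have h1 : x.φ (weyl F₁) ∈ x.X 0 ⊔ x.X 6 := by rw [hex_range_φ]; exact ⟨_, rfl⟩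
    have h2 : x.X 0 ⊔ x.X 6 ≤ (centralizer {x.ψ (-1)}).comap (MulAut.conj m).toMonoidHom :=
      sup_le (fun y hy => mem_centralizer_singleton_iff.2
        (easy 2 (by simp) _ (by have := ha.conj_mem hy; rwa [hw] at this)).symm)
        fun y hy => mem_centralizer_singleton_iff.2
          (easy 8 (by simp) _ (by have := ha.conj_mem hy; rwa [hw] at this)).symm
    have h3 := mem_centralizer_singleton_iff.1 (h2 h1)
    have := h.act ((ha.mul ((hexGRD x).act_n false)).mul ha.inv)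
    have e : (w⁻¹).1 r = r - 2 := by
      conv_lhs => rw [show r = w.1 (r - 2) by rw [hw]; push_cast; ring]
      exact hexW.inv_apply_apply w _
    rw [hexW.mul_apply, hexW.mul_apply, e, hw, hexGRD_n_false] at this
    convert this using 1
    · exact (mul_inv_eq_of_eq_mul h3).symm
    · change _ = 6 - (r - 2) + _
      push_cast
      ring
  have r₂ : ∀ r, HxC x (x.ψ (-1)) r → HxC x (x.ψ (-1)) (4 - r) := fun r h => by
    have := h.act ((hexGRD x).act_n true)
    rwa [hexGRD_n_true, ← psi_comm x ⟨_, rfl⟩, mul_inv_cancel_right] at this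
  have n0 : ¬ HxC x (x.ψ (-1)) 0 := fun h =>
    psi_ne_one x (hex_eq_one_of_HxC hT 0 h (easy _ (by decide)))
  have n7 : ¬ HxC x (x.ψ (-1)) 7 := fun h =>
    psi_ne_one x (hex_eq_one_of_HxC hT 1 (easy _ (by decide)) h)
  by_contra hr
  have : r = 0 ∨ 10 - r = 0 ∨ 4 - r = 0 ∨ 10 - (4 - r) = 0 ∨
      r = 7 ∨ 10 - r = 7 ∨ 4 - r = 7 ∨ 10 - (4 - r) = 7 := by
    revert hr; clear h; revert r; decide
  rcases this with e | e | e | e | e | e | e | e
  exacts [n0 (e ▸ h), n0 (e ▸ r₁ _ h), n0 (e ▸ r₂ _ h), n0 (e ▸ r₁ _ (r₂ _ h)), n7 (e ▸ h),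
    n7 (e ▸ r₁ _ h), n7 (e ▸ r₂ _ h), n7 (e ▸ r₁ _ (r₂ _ h))]

theorem hex_norm [Finite G] {g : G} (hg : g ∈ x.G₀) (hc : x.ψ (-1) * g = g * x.ψ (-1)) :
    g ∈ normalizer (x.ψ.range : Set G) := by
  have hT := hex_dgψ_le x (neg_one_mem_dg x.ψ)
  refine grd_cent (hexGRD x) hT (fun r y hy h => ?_) (fun m hm h => ?_) (hexGRD_Gp x ▸ hg) hc
  · by_cases h1 : y = 1
    · rw [h1]; exact one_mem _
    rcases (hxC_iff x r).1 (hex_comm_of_fix x hT hy h1 h) with rfl | rfl | rfl | rfl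
    · exact centralizer_le_normalizer _ fun g hg => (cen_psi x (Or.inl rfl) hy hg).symm
    · exact le_normalizer (hex_range_ψ x ▸ mem_sup_left hy)
    · exact centralizer_le_normalizer _ fun g hg => (cen_psi x (Or.inr rfl) hy hg).symm
    · exact le_normalizer (hex_range_ψ x ▸ mem_sup_right hy)
  · obtain ⟨w, ha⟩ := (hexGRD x).exists_act hm
    have key : ∀ r, r = 5 ∨ r = 11 → x.X r ≤ x.ψ.range.comap (MulAut.conj m).toMonoidHom := by
      intro r hr y hy
      have h2 := ((hxC_iff x r).2 (by tauto)).act ha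
      rw [← h, mul_inv_cancel_right, hxC_iff] at h2
      have h3 : w.1 r = 5 ∨ w.1 r = 11 := by
        obtain ⟨k, hk | hk⟩ := hexW_W w <;> rw [hk] at h2 ⊢ <;> revert h2 hr <;> clear hy hk <;>
          revert k r <;> decide
      have h4 := ha.conj_mem hy
      rw [← hex_range_ψ]
      rcases h3 with e | e <;> rw [e] at h4
      exacts [mem_sup_left h4, mem_sup_right h4]
    refine mem_normalizer_fintype fun y hy => ?_
    exact sup_le (key 5 (by simp)) (key 11 (by simp)) (hex_range_ψ x ▸ hy)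

theorem bad_hex [Finite G] (h3 : 3 < Fintype.card F₂) (h : ¬ InC 2 SL(2, F₂)) : Bad x.G₀ := by
  refine bad_of_hom (x := ⟨_, hex_ψ_mem x (-1)⟩) ?_ (x.ψ.codRestrict _ (hex_ψ_mem x))
    (fun a b e => x.ψ_inj (congrArg Subtype.val e))
    (fun a => Subtype.ext (psi_comm x ⟨a, rfl⟩).symm) (fun g hg a => ?_) (quasi_sl2 h3) h
  · refine orderOf_eq_prime (Subtype.ext ?_) fun e => psi_ne_one x (congrArg Subtype.val e)
    change x.ψ (-1) ^ 2 = 1
    rw [← map_pow, neg_one_sq, map_one]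
  · obtain ⟨b, hb⟩ := (mem_normalizer_iff.1
      (hex_norm x g.2 (congrArg Subtype.val hg).symm) _).1 ⟨a, rfl⟩
    exact ⟨b, Subtype.ext hb⟩

end Hex

theorem bad_D4 (k : Kit) (F : Type) [Field F] [Fintype F] (h2 : (2 : F) ≠ 0) {q : ℕ}
    (hq : IsPrimePow q) (hF : Fintype.card F = q ^ 3) : Bad (Lie.twistedD4 F q) := by
  obtain ⟨r, -, E, _, _, -, hE⟩ := H2.BNM.exists_field hq one_ne_zero
  rw [pow_one] at hE
  subst hE
  have ho : Odd (Fintype.card F) := Nat.odd_iff.2 (FiniteField.odd_card_of_char_ne_two fun h =>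
    h2 (by have := ringChar.Nat.cast_ringChar (R := F); rw [h] at this; exact_mod_cast this))
  have h3 : 3 < Fintype.card F := by
    have := Nat.pow_le_pow_left hq.two_le 3
    omega
  obtain ⟨x, hx⟩ := H72.exists_hexD4 hF ((Nat.odd_pow_iff three_ne_zero).1 (hF ▸ ho))
  exact (bad_hex x h3 (k.sl2 F h2 h3)).congr (MulEquiv.subgroupCongr hx)

theorem bad_ree (k : Kit) (F : Type) [Field F] [Fintype F] {m : ℕ} (hm : 1 ≤ m)
    (hF : Fintype.card F = 3 ^ (2 * m + 1)) : Bad (Lie.twistedG2 F (3 ^ m)) := by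
  let R := H30.reeG2 hF
  obtain ⟨e⟩ := R.nonempty_centralizer_equiv
  have h4 : 4 ≤ Nat.card F := by
    have := Nat.pow_le_pow_right (n := 3) (by omega) (show 2 ≤ 2 * m + 1 by omega)
    rw [Nat.card_eq_fintype_card]
    omega
  have := H61.isSimpleGroup_psl h4
  refine bad_of_hom R.orderOf_z
    ((centralizer {R.z}).subtype.comp (e.symm.toMonoidHom.comp (MonoidHom.inr _ _)))
    (Subtype.val_injective.comp (e.symm.injective.comp (Prod.mk_right_injective _)))
    (fun a => mem_centralizer_singleton_iff.1 (e.symm (1, a)).2) (fun g hg a => ?_)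
    (H14.quasi_of_simple fun c => H61.psl_upper_lower_ne (c.is_comm.comm _ _)) (k.l2 F m hm hF)
  obtain ⟨u, hu⟩ := e.symm.surjective ⟨g, mem_centralizer_singleton_iff.2 hg⟩
  obtain rfl : e.symm u = g := congrArg Subtype.val hu
  refine ⟨u.2 * a * u.2⁻¹, ?_⟩
  have : ((1, u.2 * a * u.2⁻¹) : Multiplicative (ZMod 2) × PSL(2, F)) = u * (1, a) * u⁻¹ :=
    Prod.ext (by simp) rfl
  change ((e.symm (1, u.2 * a * u.2⁻¹) : centralizer {R.z}) : Lie.twistedG2 F (3 ^ m)) =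
    e.symm u * e.symm (1, a) * (e.symm u : Lie.twistedG2 F (3 ^ m))⁻¹
  rw [this, map_mul, map_mul, map_inv]
  rfl

end H61.EC
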