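/- Tower EC (row S2884): the subsystem component of an involution centraliser in the fixed group of a
Steinberg endomorphism, with a lower bound for its order. -/
import Cfsg.Agent.H61.ECHex
import Cfsg.Agent.H67.InvJobs

set_option autoImplicit false
set_option linter.unusedSectionVars false

namespace H61.EC

open Cfsg H54.EC H67 H67.Sub
open H64 (gen le_gen gen_le gen_mono RGD XR HH GG StB x_mem_XR)
open scoped commutatorElement

section Tw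

open H68 H68.RD H68.TwG

variable {R ι : Type} [Fintype R] [DecidableEq R] [Fintype ι] [DecidableEq ι] {D : RD R ι}
  {G : Type*} [Group G] {T : RGD D.toW G} {Ω : Type} {τ : Tw D Ω} {S : TwG T τ} {q : ℕ}
  (ht : ∀ o, q ^ D.len (τ.wo o) ≤ Nat.card ↥(UJ T (τ.J {o}) ⊓ S.Fix))
include ht

theorem le_card_Um {w : Equiv.Perm R} (hw : w ∈ τ.Wf) :
    q ^ D.len w ≤ Nat.card ↥(Um T w ⊓ S.Fix) := by
  refine Tw.WI_induction (I := Set.univ)
    (p := fun w => q ^ D.len w ≤ Nat.card ↥(Um T w ⊓ S.Fix)) (by rw [Um_one]; simp) ?_ hw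
  intro w hw o _ ha ih
  obtain ⟨m, hm, h⟩ := S.isTw_Fix.exists_no o
  rw [S.card_Um_mul hw (Tw.wo_mem_Wf o) (mul_cond (Tw.Wf_le_W hw) (w0_mem _) ha) h hm.2,
    Tw.len_mul_wo hw ha, pow_add, Um_wo]
  exact Nat.mul_le_mul ih (ht o)

theorem le_card_K0 [Finite (K0 S)] : q ^ (2 * D.len (D.w0 Set.univ)) ≤ Nat.card (K0 S) := by
  have h1 := le_card_Um ht (Tw.w0_mem_WI Set.univ)
  rw [Um_w0, Tw.J_univ, UJ_univ] at h1
  obtain ⟨m, hm, h⟩ := (isTw_K0 S).exists_N (Tw.w0_mem_WI (τ := τ) Set.univ)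
  have hV : ∀ u ∈ T.U, m * u * m⁻¹ ∈ T.V := fun u hu =>
    h.conj_gen (S := {r | D.pos r}) (S' := {r | ¬ D.pos r})
      (fun r hr hc => (pos_w0 (inJ_univ r)).1 hc hr) hu
  rw [two_mul, pow_add]
  refine (Nat.mul_le_mul h1 h1).trans ?_
  rw [← Nat.card_prod]
  refine Nat.card_le_card_of_injective (fun p => ⟨p.1 * (m * p.2 * m⁻¹),
    mul_mem (Subgroup.mem_sup_left p.1.2)
      (mul_mem (mul_mem hm.2 (Subgroup.mem_sup_left p.2.2)) (inv_mem hm.2))⟩) ?_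
  rintro ⟨a, b⟩ ⟨a', b'⟩ e
  have e1 : (a : G) * (m * b * m⁻¹) = a' * (m * b' * m⁻¹) := congrArg Subtype.val e
  have e2 : (a' : G)⁻¹ * a = m * (b' * (b : G)⁻¹) * m⁻¹ := by
    rw [eq_mul_inv_of_mul_eq e1]; group
  have e3 := T.eq_one_of_mem_B_V (T.U_le_B (mul_mem (inv_mem a'.2.1) a.2.1))
    (e2 ▸ hV _ (mul_mem b'.2.1 (inv_mem b.2.1)))
  obtain rfl : a' = a := Subtype.ext (inv_mul_eq_one.1 e3)
  exact Prod.ext rfl (Subtype.ext (by simpa using e1))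

end Tw

theorem exists_fix_inj {K : Type*} [Field K] [IsAlgClosed K] {η : K} (h : η * η = 1) {Q : ℕ}
    (hQ : 2 ≤ Q) (h0 : (Q : K) = 0) :
    ∃ f : Option (Fin (Q - 1)) → K, Function.Injective f ∧ ∀ i, η * f i ^ Q = f i := by
  obtain ⟨t, ht, e⟩ := exists_fix_ne_zero h hQ
  obtain ⟨n, rfl⟩ : ∃ n, Q = n + 1 := ⟨Q - 1, by omega⟩
  have : NeZero (n : K) := ⟨fun h => by simp [h] at h0⟩
  obtain ⟨ζ, hζ⟩ := HasEnoughRootsOfUnity.exists_primitiveRoot K n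
  have h1 : ζ ≠ 0 := hζ.ne_zero (by omega)
  refine ⟨fun i => i.elim 0 fun j => t * ζ ^ (j : ℕ), ?_, ?_⟩
  · rintro (_ | i) (_ | j) e
    · rfl
    · exact absurd e.symm (mul_ne_zero ht (pow_ne_zero _ h1))
    · exact absurd e (mul_ne_zero ht (pow_ne_zero _ h1))
    · exact congrArg some (Fin.ext (hζ.pow_inj i.2 j.2 (mul_left_cancel₀ ht e)))
  · rintro (_ | i)
    · simp
    · change η * (t * ζ ^ (i : ℕ)) ^ (n + 1) = t * ζ ^ (i : ℕ)
      rw [mul_pow, ← mul_assoc, e, pow_succ, ← pow_mul, mul_comm _ n, pow_mul, hζ.pow_eq_one, one_pow,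
        one_mul]

open Cfsg.Lie H63 H46

variable {D : ChevalleyDatum} [RS D] {K : Type*} [Field K] [IsAlgClosed K] {G : Type*} [Group G]
  {x : ℕ → K → G} {Ψ : Set (Rt D)} {γ : G →* G} {ρ : Equiv.Perm (Rt D)} {q : ℕ}
  {τ : (Fin D.rank → Kˣ) →* G} (g : Good Ψ ρ) (h : StB D x) (f : Frob x γ ρ q) (hq : 2 ≤ q)
  [Finite (γ.eqLocus (MonoidHom.id G))]

theorem le_card_UJ (h0 : (q : K) = 0) (o : g.Orb) : q ^ g.cl.rd.len (g.tw.wo o) ≤
    Nat.card ↥(H68.UJ (g.cl.rgd h) (g.tw.J {o}) ⊓ (g.twg h f hq).Fix) := by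
  obtain ⟨a, rfl⟩ := g.tw.orb_surj o
  obtain ⟨d, hd, h1, h2, -⟩ := g.exists_len a.2
  obtain ⟨η, h3, h4⟩ := (f.itr d).map_x a.1
  obtain ⟨F, hF, e⟩ := exists_fix_inj h3 (hq.trans (Nat.le_self_pow hd.ne' q))
    (by rw [Nat.cast_pow, h0, zero_pow hd.ne'])
  have := g.finite_of_le h f hq (inf_le_right :
    H68.UJ (g.cl.rgd h) (g.tw.J {g.tw.orb a}) ⊓ (g.twg h f hq).Fix ≤ _)
  have hA := f.comm_itr h.toSt h2
  have h5 := Nat.card_le_card_of_injective (β := ↥(H68.UJ (g.cl.rgd h) (g.tw.J {g.tw.orb a}) ⊓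
      (g.twg h f hq).Fix)) (fun i => ⟨nu γ d (x a.1 (F i)), g.nu_mem_UJ h f a d _,
      K0_le_Fix _ (g.nu_x_mem h f hq a hd h2 (by rw [(h4 _).1, h1, e]))⟩) fun i j e1 => hF (by
    by_contra hc
    refine f.nu_ne_one h hd h2 (sub_ne_zero.2 hc) (mul_right_cancel (b := nu γ d (x a.1 (F j))) ?_)
    rw [← nu_mul hA (x_mem_pm _ _) (x_mem_pm _ _) d le_rfl, h.add _ a.1.2, sub_add_cancel, one_mul]
    exact congrArg Subtype.val e1)
  have h6 : 0 < q ^ d := by positivity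
  rw [Finite.card_option, Nat.card_fin, Nat.sub_add_cancel h6] at h5
  refine (Nat.pow_le_pow_right (by omega) ?_).trans h5
  have h7 : ∀ j, ∃ i < d, (ρ ^ i) a.1 = (ρ ^ j) a.1 := fun j => ⟨j % d, Nat.mod_lt _ hd, by
    conv_rhs => rw [← Nat.mod_add_div j d, pow_add, Equiv.Perm.mul_apply, pow_mul,
      Equiv.Perm.pow_apply_eq_self_of_apply_eq_self h1]⟩
  rw [H68.RD.len, ← Finset.card_range d]
  refine (Finset.card_image_of_injective _ Subtype.val_injective).ge.trans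
    ((Finset.card_le_card fun r hr => ?_).trans
      (Finset.card_image_le (f := fun i => (ρ ^ i) a.1)))
  obtain ⟨s, hs, rfl⟩ := Finset.mem_image.1 hr
  obtain ⟨h8, h9⟩ := H68.RD.mem_inv_w0.1 hs
  obtain ⟨b, hb, e | e⟩ := g.eq_of_inJ h9
  · simp only [Finset.mem_image, Finset.mem_range, e]
    rcases g.tw.orb_eq a b hb.symm with rfl | rfl | rfl
    exacts [h7 0, h7 1, h7 2]
  · have := g.cl.rd_pos.1 h8
    rw [e, pos_negR] at this
    exact absurd b.2.2.1 this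

theorem le_card_sub (h0 : (q : K) = 0) {L : List (Rt D)} (hL : L.Nodup)
    (h1 : ∀ r ∈ L, r ∈ Ψ ∧ Pos r) : q ^ (2 * L.length) ≤ Nat.card (K0 (g.twg h f hq)) := by
  have := g.finite_of_le h f hq (K0_le_Fix (g.twg h f hq))
  refine (Nat.pow_le_pow_right (by omega) (Nat.mul_le_mul_left 2 ?_)).trans
    (le_card_K0 (le_card_UJ g h f hq h0))
  rw [H68.RD.len, ← List.toFinset_card_of_nodup hL]
  refine (Finset.card_le_card fun r hr => ?_).trans (Finset.card_image_le (f := Subtype.val))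
  have h2 := h1 r (List.mem_toFinset.1 hr)
  exact Finset.mem_image.2 ⟨⟨r, h2.1⟩,
    H68.RD.mem_inv_w0.2 ⟨g.cl.rd_pos.2 h2.2, H68.RD.inJ_univ _⟩, rfl⟩

theorem quasi_sub (hτ : TorOK D x τ) (h0 : (q : K) = 0) (h2 : (2 : K) ≠ 0) {L : List (Rt D)}
    (hL : Sim Ψ = {a | a ∈ L}) (hc : connL L = true) (h3 : L ≠ [])
    (h4 : ∀ a ∈ L, ∃ b ∈ L, Odd (D.pairing b a)) :
    IsQuasisimple (K0 (g.twg h f hq)) := by
  have i : Irr Ψ ρ := by
    refine ⟨fun I hI _ ⟨a, ha⟩ ⟨b, hb⟩ => ?_, Or.inr fun a ha => Or.inr (Or.inl ?_)⟩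
    · by_contra h5
      push Not at h5
      rw [hL] at hI hb h5
      rcases connL_spec hc (I := I) fun a ha b h6 h7 => h5 a ha b ⟨h6, h7⟩ with h6 | h6
      exacts [hb.2 (h6 b hb.1), h6 a (hI ha) ha]
    · rw [hL] at ha ⊢
      exact h4 a ha
  obtain ⟨a, ha⟩ := List.exists_mem_of_ne_nil L h3
  have : Nonempty g.Orb := ⟨g.tw.orb ⟨a, hL ▸ ha⟩⟩
  refine quasi_K0 (g.cl.solvable_B hτ h) (g.irred i) (perfect_K0 fun o => ?_)
  obtain ⟨b, rfl⟩ := g.tw.orb_surj o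
  by_cases h5 : ρ b.1 = b.1
  · obtain ⟨c, h6, h7⟩ := h4 b.1 (hL.le b.2)
    exact g.UJ_le_of_odd h f hq hτ h2 b ⟨c, hL ▸ h6⟩ h5 h7
  · exact g.UJ_le_of_big h f hq hτ h0 b (Or.inl h5)

/-- The subsystem group is a component of the centraliser of the involution `τ c`. -/
theorem bad_sub (hqs : IsQuasisimple (K0 (g.twg h f hq))) (hτ : TorOK D x τ) (hG : GG D x = ⊤)
    {c : Fin D.rank → Kˣ} (hker : ∀ d, τ d = 1 → d ^ 2 = 1 → d = 1) (hc2 : c ^ 2 = 1)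
    (hc : ∀ r : Rt D, chi D c r = 1 ↔ r ∈ Ψ) (hΨ : ∃ r, r ∉ Ψ) {Y : Type} [Group Y] (ι : Y →* G)
    (hι : Function.Injective ι) (h3 : ∀ y, γ (ι y) = ι y)
    (h4 : ⁅γ.eqLocus (MonoidHom.id G), γ.eqLocus (MonoidHom.id G)⁆ ≤ ι.range)
    (ht : τ c ∈ K0 (g.twg h f hq)) (hK : ∀ L : Subgroup Y, Nat.card L = Nat.card (K0 (g.twg h f hq)) →
      ¬ InC 2 L) : Bad Y := by
  have hCP : CP D x c = gen (XR D x) Ψ ⊔ HH D x := by
    rw [CP, show {r : Rt D | chi D c r = 1} = Ψ from Set.ext hc]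
  have hle : K0 (g.twg h f hq) ≤ ι.range := by
    have h5 : K0 (g.twg h f hq) ≤ γ.eqLocus (MonoidHom.id G) := fun y hy => (K0_le_Fix _ hy).2
    rw [← Subgroup.isPerfect_iff.1 hqs.1]
    exact (Subgroup.commutator_mono h5 h5).trans h4
  obtain ⟨t, ht⟩ := hle ht
  have e : (K0 (g.twg h f hq)).comap ι ≃* K0 (g.twg h f hq) :=
    (Subgroup.equivMapOfInjective _ ι hι).trans
      (MulEquiv.subgroupCongr (Subgroup.map_comap_eq_self hle))
  refine bad_of_hom (x := t) ?_ ((K0 (g.twg h f hq)).comap ι).subtype Subtype.val_injective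
    (fun a => hι ?_) (fun y hy a => ?_) ((H14.quasi_congr e).2 hqs) (hK _ (Nat.card_congr e.toEquiv))
  · refine orderOf_eq_prime (hι (by rw [map_pow, ht, ← map_pow, hc2, map_one, map_one])) ?_
    rintro rfl
    obtain ⟨r, hr⟩ := hΨ
    refine hr ((hc r).1 ((chi_eq_of_tor hτ h (c' := 1) ?_ r).trans (chi_one r)))
    rw [← ht, map_one, map_one]
  · rw [map_mul, map_mul, ht]
    exact Subgroup.mem_centralizer_singleton_iff.1 (CP_le hτ h.toStN c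
      (hCP ▸ Subgroup.mem_sup_left (K0_le_gen g h f hq a.2)))
  · rw [Subgroup.range_subtype, Subgroup.mem_comap, map_mul, map_mul, map_inv]
    refine fix_conj_K0 ((g.mem_Fix h f hq).2 ⟨?_, h3 y⟩) a.2
    rw [← hCP]
    exact mem_CP_of_comm' hτ h hker two_ne_zero hc2 (hG ▸ Subgroup.mem_top _)
      (by rw [← ht, ← map_mul, hy, map_mul])

end H61.EC
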