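/- Tower EC (row S2884), job TW: the twisted exceptional groups in odd characteristic. -/
import Cfsg.Agent.H61.ECSub

set_option autoImplicit false
set_option linter.unusedSectionVars false

namespace H61.EC

open Cfsg H54.EC H67 H67.Sub Cfsg.Lie H63 H46 H64 H65

theorem two_pow_le {k e : ℕ} (hk : 1 ≤ k) (h : 2 ^ e ∣ (2 * k + 1) ^ 36 * ((2 * k + 1) ^ 2 - 1) *
    ((2 * k + 1) ^ 5 + 1) * ((2 * k + 1) ^ 6 - 1) * ((2 * k + 1) ^ 8 - 1) * ((2 * k + 1) ^ 9 + 1) *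
    ((2 * k + 1) ^ 12 - 1)) : 2 ^ e ≤ 2 ^ 13 * (k + 1) ^ 6 := by
  have o : ∀ m, Odd (2 * m + 1) := fun m => ⟨m, rfl⟩
  obtain ⟨A, e1⟩ : ∃ A, (2 * k + 1) ^ 5 + 1 = 2 * (k + 1) * (2 * A + 1) :=
    ⟨2 * k + 8 * k ^ 2 + 12 * k ^ 3 + 8 * k ^ 4, by ring⟩
  obtain ⟨E, e2⟩ : ∃ E, (2 * k + 1) ^ 9 + 1 = 2 * (k + 1) * (2 * E + 1) :=
    ⟨4 * k + 32 * k ^ 2 + 136 * k ^ 3 + 368 * k ^ 4 + 640 * k ^ 5 + 704 * k ^ 6 + 448 * k ^ 7 +
      128 * k ^ 8, by ring⟩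
  have e3 : (2 * k + 1) ^ 2 - 1 = 4 * (k * (k + 1)) := Nat.sub_eq_of_eq_add (by ring)
  obtain ⟨B, C, e4, e5⟩ : ∃ B C, (2 * k + 1) ^ 6 - 1 = 4 * (k * (k + 1)) * (2 * B + 1) ∧
      (2 * k + 1) ^ 12 - 1 = 8 * (k * (k + 1)) * (2 * B + 1) * (2 * C + 1) :=
    ⟨1 + 6 * k + 14 * k ^ 2 + 16 * k ^ 3 + 8 * k ^ 4,
      3 * k + 15 * k ^ 2 + 40 * k ^ 3 + 60 * k ^ 4 + 48 * k ^ 5 + 16 * k ^ 6,
      Nat.sub_eq_of_eq_add (by ring), Nat.sub_eq_of_eq_add (by ring)⟩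
  obtain ⟨F, H, e6⟩ : ∃ F H, (2 * k + 1) ^ 8 - 1 = 16 * (k * (k + 1)) * (2 * F + 1) * (2 * H + 1) :=
    ⟨k + k ^ 2, 2 * k + 6 * k ^ 2 + 8 * k ^ 3 + 4 * k ^ 4, Nat.sub_eq_of_eq_add (by ring)⟩
  rw [e1, e2, e3, e4, e5, e6] at h
  have hM : Odd ((2 * k + 1) ^ 36 * (2 * A + 1) * (2 * E + 1) * (2 * B + 1) ^ 2 * (2 * C + 1) *
      (2 * F + 1) * (2 * H + 1)) :=
    ((((((o k).pow.mul (o A)).mul (o E)).mul (o B).pow).mul (o C)).mul (o F)).mul (o H)
  have h1 : 2 ^ e ∣ 2 ^ 13 * k ^ 4 * (k + 1) ^ 6 :=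
    (Nat.Coprime.pow_left _ (Nat.coprime_two_left.2 hM)).dvd_of_dvd_mul_left (by
      convert h using 1
      generalize 2 * A + 1 = A, 2 * E + 1 = E, 2 * B + 1 = B, 2 * C + 1 = C, 2 * F + 1 = F,
        2 * H + 1 = H, (2 * k + 1) ^ 36 = Q, k + 1 = l
      ring)
  rcases Nat.even_or_odd k with h2 | h2
  · refine (Nat.le_of_dvd (by positivity) ((Nat.Coprime.pow_left _ (Nat.coprime_two_left.2
      h2.add_one.pow)).dvd_of_dvd_mul_right h1)).trans (Nat.mul_le_mul_left _ ?_)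
    exact (Nat.pow_le_pow_left k.le_succ 4).trans (Nat.pow_le_pow_right k.succ_pos (by omega))
  · rw [mul_right_comm] at h1
    exact Nat.le_of_dvd (by positivity) ((Nat.Coprime.pow_left _ (Nat.coprime_two_left.2
      h2.pow)).dvd_of_dvd_mul_right h1)

theorem not_cardOK {q n c : ℕ} (hq : 2 ≤ q) (ho : Odd q) (h1 : q ^ 40 ≤ n * 2 ^ c)
    (h2 : n * 2 ^ c ∣ q ^ 36 * (q ^ 2 - 1) * (q ^ 5 + 1) * (q ^ 6 - 1) * (q ^ 8 - 1) * (q ^ 9 + 1) *
      (q ^ 12 - 1)) : ¬ CardOK n := by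
  obtain ⟨k, rfl⟩ := ho
  have hk : 1 ≤ k := by omega
  rintro (h | h)
  · have h3 := Nat.ordProj_dvd n 2
    generalize n.factorization 2 = f at h h3
    have h4 := Nat.pow_le_pow_left
      (two_pow_le hk ((pow_add 2 f c ▸ Nat.mul_dvd_mul_right h3 _).trans h2)) 3
    have h5 : (2 ^ f) ^ 3 * 2 ^ c ≤ (2 ^ (f + c)) ^ 3 := by
      rw [← pow_mul, ← pow_add, ← pow_mul]
      exact Nat.pow_le_pow_right two_pos (by omega)
    have h6 := Nat.mul_lt_mul_of_pos_right h (show 0 < 2 ^ c by positivity)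
    have h7 := Nat.mul_le_mul (Nat.pow_le_pow_left (show 3 * (k + 1) ≤ 2 * (2 * k + 1) by omega) 18)
      (Nat.pow_le_pow_left (show 3 ≤ 2 * k + 1 by omega) 22)
    rw [mul_pow, mul_pow, mul_assoc (2 ^ 18), ← pow_add] at h7
    rw [mul_pow, ← pow_mul (k + 1)] at h4
    generalize (k + 1) ^ 18 = a at h4 h7
    generalize (2 * k + 1) ^ 40 = b at h1 h7
    omega
  · have h3 := h1.trans (Nat.mul_le_mul_left n (two_pow_le hk ((dvd_mul_left _ _).trans h2)))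
    have h4 : k < 25 := by
      by_contra h4
      have h5 : n ≤ 10 ^ 54 - 10 ^ 53 := by
        clear * - h
        revert n
        decide
      have h6 := Nat.mul_le_mul (Nat.pow_le_pow_left (show k + 1 ≤ 2 * k + 1 by omega) 6)
        (Nat.pow_le_pow_left (show 51 ≤ 2 * k + 1 by omega) 34)
      have h7 := Nat.mul_le_mul_right (2 ^ 13 * (k + 1) ^ 6) h5
      have h8 : 0 < (k + 1) ^ 6 := by positivity
      rw [← pow_add] at h6
      generalize (k + 1) ^ 6 = a at h3 h6 h7 h8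
      generalize (2 * k + 1) ^ 40 = b at h3 h6
      omega
    replace h2 := (dvd_mul_right _ _).trans h2
    revert h2 h3 hk
    clear * - h h4
    revert k
    revert n
    decide +kernel

/-- The first end node of the diagram. -/
def i0 : Fin chevE6.rank := ⟨0, by decide⟩

/-- The last end node of the diagram. -/
def i5 : Fin chevE6.rank := ⟨5, by decide⟩

/-- The subsystem of type `D₅` that is stable under the symmetry of the diagram. -/
def P5 : Set (Rt chevE6) := {r | rt r i0 = rt r i5}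

noncomputable instance (r : Rt chevE6) : Decidable (r ∈ P5) := inferInstanceAs (Decidable (_ = _))

theorem cl_P5 : Cl P5 where
  neg r hr := by simpa [P5] using hr
  comb r hr s hs c i j _ _ e := by
    change rt c _ = rt c _
    rw [e, Pi.add_apply, Pi.add_apply, Pi.smul_apply, Pi.smul_apply, Pi.smul_apply, Pi.smul_apply,
      show rt r _ = rt r _ from hr, show rt s _ = rt s _ from hs]

/-- Its simple roots. -/
def L5 : List (Rt chevE6) :=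
  [⟨60, by decide⟩, ⟨46, by decide⟩, ⟨42, by decide⟩, ⟨37, by decide⟩, ⟨39, by decide⟩]

theorem sim_P5 : Sim P5 = {a | a ∈ L5} :=
  cl_P5.sim_eq (by decide +kernel : ∀ a ∈ L5, a ∈ P5 ∧ Pos a)
    (by decide +kernel : ∀ a ∈ L5, ∀ b ∈ L5, a ≠ b → chevE6.pairing a b ≤ 0)
    (by decide +kernel : ∀ r ∈ P5, Pos r → r ∈ L5 ∨ ∃ a ∈ L5, 0 < chevE6.pairing a r ∧ ht a < ht r)

theorem good_P5 : Good P5 H68.twE6.ρ :=
  ⟨cl_P5, isLin_E6, by decide +kernel, fun r _ h => (H68.twE6.ρ_pos r).2 h,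
    fun a ha => Or.inl ((by decide +kernel : ∀ a ∈ L5, H68.twE6.ρ (H68.twE6.ρ a) = a) a
      (sim_P5.le ha)),
    fun a ha => (by decide +kernel : ∀ a ∈ L5, H68.twE6.ρ a ≠ a →
      chevE6.pairing a (H68.twE6.ρ a) = 0) a (sim_P5.le ha)⟩

/-- Its positive roots. -/
def R5 : List (Rt chevE6) := (List.finRange _).filter fun r =>
  (r : ℕ) ∈ [37, 39, 40, 42, 43, 44, 46, 47, 48, 50, 51, 53, 60, 63, 65, 66, 68, 69, 70, 71]

/-- The simple root `α₃`. -/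
def a3 : Rt chevE6 := ⟨42, by decide⟩

theorem a3_mem : a3 ∈ Sim P5 := sim_P5.ge (by decide)

theorem tab_E6 : (∀ r : Rt chevE6, H68.twE6.ρ (H68.twE6.ρ r) = r) ∧
    chevE6.pairing a3 (H68.twE6.ρ a3 : Rt chevE6) = 0 ∧
    (∀ r : Rt chevE6, (chevE6.pairing a3 r + chevE6.pairing a3 (H68.twE6.ρ r : Rt chevE6) -
      (rt r i0 + rt r i5)) % 2 = 0) ∧
    (∀ r : Rt chevE6, (rt r i0 + rt r i5) % 2 = 0 ↔ r ∈ P5) ∧
    connL L5 = true ∧ (∀ a ∈ L5, ∃ b ∈ L5, Odd (chevE6.pairing b a)) ∧ (∃ r, r ∉ P5) ∧ R5.Nodup ∧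
    (∀ r ∈ R5, r ∈ P5 ∧ Pos r) ∧ R5.length = 20 := by decide +kernel

theorem prod_two {k : Type*} [Field k] {q : ℕ} (ho : Odd q) (a : ℕ → ℤ) :
    ∏ i ∈ Finset.range 2, ((-1 : kˣ) ^ a i) ^ q ^ i = (-1) ^ (a 0 + a 1) := by
  rw [Finset.prod_range_succ, Finset.prod_range_one, pow_zero, pow_one, pow_one, ← zpow_natCast,
    ← zpow_mul, mul_comm _ (q : ℤ), zpow_mul, zpow_natCast, ho.neg_one_pow, ← zpow_add]

theorem bad_P5 {k : Type} [Field k] [IsAlgClosed k] {q : ℕ} (hq : 2 ≤ q) (h0 : (q : k) = 0)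
    (h2 : (2 : k) ≠ 0) {γ : ↥(chevE6.group k) →* ↥(chevE6.group k)}
    (f : Frob (xG chevE6 k) γ H68.twE6.ρ q) [Finite (γ.eqLocus (MonoidHom.id _))] {Y : Type}
    [Group Y] (ι : Y →* ↥(chevE6.group k)) (hι : Function.Injective ι) (h3 : ∀ y, γ (ι y) = ι y)
    (h4 : ⁅γ.eqLocus (MonoidHom.id _), γ.eqLocus (MonoidHom.id _)⁆ ≤ ι.range)
    (hK : ∀ L : Subgroup Y, q ^ 40 ≤ Nat.card L → ¬ InC 2 L) : Bad Y := by
  have hτ := torOK_xG (D := chevE6) (k := k)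
  have h := stBG (D := chevE6) (k := k)
  obtain ⟨t1, t2, t3, t4, t5, t6, t7, t8, t9, t10⟩ := tab_E6
  obtain ⟨d, hd, e⟩ := good_P5.exists_tor h f hq hτ ⟨a3, a3_mem⟩ two_pos (t1 a3)
    (fun i h3 h4 => by
      obtain rfl : i = 1 := by omega
      exact cl_P5.so_of_sim a3_mem (good_P5.sim a3_mem) t2)
    (l := -1) f.odd.pow.neg_one_pow
  have e' : ∀ r : Rt chevE6,
      chi chevE6 d r = (-1) ^ (rt r i0 + rt r i5) := fun r => by
    refine (e r).trans ((prod_two f.odd _).trans ?_)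
    have := t3 r
    rw [← Equiv.Perm.inv_eq_iff_eq.2 (t1 r).symm] at this
    rw [← mul_inv_eq_one, ← zpow_sub]
    exact (Int.even_iff.2 this).neg_one_zpow
  obtain ⟨c, hc2, hc⟩ := exists_torG_pow (D := chevE6) (N := 3 ^ 1) (e := 2) (d := d)
    (fun _ => kerE6.pow_eq_one') (by decide) (by
      rw [← map_pow]
      refine torG_eq_one_iff.2 fun i => ?_
      change chi chevE6 _ (simpleR i : Rt chevE6) = 1
      rw [chi_pow, e', ← zpow_natCast, ← zpow_mul]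
      exact (even_two.mul_left _).neg_one_zpow)
  refine bad_sub good_P5 h f hq (quasi_sub good_P5 h f hq hτ h0 h2 sim_P5 t5 (by decide) t6) hτ GG_xG
    (fun a h3 h5 => ?_) hc2 (fun r => ?_) t7 ι hι h3 h4 (hc ▸ hd) fun L hL => hK L ?_
  · have := kerE6.pow_eq_one' (torG_eq_one_iff.1 h3)
    rwa [pow_succ, h5, one_mul] at this
  · rw [chi_eq_of_tor hτ h hc, e', ← t4, ← Int.even_iff]
    refine ⟨fun h5 => by_contra fun h6 => h2 ?_, fun h5 => h5.neg_one_zpow⟩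
    have := congrArg Units.val ((Int.not_even_iff_odd.1 h6).neg_one_zpow.symm.trans h5)
    simp only [Units.val_neg, Units.val_one] at this
    linear_combination -this
  · have := le_card_sub good_P5 h f hq h0 t8 t9
    rwa [t10, ← hL] at this

theorem bad_tw {k : Type} [Field k] [IsAlgClosed k] {σ : RingAut k} {q : ℕ} (hq : 2 ≤ q)
    (hσ : ∀ t, σ t = t ^ q) (h0 : (q : k) = 0) (ho : Odd q) (h2 : (2 : k) ≠ 0)
    (S : H68.TwG (H68.mat chevE6 k).T H68.twE6)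
    (hS : ∀ g, S.σ g = gP H68.graphE6 k * Matrix.GeneralLinearGroup.map (σ : k →+* k) g *
      (gP H68.graphE6 k)⁻¹) {K : Type} [Field K] (ι : K →+* k) {Y : Subgroup (GL chevE6.Idx K)}
    (hY : S.IsTw (Y.map (Matrix.GeneralLinearGroup.map ι)))
    (hK : ∀ L : Subgroup Y, q ^ 40 ≤ Nat.card L → ¬ InC 2 L) : Bad Y := by
  have : Finite ((gF H68.graphE6 (σ : k →+* k)).eqLocus (MonoidHom.id _)) := by
    have := finite_tw_fix (φ := (σ : k →+* k)) hq hσ (map_gP H68.graphE6 _)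
    exact Finite.of_injective (fun g => (⟨g.1.1, congrArg Subtype.val g.2⟩ :
      {g : GL chevE6.Idx k // gP H68.graphE6 k * Matrix.GeneralLinearGroup.map (σ : k →+* k) g *
        (gP H68.graphE6 k)⁻¹ = g})) fun a b e => Subtype.ext (Subtype.ext (Subtype.mk.inj e))
  have h1 : ∀ y : Y, Matrix.GeneralLinearGroup.map ι y ∈ S.Fix := fun y => hY.le_fix ⟨y, y.2, rfl⟩
  refine bad_P5 hq h0 h2 (γ := gF H68.graphE6 (σ : k →+* k))
    ⟨isLin_E6, ho, fun r => ⟨H68.gamE6 r, ?_, fun t => ?_⟩⟩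
    (((Matrix.GeneralLinearGroup.map ι).comp Y.subtype).codRestrict _
      fun y => H68.mat_Gp (D := chevE6) (K := k) ▸ (h1 y).1)
    (fun a b h => Subtype.ext (Units.ext (Matrix.ext fun i j => ι.injective (congrArg
      (fun g : ↥(chevE6.group k) => ((g : GL chevE6.Idx k) : Matrix chevE6.Idx chevE6.Idx k) i j) h))))
    (fun y => Subtype.ext ((hS _).symm.trans (h1 y).2)) ?_ hK
  · rw [← Int.cast_mul, H68.graphE6.sq r r.2, Int.cast_one]
  · rw [gF_x _ _ r.2, gF_x _ _ (negR r).2, negR_val, negR_val, (H68.graphE6.neg r r.2).1,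
      (H68.graphE6.neg r r.2).2, ← hσ]
    exact ⟨rfl, rfl⟩
  · rw [Subgroup.commutator_le]
    intro g hg g' hg'
    have h3 : ∀ g : ↥(chevE6.group k), gF H68.graphE6 (σ : k →+* k) g = g →
        (g : GL chevE6.Idx k) ∈ S.Fix := fun g hg =>
      ⟨(H68.mat_Gp (D := chevE6) (K := k)).symm ▸ g.2, (hS _).trans (congrArg Subtype.val hg)⟩
    obtain ⟨y, hy, e⟩ := comm_le_tw hY (fun a ha b hb => (H68.mat chevE6 k).H_comm ha hb)
      (Subgroup.commutator_mem_commutator (h3 g hg) (h3 g' hg'))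
    exact ⟨⟨y, hy⟩, Subtype.ext e⟩

theorem bad_E6 (kit : Kit) (K : Type) [Field K] [Fintype K] (h2 : (2 : K) ≠ 0) {q : ℕ}
    (hq : IsPrimePow q) (hK : Fintype.card K = q ^ 2) : Bad (twistedE6 K q) := by
  obtain ⟨σ, hσ, h3, h0, -⟩ := exists_frobAut_tw K hq two_ne_zero hK
  have ho := odd_of_card h2 two_ne_zero hK
  refine bad_tw hq.two_le hσ h0 ho (two_ne_zero_alg h2) _ (gS_σ _ _ _ _ _ _) _
    (isTw_sE6 (σ : AlgebraicClosure K →+* AlgebraicClosure K) hσ hK _ h3) fun L h1 h => ?_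
  obtain ⟨c, hc⟩ := IsPGroup.iff_card.1 h.2.1
  have h6 := Subgroup.card_eq_card_quotient_mul_card_subgroup (Subgroup.center L)
  rw [hc] at h6
  exact not_cardOK hq.two_le ho (h6 ▸ h1) (h6 ▸ H68.card_E6 hq hK ▸
    (Subgroup.card_subgroup_dvd_card L).mul_left _) (kit.card _ h.2.2.1)

theorem jobTw (k : Kit) : JobTw := fun F _ _ h2 =>
  ⟨fun _ hq => ⟨fun h => Or.inl (bad_E6 k F h2 hq h), fun h => Or.inl (bad_D4 k F h2 hq h)⟩,
    fun _ hm h => Or.inl (bad_ree k F hm h)⟩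

end H61.EC
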