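import Cfsg.Agent.H61.F23W
import Cfsg.Agent.H39.E6Spec0

/-! PS3B, jobs W' and V'. -/

set_option autoImplicit false
set_option linter.unusedSectionVars false

namespace H61.F23

open Cfsg Subgroup H98 H42.L3 H56.L3 H39.F22 H39.F23 Module X
open LinearMap (ker range)
open H28.PS (Zt)
open scoped Matrix

universe u

variable {G : Type u} [Group G] [Finite G] {z y a b r s s' x : G} {Q Q' : Subgroup G}
  {l l' : G → V8} {μ μ' : G → M8}

theorem GFB.map (e : G ≃* G) (h : GFB z Q s) : GFB (e z) (Q.map e.toMonoidHom) (e s) := by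
  have P : ∀ {Y : Subgroup G}, IsPGroup 3 (Y.map e.toMonoidHom) → IsPGroup 3 Y :=
    isPGroup_of_map_injective e.injective
  have L : ∀ {Y : Subgroup G}, Y.map e.toMonoidHom ≤ Ce (e z) → Y ≤ Ce z := fun hY a ha =>
    (mC e).1 (hY ((mm e).2 ha))
  have R : ∀ Y : Subgroup G, (Q.map e.toMonoidHom).relIndex (Y.map e.toMonoidHom) = Q.relIndex Y :=
    fun Y => relIndex_map_map_of_injective _ _ e.injective
  refine ⟨?_, fun i => ?_, fun i hi ii Y => ?_, fun i hi ii a ha b hb y => ?_, fun Y => ?_, fun Y => ?_,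
    fun Y => ?_, fun a ha b hb y => ?_⟩
  · obtain ⟨r, h1, h2, h3, h4⟩ := h.neg
    refine ⟨e r, (mC e).2 h1, by rw [← map_mul, h2, map_one], ?_, fun g => ?_⟩
    · rintro _ ⟨a, ha, rfl⟩
      simpa using (mZ e).2 (h3 a ha)
    · obtain ⟨g, rfl⟩ := e.surjective g
      simpa only [← map_mul, ← map_inv, mm, mC] using h4 g
  · obtain ⟨i, rfl⟩ := e.surjective i
    rw [mC, ← map_mul, map_eq_one_iff _ e.injective, Ne, map_eq_one_iff _ e.injective, ← mCe,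
      ← map_inf _ _ _ e.injective, card_map]
    intro h1 h2 h3 h4
    obtain ⟨g, h5, h6⟩ := h.inv i h1 h2 h3 h4
    exact ⟨e g, (mC e).2 h5, by rw [← h6, map_mul, map_mul, map_inv]⟩
  · obtain ⟨i, rfl⟩ := e.surjective i
    obtain ⟨Y, rfl⟩ := ex_map e Y
    rw [← map_mul, map_eq_one_iff _ e.injective] at ii
    rw [mn, ← mCe e (z := i), ← map_inf _ _ _ e.injective, ← map_inf _ _ _ e.injective, ← Subgroup.map_sup,
      card_map, card_map]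
    exact fun h1 h2 => h.inv9 i ((mC e).1 hi) ii Y (L h1) (P h2)
  · obtain ⟨i, rfl⟩ := e.surjective i
    obtain ⟨a, rfl⟩ := e.surjective a
    obtain ⟨b, rfl⟩ := e.surjective b
    obtain ⟨y, rfl⟩ := e.surjective y
    rw [← Set.image_singleton (f := e) (a := y), map_fix, Set.ncard_image_of_injective _ e.injective,
      ← Set.image_insert_eq, ← Set.image_insert_eq]
    simp only [← map_mul, ← map_inv, ← map_pow, mm, mC, map_eq_one_iff _ e.injective,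
      e.injective.eq_iff] at hi ii ha hb ⊢
    exact fun hy a3 b3 h1 => h.inv3 i hi ii a ha b hb y hy a3 b3 (P (by rwa [MonoidHom.map_closure]))
  · obtain ⟨Y, rfl⟩ := ex_map e Y
    exact fun h1 h2 => R Y ▸ h.s81 Y (L h1) (P h2)
  · obtain ⟨Y, rfl⟩ := ex_map e Y
    intro h1 h2 h3
    obtain ⟨g, h4, h5⟩ := h.fix Y (L h1) (P h2) (R Y ▸ h3)
    refine ⟨e g, (mC e).2 h4, ?_⟩
    rw [coe_map, MulEquiv.coe_toMonoidHom, map_fix]
    rintro _ ⟨a, ha, rfl⟩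
    simpa only [← map_mul, ← map_inv, mC] using h5 a ha
  · obtain ⟨Y, rfl⟩ := ex_map e Y
    intro h1 h2 h3 h4
    rw [coe_map, MulEquiv.coe_toMonoidHom, map_fix, Set.ncard_image_of_injective _ e.injective]
    exact h.ab27 Y (L h1) (P h2) (R Y ▸ h3) fun a ha b hb => (mm e).1 (by
      simpa using h4 _ ((mm e).2 ha) _ ((mm e).2 hb))
  · obtain ⟨y, rfl⟩ := e.surjective y
    obtain ⟨a, rfl⟩ := e.surjective a
    obtain ⟨b, rfl⟩ := e.surjective b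
    rw [← Set.image_singleton (f := e) (a := y), map_fix, Set.ncard_image_of_injective _ e.injective,
      ← Set.image_insert_eq, ← Set.image_insert_eq]
    simp only [← map_mul, ← map_inv, mm, mC] at ha hb ⊢
    exact fun hy h1 => h.nab a ha b hb y hy (P (by rwa [MonoidHom.map_closure]))

section

variable (h : X8 z Q l μ) (h' : X8 y Q' l' μ') (hy : y ∈ Q) (hn : y ∉ zpowers z)
include h h' hy hn

theorem z_memB (f' : GFB y Q' s') : z ∈ Q' := by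
  by_contra hz
  have h1 := Nat.le_of_dvd (by omega) (f'.s81 (Q ⊓ Ce y) inf_le_right (three h).to_inf_left)
  have h2 := card_rel (Q ⊓ Ce y) Q'
  have h3 : lA h (Q ⊓ Ce y ⊓ Q') ≤ Submodule.span _ {l y} := by
    rw [← orth_orth (Submodule.span _ _)]
    intro v hv w hw
    obtain ⟨a, ha, -, rfl⟩ := (mem_lA h).1 hv
    obtain ⟨b, hb, rfl⟩ := h.l_surj w
    have hb' : b ∈ Q ⊓ Ce y := cen_eq h hy ▸ ⟨hb, hw⟩
    have := eq_one_of_not_mem h.ord hz (comm_mem h hb ha.1.1)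
      (mul_mem (cmem h' hb'.2 ha.2) (inv_mem ha.2))
    rwa [mul_inv_eq_one, mul_inv_eq_iff_eq_mul, comm_iff h hb ha.1.1] at this
  have h4 := Submodule.finrank_mono h3
  rw [finrank_span_singleton fun e => hn ((h.l_ker y hy).1 e)] at h4
  rw [card_cen h hy hn, card_of_not_mem h (inf_le_left.trans inf_le_left) fun c => hz c.2] at h2
  have := Nat.mul_le_mul (Nat.pow_le_pow_right (n := 3) (by omega) h4) h1
  omega

theorem ex_cenB (f : GFB z Q s) (hz : z ∈ Q') : ∃ g ∈ Ce z, g * y * g⁻¹ ∈ Ce s := by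
  have h1 : lA h (Q ⊓ Q') ≤ BB.orthogonal (lA h (Q ⊓ Q')) := by
    intro v hv w hw
    obtain ⟨a, ha, -, rfl⟩ := (mem_lA h).1 hv
    obtain ⟨b, hb, -, rfl⟩ := (mem_lA h).1 hw
    exact (comm_iff h hb.1 ha.1).1 (F_comm h h' hn hb ha)
  have h2 := Submodule.finrank_mono h1
  have h3 := rk_orth (lA h (Q ⊓ Q'))
  have h4 := card_rel (Q' ⊓ Ce z) Q
  rw [card_cen h' hz (not_mem_symm h.ord h'.ord hn),
    show Q' ⊓ Ce z ⊓ Q = Q ⊓ Q' from Subgroup.ext fun a =>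
      ⟨fun e => ⟨e.2, e.1.1⟩, fun e => ⟨⟨e.2, QC h e.1⟩, e.1⟩⟩,
    card_of_mem h inf_le_left ⟨h.zmem, hz⟩] at h4
  obtain ⟨g, h5, h6⟩ := f.fix (Q' ⊓ Ce z) inf_le_right (three h').to_inf_left (by
    obtain ⟨n, hn⟩ : ∃ n, 8 = finrank (ZMod 3) (lA h (Q ⊓ Q')) + 1 + (3 + n) :=
      ⟨4 - finrank (ZMod 3) (lA h (Q ⊓ Q')), by omega⟩
    rw [hn, pow_add 3 _ (3 + n), Nat.mul_right_inj (by positivity)] at h4
    exact h4 ▸ pow_add 3 3 n ▸ dvd_mul_right _ _)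
  exact ⟨g, h5, h6 y ⟨hy, fun w hw => by
    rw [mem_Ce'.1 (QC h' hw.1), mul_inv_cancel]; exact one_mem _⟩⟩

theorem sixB (f : GFB z Q s) (hz : z ∈ Q') (sz : s ∈ Ce z) (sy : s ∈ Ce y) (ss : s * s = 1)
    (hc : Nat.card ↥(Q ⊓ Ce s) = 3 ^ 7) : 3 ^ 6 ∣ Nat.card ↥(Q' ⊓ Ce s) := by
  have hn' := not_mem_symm h.ord h'.ord hn
  have si : s⁻¹ = s := inv_eq_of_mul_eq_one_right ss
  have e1 : Q' ⊓ Ce z ⊓ Q = Q ⊓ Q' := Subgroup.ext fun a =>
    ⟨fun e => ⟨e.2, e.1.1⟩, fun e => ⟨⟨e.2, QC h e.1⟩, e.1⟩⟩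
  have h1 := Nat.le_of_dvd (Nat.mul_pos (by omega) Nat.card_pos)
    (f.inv9 s sz ss (Q' ⊓ Ce z) inf_le_right (three h').to_inf_left
      (zpowers_le.1 (le_normalizer_inf (zpowers_le.2 (CN h' sy))
        (le_normalizer_of_le (zpowers_le.2 sz)))))
  rw [card_cen h' hz hn', e1] at h1
  have h2 := H12.card_sup_mul_card_inf (A := Q' ⊓ Ce z ⊓ Ce s) (B := Q ⊓ Q') (le_normalizer_inf
    ((inf_le_left.trans inf_le_right).trans (CN h))
    (le_normalizer_of_le (inf_le_left.trans inf_le_left)))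
  have h3 : (Q ⊓ Ce s).relIndex (Q ⊓ Q') ≤ 3 := by
    have hB : (Q ⊓ Q') ⊔ (Q ⊓ Ce s) ≤ Q := sup_le inf_le_left inf_le_left
    have h4 : (Q ⊓ Q') ⊔ (Q ⊓ Ce s) ≠ Q := fun e => by
      have : Q ⊓ Q' ≤ Q ⊓ Ce s := fun a ha => ⟨ha.1, by
        have hw : s * a * s⁻¹ * a⁻¹ ∈ Q ⊓ Q' :=
          mul_mem ⟨cmem h sz ha.1, cmem h' sy ha.2⟩ (inv_mem ha)
        have h5 : Q ≤ Ce (s * a * s⁻¹ * a⁻¹) := e ▸ sup_le
          (fun b hb => mem_Ce.2 (F_comm h h' hn hb hw)) fun b hb => mem_Ce.2 (by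
            have := inv_form h sz hb.1 ha.1
            rw [← mem_Ce.1 hb.2, mul_inv_cancel_right] at this
            rw [comm_iff h hb.1 hw.1, h.l_mul _ (cmem h sz ha.1) _ (inv_mem ha.1), l_inv h ha.1,
              map_add, map_neg, this, add_neg_cancel])
        have := cop h sz ss (h.cen fun b hb => mem_Ce.1 (h5 hb))
        exact mem_Ce.2 (mul_inv_eq_iff_eq_mul.1 this).symm⟩
      rw [sup_eq_right.2 this] at e
      rw [e, card_Q h] at hc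
      omega
    have h5 := H15.BG.card_rel (le_sup_right : Q ⊓ Ce s ≤ (Q ⊓ Q') ⊔ (Q ⊓ Ce s))
    have h6 := card_dvd_of_le hB
    have h7 : Nat.card ↥((Q ⊓ Q') ⊔ (Q ⊓ Ce s)) ≠ Nat.card Q := fun e =>
      h4 (eq_of_le_of_card_ge hB e.ge)
    rw [card_Q h] at h6 h7
    obtain ⟨m, hm, e⟩ := (Nat.dvd_prime_pow Nat.prime_three).1 h6
    have h8 := Nat.pow_le_pow_right (n := 3) (by omega) (show m ≤ 8 by
      by_contra c
      exact h7 (by rw [e, show m = 9 by omega]))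
    refine (relIndex_le_of_le_right (L := (Q ⊓ Q') ⊔ (Q ⊓ Ce s)) le_sup_left
      FiniteIndex.index_ne_zero).trans ?_
    rw [hc, e] at h5
    omega
  have h4 := card_rel (Q ⊓ Q') (Q ⊓ Ce s)
  rw [show Q ⊓ Q' ⊓ (Q ⊓ Ce s) = Q' ⊓ Ce z ⊓ Ce s ⊓ (Q ⊓ Q') from Subgroup.ext fun a =>
    ⟨fun e => ⟨⟨⟨e.1.2, QC h e.1.1⟩, e.2.2⟩, e.1⟩, fun e => ⟨e.2, e.2.1, e.1.2⟩⟩] at h4
  rw [sup_comm, ← h4] at h2
  have h5 : 3 ^ 5 ≤ Nat.card ↥(Q' ⊓ Ce z ⊓ Ce s) := by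
    have h6 : 0 < Nat.card ↥(Q' ⊓ Ce z ⊓ Ce s ⊓ (Q ⊓ Q')) := Nat.card_pos
    generalize Nat.card ↥(Q' ⊓ Ce z ⊓ Ce s ⊓ (Q ⊓ Q')) = i at h2 h6
    have := Nat.mul_le_mul_left (Nat.card ↥(Q' ⊓ Ce z ⊓ Ce s)) h3
    rw [mul_comm i, ← mul_assoc, Nat.mul_left_inj h6.ne'] at h2
    omega
  obtain ⟨v, hv⟩ : ∃ v, BB v (l' z) ≠ 0 := by
    by_contra! c
    exact hn' ((h'.l_ker z hz).1 (BB_nd.2 _ c))
  obtain ⟨x, hx, rfl⟩ := h'.l_surj v
  have hx' := cmem h' sy hx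
  have hw := mul_mem hx hx'
  refine card_pow_three (three h').to_inf_left (h5.trans_lt (not_le.1 fun c => hv ?_))
  replace c := (eq_of_le_of_card_ge (inf_le_inf_right _ inf_le_left) c).ge
  have h6 : s * (x * (s * x * s⁻¹)) * s⁻¹ = x * (s * x * s⁻¹) := cop h' sy ss (by
    rw [show s * (x * (s * x * s⁻¹)) * s⁻¹ = s * x * s⁻¹ * (s * s * x * (s * s)⁻¹) by group, ss,
      one_mul, inv_one, mul_one, mul_inv_rev, ← mul_assoc]
    exact comm_mem h' hx' hx)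
  have h7 := (comm_iff h' hw hz).1
    (mem_Ce.1 (c ⟨hw, mem_Ce.2 (mul_inv_eq_iff_eq_mul.1 h6).symm⟩).1.2)
  have h8 := inv_form h' sy hx hz
  rw [mem_Ce'.1 sz] at h8
  rw [h'.l_mul x hx _ hx', map_add, LinearMap.add_apply, h8] at h7
  exact (by decide : ∀ a : ZMod 3, a + a = 0 → a = 0) _ h7

omit h h' hy hn in
theorem jobV' : H39.F23.JobV'.{u} := by
  intro G _ _ z Q l μ s h f sz ss s1 hc nw
  obtain ⟨g, h1, h2⟩ := nw_conj nw
  obtain ⟨g', h3, h4⟩ := ex_cenB h (X8.map (MulAut.conj g) h) h1 h2 f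
    (z_memB h (X8.map (MulAut.conj g) h) h1 h2 (GFB.map _ f))
  have e : g' * (g * z * g⁻¹) * g'⁻¹ = MulAut.conj (g' * g) z := by rw [MulAut.conj_apply]; group
  have h5 : MulAut.conj (g' * g) z ∈ Q := e ▸ cmem h h3 h1
  have h6 : MulAut.conj (g' * g) z ∉ zpowers z := e ▸ fun c => h2 (by
    have := conj_mem_of_mem_normalizer' (Ce_le_Nz h3) c
    rwa [show g'⁻¹ * (g' * (g * z * g⁻¹) * g'⁻¹) * g' = g * z * g⁻¹ by group] at this)
  have h7 : s ∈ Ce (MulAut.conj (g' * g) z) := e ▸ mem_Ce.2 (mem_Ce.1 h4).symm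
  have h' := X8.map (MulAut.conj (g' * g)) h
  have f' := GFB.map (MulAut.conj (g' * g)) f
  obtain ⟨k, h8, h9⟩ := f'.inv s h7 ss s1 (sixB h h' h5 h6 f (z_memB h h' h5 h6 f') sz h7 ss hc)
  have e2 : k⁻¹ * (g' * g) * z * (k⁻¹ * (g' * g))⁻¹ = MulAut.conj (g' * g) z := by
    rw [← mem_Ce'.1 (inv_mem h8), MulAut.conj_apply]; group
  refine ⟨k⁻¹ * (g' * g), mem_Ce'.2 ?_, e2 ▸ h5, e2 ▸ h6⟩
  rw [MulAut.conj_apply] at h9
  calc k⁻¹ * (g' * g) * s * (k⁻¹ * (g' * g))⁻¹ = k⁻¹ * (g' * g * s * (g' * g)⁻¹) * k := by group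
    _ = s := by rw [← h9]; group

end

theorem four_of {L K : Submodule (ZMod 3) V8} (h : L ≤ K)
    (c : finrank (ZMod 3) K ≤ finrank (ZMod 3) L + 1) :
    ∀ u ∈ K, ∀ v ∈ K, u ∈ L ∨ v ∈ L ∨ u + v ∈ L ∨ u - v ∈ L := fun u hu v hv => by
  refine (em _).imp_right fun n => ?_
  have h1 : L < L ⊔ Submodule.span _ {u} := lt_of_le_of_ne le_sup_left fun e =>
    n (e.ge (Submodule.mem_sup_right (Submodule.mem_span_singleton_self u)))
  have h2 := Submodule.eq_of_le_of_finrank_le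
    (sup_le h ((Submodule.span_singleton_le_iff_mem _ _).2 hu))
    (c.trans (Submodule.finrank_lt_finrank_of_lt h1))
  obtain ⟨w, h3, _, h4, rfl⟩ := Submodule.mem_sup.1 (h2.ge hv)
  obtain ⟨k, rfl⟩ := Submodule.mem_span_singleton.1 h4
  obtain rfl | rfl | rfl := (by decide : ∀ k : ZMod 3, k = 0 ∨ k = -1 ∨ k = 1) k
  · exact .inl (by simpa using h3)
  · exact .inr (.inl (by simpa using h3))
  · exact .inr (.inr (by simpa using h3))

namespace Pr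

variable (p : Pr z Q l μ y Q' l' μ')
include p

theorem ex_rB (f : GFB z Q s) (hs : ¬ Sm z Q y) :
    ∃ r ∈ Ce z, r ∈ Ce y ∧ r * r = 1 ∧ ∀ a ∈ Q, l (r * a * r⁻¹) = - l a := by
  have h := p.h
  obtain ⟨r, rz, rr, h1, h2⟩ := f.neg
  have ri : r⁻¹ = r := inv_eq_of_mul_eq_one_right rr
  have h3 : ∀ a ∈ Q, l (r * a * r⁻¹) = - l a := fun a ha => by
    rw [eq_neg_iff_add_eq_zero, ← h.l_mul _ (cmem h rz ha) _ ha]
    exact l_z h (h1 a ha)
  have hq := h2 y⁻¹ (inv_mem p.yz)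
  rw [show y⁻¹ * r * y⁻¹⁻¹ * r⁻¹ = y⁻¹ * (r * y * r⁻¹) by group] at hq
  obtain ⟨v, hv⟩ : l (y⁻¹ * (r * y * r⁻¹)) ∈ range (Nm μ y) := by
    rw [rng (Nm_form h p.yz)]
    intro v hv
    obtain ⟨a, ha, rfl⟩ := h.l_surj v
    have h4 : Commute a y := mem_Ce.1 (p.full_of hs ha hv)
    have h5 := conj_mem_Ce (p.full_of hs (cmem h rz ha) (h3 a ha ▸ neg_mem hv)) r
    rw [show r * (r * a * r⁻¹) * r⁻¹ = r * r * a * (r * r)⁻¹ by group, rr, one_mul, inv_one,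
      mul_one] at h5
    exact (comm_iff h ha hq).1 (h4.inv_right.mul_right (mem_Ce.1 h5)).eq
  obtain ⟨x, hx, rfl⟩ := h.l_surj v
  rw [Nm_l h p.yz hx] at hv
  have e1 : r * (y⁻¹ * (r * y * r⁻¹)) * r⁻¹ = (y⁻¹ * (r * y * r⁻¹))⁻¹ :=
    calc _ = r * y⁻¹ * r * y * (r * r)⁻¹ := by group
      _ = r * y⁻¹ * r⁻¹ * y := by rw [rr, inv_one, mul_one, ri]
      _ = _ := by group
  have e2 : r * y⁻¹ * r⁻¹ = (y⁻¹ * (r * y * r⁻¹))⁻¹ * y⁻¹ := by group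
  have h6 : Commute r _ := Ce_zp rz (of_l_eq h (mul_mem (cmem h p.yz hx) (inv_mem hx)) hq hv)
  generalize y⁻¹ * (r * y * r⁻¹) = q at hq e1 e2 h6
  have e3 : q⁻¹ * q⁻¹ = q := by
    rw [← mul_inv_rev, inv_eq_iff_mul_eq_one, ← pow_three', h.cube q hq]
  have h7 : Commute r (q * y⁻¹) := by
    rw [commute_iff_eq, ← mul_inv_eq_iff_eq_mul, ← conj_mul, e1, e2, ← mul_assoc, e3]
  have h8 := (h6.mul_right h7).eq
  have hx' := cmem h p.yz hx
  have hc := QC h hx'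
  refine ⟨(y * x * y⁻¹)⁻¹ * r * (y * x * y⁻¹), mul_mem (mul_mem (inv_mem hc) rz) hc, ?_, ?_,
    fun a ha => ?_⟩
  · refine mem_Ce.2 (Commute.inv_right_iff.1 ?_)
    calc _ = (y * x * y⁻¹)⁻¹ * (r * (y * x * y⁻¹ * x⁻¹ * q⁻¹ * (q * y⁻¹))) * (y * x * y⁻¹) := by
          group
      _ = _ := by rw [h8]; group
  · calc _ = (y * x * y⁻¹)⁻¹ * (r * r) * (y * x * y⁻¹) := by group
      _ = 1 := by rw [rr]; group
  · generalize y * x * y⁻¹ = t at hx'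
    have h9 := mul_mem (mul_mem hx' ha) (inv_mem hx')
    rw [show t⁻¹ * r * t * a * (t⁻¹ * r * t)⁻¹ = t⁻¹ * (r * (t * a * t⁻¹) * r⁻¹) * t by group,
      h.l_mul _ (mul_mem (inv_mem hx') (cmem h rz h9)) _ hx', h.l_mul _ (inv_mem hx') _ (cmem h rz h9),
      h3 _ h9, h.l_mul _ (mul_mem hx' ha) _ (inv_mem hx'), h.l_mul _ hx' _ ha, l_inv h hx']
    abel

theorem fullB (f : GFB z Q s) (f' : GFB y Q' s') (hs : ¬ Sm z Q y) :
    (∀ a ∈ Q ⊓ Ce y, ∀ b ∈ Q ⊓ Ce y, a * b * a⁻¹ * b⁻¹ ∈ Q') ∧ finrank (ZMod 3) (ker (Nm μ' z)) = 4 ∧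
      finrank (ZMod 3) (lA p.h (Q ⊓ Q')) + 2 = finrank (ZMod 3) (ker (Nm μ y)) ∧
      27 ∣ Q'.relIndex (Q ⊓ Ce y) := by
  have h := p.h
  obtain ⟨r, rz, ry, rr, h3⟩ := p.ex_rB f hs
  have h4 : ∀ v, ∃ x ∈ Q, l x = v ∧ r * x * r⁻¹ = x⁻¹ := fun v => by
    obtain ⟨a, ha, rfl⟩ := h.l_surj v
    refine ⟨r * a * r⁻¹ * a⁻¹, mul_mem (cmem h rz ha) (inv_mem ha), ?_, ?_⟩
    · rw [h.l_mul _ (cmem h rz ha) _ (inv_mem ha), h3 a ha, l_inv h ha]
      exact funext fun i => (by decide : ∀ a : ZMod 3, -a + -a = a) _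
    · calc _ = r * r * (a * r * (r * r)⁻¹ * a⁻¹ * r⁻¹) := by group
        _ = _ := by rw [rr]; group
  have h5 : ∀ a ∈ Q, r * a * r⁻¹ * a ∈ zpowers z := fun a ha =>
    (h.l_ker _ (mul_mem (cmem h rz ha) ha)).1 (by
      rw [h.l_mul _ (cmem h rz ha) _ ha, h3 a ha, neg_add_cancel])
  have key : ((∀ u ∈ ker (Nm μ y), ∀ v ∈ ker (Nm μ y), BB u v = 0) → ∀ u ∈ ker (Nm μ y),
      ∀ v ∈ ker (Nm μ y), u ∈ lA h (Q ⊓ Q') ∨ v ∈ lA h (Q ⊓ Q') ∨ u + v ∈ lA h (Q ⊓ Q') ∨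
        u - v ∈ lA h (Q ⊓ Q')) ∨ finrank (ZMod 3) (lA h (Q ⊓ Q')) + 2 < finrank (ZMod 3) (ker (Nm μ y)) →
      False := by
    have c2 : finrank (ZMod 3) (ker (Nm μ y)) ≤ finrank (ZMod 3) (lA h (Q ⊓ Q')) + 2 := ?c2
    refine fun c1 => c1.elim (full_lin (Nm_form h p.yz) (Nm_cube h p.yz p.y3) (L := lA h (Q ⊓ Q'))
      (le_inf p.F_le ?_) (fun v hv hb => ?_) c2) c2.not_gt
    · rw [rng (Nm_form h p.yz)]
      intro v hv w hw
      obtain ⟨b, hb, -, rfl⟩ := (mem_lA h).1 hv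
      obtain ⟨a, ha, rfl⟩ := h.l_surj w
      exact p.cF ⟨ha, p.full_of hs ha hw⟩ hb
    · obtain ⟨x, hx, rfl, e⟩ := h4 v
      obtain ⟨b, hb', -, e1⟩ := (mem_lA h).1 hv
      have ht := mul_mem (cmem h p.yz hx) (inv_mem hx)
      rw [Nm_l h p.yz hx] at e1 hb ⊢
      have h6 := of_l_eq h ht hb'.1 e1.symm
      have h7 := eq_one_of_not_mem h.ord p.hz (h5 b hb'.1) (mul_mem (cmem p.h' ry hb'.2) hb'.2)
      have h8 : r * (y * x * y⁻¹ * x⁻¹) * r⁻¹ = (y * x * y⁻¹ * x⁻¹)⁻¹ :=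
        calc _ = r * y * r⁻¹ * (r * x * r⁻¹) * (r * y * r⁻¹)⁻¹ * (r * x * r⁻¹)⁻¹ := by group
          _ = (y * x * y⁻¹ * x⁻¹ * x)⁻¹ * x := by rw [mem_Ce'.1 ry, e]; group
          _ = _ := by rw [(comm_iff h ht hx).2 hb]; group
      have h9 : y * x * y⁻¹ * x⁻¹ * b⁻¹ = 1 := by
        generalize y * x * y⁻¹ * x⁻¹ = t at h6 h8
        refine eq_one_of_sq (h.cube _ (zQ h h6)) ?_
        calc _ = t * b⁻¹ * (r * (t * b⁻¹) * r⁻¹) := by rw [Ce_zp rz h6, mul_inv_cancel_right]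
          _ = t * b⁻¹ * (r * t * r⁻¹) * (r * b * r⁻¹)⁻¹ := by group
          _ = t * b⁻¹ * b⁻¹ * (t * b⁻¹)⁻¹ * b := by rw [h8, eq_inv_of_mul_eq_one_left h7]; group
          _ = 1 := by rw [← Ce_zp (QC h (inv_mem hb'.1)) h6]; group
      rw [p.kz ht (mul_inv_eq_one.1 h9 ▸ hb'.2), l_one h]
    · have h6 := Nat.le_of_dvd (Nat.mul_pos (by omega) Nat.card_pos)
        (f'.inv9 r ry rr (Q ⊓ Ce y) inf_le_right (three h).to_inf_left
          (zpowers_le.1 (le_normalizer_inf (zpowers_le.2 (CN h rz))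
            (le_normalizer_of_le (zpowers_le.2 ry)))))
      have h7 : (Q ⊓ Ce y ⊓ Q') ⊔ (Q ⊓ Ce y ⊓ Ce r) ≤ pre h (lA h (Q ⊓ Q')) := sup_le
        (fun a ha => ⟨ha.1.1, (mem_lA h).2 ⟨a, ⟨ha.1.1, ha.2⟩, ha.1.1, rfl⟩⟩) fun a ha => ⟨ha.1.1, by
          have := h3 a ha.1.1
          rw [← mem_Ce.1 ha.2, mul_inv_cancel_right] at this
          rw [show l a = 0 from funext fun i =>
            (by decide : ∀ a : ZMod 3, a = -a → a = 0) _ (congrFun this i)]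
          exact zero_mem _⟩
      have h8 : pre h (ker (Nm μ y)) ≤ Q ⊓ Ce y := fun a ha => ⟨ha.1, p.full_of hs ha.1 ha.2⟩
      have h9 := (card_le_of_le h8).trans (h6.trans (Nat.mul_le_mul_left 9 (card_le_of_le h7)))
      rw [card_pre, card_pre, show 9 = 3 ^ 2 from rfl, ← pow_add,
        Nat.pow_le_pow_iff_right (by omega)] at h9
      omega
  have iso : ∀ u ∈ ker (Nm μ y), ∀ v ∈ ker (Nm μ y), BB u v = 0 :=
    by_contra fun c => key (.inl fun e => (c e).elim)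
  have h6 : finrank (ZMod 3) (lA h (Q ⊓ Q')) + 2 = finrank (ZMod 3) (ker (Nm μ y)) :=
    le_antisymm (by_contra fun c => key (.inl fun _ => four_of p.F_le (by omega)))
      (not_lt.1 fun c => key (.inr c))
  refine ⟨fun a ha b hb => ?_, by_contra fun c4 => key (.inl fun _ u hu v hv => ?_), h6, ?_⟩
  · rw [(comm_iff h ha.1 hb.1).2 (iso _ (p.E_le ((mem_lA h).2 ⟨a, ha, ha.1, rfl⟩)) _
      (p.E_le ((mem_lA h).2 ⟨b, hb, hb.1, rfl⟩))), mul_inv_cancel_right, mul_inv_cancel]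
    exact one_mem _
  · obtain ⟨a, ha, rfl, e⟩ := h4 u
    obtain ⟨b, hb, rfl, e'⟩ := h4 v
    have m : ∀ c ∈ Q, c ∈ Q' → l c ∈ lA h (Q ⊓ Q') := fun c h1 h2 =>
      (mem_lA h).2 ⟨c, ⟨h1, h2⟩, h1, rfl⟩
    have one : ∀ a ∈ Q, a * z * a⁻¹ * z⁻¹ ∈ Q' := fun a ha => by
      rw [mem_Ce'.1 (QC h ha), mul_inv_cancel]; exact one_mem _
    refine (f'.inv3 r ry rr a (p.full_of hs ha hu) b (p.full_of hs hb hv) z p.symm.yz (h.cube a ha)
      (h.cube b hb) ((three h).to_le ((closure_le _).2 (by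
        rintro _ (rfl | rfl | rfl)
        exacts [ha, hb, h.zmem])))
      (by rw [e, inv_mul_cancel]; exact one_mem _) (by rw [e', inv_mul_cancel]; exact one_mem _)
      (by rw [(comm_iff h ha hb).2 (iso _ hu _ hv), mul_inv_cancel_right, mul_inv_cancel]
          exact one_mem _) (one a ha) (one b hb) (mem_Ce.1 rz) p.hz).imp (m a ha) (.imp (m b hb)
            (.imp (fun c => ?_) fun c => ?_))
    · exact h.l_mul a ha b hb ▸ m _ (mul_mem ha hb) c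
    · rw [sub_eq_add_neg, ← l_inv h hb, ← h.l_mul a ha _ (inv_mem hb)]
      refine m _ (mul_mem ha (inv_mem hb)) (c.resolve_right fun c => c4 ?_)
      rw [fixQ_card p.h' (by rintro _ rfl; exact p.symm.yz), show 243 = 3 ^ 5 from rfl,
        Nat.pow_right_inj (by omega), iInf_singleton] at c
      omega
  · have h9 := card_rel (Q ⊓ Ce y) Q'
    have e : Q ⊓ Ce y = pre h (ker (Nm μ y)) := Subgroup.ext fun a =>
      ⟨fun ha => ⟨ha.1, p.E_le ((mem_lA h).2 ⟨a, ha, ha.1, rfl⟩)⟩,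
        fun ha => ⟨ha.1, p.full_of hs ha.1 ha.2⟩⟩
    rw [show Q ⊓ Ce y ⊓ Q' = Q ⊓ Q' from Subgroup.ext fun a =>
        ⟨fun e => ⟨e.1.1, e.2⟩, fun e => ⟨⟨e.1, QC p.h' e.2⟩, e.2⟩⟩,
      card_of_not_mem h inf_le_left fun c => p.hz c.2, congrArg (fun B : Subgroup G => Nat.card B) e,
      card_pre, ← h6, add_assoc, pow_add, Nat.mul_right_inj (by positivity)] at h9
    exact h9.symm ▸ dvd_rfl

theorem abB (f : GFB z Q s) (hs : Sm z Q y ∨ finrank (ZMod 3) (lA p.h (Q ⊓ Q')) = 2)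
    (h27 : 27 ∣ Q.relIndex (Q' ⊓ Ce z))
    (hab : ∀ a ∈ Q' ⊓ Ce z, ∀ b ∈ Q' ⊓ Ce z, a * b * a⁻¹ * b⁻¹ ∈ Q) : False := by
  have h := p.h
  have h1 := f.ab27 _ inf_le_right (three p.h').to_inf_left h27 hab
  rw [fixQ_card h fun c hc => hc.2, show 9 = 3 ^ 2 from rfl, Nat.pow_right_inj (by omega)] at h1
  have mW : ∀ v, v ∈ (⨅ c ∈ (Q' ⊓ Ce z : Subgroup G), ker (Nm μ c)) ↔
      ∀ c ∈ Q' ⊓ Ce z, Nm μ c v = 0 := fun v => by simp only [Submodule.mem_iInf, LinearMap.mem_ker]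
  change finrank (ZMod 3) ↥(⨅ c ∈ (Q' ⊓ Ce z : Subgroup G), ker (Nm μ c)) + 1 = 2 at h1
  generalize (⨅ c ∈ (Q' ⊓ Ce z : Subgroup G), ker (Nm μ c)) = W at h1 mW
  have h0 : ∀ b ∈ Q ⊓ Q', l b ∈ W := fun b hb => (mW _).2 fun a ha => by
    rw [Nm_l h ha.2 hb.1, (comm_iff p.h' ha.1 hb.2).2 (p.symm.cF ha ⟨hb.2, hb.1⟩),
      mul_inv_cancel_right, mul_inv_cancel, l_one h]
  replace hs := hs.resolve_right fun c => by
    have := Submodule.finrank_mono (show lA p.h (Q ⊓ Q') ≤ W from fun v hv => by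
      obtain ⟨b, hb, -, rfl⟩ := (mem_lA p.h).1 hv
      exact h0 b hb)
    omega
  have hn : Q' ⊓ Ce z ≤ nr (pre h (range (Nm μ y))) := fun a ha => mem_normalizer_of_cj_le (by
    rintro _ ⟨b, ⟨hb, v, hv⟩, rfl⟩
    obtain ⟨x, hx, rfl⟩ := h.l_surj v
    refine ⟨cmem h ha.2 hb, l (a * x * a⁻¹), ?_⟩
    have ht := mul_mem (cmem h p.yz hx) (inv_mem hx)
    rw [Nm_l h p.yz (cmem h ha.2 hx), MulEquiv.coe_toMonoidHom, MulAut.conj_apply, act' h ha.2 hb,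
      ← hv, Nm_l h p.yz hx, ← act' h ha.2 ht]
    conv_lhs => rw [← mem_Ce'.1 (QC p.h' ha.1)]
    exact congrArg l (by group))
  have hlt : zpowers z < pre h (range (Nm μ y)) := by
    refine lt_of_le_of_ne (fun a ha => ⟨zQ h ha, l_z h ha ▸ zero_mem _⟩) fun c =>
      p.hy (h.ker y p.yz (Matrix.toLin'.injective (sub_eq_zero.1 (LinearMap.ext fun v => ?_))))
    obtain ⟨x, hx, rfl⟩ := h.l_surj v
    rw [Matrix.toLin'_one]
    exact (Nm_l h p.yz hx).trans (l_z h (c.ge ⟨mul_mem (cmem h p.yz hx) (inv_mem hx), _,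
      Nm_l h p.yz hx⟩))
  obtain ⟨x, hx, h2, -, h3⟩ := H99.exists_commutator_mem_of_lt (p := 3)
    ((three h).to_sup_of_normal_left' (three p.h').to_inf_left (inf_le_right.trans (CN h)))
    le_sup_right (le_sup_of_le_left fun a (ha : a ∈ pre h _) => ha.1) hn (inf_le_right.trans Ce_le_Nz) hlt
  have h4 : l x ∈ W := (mW _).2 fun a ha => by
    obtain ⟨h4, h5⟩ := mem_inf.1 (h3 a ha)
    rw [← SetLike.mem_coe, coe_mul_of_right_le_normalizer_left _ _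
      (inf_le_right.trans Ce_le_Nz)] at h4
    obtain ⟨w, hw, b, hb, e⟩ := h4
    replace h5 : w * b ∈ pre h _ := (congrArg (· ∈ pre h _) e).mpr h5
    replace e : w * b = a * x * a⁻¹ * x⁻¹ := e
    have hb' : b ∈ Q := (mul_mem_cancel_left (zQ h hw)).1 h5.1
    have h6 : l (w * b) = l b :=
      (h.l_mul w (zQ h hw) b hb').trans (by rw [l_z h hw, zero_add])
    rw [Nm_l h ha.2 hx.1, ← e, h6]
    exact p.FI hs ((mem_lA p.h).2 ⟨b, ⟨hb', hb.1⟩, hb', rfl⟩) (h6 ▸ h5.2)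
  have h5 : Submodule.span _ {l x} = W := Submodule.eq_of_le_of_finrank_le
    ((Submodule.span_singleton_le_iff_mem _ _).2 h4) (by
      rw [finrank_span_singleton fun e => h2 ((h.l_ker x hx.1).1 e)]; omega)
  have h6 : W ≤ range (Nm μ y) := h5 ▸ (Submodule.span_singleton_le_iff_mem _ _).2 hx.2
  have h7 : ∀ b ∈ Q ⊓ Q', l b = 0 := fun b hb =>
    p.FI hs ((mem_lA p.h).2 ⟨b, hb, hb.1, rfl⟩) (h6 (h0 b hb))
  have h8 : lA p.h (Q ⊓ Ce y) ≤ W := fun v hv => (mW _).2 fun a ha => by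
    obtain ⟨e, he, h9, rfl⟩ := (mem_lA p.h).1 hv
    have h8 := (mem_inf.1 ha).1
    rw [Nm_l h ha.2 h9]
    refine h7 _ (mem_inf.2 ⟨mul_mem (cmem h ha.2 h9) (inv_mem h9), ?_⟩)
    rw [mul_assoc, mul_assoc, ← mul_assoc e]
    exact mul_mem h8 (cmem p.h' he.2 (inv_mem h8))
  have := Submodule.finrank_mono h8
  have := p.dimE hs
  have := (three_le (Nm_cube h p.yz p.y3)).1
  omega

theorem absurdB (f : GFB z Q s) (f' : GFB y Q' s') : False := by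
  by_cases hs : Sm z Q y <;> by_cases hs' : Sm y Q' z
  rotate_left
  · exact p.abB f (.inl hs) (p.symm.fullB f' f hs').2.2.2 (p.symm.fullB f' f hs').1
  · exact p.symm.abB f' (.inl hs') (p.fullB f f' hs).2.2.2 (p.fullB f f' hs).1
  · obtain ⟨h1, h2, -, h3⟩ := p.symm.fullB f' f hs'
    have h4 := (p.fullB f f' hs).2.2.1
    exact p.abB f (.inr (by omega)) h3 h1
  refine p.abB f (.inl hs) (p.symm.rel27 hs') fun a ha b hb => by_contra fun c =>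
    p.symm.abB f' (.inl hs') (p.rel27 hs) fun d hd e he => ?_
  have one : ∀ a ∈ Q', a * y * a⁻¹ * y⁻¹ ∈ Q := fun a ha => by
    rw [mem_Ce'.1 (QC p.h' ha), mul_inv_cancel]; exact one_mem _
  have h1 := f.nab a ha.2 b hb.2 y p.yz ((three p.h').to_le ((closure_le _).2 (by
    rintro _ (rfl | rfl | rfl)
    exacts [ha.1, hb.1, p.h'.zmem]))) c (one a ha.1) (one b hb.1) p.hy
  rw [fixQ_card p.h (by rintro _ rfl; exact p.yz), show 81 = 3 ^ 4 from rfl,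
    Nat.pow_right_inj (by omega), iInf_singleton] at h1
  have h2 := (three_le (Nm_cube p.h p.yz p.y3)).2 (by omega)
  rw [rng (Nm_form p.h p.yz)] at h2
  rw [(comm_iff p.h hd.1 he.1).2 (h2 (p.E_le ((mem_lA p.h).2 ⟨e, he, he.1, rfl⟩)) _
    (p.E_le ((mem_lA p.h).2 ⟨d, hd, hd.1, rfl⟩))), mul_inv_cancel_right, mul_inv_cancel]
  exact one_mem _

end Pr

theorem jobW' : H39.F23.JobW'.{u} := by
  intro G _ _ z Q l μ s h f nw
  by_contra c
  have w : WC z Q := fun t ht h1 => by_contra fun h2 => c ⟨t, ht, h1, h2⟩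
  obtain ⟨g, h1, h2⟩ := nw_conj nw
  have h' := X8.map (MulAut.conj g) h
  have w' : WC (MulAut.conj g z) (Q.map (MulAut.conj g).toMonoidHom) := by
    rintro _ ⟨t, ht, rfl⟩ ⟨k, hk⟩
    refine (mZ (MulAut.conj g)).2 (w t ht ⟨g⁻¹ * k * g, hk.imp (fun e => ?_) fun e => ?_⟩)
    · refine (MulAut.conj g).injective (Eq.trans ?_ e)
      simp only [MulAut.conj_apply]; group
    · refine (MulAut.conj g).injective (Eq.trans ?_ (e.trans (map_inv _ _).symm))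
      simp only [MulAut.conj_apply]; group
  exact Pr.absurdB ⟨h, h', h1, fun e => h2 (w _ e ⟨g, .inl rfl⟩), fun e => not_mem_symm h.ord h'.ord h2
    (w' z e ⟨g⁻¹, .inl (by rw [MulAut.conj_apply]; group)⟩), w, w'⟩ f (GFB.map _ f)

end H61.F23
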