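import Cfsg.Agent.H39.F23Spec
import Cfsg.Agent.H15.BGKit

/-! Kit for the chapter F23 of PS3B: the group `3^{1+8}` in coordinates. -/

set_option autoImplicit false
set_option linter.unusedSectionVars false

namespace H61.F23

open Cfsg Subgroup H98 H42.L3 H56.L3 H39.F22 H39.F23 Module
open H28.PS (Zt)
open scoped Matrix

universe u

/-- The alternating form as a bilinear map. -/
noncomputable def BB : LinearMap.BilinForm (ZMod 3) V8 := Matrix.toBilin' (kr qi qi qi)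

theorem BB_apply (u v : V8) : BB u v = bt u v := Matrix.toBilin'_apply' _ _ _

theorem BB_swap (u v : V8) : BB u v = - BB v u := by
  have : (kr qi qi qi)ᵀ = - kr qi qi qi := by decide +kernel
  rw [BB_apply, BB_apply, bt, bt, Matrix.dotProduct_mulVec, ← Matrix.mulVec_transpose, this,
    Matrix.neg_mulVec, neg_dotProduct, dotProduct_comm]

theorem BB_self (u : V8) : BB u u = 0 :=
  (by decide : ∀ a : ZMod 3, a = -a → a = 0) _ (BB_swap u u)

theorem BB_refl : BB.IsRefl := fun u v h => by rw [BB_swap, h, neg_zero]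

theorem BB_nd : BB.Nondegenerate := BB_refl.nondegenerate_iff_separatingLeft.2 fun u h => by
  have e : kr qi qi qi * kr qi qi qi = -1 := by decide +kernel
  funext i
  have := h (kr qi qi qi *ᵥ Pi.single i 1)
  rwa [BB_apply, bt, Matrix.mulVec_mulVec, e, Matrix.neg_mulVec, Matrix.one_mulVec, dotProduct_neg,
    dotProduct_single, mul_one, neg_eq_zero] at this

theorem rk_orth (W : Submodule (ZMod 3) V8) :
    finrank (ZMod 3) (BB.orthogonal W) + finrank (ZMod 3) W = 8 := by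
  have h1 := LinearMap.BilinForm.finrank_orthogonal BB_nd W
  have h2 := W.finrank_le
  have h3 : finrank (ZMod 3) V8 = 8 := by simp
  omega

theorem orth_orth (W : Submodule (ZMod 3) V8) : BB.orthogonal (BB.orthogonal W) = W :=
  LinearMap.BilinForm.orthogonal_orthogonal BB_nd BB_refl W

variable {G : Type u} [Group G] [Finite G] {z y a b c s r : G} {Q A B Y : Subgroup G} {l : G → V8}
  {μ : G → M8}

theorem zp_add (h : orderOf z = 3) (j k : ZMod 3) : z ^ (j + k).val = z ^ j.val * z ^ k.val := by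
  rw [← pow_add, ZMod.val_add, ← pow_mod_orderOf z (j.val + k.val), h]

theorem zp_eq_one (h : orderOf z = 3) {k : ZMod 3} : z ^ k.val = 1 ↔ k = 0 := by
  rw [← orderOf_dvd_iff_pow_eq_one, h, ← ZMod.natCast_eq_zero_iff, ZMod.natCast_zmod_val]

theorem zp_ex (h : orderOf z = 3) (ha : a ∈ zpowers z) : ∃ k : ZMod 3, a = z ^ k.val := by
  obtain ⟨n, rfl⟩ := (mem_powers_iff_mem_zpowers.2 ha : ∃ n : ℕ, z ^ n = a)
  exact ⟨n, by rw [ZMod.val_natCast, ← h, pow_mod_orderOf]⟩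

theorem eq_one_of_not_mem (h : orderOf z = 3) (hz : z ∉ A) (ha : a ∈ zpowers z) (hA : a ∈ A) :
    a = 1 := by
  by_contra n
  exact hz (zpowers_le.2 hA (mem_zpowers_of_prime_card (G := zpowers z) (p := 3) (g := ⟨a, ha⟩)
    (g' := ⟨z, mem_zpowers z⟩) (by rw [Nat.card_zpowers, h]) (fun e => n (congrArg Subtype.val e))
    |>.imp fun _ e => congrArg Subtype.val e))

theorem eq_one_of_sq (h3 : a ^ 3 = 1) (h2 : a * a = 1) : a = 1 := by
  rwa [pow_succ, sq, h2, one_mul] at h3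

theorem Ce_le_Nz : Ce z ≤ Nz z := fun _ hg => mem_Nz.2 (by rw [mem_Ce'.1 hg]; exact mem_zpowers z)

theorem Ce_zp (hc : c ∈ Ce z) (ha : a ∈ zpowers z) : c * a = a * c := by
  obtain ⟨n, rfl⟩ := ha
  exact (Commute.zpow_right (mem_Ce.1 hc) n).eq

theorem card_pow_three (h : IsPGroup 3 A) {n : ℕ} (e : 3 ^ n < Nat.card A) : 3 ^ (n + 1) ∣ Nat.card A := by
  obtain ⟨m, hm⟩ := IsPGroup.iff_card.1 h
  rw [hm] at e ⊢
  exact pow_dvd_pow 3 ((Nat.pow_lt_pow_iff_right (by omega)).1 e)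

namespace X

variable (h : X8 z Q l μ)
include h

theorem ad : H15.BG.Ad Q l := h.l_mul

theorem l_one : l 1 = 0 := (ad h).one

theorem l_inv (ha : a ∈ Q) : l a⁻¹ = -l a := (ad h).inv ha

theorem zQ : zpowers z ≤ Q := zpowers_le.2 h.zmem

theorem l_z (ha : a ∈ zpowers z) : l a = 0 := (h.l_ker a (zQ h ha)).2 ha

theorem comm_iff (ha : a ∈ Q) (hb : b ∈ Q) : a * b = b * a ↔ BB (l a) (l b) = 0 := by
  rw [h.comm a ha b hb, mul_eq_right, zp_eq_one h.ord, BB_apply]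

theorem comm_mem (ha : a ∈ Q) (hb : b ∈ Q) : a * b * a⁻¹ * b⁻¹ ∈ zpowers z := by
  rw [h.comm a ha b hb]
  simp [mul_assoc]

theorem QC : Q ≤ Ce z := fun a ha =>
  mem_Ce.2 ((comm_iff h ha h.zmem).2 (by rw [l_z h (mem_zpowers z), map_zero]))

theorem CN : Ce z ≤ nr Q := Ce_le_Nz.trans h.nor

theorem cmem (hc : c ∈ Ce z) (ha : a ∈ Q) : c * a * c⁻¹ ∈ Q := conj_mem_of_mem_normalizer (CN h hc) ha

theorem three : IsPGroup 3 Q := isPGroup_iff_forall.2 fun a ha => ⟨1, h.cube a ha⟩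

theorem act' (hc : c ∈ Ce z) (ha : a ∈ Q) : l (c * a * c⁻¹) = μ c *ᵥ l a := h.act c (Ce_le_Nz hc) a ha

theorem inv_form (hc : c ∈ Ce z) (ha : a ∈ Q) (hb : b ∈ Q) :
    BB (l (c * a * c⁻¹)) (l (c * b * c⁻¹)) = BB (l a) (l b) := by
  have h1 := h.comm _ (cmem h hc ha) _ (cmem h hc hb)
  rw [conj_mul, conj_mul, h.comm a ha b hb, ← mul_assoc c,
    Ce_zp hc (pow_mem (mem_zpowers z) _), mul_assoc, mul_assoc, ← mul_assoc c, mul_left_inj,
    pow_inj_mod, h.ord, Nat.mod_eq_of_lt (ZMod.val_lt _), Nat.mod_eq_of_lt (ZMod.val_lt _)] at h1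
  rw [BB_apply, BB_apply, ZMod.val_injective 3 h1]

theorem of_l_eq (ha : a ∈ Q) (hb : b ∈ Q) (e : l a = l b) : a * b⁻¹ ∈ zpowers z :=
  (h.l_ker _ (mul_mem ha (inv_mem hb))).1 (by
    rw [h.l_mul a ha _ (inv_mem hb), l_inv h hb, e, add_neg_cancel])

theorem fix_iff (hc : c ∈ Ce z) (ha : a ∈ Q) :
    c * a * c⁻¹ * a⁻¹ ∈ zpowers z ↔ l (c * a * c⁻¹) = l a := by
  rw [← h.l_ker _ (mul_mem (cmem h hc ha) (inv_mem ha)), h.l_mul _ (cmem h hc ha) _ (inv_mem ha),
    l_inv h ha, add_neg_eq_zero]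

/-- coprime action of an involution -/
theorem cop (hs : s ∈ Ce z) (ss : s * s = 1) (e : s * a * s⁻¹ * a⁻¹ ∈ zpowers z) :
    s * a * s⁻¹ = a := by
  have h1 := Ce_zp hs e
  have h3 := h.cube _ (zQ h e)
  generalize hw : s * a * s⁻¹ * a⁻¹ = w at h1 h3
  have h2 : s * a * s⁻¹ = w * a := by rw [← hw]; group
  have h4 : w * w = 1 := by
    have : s * (s * a * s⁻¹) * s⁻¹ = a := by
      rw [← mul_assoc, ← mul_assoc, ss, one_mul, mul_assoc, ← mul_inv_rev, ss, inv_one, mul_one]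
    rwa [h2, ← mul_assoc, h1, mul_assoc w, mul_assoc w, h2, ← mul_assoc, mul_eq_right] at this
  rw [h2, eq_one_of_sq h3 h4, one_mul]

/-- The image of `A ⊓ Q` in `Q / ⟨z⟩`. -/
def lA (A : Subgroup G) : Submodule (ZMod 3) V8 :=
  AddSubgroup.toZModSubmodule 3 ((ad h).mono (inf_le_right : A ⊓ Q ≤ Q)).im

theorem mem_lA {v : V8} : v ∈ lA h A ↔ ∃ a ∈ A, a ∈ Q ∧ l a = v :=
  ⟨fun ⟨a, h1, h2⟩ => ⟨a, h1.1, h1.2, h2⟩, fun ⟨a, h1, h2, h3⟩ => ⟨a, ⟨h1, h2⟩, h3⟩⟩

theorem card_aux {V : Subgroup G} (hA : A ≤ Q) (h1 : V ≤ A) (h2 : ∀ a ∈ A, a ∈ zpowers z ↔ a ∈ V) :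
    Nat.card A = Nat.card V * 3 ^ finrank (ZMod 3) (lA h A) := by
  have := ((ad h).mono (inf_le_right : A ⊓ Q ≤ Q)).card (V := V) (le_inf h1 (h1.trans hA))
    fun a ha => (h.l_ker a ha.2).trans (h2 a ha.1)
  have h3 := Module.natCard_eq_pow_finrank (K := ZMod 3) (V := lA h A)
  rw [Nat.card_zmod] at h3
  rw [← h3]
  exact (congrArg (fun B : Subgroup G => Nat.card B) (inf_eq_left.2 hA)).symm.trans this

theorem card_of_mem (hA : A ≤ Q) (hz : z ∈ A) : Nat.card A = 3 ^ (finrank (ZMod 3) (lA h A) + 1) := by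
  rw [card_aux h hA (zpowers_le.2 hz) fun _ _ => Iff.rfl, Nat.card_zpowers, h.ord, pow_succ']

theorem card_of_not_mem (hA : A ≤ Q) (hz : z ∉ A) : Nat.card A = 3 ^ finrank (ZMod 3) (lA h A) := by
  rw [card_aux h hA bot_le fun a ha => ⟨fun e => eq_one_of_not_mem h.ord hz e ha,
    fun e => mem_bot.1 e ▸ one_mem _⟩, card_bot, one_mul]

/-- The preimage in `Q` of a subspace. -/
def pre (W : Submodule (ZMod 3) V8) : Subgroup G := (ad h).pre W.toAddSubgroup

theorem mem_pre {W : Submodule (ZMod 3) V8} : a ∈ pre h W ↔ a ∈ Q ∧ l a ∈ W := Iff.rfl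

theorem card_pre (W : Submodule (ZMod 3) V8) : Nat.card (pre h W) = 3 ^ (finrank (ZMod 3) W + 1) := by
  rw [card_of_mem h (A := pre h W) (fun a ha => ha.1) ⟨h.zmem, l_z h (mem_zpowers z) ▸ W.zero_mem⟩,
    show lA h (pre h W) = W from Submodule.ext fun v => (mem_lA h).trans
      ⟨fun ⟨a, h1, _, h3⟩ => h3 ▸ h1.2, fun hv => by
        obtain ⟨a, h1, rfl⟩ := h.l_surj v
        exact ⟨a, ⟨h1, hv⟩, h1, rfl⟩⟩]

theorem card_Q : Nat.card Q = 3 ^ 9 := by
  have := card_pre h ⊤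
  rwa [show pre h ⊤ = Q from Subgroup.ext fun a => and_iff_left trivial, finrank_top,
    show finrank (ZMod 3) V8 = 8 by simp] at this

theorem cen_eq (ha : a ∈ Q) : Q ⊓ Ce a = pre h (BB.orthogonal (Submodule.span _ {l a})) :=
  Subgroup.ext fun b => and_congr_right fun hb => by
    refine mem_Ce.trans (eq_comm.trans ((comm_iff h ha hb).trans ?_))
    refine ⟨fun e v hv => ?_, fun e => e _ (Submodule.mem_span_singleton_self _)⟩
    obtain ⟨k, rfl⟩ := Submodule.mem_span_singleton.1 hv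
    rw [map_smul, LinearMap.smul_apply, e, smul_zero]

theorem card_cen (ha : a ∈ Q) (hn : a ∉ zpowers z) : Nat.card ↥(Q ⊓ Ce a) = 3 ^ 8 := by
  have := rk_orth (Submodule.span _ {l a})
  rw [finrank_span_singleton fun e => hn ((h.l_ker a ha).1 e)] at this
  rw [cen_eq h ha, card_pre, this]

end X

section map

variable (e : G ≃* G)

theorem mm : e a ∈ Q.map e.toMonoidHom ↔ a ∈ Q := mem_map_iff_mem e.injective

theorem mC : e a ∈ Ce (e z) ↔ a ∈ Ce z := by
  rw [mem_Ce, mem_Ce, ← map_mul, ← map_mul, e.injective.eq_iff]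

theorem mZ : e a ∈ zpowers (e z) ↔ a ∈ zpowers z := by
  rw [← mm e (Q := zpowers z) (a := a), MonoidHom.map_zpowers]; rfl

theorem mN : e a ∈ Nz (e z) ↔ a ∈ Nz z := by
  rw [mem_Nz, mem_Nz, ← map_inv, ← map_mul, ← map_mul, mZ]

theorem mn : e a ∈ nr (Q.map e.toMonoidHom) ↔ a ∈ nr Q := by
  rw [nr, ← map_equiv_normalizer_eq, mm]

theorem mCe : (Ce z).map e.toMonoidHom = Ce (e z) := Subgroup.ext fun a => by
  obtain ⟨a, rfl⟩ := e.surjective a
  rw [mm, mC]

theorem ex_map (Y : Subgroup G) : ∃ Y0 : Subgroup G, Y0.map e.toMonoidHom = Y :=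
  ⟨Y.comap _, map_comap_eq_self_of_surjective e.surjective Y⟩

theorem card_map (Y : Subgroup G) : Nat.card (Y.map e.toMonoidHom) = Nat.card Y :=
  card_map_of_injective e.injective

theorem map_fix (S : Set G) : FixQ (e z) (Q.map e.toMonoidHom) (e '' S) = e '' FixQ z Q S := by
  ext a
  obtain ⟨a, rfl⟩ := e.surjective a
  simp only [FixQ, Set.mem_ofPred_eq, Set.forall_mem_image, ← map_inv, ← map_mul, mm, mZ,
    e.injective.mem_set_image]

theorem X8.map (h : X8 z Q l μ) :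
    X8 (e z) (Q.map e.toMonoidHom) (fun a => l (e.symm a)) fun c => μ (e.symm c) := by
  refine ⟨by rw [e.orderOf_eq, h.ord], (mm e).2 h.zmem, ?_, ?_, ?_, fun v => ?_, ?_, fun c => ?_,
    fun c => ?_, fun c hc d => ?_, fun c => ?_, fun c => ?_⟩
  · rintro _ ⟨a, ha, rfl⟩
    rw [← map_pow, h.cube a ha, map_one]
  · rintro _ ⟨a, ha, rfl⟩ _ ⟨b, hb, rfl⟩
    simpa using h.l_mul a ha b hb
  · rintro _ ⟨a, ha, rfl⟩
    simpa [mZ] using h.l_ker a ha
  · obtain ⟨a, ha, rfl⟩ := h.l_surj v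
    exact ⟨e a, (mm e).2 ha, by simp⟩
  · rintro _ ⟨a, ha, rfl⟩ _ ⟨b, hb, rfl⟩
    simpa using congrArg e (h.comm a ha b hb)
  · obtain ⟨c, rfl⟩ := e.surjective c
    rw [mN, mn]
    exact fun hc => h.nor hc
  · obtain ⟨c, rfl⟩ := e.surjective c
    rintro hc _ ⟨a, ha, rfl⟩
    simpa using h.act c ((mN e).1 hc) a ha
  · obtain ⟨c, rfl⟩ := e.surjective c
    obtain ⟨d, rfl⟩ := e.surjective d
    intro hd
    simpa using h.μ_mul c ((mN e).1 hc) d ((mN e).1 hd)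
  · obtain ⟨c, rfl⟩ := e.surjective c
    simpa [mC] using h.ker c
  · obtain ⟨c, rfl⟩ := e.surjective c
    exact fun hc => (mZ e).2 (h.cen fun a ha => e.injective (by
      rw [map_mul, map_mul, hc _ ((mm e).2 ha)]))

theorem GF23.map (h : GF23 z Q s) : GF23 (e z) (Q.map e.toMonoidHom) (e s) := by
  have P : ∀ {Y : Subgroup G}, IsPGroup 3 (Y.map e.toMonoidHom) → IsPGroup 3 Y :=
    isPGroup_of_map_injective e.injective
  have L : ∀ {Y : Subgroup G}, Y.map e.toMonoidHom ≤ Ce (e z) → Y ≤ Ce z := fun hY a ha =>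
    (mC e).1 (hY ((mm e).2 ha))
  have R : ∀ Y : Subgroup G, (Q.map e.toMonoidHom).relIndex (Y.map e.toMonoidHom) = Q.relIndex Y :=
    fun Y => relIndex_map_map_of_injective _ _ e.injective
  refine ⟨?_, fun i => ?_, fun i hi ii Y => ?_, fun i hi ii a ha b => ?_, fun Y => ?_, fun Y => ?_,
    fun Y => ?_, fun a ha b hb y => ?_⟩
  · obtain ⟨r, h1, h2, h3, h4⟩ := h.neg
    refine ⟨e r, (mC e).2 h1, by rw [← map_mul, h2, map_one], ?_, fun g => ?_⟩
    · rintro _ ⟨a, ha, rfl⟩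
      simpa using (mZ e).2 (h3 a ha)
    · obtain ⟨g, rfl⟩ := e.surjective g
      simpa only [← map_mul, ← map_inv, mm, mC] using h4 g
  · obtain ⟨i, rfl⟩ := e.surjective i
    rw [mC, ← map_mul, map_eq_one_iff _ e.injective, Ne, map_eq_one_iff _ e.injective, ← mCe,
      ← map_inf _ _ _ e.injective, card_map]
    intro h1 h2 h3 h4
    obtain ⟨g, h5, h6⟩ := h.inv i h1 h2 h3 h4
    exact ⟨e g, (mC e).2 h5, by rw [← h6, map_mul, map_mul, map_inv]⟩
  · obtain ⟨i, rfl⟩ := e.surjective i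
    obtain ⟨Y, rfl⟩ := ex_map e Y
    rw [← map_mul, map_eq_one_iff _ e.injective] at ii
    rw [mn, ← mCe e (z := i), ← map_inf _ _ _ e.injective, ← map_inf _ _ _ e.injective, ← Subgroup.map_sup,
      card_map, card_map]
    exact fun h1 h2 => h.inv9 i ((mC e).1 hi) ii Y (L h1) (P h2)
  · obtain ⟨i, rfl⟩ := e.surjective i
    obtain ⟨a, rfl⟩ := e.surjective a
    obtain ⟨b, rfl⟩ := e.surjective b
    simp only [← map_mul, ← map_inv, ← map_pow, mm, mC, map_eq_one_iff _ e.injective] at hi ii ha ⊢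
    exact h.inv3 i hi ii a ha b
  · obtain ⟨Y, rfl⟩ := ex_map e Y
    exact fun h1 h2 => R Y ▸ h.s81 Y (L h1) (P h2)
  · obtain ⟨Y, rfl⟩ := ex_map e Y
    intro h1 h2 h3
    obtain ⟨g, h4, h5⟩ := h.fix Y (L h1) (P h2) (R Y ▸ h3)
    refine ⟨e g, (mC e).2 h4, ?_⟩
    rw [coe_map, MulEquiv.coe_toMonoidHom, map_fix]
    rintro _ ⟨a, ha, rfl⟩
    simpa only [← map_mul, ← map_inv, mC] using h5 a ha
  · obtain ⟨Y, rfl⟩ := ex_map e Y
    intro h1 h2 h3 h4
    rw [coe_map, MulEquiv.coe_toMonoidHom, map_fix, Set.ncard_image_of_injective _ e.injective]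
    exact h.ab27 Y (L h1) (P h2) (R Y ▸ h3) fun a ha b hb => (mm e).1 (by
      simpa using h4 _ ((mm e).2 ha) _ ((mm e).2 hb))
  · obtain ⟨y, rfl⟩ := e.surjective y
    obtain ⟨a, rfl⟩ := e.surjective a
    obtain ⟨b, rfl⟩ := e.surjective b
    rw [← Set.image_singleton (f := e) (a := y), map_fix, Set.ncard_image_of_injective _ e.injective,
      ← Set.image_insert_eq, ← Set.image_insert_eq]
    simp only [← map_mul, ← map_inv, mm, mC] at ha hb ⊢
    exact fun hy h1 => h.nab a ha b hb y hy (P (by rwa [MonoidHom.map_closure]))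

end map

end H61.F23
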