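import Cfsg.Agent.H61.F23Kit
import Cfsg.Agent.H12.Basic

/-! PS3B, job F23-V. -/

set_option autoImplicit false
set_option linter.unusedSectionVars false

namespace H61.F23

open Cfsg Subgroup H98 H42.L3 H56.L3 H39.F22 H39.F23 Module X
open H28.PS (Zt)

universe u

variable {G : Type u} [Group G] [Finite G] {z y a b s s' : G} {Q Q' A B : Subgroup G} {l l' : G → V8}
  {μ μ' : G → M8}

theorem card_rel (A B : Subgroup G) : Nat.card ↥(A ⊓ B) * B.relIndex A = Nat.card A := by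
  rw [← H15.BG.card_rel' B A, inf_relIndex_left]

theorem not_mem_symm (h : orderOf z = 3) (h' : orderOf y = 3) (hn : y ∉ zpowers z) :
    z ∉ zpowers y := fun c => by
  have := eq_one_of_not_mem h' hn c (mem_zpowers z)
  rw [this, orderOf_one] at h
  omega

variable (h : X8 z Q l μ) (h' : X8 y Q' l' μ') (hy : y ∈ Q) (hn : y ∉ zpowers z)
include h h' hy hn

theorem z_mem (f' : GF23 y Q' s') : z ∈ Q' := by
  by_contra hz
  have h1 := Nat.le_of_dvd (by omega) (f'.s81 (Q ⊓ Ce y) inf_le_right (three h).to_inf_left)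
  have h2 := card_rel (Q ⊓ Ce y) Q'
  have h3 : lA h (Q ⊓ Ce y ⊓ Q') ≤ Submodule.span _ {l y} := by
    rw [← orth_orth (Submodule.span _ _)]
    intro v hv w hw
    obtain ⟨a, ha, -, rfl⟩ := (mem_lA h).1 hv
    obtain ⟨b, hb, rfl⟩ := h.l_surj w
    have hb' : b ∈ Q ⊓ Ce y := cen_eq h hy ▸ ⟨hb, hw⟩
    have := eq_one_of_not_mem h.ord hz (comm_mem h hb ha.1.1)
      (mul_mem (cmem h' hb'.2 ha.2) (inv_mem ha.2))
    rwa [mul_inv_eq_one, mul_inv_eq_iff_eq_mul, comm_iff h hb ha.1.1] at this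
  have h4 := Submodule.finrank_mono h3
  rw [finrank_span_singleton fun e => hn ((h.l_ker y hy).1 e)] at h4
  rw [card_cen h hy hn, card_of_not_mem h (inf_le_left.trans inf_le_left) fun c => hz c.2] at h2
  have := Nat.mul_le_mul (Nat.pow_le_pow_right (n := 3) (by omega) h4) h1
  omega

omit hy in
theorem F_comm (ha : a ∈ Q ⊓ Q') (hb : b ∈ Q ⊓ Q') : a * b = b * a := by
  have := eq_one_of_not_mem h'.ord hn (comm_mem h' ha.2 hb.2) (comm_mem h ha.1 hb.1)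
  rwa [mul_inv_eq_one, mul_inv_eq_iff_eq_mul] at this

theorem ex_cen (f : GF23 z Q s) (hz : z ∈ Q') : ∃ g ∈ Ce z, g * y * g⁻¹ ∈ Ce s := by
  have h1 : lA h (Q ⊓ Q') ≤ BB.orthogonal (lA h (Q ⊓ Q')) := by
    intro v hv w hw
    obtain ⟨a, ha, -, rfl⟩ := (mem_lA h).1 hv
    obtain ⟨b, hb, -, rfl⟩ := (mem_lA h).1 hw
    exact (comm_iff h hb.1 ha.1).1 (F_comm h h' hn hb ha)
  have h2 := Submodule.finrank_mono h1
  have h3 := rk_orth (lA h (Q ⊓ Q'))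
  have h4 := card_rel (Q' ⊓ Ce z) Q
  rw [card_cen h' hz (not_mem_symm h.ord h'.ord hn),
    show Q' ⊓ Ce z ⊓ Q = Q ⊓ Q' from Subgroup.ext fun a =>
      ⟨fun e => ⟨e.2, e.1.1⟩, fun e => ⟨⟨e.2, QC h e.1⟩, e.1⟩⟩,
    card_of_mem h inf_le_left ⟨h.zmem, hz⟩] at h4
  obtain ⟨g, h5, h6⟩ := f.fix (Q' ⊓ Ce z) inf_le_right (three h').to_inf_left (by
    obtain ⟨n, hn⟩ : ∃ n, 8 = finrank (ZMod 3) (lA h (Q ⊓ Q')) + 1 + (3 + n) :=
      ⟨4 - finrank (ZMod 3) (lA h (Q ⊓ Q')), by omega⟩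
    rw [hn, pow_add 3 _ (3 + n), Nat.mul_right_inj (by positivity)] at h4
    exact h4 ▸ pow_add 3 3 n ▸ dvd_mul_right _ _)
  exact ⟨g, h5, h6 y ⟨hy, fun w hw => by
    rw [mem_Ce'.1 (QC h' hw.1), mul_inv_cancel]; exact one_mem _⟩⟩

theorem six (f : GF23 z Q s) (hz : z ∈ Q') (sz : s ∈ Ce z) (sy : s ∈ Ce y) (ss : s * s = 1)
    (hc : Nat.card ↥(Q ⊓ Ce s) = 3 ^ 7) : 3 ^ 6 ∣ Nat.card ↥(Q' ⊓ Ce s) := by
  have hn' := not_mem_symm h.ord h'.ord hn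
  have si : s⁻¹ = s := inv_eq_of_mul_eq_one_right ss
  have e1 : Q' ⊓ Ce z ⊓ Q = Q ⊓ Q' := Subgroup.ext fun a =>
    ⟨fun e => ⟨e.2, e.1.1⟩, fun e => ⟨⟨e.2, QC h e.1⟩, e.1⟩⟩
  have h1 := Nat.le_of_dvd (Nat.mul_pos (by omega) Nat.card_pos)
    (f.inv9 s sz ss (Q' ⊓ Ce z) inf_le_right (three h').to_inf_left
      (zpowers_le.1 (le_normalizer_inf (zpowers_le.2 (CN h' sy))
        (le_normalizer_of_le (zpowers_le.2 sz)))))
  rw [card_cen h' hz hn', e1] at h1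
  have h2 := H12.card_sup_mul_card_inf (A := Q' ⊓ Ce z ⊓ Ce s) (B := Q ⊓ Q') (le_normalizer_inf
    ((inf_le_left.trans inf_le_right).trans (CN h))
    (le_normalizer_of_le (inf_le_left.trans inf_le_left)))
  have h3 : (Q ⊓ Ce s).relIndex (Q ⊓ Q') ≤ 3 := by
    have hB : (Q ⊓ Q') ⊔ (Q ⊓ Ce s) ≤ Q := sup_le inf_le_left inf_le_left
    have h4 : (Q ⊓ Q') ⊔ (Q ⊓ Ce s) ≠ Q := fun e => by
      have : Q ⊓ Q' ≤ Q ⊓ Ce s := fun a ha => ⟨ha.1, by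
        have hw : s * a * s⁻¹ * a⁻¹ ∈ Q ⊓ Q' :=
          mul_mem ⟨cmem h sz ha.1, cmem h' sy ha.2⟩ (inv_mem ha)
        have h5 : Q ≤ Ce (s * a * s⁻¹ * a⁻¹) := e ▸ sup_le
          (fun b hb => mem_Ce.2 (F_comm h h' hn hb hw)) fun b hb => mem_Ce.2 (by
            have := inv_form h sz hb.1 ha.1
            rw [← mem_Ce.1 hb.2, mul_inv_cancel_right] at this
            rw [comm_iff h hb.1 hw.1, h.l_mul _ (cmem h sz ha.1) _ (inv_mem ha.1), l_inv h ha.1,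
              map_add, map_neg, this, add_neg_cancel])
        have := cop h sz ss (h.cen fun b hb => mem_Ce.1 (h5 hb))
        exact mem_Ce.2 (mul_inv_eq_iff_eq_mul.1 this).symm⟩
      rw [sup_eq_right.2 this] at e
      rw [e, card_Q h] at hc
      omega
    have h5 := H15.BG.card_rel (le_sup_right : Q ⊓ Ce s ≤ (Q ⊓ Q') ⊔ (Q ⊓ Ce s))
    have h6 := card_dvd_of_le hB
    have h7 : Nat.card ↥((Q ⊓ Q') ⊔ (Q ⊓ Ce s)) ≠ Nat.card Q := fun e =>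
      h4 (eq_of_le_of_card_ge hB e.ge)
    rw [card_Q h] at h6 h7
    obtain ⟨m, hm, e⟩ := (Nat.dvd_prime_pow Nat.prime_three).1 h6
    have h8 := Nat.pow_le_pow_right (n := 3) (by omega) (show m ≤ 8 by
      by_contra c
      exact h7 (by rw [e, show m = 9 by omega]))
    refine (relIndex_le_of_le_right (L := (Q ⊓ Q') ⊔ (Q ⊓ Ce s)) le_sup_left
      FiniteIndex.index_ne_zero).trans ?_
    rw [hc, e] at h5
    omega
  have h4 := card_rel (Q ⊓ Q') (Q ⊓ Ce s)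
  rw [show Q ⊓ Q' ⊓ (Q ⊓ Ce s) = Q' ⊓ Ce z ⊓ Ce s ⊓ (Q ⊓ Q') from Subgroup.ext fun a =>
    ⟨fun e => ⟨⟨⟨e.1.2, QC h e.1.1⟩, e.2.2⟩, e.1⟩, fun e => ⟨e.2, e.2.1, e.1.2⟩⟩] at h4
  rw [sup_comm, ← h4] at h2
  have h5 : 3 ^ 5 ≤ Nat.card ↥(Q' ⊓ Ce z ⊓ Ce s) := by
    have h6 : 0 < Nat.card ↥(Q' ⊓ Ce z ⊓ Ce s ⊓ (Q ⊓ Q')) := Nat.card_pos
    generalize Nat.card ↥(Q' ⊓ Ce z ⊓ Ce s ⊓ (Q ⊓ Q')) = i at h2 h6
    have := Nat.mul_le_mul_left (Nat.card ↥(Q' ⊓ Ce z ⊓ Ce s)) h3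
    rw [mul_comm i, ← mul_assoc, Nat.mul_left_inj h6.ne'] at h2
    omega
  obtain ⟨v, hv⟩ : ∃ v, BB v (l' z) ≠ 0 := by
    by_contra! c
    exact hn' ((h'.l_ker z hz).1 (BB_nd.2 _ c))
  obtain ⟨x, hx, rfl⟩ := h'.l_surj v
  have hx' := cmem h' sy hx
  have hw := mul_mem hx hx'
  refine card_pow_three (three h').to_inf_left (h5.trans_lt (not_le.1 fun c => hv ?_))
  replace c := (eq_of_le_of_card_ge (inf_le_inf_right _ inf_le_left) c).ge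
  have h6 : s * (x * (s * x * s⁻¹)) * s⁻¹ = x * (s * x * s⁻¹) := cop h' sy ss (by
    rw [show s * (x * (s * x * s⁻¹)) * s⁻¹ = s * x * s⁻¹ * (s * s * x * (s * s)⁻¹) by group, ss,
      one_mul, inv_one, mul_one, mul_inv_rev, ← mul_assoc]
    exact comm_mem h' hx' hx)
  have h7 := (comm_iff h' hw hz).1
    (mem_Ce.1 (c ⟨hw, mem_Ce.2 (mul_inv_eq_iff_eq_mul.1 h6).symm⟩).1.2)
  have h8 := inv_form h' sy hx hz
  rw [mem_Ce'.1 sz] at h8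
  rw [h'.l_mul x hx _ hx', map_add, LinearMap.add_apply, h8] at h7
  exact (by decide : ∀ a : ZMod 3, a + a = 0 → a = 0) _ h7

omit h h' hy hn in
theorem nw_conj (h : NW z A) : ∃ g, g * z * g⁻¹ ∈ A ∧ g * z * g⁻¹ ∉ zpowers z := by
  obtain ⟨y, h1, ⟨g, rfl | e⟩, h2⟩ := h
  exacts [⟨g, h1, h2⟩, ⟨g, e ▸ inv_mem h1, e ▸ fun c => h2 (inv_mem_iff.1 c)⟩]

omit h h' hy hn in
theorem jobV : H39.F23.JobV.{u} := by
  intro G _ _ z Q l μ s h f sz ss s1 hc nw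
  obtain ⟨g, h1, h2⟩ := nw_conj nw
  obtain ⟨g', h3, h4⟩ := ex_cen h (X8.map (MulAut.conj g) h) h1 h2 f
    (z_mem h (X8.map (MulAut.conj g) h) h1 h2 (GF23.map _ f))
  have e : g' * (g * z * g⁻¹) * g'⁻¹ = MulAut.conj (g' * g) z := by rw [MulAut.conj_apply]; group
  have h5 : MulAut.conj (g' * g) z ∈ Q := e ▸ cmem h h3 h1
  have h6 : MulAut.conj (g' * g) z ∉ zpowers z := e ▸ fun c => h2 (by
    have := conj_mem_of_mem_normalizer' (Ce_le_Nz h3) c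
    rwa [show g'⁻¹ * (g' * (g * z * g⁻¹) * g'⁻¹) * g' = g * z * g⁻¹ by group] at this)
  have h7 : s ∈ Ce (MulAut.conj (g' * g) z) := e ▸ mem_Ce.2 (mem_Ce.1 h4).symm
  have h' := X8.map (MulAut.conj (g' * g)) h
  have f' := GF23.map (MulAut.conj (g' * g)) f
  obtain ⟨k, h8, h9⟩ := f'.inv s h7 ss s1 (six h h' h5 h6 f (z_mem h h' h5 h6 f') sz h7 ss hc)
  have e2 : k⁻¹ * (g' * g) * z * (k⁻¹ * (g' * g))⁻¹ = MulAut.conj (g' * g) z := by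
    rw [← mem_Ce'.1 (inv_mem h8), MulAut.conj_apply]; group
  refine ⟨k⁻¹ * (g' * g), mem_Ce'.2 ?_, e2 ▸ h5, e2 ▸ h6⟩
  rw [MulAut.conj_apply] at h9
  calc k⁻¹ * (g' * g) * s * (k⁻¹ * (g' * g))⁻¹ = k⁻¹ * (g' * g * s * (g' * g)⁻¹) * k := by group
    _ = s := by rw [← h9]; group

end H61.F23
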