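import Cfsg.Agent.H61.F23V
import Cfsg.Agent.H99.DStar

/-! PS3B, job F23-W. -/

set_option autoImplicit false
set_option linter.unusedSectionVars false

namespace H61.F23

open Cfsg Subgroup H98 H42.L3 H56.L3 H39.F22 H39.F23 Module X
open LinearMap (ker range)
open H28.PS (Zt)
open scoped Matrix

universe u

section lin

variable {N : V8 →ₗ[ZMod 3] V8} (h1 : ∀ u v, BB (u + N u) (v + N v) = BB u v)
  (h3 : ∀ v, N (N (N v)) = 0)
include h1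

theorem rng : range N = BB.orthogonal (ker N) := by
  refine Submodule.eq_of_le_of_finrank_le ?_ ?_
  · rintro _ ⟨v, rfl⟩ k hk
    have := h1 k v
    rwa [LinearMap.mem_ker.1 hk, add_zero, map_add, add_eq_left] at this
  · have := rk_orth (ker N)
    have h2 := LinearMap.finrank_range_add_finrank_ker N
    have h3 : finrank (ZMod 3) V8 = 8 := by simp
    omega

omit h1 in
theorem dims : finrank (ZMod 3) ((range N).map N) + finrank (ZMod 3) ↥(ker N ⊓ range N) +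
    finrank (ZMod 3) (ker N) = 8 := by
  have h2 := LinearMap.finrank_range_add_finrank_ker N
  have h3 : finrank (ZMod 3) V8 = 8 := by simp
  have h4 := LinearMap.finrank_range_add_finrank_ker (N.domRestrict (range N))
  rw [LinearMap.range_domRestrict, LinearMap.ker_domRestrict,
    ← Submodule.finrank_map_subtype_eq, Submodule.map_comap_subtype, inf_comm] at h4
  omega

omit h1 in
include h3 in
theorem sq_le : (range N).map N ≤ ker N ⊓ range N := by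
  rintro _ ⟨_, ⟨v, rfl⟩, rfl⟩
  exact ⟨h3 v, _, rfl⟩

omit h1 in
include h3 in
theorem three_le : 3 ≤ finrank (ZMod 3) (ker N) ∧
    (finrank (ZMod 3) (ker N) = 3 → ker N ≤ range N) := by
  have h4 := dims (N := N)
  have h5 := Submodule.finrank_mono (sq_le h3)
  have h6 := Submodule.finrank_mono (inf_le_left : ker N ⊓ range N ≤ ker N)
  exact ⟨by omega, fun e => inf_eq_left.1 (Submodule.eq_of_le_of_finrank_le inf_le_left (by omega))⟩

omit h1 in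
theorem tern : ∀ a b c d e f : ZMod 3, ∃ x y w : ZMod 3, ¬ (x = 0 ∧ y = 0 ∧ w = 0) ∧
    x * x * a + y * y * b + w * w * c + x * y * d + x * w * e + y * w * f = 0 := by
  decide +kernel

include h3 in
/-- The linear algebra of the full case. -/
theorem full_lin {L : Submodule (ZMod 3) V8} (hL : L ≤ ker N ⊓ range N)
    (kf : ∀ v, N v ∈ L → BB (N v) v = 0 → N v = 0)
    (c2 : finrank (ZMod 3) (ker N) ≤ finrank (ZMod 3) L + 2)
    (c1 : (∀ u ∈ ker N, ∀ v ∈ ker N, BB u v = 0) → ∀ u ∈ ker N, ∀ v ∈ ker N,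
      u ∈ L ∨ v ∈ L ∨ u + v ∈ L ∨ u - v ∈ L) : False := by
  have f2 : finrank (ZMod 3) L ≤ 2 := by
    by_contra c
    obtain ⟨w, hw⟩ := exists_linearIndependent_of_le_finrank (R := ZMod 3) (M := L) (n := 3)
      (by omega)
    choose v hv using fun i => (hL (w i).2).2
    obtain ⟨x, y, t, h4, h5⟩ := tern (BB (w 0) (v 0)) (BB (w 1) (v 1)) (BB (w 2) (v 2))
      (BB (w 0) (v 1) + BB (w 1) (v 0)) (BB (w 0) (v 2) + BB (w 2) (v 0))
      (BB (w 1) (v 2) + BB (w 2) (v 1))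
    have e : N (x • v 0 + y • v 1 + t • v 2) = (x • w 0 + y • w 1 + t • w 2 : L) := by simp [hv]
    have h6 := kf _ (e ▸ Subtype.prop _) (by
      rw [e, ← h5]
      simp only [Submodule.coe_add, Submodule.coe_smul, map_add, map_smul, LinearMap.add_apply,
        LinearMap.smul_apply, smul_eq_mul]
      ring)
    rw [e, Submodule.coe_eq_zero] at h6
    have h7 := Fintype.linearIndependent_iff.1 hw ![x, y, t] (by simpa [Fin.sum_univ_three] using h6)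
    exact h4 ⟨h7 0, h7 1, h7 2⟩
  have h4 : L ⊓ (range N).map N = ⊥ := by
    rw [eq_bot_iff]
    rintro _ ⟨hv, _, ⟨v, rfl⟩, rfl⟩
    exact kf _ hv ((rng h1).le ⟨v, rfl⟩ _ (h3 v))
  have h5 := Submodule.finrank_sup_add_finrank_inf_eq L ((range N).map N)
  have h6 := Submodule.finrank_mono (sup_le hL (sq_le h3))
  have h7 := dims (N := N)
  have h8 := Submodule.finrank_mono hL
  have h9 := Submodule.finrank_mono (inf_le_left : ker N ⊓ range N ≤ ker N)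
  rw [h4, finrank_bot] at h5
  by_cases iso : ∀ u ∈ ker N, ∀ v ∈ ker N, BB u v = 0
  · have hne : ∀ W : Submodule (ZMod 3) V8, finrank (ZMod 3) W ≤ finrank (ZMod 3) L + 1 →
        ∃ u ∈ ker N, u ∉ W := fun W hW => by
      by_contra! c
      have := Submodule.finrank_mono (show ker N ≤ W from c)
      omega
    obtain ⟨u, hu, hu'⟩ := hne L (by omega)
    have hs : u ∈ L ⊔ Submodule.span _ {u} :=
      Submodule.mem_sup_right (Submodule.mem_span_singleton_self u)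
    obtain ⟨v, hv, hv'⟩ := hne (L ⊔ Submodule.span _ {u})
      ((Submodule.finrank_add_le_finrank_add_finrank _ _).trans (by
        rw [finrank_span_singleton fun e : u = 0 => hu' (e ▸ L.zero_mem)]))
    obtain e | e | e | e := c1 iso u hu v hv
    · exact hu' e
    · exact hv' (Submodule.mem_sup_left e)
    · exact hv' ((Submodule.add_mem_iff_right _ hs).1 (Submodule.mem_sup_left e))
    · exact hv' ((Submodule.sub_mem_iff_right _ hs).1 (Submodule.mem_sup_left e))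
  · push Not at iso
    obtain ⟨u, hu, v, hv, e⟩ := iso
    have h10 : ker N ⊓ range N < ker N ⊓ ker (BB u) := lt_of_le_of_ne
      (fun w hw => ⟨hw.1, (rng h1).le hw.2 u hu⟩) fun c =>
        e (BB_refl _ _ ((rng h1).le (c.ge ⟨hu, BB_self u⟩).2 v hv))
    have h11 : ker N ⊓ ker (BB u) < ker N := lt_of_le_of_ne inf_le_left fun c => e (c.ge hv).2
    have := Submodule.finrank_lt_finrank_of_lt h10
    have := Submodule.finrank_lt_finrank_of_lt h11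
    omega

end lin

variable {G : Type u} [Group G] [Finite G] {z y a b r s s' x : G} {Q Q' : Subgroup G}
  {l l' : G → V8} {μ μ' : G → M8}

/-- `μ y - 1` as a linear map -/
noncomputable def Nm (μ : G → M8) (y : G) : V8 →ₗ[ZMod 3] V8 := Matrix.toLin' (μ y) - LinearMap.id

theorem Nm_l (h : X8 z Q l μ) (hy : y ∈ Ce z) (ha : a ∈ Q) :
    Nm μ y (l a) = l (y * a * y⁻¹ * a⁻¹) := by
  rw [h.l_mul _ (cmem h hy ha) _ (inv_mem ha), l_inv h ha, act' h hy ha, ← sub_eq_add_neg]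
  rfl

theorem Nm_l' (h : X8 z Q l μ) (hy : y ∈ Ce z) (ha : a ∈ Q) :
    l a + Nm μ y (l a) = l (y * a * y⁻¹) := by
  rw [Nm_l h hy ha, h.l_mul _ (cmem h hy ha) _ (inv_mem ha), l_inv h ha, add_comm,
    neg_add_cancel_right]

theorem Nm_ker (h : X8 z Q l μ) (hy : y ∈ Ce z) (ha : a ∈ Q) :
    l a ∈ ker (Nm μ y) ↔ y * a * y⁻¹ * a⁻¹ ∈ zpowers z := by
  rw [LinearMap.mem_ker, Nm_l h hy ha, h.l_ker _ (mul_mem (cmem h hy ha) (inv_mem ha))]

theorem Nm_form (h : X8 z Q l μ) (hy : y ∈ Ce z) (u v : V8) :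
    BB (u + Nm μ y u) (v + Nm μ y v) = BB u v := by
  obtain ⟨a, ha, rfl⟩ := h.l_surj u
  obtain ⟨b, hb, rfl⟩ := h.l_surj v
  rw [Nm_l' h hy ha, Nm_l' h hy hb, inv_form h hy ha hb]

theorem Nm_cube (h : X8 z Q l μ) (hy : y ∈ Ce z) (y3 : y ^ 3 = 1) (v : V8) :
    Nm μ y (Nm μ y (Nm μ y v)) = 0 := by
  obtain ⟨a, ha, rfl⟩ := h.l_surj v
  have h1 := Nm_l' h hy ha
  have h2 := Nm_l' h hy (cmem h hy ha)
  have h3 := Nm_l' h hy (cmem h hy (cmem h hy ha))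
  rw [show y * (y * (y * a * y⁻¹) * y⁻¹) * y⁻¹ = y ^ 3 * a * (y ^ 3)⁻¹ by rw [pow_three]; group, y3, one_mul,
    inv_one, mul_one, ← h2, ← h1] at h3
  simp only [map_add] at h3
  have h4 : ∀ w : V8, w + w + w = 0 := fun w => funext fun i =>
    (by decide : ∀ a : ZMod 3, a + a + a = 0) _
  linear_combination (exp := 1) h3 - h4 (Nm μ y (l a)) - h4 (Nm μ y (Nm μ y (l a)))

theorem fixQ_card (h : X8 z Q l μ) {S : Set G} (hS : ∀ c ∈ S, c ∈ Ce z) :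
    (FixQ z Q S).ncard = 3 ^ (finrank (ZMod 3) ↥(⨅ c ∈ S, ker (Nm μ c)) + 1) := by
  rw [← card_pre h, ← Nat.card_coe_set_eq]
  refine congrArg (fun T : Set G => Nat.card T) (Set.ext fun a => and_congr_right fun ha => ?_)
  refine Iff.trans ?_ (Submodule.mem_iInf _).symm
  refine forall_congr' fun c => Iff.trans ?_ (Submodule.mem_iInf _).symm
  exact forall_congr' fun hc => (Nm_ker h (hS c hc) ha).symm

/-- weak closure -/
def WC (z : G) (Q : Subgroup G) : Prop := ∀ t ∈ Q, Zt z t → t ∈ zpowers z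

/-- a pair of commuting conjugates -/
structure Pr (z : G) (Q : Subgroup G) (l : G → V8) (μ : G → M8) (y : G) (Q' : Subgroup G)
    (l' : G → V8) (μ' : G → M8) : Prop where
  h : X8 z Q l μ
  h' : X8 y Q' l' μ'
  yz : y ∈ Ce z
  hy : y ∉ Q
  hz : z ∉ Q'
  w : WC z Q
  w' : WC y Q'

/-- every element of `⟨z⟩` is a commutator `[y, a]` -/
def Sm (z : G) (Q : Subgroup G) (y : G) : Prop := ∃ a ∈ Q, y * a * y⁻¹ * a⁻¹ = z

namespace Pr

variable (p : Pr z Q l μ y Q' l' μ')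
include p

theorem symm : Pr y Q' l' μ' z Q l μ :=
  ⟨p.h', p.h, mem_Ce.2 (mem_Ce.1 p.yz).symm, p.hz, p.hy, p.w', p.w⟩

theorem y3 : y ^ 3 = 1 := p.h'.cube y p.h'.zmem

theorem kz (h1 : y * x * y⁻¹ * x⁻¹ ∈ Q) (h2 : y * x * y⁻¹ * x⁻¹ ∈ Q') :
    y * x * y⁻¹ * x⁻¹ = 1 := by
  have := p.w' _ (mul_mem (inv_mem p.h'.zmem) h2) ⟨x, .inr (by group)⟩
  exact eq_one_of_not_mem p.h'.ord p.hy ((mul_mem_cancel_left (inv_mem (mem_zpowers y))).1 this) h1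

theorem cF (ha : a ∈ Q ⊓ Ce y) (hb : b ∈ Q ⊓ Q') : BB (l a) (l b) = 0 := by
  have := eq_one_of_not_mem p.h.ord p.hz (comm_mem p.h ha.1 hb.1)
    (mul_mem (cmem p.h' ha.2 hb.2) (inv_mem hb.2))
  rwa [mul_inv_eq_one, mul_inv_eq_iff_eq_mul, comm_iff p.h ha.1 hb.1] at this

theorem E_le : lA p.h (Q ⊓ Ce y) ≤ ker (Nm μ y) := fun v hv => by
  obtain ⟨a, ha, -, rfl⟩ := (mem_lA p.h).1 hv
  rw [Nm_ker p.h p.yz ha.1, ← mem_Ce.1 ha.2, mul_inv_cancel_right, mul_inv_cancel]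
  exact one_mem _

theorem F_le : lA p.h (Q ⊓ Q') ≤ ker (Nm μ y) := fun v hv => by
  obtain ⟨a, ha, h1, rfl⟩ := (mem_lA p.h).1 hv
  exact p.E_le ((mem_lA p.h).2 ⟨a, ⟨h1, QC p.h' ha.2⟩, h1, rfl⟩)

theorem full_of (hs : ¬ Sm z Q y) (ha : a ∈ Q) (hk : l a ∈ ker (Nm μ y)) : a ∈ Ce y := by
  obtain ⟨k, hk⟩ := zp_ex p.h.ord ((Nm_ker p.h p.yz ha).1 hk)
  obtain rfl | rfl | rfl := (by decide : ∀ k : ZMod 3, k = 0 ∨ k = 1 ∨ k = 2) k
  · rw [ZMod.val_zero, pow_zero, mul_inv_eq_one, mul_inv_eq_iff_eq_mul] at hk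
    exact mem_Ce.2 hk.symm
  · exact absurd ⟨a, ha, hk.trans (pow_one z)⟩ hs
  · refine absurd ⟨a⁻¹, inv_mem ha, ?_⟩ hs
    have h3 : (z ^ (2 : ZMod 3).val)⁻¹ = z :=
      inv_eq_of_mul_eq_one_right ((pow_succ z 2).symm.trans (p.h.cube z p.h.zmem))
    calc y * a⁻¹ * y⁻¹ * a⁻¹⁻¹ = a⁻¹ * (y * a * y⁻¹ * a⁻¹)⁻¹ * a := by group
      _ = a⁻¹ * z * a := by rw [hk, h3]
      _ = z := by rw [mem_Ce.1 (QC p.h (inv_mem ha)), inv_mul_cancel_right]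

theorem ex_r (f : GF23 z Q s) (hs : ¬ Sm z Q y) :
    ∃ r ∈ Ce z, r ∈ Ce y ∧ r * r = 1 ∧ ∀ a ∈ Q, l (r * a * r⁻¹) = - l a := by
  have h := p.h
  obtain ⟨r, rz, rr, h1, h2⟩ := f.neg
  have ri : r⁻¹ = r := inv_eq_of_mul_eq_one_right rr
  have h3 : ∀ a ∈ Q, l (r * a * r⁻¹) = - l a := fun a ha => by
    rw [eq_neg_iff_add_eq_zero, ← h.l_mul _ (cmem h rz ha) _ ha]
    exact l_z h (h1 a ha)
  have hq := h2 y⁻¹ (inv_mem p.yz)
  rw [show y⁻¹ * r * y⁻¹⁻¹ * r⁻¹ = y⁻¹ * (r * y * r⁻¹) by group] at hq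
  obtain ⟨v, hv⟩ : l (y⁻¹ * (r * y * r⁻¹)) ∈ range (Nm μ y) := by
    rw [rng (Nm_form h p.yz)]
    intro v hv
    obtain ⟨a, ha, rfl⟩ := h.l_surj v
    have h4 : Commute a y := mem_Ce.1 (p.full_of hs ha hv)
    have h5 := conj_mem_Ce (p.full_of hs (cmem h rz ha) (h3 a ha ▸ neg_mem hv)) r
    rw [show r * (r * a * r⁻¹) * r⁻¹ = r * r * a * (r * r)⁻¹ by group, rr, one_mul, inv_one,
      mul_one] at h5
    exact (comm_iff h ha hq).1 (h4.inv_right.mul_right (mem_Ce.1 h5)).eq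
  obtain ⟨x, hx, rfl⟩ := h.l_surj v
  rw [Nm_l h p.yz hx] at hv
  have e1 : r * (y⁻¹ * (r * y * r⁻¹)) * r⁻¹ = (y⁻¹ * (r * y * r⁻¹))⁻¹ :=
    calc _ = r * y⁻¹ * r * y * (r * r)⁻¹ := by group
      _ = r * y⁻¹ * r⁻¹ * y := by rw [rr, inv_one, mul_one, ri]
      _ = _ := by group
  have e2 : r * y⁻¹ * r⁻¹ = (y⁻¹ * (r * y * r⁻¹))⁻¹ * y⁻¹ := by group
  have h6 : Commute r _ := Ce_zp rz (of_l_eq h (mul_mem (cmem h p.yz hx) (inv_mem hx)) hq hv)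
  generalize y⁻¹ * (r * y * r⁻¹) = q at hq e1 e2 h6
  have e3 : q⁻¹ * q⁻¹ = q := by
    rw [← mul_inv_rev, inv_eq_iff_mul_eq_one, ← pow_three', h.cube q hq]
  have h7 : Commute r (q * y⁻¹) := by
    rw [commute_iff_eq, ← mul_inv_eq_iff_eq_mul, ← conj_mul, e1, e2, ← mul_assoc, e3]
  have h8 := (h6.mul_right h7).eq
  have hx' := cmem h p.yz hx
  have hc := QC h hx'
  refine ⟨(y * x * y⁻¹)⁻¹ * r * (y * x * y⁻¹), mul_mem (mul_mem (inv_mem hc) rz) hc, ?_, ?_,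
    fun a ha => ?_⟩
  · refine mem_Ce.2 (Commute.inv_right_iff.1 ?_)
    calc _ = (y * x * y⁻¹)⁻¹ * (r * (y * x * y⁻¹ * x⁻¹ * q⁻¹ * (q * y⁻¹))) * (y * x * y⁻¹) := by
          group
      _ = _ := by rw [h8]; group
  · calc _ = (y * x * y⁻¹)⁻¹ * (r * r) * (y * x * y⁻¹) := by group
      _ = 1 := by rw [rr]; group
  · generalize y * x * y⁻¹ = t at hx'
    have h9 := mul_mem (mul_mem hx' ha) (inv_mem hx')
    rw [show t⁻¹ * r * t * a * (t⁻¹ * r * t)⁻¹ = t⁻¹ * (r * (t * a * t⁻¹) * r⁻¹) * t by group,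
      h.l_mul _ (mul_mem (inv_mem hx') (cmem h rz h9)) _ hx', h.l_mul _ (inv_mem hx') _ (cmem h rz h9),
      h3 _ h9, h.l_mul _ (mul_mem hx' ha) _ (inv_mem hx'), h.l_mul _ hx' _ ha, l_inv h hx']
    abel

theorem full (f : GF23 z Q s) (f' : GF23 y Q' s') : Sm z Q y := by
  by_contra hs
  have h := p.h
  obtain ⟨r, rz, ry, rr, h3⟩ := p.ex_r f hs
  have h4 : ∀ v, ∃ x ∈ Q, l x = v ∧ r * x * r⁻¹ = x⁻¹ := fun v => by
    obtain ⟨a, ha, rfl⟩ := h.l_surj v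
    refine ⟨r * a * r⁻¹ * a⁻¹, mul_mem (cmem h rz ha) (inv_mem ha), ?_, ?_⟩
    · rw [h.l_mul _ (cmem h rz ha) _ (inv_mem ha), h3 a ha, l_inv h ha]
      exact funext fun i => (by decide : ∀ a : ZMod 3, -a + -a = a) _
    · calc _ = r * r * (a * r * (r * r)⁻¹ * a⁻¹ * r⁻¹) := by group
        _ = _ := by rw [rr]; group
  have h5 : ∀ a ∈ Q, r * a * r⁻¹ * a ∈ zpowers z := fun a ha =>
    (h.l_ker _ (mul_mem (cmem h rz ha) ha)).1 (by
      rw [h.l_mul _ (cmem h rz ha) _ ha, h3 a ha, neg_add_cancel])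
  refine full_lin (Nm_form h p.yz) (Nm_cube h p.yz p.y3) (L := lA h (Q ⊓ Q'))
    (le_inf p.F_le ?_) (fun v hv hb => ?_) ?_ fun iso u hu v hv => ?_
  · rw [rng (Nm_form h p.yz)]
    intro v hv w hw
    obtain ⟨b, hb, -, rfl⟩ := (mem_lA h).1 hv
    obtain ⟨a, ha, rfl⟩ := h.l_surj w
    exact p.cF ⟨ha, p.full_of hs ha hw⟩ hb
  · obtain ⟨x, hx, rfl, e⟩ := h4 v
    obtain ⟨b, hb', -, e1⟩ := (mem_lA h).1 hv
    have ht := mul_mem (cmem h p.yz hx) (inv_mem hx)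
    rw [Nm_l h p.yz hx] at e1 hb ⊢
    have h6 := of_l_eq h ht hb'.1 e1.symm
    have h7 := eq_one_of_not_mem h.ord p.hz (h5 b hb'.1) (mul_mem (cmem p.h' ry hb'.2) hb'.2)
    have h8 : r * (y * x * y⁻¹ * x⁻¹) * r⁻¹ = (y * x * y⁻¹ * x⁻¹)⁻¹ :=
      calc _ = r * y * r⁻¹ * (r * x * r⁻¹) * (r * y * r⁻¹)⁻¹ * (r * x * r⁻¹)⁻¹ := by group
        _ = (y * x * y⁻¹ * x⁻¹ * x)⁻¹ * x := by rw [mem_Ce'.1 ry, e]; group
        _ = _ := by rw [(comm_iff h ht hx).2 hb]; group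
    have h9 : y * x * y⁻¹ * x⁻¹ * b⁻¹ = 1 := by
      generalize y * x * y⁻¹ * x⁻¹ = t at h6 h8
      refine eq_one_of_sq (h.cube _ (zQ h h6)) ?_
      calc _ = t * b⁻¹ * (r * (t * b⁻¹) * r⁻¹) := by rw [Ce_zp rz h6, mul_inv_cancel_right]
        _ = t * b⁻¹ * (r * t * r⁻¹) * (r * b * r⁻¹)⁻¹ := by group
        _ = t * b⁻¹ * b⁻¹ * (t * b⁻¹)⁻¹ * b := by rw [h8, eq_inv_of_mul_eq_one_left h7]; group
        _ = 1 := by rw [← Ce_zp (QC h (inv_mem hb'.1)) h6]; group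
    rw [p.kz ht (mul_inv_eq_one.1 h9 ▸ hb'.2), l_one h]
  · have h6 := Nat.le_of_dvd (Nat.mul_pos (by omega) Nat.card_pos)
      (f'.inv9 r ry rr (Q ⊓ Ce y) inf_le_right (three h).to_inf_left
        (zpowers_le.1 (le_normalizer_inf (zpowers_le.2 (CN h rz))
          (le_normalizer_of_le (zpowers_le.2 ry)))))
    have h7 : (Q ⊓ Ce y ⊓ Q') ⊔ (Q ⊓ Ce y ⊓ Ce r) ≤ pre h (lA h (Q ⊓ Q')) := sup_le
      (fun a ha => ⟨ha.1.1, (mem_lA h).2 ⟨a, ⟨ha.1.1, ha.2⟩, ha.1.1, rfl⟩⟩) fun a ha => ⟨ha.1.1, by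
        have := h3 a ha.1.1
        rw [← mem_Ce.1 ha.2, mul_inv_cancel_right] at this
        rw [show l a = 0 from funext fun i =>
          (by decide : ∀ a : ZMod 3, a = -a → a = 0) _ (congrFun this i)]
        exact zero_mem _⟩
    have h8 : pre h (ker (Nm μ y)) ≤ Q ⊓ Ce y := fun a ha => ⟨ha.1, p.full_of hs ha.1 ha.2⟩
    have h9 := (card_le_of_le h8).trans (h6.trans (Nat.mul_le_mul_left 9 (card_le_of_le h7)))
    rw [card_pre, card_pre, show 9 = 3 ^ 2 from rfl, ← pow_add,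
      Nat.pow_le_pow_iff_right (by omega)] at h9
    omega
  · obtain ⟨a, ha, rfl, e⟩ := h4 u
    obtain ⟨b, hb, rfl, e'⟩ := h4 v
    have m : ∀ c ∈ Q, c ∈ Q' → l c ∈ lA h (Q ⊓ Q') := fun c h1 h2 =>
      (mem_lA h).2 ⟨c, ⟨h1, h2⟩, h1, rfl⟩
    refine (f'.inv3 r ry rr a (p.full_of hs ha hu) b (p.full_of hs hb hv) (h.cube a ha) (h.cube b hb)
      (by rw [e, inv_mul_cancel]; exact one_mem _) (by rw [e', inv_mul_cancel]; exact one_mem _)
      (by rw [(comm_iff h ha hb).2 (iso _ hu _ hv), mul_inv_cancel_right, mul_inv_cancel]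
          exact one_mem _)).imp (m a ha) (.imp (m b hb) (.imp (fun c => ?_) fun c => ?_))
    · exact h.l_mul a ha b hb ▸ m _ (mul_mem ha hb) c
    · rw [sub_eq_add_neg, ← l_inv h hb, ← h.l_mul a ha _ (inv_mem hb)]
      exact m _ (mul_mem ha (inv_mem hb)) c

theorem sm_ex (hs : Sm z Q y) : ∃ c ∈ Q, ∀ a, ∀ w ∈ zpowers z, ∃ k : ℕ,
    y * (a * c ^ k) * y⁻¹ * (a * c ^ k)⁻¹ = y * a * y⁻¹ * w * a⁻¹ := by
  obtain ⟨c, hc, e⟩ := hs
  refine ⟨c, hc, fun a w hw => ?_⟩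
  obtain ⟨k, rfl⟩ := zp_ex p.h.ord hw
  refine ⟨k.val, ?_⟩
  have h1 : Commute z c := (mem_Ce.1 (QC p.h hc)).symm
  calc _ = y * a * y⁻¹ * (y * c ^ k.val * y⁻¹) * (c ^ k.val)⁻¹ * a⁻¹ := by group
    _ = _ := by rw [← conj_pow, mul_inv_eq_iff_eq_mul.1 e, h1.mul_pow]; group

theorem FI (hs : Sm z Q y) {v : V8} (h1 : v ∈ lA p.h (Q ⊓ Q')) (h2 : v ∈ range (Nm μ y)) :
    v = 0 := by
  have h := p.h
  obtain ⟨c, -, e⟩ := p.sm_ex hs
  obtain ⟨b, hb, -, rfl⟩ := (mem_lA p.h).1 h1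
  obtain ⟨u, hu⟩ := h2
  obtain ⟨x, hx, rfl⟩ := h.l_surj u
  have hw := of_l_eq h hb.1 (mul_mem (cmem h p.yz hx) (inv_mem hx)) (by rw [← hu, Nm_l h p.yz hx])
  obtain ⟨k, hk⟩ := e x _ hw
  rw [Ce_zp (QC h (cmem h p.yz hx)) hw, show b * (y * x * y⁻¹ * x⁻¹)⁻¹ * (y * x * y⁻¹) * x⁻¹ = b by
    group] at hk
  rw [← hk, p.kz (hk ▸ hb.1) (hk ▸ hb.2), l_one h]

theorem K_le (hs : Sm z Q y) :
    ∃ u : V8, ker (Nm μ y) ≤ lA p.h (Q ⊓ Ce y) ⊔ Submodule.span _ {u} := by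
  have h := p.h
  obtain ⟨c, hc, e⟩ := p.sm_ex hs
  refine ⟨l c, fun v hv => ?_⟩
  obtain ⟨a, ha, rfl⟩ := h.l_surj v
  have hw := inv_mem ((Nm_ker h p.yz ha).1 hv)
  obtain ⟨k, hk⟩ := e a _ hw
  rw [Ce_zp (QC h (cmem h p.yz ha)) hw, mul_assoc _ (y * a * y⁻¹), inv_mul_cancel, mul_inv_eq_one,
    mul_inv_eq_iff_eq_mul] at hk
  have h1 : c ^ k ∈ pre h (Submodule.span _ {l c}) :=
    pow_mem (show c ∈ pre h _ from ⟨hc, Submodule.mem_span_singleton_self _⟩) k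
  have h2 := mul_mem ha h1.1
  rw [← Submodule.add_mem_iff_left _ (Submodule.mem_sup_right h1.2), ← h.l_mul a ha _ h1.1]
  exact Submodule.mem_sup_left ((mem_lA p.h).2 ⟨_, ⟨h2, mem_Ce.2 hk.symm⟩, h2, rfl⟩)

theorem dimE (hs : Sm z Q y) : finrank (ZMod 3) (ker (Nm μ y)) ≤
    finrank (ZMod 3) (lA p.h (Q ⊓ Ce y)) + 1 := by
  obtain ⟨u, hu⟩ := p.K_le hs
  exact (Submodule.finrank_mono hu).trans ((Submodule.finrank_add_le_finrank_add_finrank _ _).trans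
    (Nat.add_le_add_left ((finrank_span_le_card {u}).trans (by simp)) _))

theorem rel27 (hs : Sm z Q y) : 27 ∣ Q'.relIndex (Q ⊓ Ce y) := by
  have h := p.h
  obtain ⟨u, hu⟩ := p.K_le hs
  have h1 : lA p.h (Q ⊓ Q') ⊓ BB.orthogonal (Submodule.span _ {u}) = ⊥ := by
    refine eq_bot_iff.2 fun v hv => p.FI hs hv.1 ?_
    rw [rng (Nm_form h p.yz)]
    intro w hw
    obtain ⟨w1, h1, w2, h2, rfl⟩ := Submodule.mem_sup.1 (hu hw)
    obtain ⟨b, hb, -, rfl⟩ := (mem_lA p.h).1 hv.1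
    obtain ⟨a, ha, -, rfl⟩ := (mem_lA p.h).1 h1
    show BB _ _ = 0
    rw [map_add, LinearMap.add_apply, p.cF ha hb, zero_add]
    exact hv.2 _ h2
  have h2 := Submodule.finrank_add_finrank_le_of_disjoint (disjoint_iff.2 h1)
  have h3 := rk_orth (Submodule.span _ {u})
  have h4 : finrank (ZMod 3) (Submodule.span (ZMod 3) {u}) ≤ 1 :=
    (finrank_span_le_card {u}).trans (by simp)
  have h5 : finrank (ZMod 3) V8 = 8 := by simp
  obtain ⟨h6, h7⟩ := three_le (Nm_cube h p.yz p.y3)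
  have h8 := p.dimE hs
  obtain ⟨n, hn⟩ : ∃ n, finrank (ZMod 3) (lA p.h (Q ⊓ Ce y)) + 1 =
      finrank (ZMod 3) (lA p.h (Q ⊓ Q')) + (3 + n) := by
    refine ⟨finrank (ZMod 3) (lA p.h (Q ⊓ Ce y)) - finrank (ZMod 3) (lA p.h (Q ⊓ Q')) - 2, ?_⟩
    by_cases c : finrank (ZMod 3) (ker (Nm μ y)) = 3
    · rw [show lA p.h (Q ⊓ Q') = ⊥ from eq_bot_iff.2 fun v hv => p.FI hs hv (h7 c (p.F_le hv)),
        finrank_bot]
      omega
    · omega
  have h9 := card_rel (Q ⊓ Ce y) Q'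
  rw [show Q ⊓ Ce y ⊓ Q' = Q ⊓ Q' from Subgroup.ext fun a =>
      ⟨fun e => ⟨e.1.1, e.2⟩, fun e => ⟨⟨e.1, QC p.h' e.2⟩, e.2⟩⟩,
    card_of_not_mem p.h inf_le_left fun c => p.hz c.2,
    card_of_mem p.h inf_le_left ⟨h.zmem, p.symm.yz⟩, hn, pow_add,
    Nat.mul_right_inj (by positivity)] at h9
  exact h9 ▸ pow_add 3 3 n ▸ dvd_mul_right _ _

theorem ab (f : GF23 z Q s) (hs : Sm z Q y) (hs' : Sm y Q' z)
    (hab : ∀ a ∈ Q' ⊓ Ce z, ∀ b ∈ Q' ⊓ Ce z, a * b * a⁻¹ * b⁻¹ ∈ Q) : False := by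
  have h := p.h
  have h1 := f.ab27 _ inf_le_right (three p.h').to_inf_left (p.symm.rel27 hs') hab
  rw [fixQ_card h fun c hc => hc.2, show 9 = 3 ^ 2 from rfl, Nat.pow_right_inj (by omega)] at h1
  have mW : ∀ v, v ∈ (⨅ c ∈ (Q' ⊓ Ce z : Subgroup G), ker (Nm μ c)) ↔
      ∀ c ∈ Q' ⊓ Ce z, Nm μ c v = 0 := fun v => by simp only [Submodule.mem_iInf, LinearMap.mem_ker]
  change finrank (ZMod 3) ↥(⨅ c ∈ (Q' ⊓ Ce z : Subgroup G), ker (Nm μ c)) + 1 = 2 at h1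
  generalize (⨅ c ∈ (Q' ⊓ Ce z : Subgroup G), ker (Nm μ c)) = W at h1 mW
  have hn : Q' ⊓ Ce z ≤ nr (pre h (range (Nm μ y))) := fun a ha => mem_normalizer_of_cj_le (by
    rintro _ ⟨b, ⟨hb, v, hv⟩, rfl⟩
    obtain ⟨x, hx, rfl⟩ := h.l_surj v
    refine ⟨cmem h ha.2 hb, l (a * x * a⁻¹), ?_⟩
    have ht := mul_mem (cmem h p.yz hx) (inv_mem hx)
    rw [Nm_l h p.yz (cmem h ha.2 hx), MulEquiv.coe_toMonoidHom, MulAut.conj_apply, act' h ha.2 hb,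
      ← hv, Nm_l h p.yz hx, ← act' h ha.2 ht]
    conv_lhs => rw [← mem_Ce'.1 (QC p.h' ha.1)]
    exact congrArg l (by group))
  have hlt : zpowers z < pre h (range (Nm μ y)) := by
    refine lt_of_le_of_ne (fun a ha => ⟨zQ h ha, l_z h ha ▸ zero_mem _⟩) fun c =>
      p.hy (h.ker y p.yz (Matrix.toLin'.injective (sub_eq_zero.1 (LinearMap.ext fun v => ?_))))
    obtain ⟨x, hx, rfl⟩ := h.l_surj v
    rw [Matrix.toLin'_one]
    exact (Nm_l h p.yz hx).trans (l_z h (c.ge ⟨mul_mem (cmem h p.yz hx) (inv_mem hx), _,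
      Nm_l h p.yz hx⟩))
  obtain ⟨x, hx, h2, -, h3⟩ := H99.exists_commutator_mem_of_lt (p := 3)
    ((three h).to_sup_of_normal_left' (three p.h').to_inf_left (inf_le_right.trans (CN h)))
    le_sup_right (le_sup_of_le_left fun a (ha : a ∈ pre h _) => ha.1) hn (inf_le_right.trans Ce_le_Nz) hlt
  have h4 : l x ∈ W := (mW _).2 fun a ha => by
    obtain ⟨h4, h5⟩ := mem_inf.1 (h3 a ha)
    rw [← SetLike.mem_coe, coe_mul_of_right_le_normalizer_left _ _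
      (inf_le_right.trans Ce_le_Nz)] at h4
    obtain ⟨w, hw, b, hb, e⟩ := h4
    replace h5 : w * b ∈ pre h _ := (congrArg (· ∈ pre h _) e).mpr h5
    replace e : w * b = a * x * a⁻¹ * x⁻¹ := e
    have hb' : b ∈ Q := (mul_mem_cancel_left (zQ h hw)).1 h5.1
    have h6 : l (w * b) = l b :=
      (h.l_mul w (zQ h hw) b hb').trans (by rw [l_z h hw, zero_add])
    rw [Nm_l h ha.2 hx.1, ← e, h6]
    exact p.FI hs ((mem_lA p.h).2 ⟨b, ⟨hb', hb.1⟩, hb', rfl⟩) (h6 ▸ h5.2)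
  have h5 : Submodule.span _ {l x} = W := Submodule.eq_of_le_of_finrank_le
    ((Submodule.span_singleton_le_iff_mem _ _).2 h4) (by
      rw [finrank_span_singleton fun e => h2 ((h.l_ker x hx.1).1 e)]; omega)
  have h6 : W ≤ range (Nm μ y) := h5 ▸ (Submodule.span_singleton_le_iff_mem _ _).2 hx.2
  have h7 : ∀ b ∈ Q ⊓ Q', l b = 0 := fun b hb =>
    p.FI hs ((mem_lA p.h).2 ⟨b, hb, hb.1, rfl⟩) (h6 ((mW _).2 fun a ha => by
      rw [Nm_l h ha.2 hb.1, (comm_iff p.h' ha.1 hb.2).2 (p.symm.cF ha ⟨hb.2, hb.1⟩),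
        mul_inv_cancel_right, mul_inv_cancel, l_one h]))
  have h8 : lA p.h (Q ⊓ Ce y) ≤ W := fun v hv => (mW _).2 fun a ha => by
    obtain ⟨e, he, h9, rfl⟩ := (mem_lA p.h).1 hv
    have h8 := (mem_inf.1 ha).1
    rw [Nm_l h ha.2 h9]
    refine h7 _ (mem_inf.2 ⟨mul_mem (cmem h ha.2 h9) (inv_mem h9), ?_⟩)
    rw [mul_assoc, mul_assoc, ← mul_assoc e]
    exact mul_mem h8 (cmem p.h' he.2 (inv_mem h8))
  have := Submodule.finrank_mono h8
  have := p.dimE hs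
  have := (three_le (Nm_cube h p.yz p.y3)).1
  omega

theorem absurd (f : GF23 z Q s) (f' : GF23 y Q' s') : False := by
  have hs := p.full f f'
  have hs' := p.symm.full f' f
  refine p.ab f hs hs' fun a ha b hb => by_contra fun c => p.symm.ab f' hs' hs fun d hd e he => ?_
  have one : ∀ a ∈ Q', a * y * a⁻¹ * y⁻¹ ∈ Q := fun a ha => by
    rw [mem_Ce'.1 (QC p.h' ha), mul_inv_cancel]; exact one_mem _
  have h1 := f.nab a ha.2 b hb.2 y p.yz ((three p.h').to_le ((closure_le _).2 (by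
    rintro _ (rfl | rfl | rfl)
    exacts [ha.1, hb.1, p.h'.zmem]))) c (one a ha.1) (one b hb.1) p.hy
  rw [fixQ_card p.h (by rintro _ rfl; exact p.yz), show 81 = 3 ^ 4 from rfl,
    Nat.pow_right_inj (by omega), iInf_singleton] at h1
  have h2 := (three_le (Nm_cube p.h p.yz p.y3)).2 (by omega)
  rw [rng (Nm_form p.h p.yz)] at h2
  rw [(comm_iff p.h hd.1 he.1).2 (h2 (p.E_le ((mem_lA p.h).2 ⟨e, he, he.1, rfl⟩)) _
    (p.E_le ((mem_lA p.h).2 ⟨d, hd, hd.1, rfl⟩))), mul_inv_cancel_right, mul_inv_cancel]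
  exact one_mem _

end Pr

theorem jobW : H39.F23.JobW.{u} := by
  intro G _ _ z Q l μ s h f nw
  by_contra c
  have w : WC z Q := fun t ht h1 => by_contra fun h2 => c ⟨t, ht, h1, h2⟩
  obtain ⟨g, h1, h2⟩ := nw_conj nw
  have h' := X8.map (MulAut.conj g) h
  have w' : WC (MulAut.conj g z) (Q.map (MulAut.conj g).toMonoidHom) := by
    rintro _ ⟨t, ht, rfl⟩ ⟨k, hk⟩
    refine (mZ (MulAut.conj g)).2 (w t ht ⟨g⁻¹ * k * g, hk.imp (fun e => ?_) fun e => ?_⟩)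
    · refine (MulAut.conj g).injective (Eq.trans ?_ e)
      simp only [MulAut.conj_apply]; group
    · refine (MulAut.conj g).injective (Eq.trans ?_ (e.trans (map_inv _ _).symm))
      simp only [MulAut.conj_apply]; group
  exact Pr.absurd ⟨h, h', h1, fun e => h2 (w _ e ⟨g, .inl rfl⟩), fun e => not_mem_symm h.ord h'.ord h2
    (w' z e ⟨g⁻¹, .inl (by rw [MulAut.conj_apply]; group)⟩), w, w'⟩ f (GF23.map _ f)

end H61.F23
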