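import Cfsg.Agent.H7.FSSpec
import Mathlib.FieldTheory.ChevalleyWarning

/-! Job CN of the tower FS: finite anisotropic cubic norm structures. -/

set_option autoImplicit false

namespace H61.FSCN

open H7.FS Polynomial

section basic

variable {F J : Type} [Field F] [AddCommGroup J] [Module F J] (c : CN F J)

theorem cr_comm (a b : J) : c.cr a b = c.cr b a := by
  have h := c.sh_add a b
  rw [add_comm, c.sh_add, add_comm (c.sh b)] at h
  exact (add_left_cancel h).symm

theorem cr_self (a : J) : c.cr a a = (2 : F) • c.sh a := by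
  have h := c.sh_add a a
  rw [← two_smul F a, c.sh_smul] at h
  linear_combination (norm := module) -h

theorem e_ne : c.e ≠ 0 := fun h => by
  have h1 := c.N_smul 0 c.e
  rw [zero_smul, ← h, c.N_e] at h1
  simp at h1

theorem T_ee : c.T c.e c.e = 3 := by simpa [c.sh_e, c.N_e] using c.T_sh c.e

theorem T_self (a : J) : c.T a a = c.T a c.e ^ 2 - 2 * c.T (c.sh a) c.e := by
  have h := c.T_cr a a c.e
  rw [cr_self, cr_comm c a c.e, c.cr_e] at h
  rw [map_smul, map_sub, map_smul, c.T_symm c.e] at h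
  simp only [smul_eq_mul] at h
  linear_combination h

theorem N_sh (a : J) : c.N (c.sh a) = c.N a ^ 2 := by
  have h := c.sh_sh (c.sh a)
  rw [c.sh_sh a, c.sh_smul] at h
  by_cases h0 : c.sh a = 0
  · have h1 := c.sh_sh a
    have h2 := c.sh_smul 0 a
    have h3 := c.N_smul 0 a
    simp only [zero_smul, ne_eq, OfNat.ofNat_ne_zero, not_false_eq_true, zero_pow, zero_mul] at h2 h3
    rw [h0, h2] at h1
    rcases smul_eq_zero.1 h1.symm with h4 | h4
    · rw [h0, h3, h4]; simp
    · rw [h0, h4, h3]; simp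
  · exact (smul_left_injective F h0 h).symm

theorem cr_sh (a : J) : c.cr a (c.sh a) = (c.T a c.e * c.T (c.sh a) c.e - c.N a) • c.e -
    c.T (c.sh a) c.e • a - c.T a c.e • c.sh a := by
  have h := c.adj a c.e
  rw [cr_comm c a c.e, c.cr_e, map_sub, map_smul, cr_comm c (c.sh a) c.e, c.cr_e, c.T_symm c.e,
    cr_comm c (c.sh a) a] at h
  linear_combination (norm := module) -h

/-- Coordinates with respect to `e, a, a#`. -/
def g (a : J) : F × F × F →+ J where
  toFun w := w.1 • c.e + (w.2.1 • a + w.2.2 • c.sh a)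
  map_zero' := by simp
  map_add' w w' := by simp only [Prod.fst_add, Prod.snd_add]; module

theorem g_apply (a : J) (x y z : F) : g c a (x, y, z) = x • c.e + (y • a + z • c.sh a) := rfl

end basic

section poly

variable {K : Type*} [CommRing K]

/-- The adjoint in coordinates. -/
def shp (u v n : K) (w : K × K × K) : K × K × K :=
  (w.1 ^ 2 + u * w.1 * w.2.1 + v * w.1 * w.2.2 + (u * v - n) * w.2.1 * w.2.2,
    n * w.2.2 ^ 2 - w.1 * w.2.1 - v * w.2.1 * w.2.2, w.2.1 ^ 2 - w.1 * w.2.2 - u * w.2.1 * w.2.2)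

/-- The trace form in coordinates. -/
def trp (u v n : K) (w w' : K × K × K) : K :=
  3 * w.1 * w'.1 + u * (w.1 * w'.2.1 + w.2.1 * w'.1) + v * (w.1 * w'.2.2 + w.2.2 * w'.1) +
    (u ^ 2 - 2 * v) * w.2.1 * w'.2.1 + 3 * n * (w.2.1 * w'.2.2 + w.2.2 * w'.2.1) +
    (v ^ 2 - 2 * n * u) * w.2.2 * w'.2.2

/-- The norm in coordinates. -/
def nmp (u v n : K) (w : K × K × K) : K :=
  w.1 ^ 3 + n * w.2.1 ^ 3 + n ^ 2 * w.2.2 ^ 3 + w.1 ^ 2 * w.2.1 * u + w.1 ^ 2 * w.2.2 * v +
    w.1 * w.2.1 ^ 2 * v + w.2.1 ^ 2 * w.2.2 * (v ^ 2 - 2 * n * u) + w.1 * w.2.2 ^ 2 * n * u +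
    w.2.1 * w.2.2 ^ 2 * n * (u ^ 2 - 2 * v) + w.1 * w.2.1 * w.2.2 * (u * v - 3 * n)

theorem cubic_id {u v n t : K} (h : t ^ 3 - u * t ^ 2 + v * t - n = 0) (x y z k : K)
    (hk : k = x + y * t + z * (t ^ 2 - u * t + v)) :
    k ^ 3 - trp u v n (x, y, z) (1, 0, 0) * k ^ 2 + trp u v n (shp u v n (x, y, z)) (1, 0, 0) * k -
      nmp u v n (x, y, z) = 0 := by
  obtain ⟨s, hs⟩ : ∃ s, s = t ^ 2 - u * t + v := ⟨_, rfl⟩
  have h1 : t ^ 2 = s + u * t - v := by rw [hs]; ring
  have h2 : t * s = n := by rw [hs]; linear_combination h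
  have h3 : s ^ 2 = v * s - u * n + n * t := by rw [hs]; linear_combination (t - u) * h
  rw [← hs] at hk
  have e1 : k ^ 2 - trp u v n (x, y, z) (1, 0, 0) * k + trp u v n (shp u v n (x, y, z)) (1, 0, 0) =
      (shp u v n (x, y, z)).1 + (shp u v n (x, y, z)).2.1 * t + (shp u v n (x, y, z)).2.2 * s := by
    simp only [hk, trp, shp]
    linear_combination y ^ 2 * h1 + 2 * y * z * h2 + z ^ 2 * h3
  have e2 : k * ((shp u v n (x, y, z)).1 + (shp u v n (x, y, z)).2.1 * t +
      (shp u v n (x, y, z)).2.2 * s) = nmp u v n (x, y, z) := by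
    simp only [hk, nmp, shp]
    linear_combination y * (n * z ^ 2 - x * y - v * y * z) * h1 +
      (y * (y ^ 2 - x * z - u * y * z) + z * (n * z ^ 2 - x * y - v * y * z)) * h2 +
      z * (y ^ 2 - x * z - u * y * z) * h3
  linear_combination k * e1 + e2

variable {K' : Type*} [CommRing K'] (φ : K →+* K')

theorem map_shp (u v n : K) (w : K × K × K) : shp (φ u) (φ v) (φ n) (φ w.1, φ w.2.1, φ w.2.2) =
    (φ (shp u v n w).1, φ (shp u v n w).2.1, φ (shp u v n w).2.2) := by simp [shp]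

theorem map_trp (u v n : K) (w w' : K × K × K) : trp (φ u) (φ v) (φ n) (φ w.1, φ w.2.1, φ w.2.2)
    (φ w'.1, φ w'.2.1, φ w'.2.2) = φ (trp u v n w w') := by simp [trp, map_ofNat]

theorem map_nmp (u v n : K) (w : K × K × K) :
    nmp (φ u) (φ v) (φ n) (φ w.1, φ w.2.1, φ w.2.2) = φ (nmp u v n w) := by simp [nmp, map_ofNat]

end poly

section coord

variable {F J : Type} [Field F] [AddCommGroup J] [Module F J] (c : CN F J)

theorem sh_g (a : J) (w : F × F × F) :
    c.sh (g c a w) = g c a (shp (c.T a c.e) (c.T (c.sh a) c.e) (c.N a) w) := by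
  obtain ⟨x, y, z⟩ := w
  simp only [shp, g_apply, c.sh_add, c.sh_smul, c.sh_e, c.sh_sh, map_add, map_smul,
    LinearMap.smul_apply, c.cr_e, cr_sh]
  module

theorem T_g (a : J) (w w' : F × F × F) :
    c.T (g c a w) (g c a w') = trp (c.T a c.e) (c.T (c.sh a) c.e) (c.N a) w w' := by
  obtain ⟨x, y, z⟩ := w
  obtain ⟨x', y', z'⟩ := w'
  simp only [trp, g_apply, map_add, map_smul, LinearMap.smul_apply, LinearMap.add_apply,
    smul_eq_mul, T_ee, c.T_symm c.e a, c.T_symm c.e (c.sh a), c.T_symm (c.sh a) a, c.T_sh,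
    T_self c a, T_self c (c.sh a), c.sh_sh]
  ring

theorem N_g (a : J) (w : F × F × F) :
    c.N (g c a w) = nmp (c.T a c.e) (c.T (c.sh a) c.e) (c.N a) w := by
  obtain ⟨x, y, z⟩ := w
  simp only [nmp, g_apply, c.N_add, c.N_smul, c.N_e, N_sh, c.sh_add, c.sh_smul, c.sh_e, c.sh_sh,
    map_add, map_sub, map_smul, LinearMap.smul_apply, LinearMap.add_apply, cr_sh,
    smul_eq_mul, T_ee, c.T_symm c.e a, c.T_symm c.e (c.sh a),
    T_self c a, T_self c (c.sh a)]
  ring

theorem no_root {a : J} (ha : ∀ r : F, a ≠ r • c.e) (r : F) :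
    r ^ 3 - c.T a c.e * r ^ 2 + c.T (c.sh a) c.e * r - c.N a ≠ 0 := by
  intro h
  have h1 : c.N (g c a (r, -1, 0)) = 0 := by rw [N_g, nmp]; linear_combination h
  have h2 := c.an _ h1
  rw [g_apply] at h2
  exact ha r (by linear_combination (norm := module) -h2)

theorem g_inj {a : J} (ha : ∀ r : F, a ≠ r • c.e) : Function.Injective (g c a) := by
  rw [injective_iff_map_eq_zero]
  rintro ⟨x, y, z⟩ h
  have key : ∀ x y : F, g c a (x, y, 0) = 0 → x = 0 ∧ y = 0 := by
    intro x y h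
    rw [g_apply, zero_smul, add_zero] at h
    have hy : y = 0 := by
      by_contra hy
      refine ha (-(x / y)) (smul_right_injective J hy ?_)
      simp only [smul_smul]
      rw [mul_neg, mul_div_cancel₀ _ hy]
      linear_combination (norm := module) h
    rw [hy, zero_smul, add_zero] at h
    exact ⟨(smul_eq_zero.1 h).resolve_right (e_ne c), hy⟩
  have hz : z = 0 := by
    by_contra hz
    have h1 := sh_g c a (-y, z, 0)
    have h2 := c.sh_sh (g c a (-y, z, 0))
    have h3 : c.sh (g c a (-y, z, 0)) = (y ^ 2 - c.T a c.e * y * z - x * z) • c.e := by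
      rw [h1, shp, g_apply]
      rw [g_apply] at h
      linear_combination (norm := module) z • h
    rw [h3, c.sh_smul, c.sh_e] at h2
    have h4 := key (c.N (g c a (-y, z, 0)) * -y - (y ^ 2 - c.T a c.e * y * z - x * z) ^ 2 * 1)
      (c.N (g c a (-y, z, 0)) * z) (by
        rw [g_apply] at h2 ⊢
        rw [g_apply]
        linear_combination (norm := module) -h2)
    exact hz (key _ _ (c.an _ ((mul_eq_zero.1 h4.2).resolve_right hz))).2
  subst hz
  obtain ⟨rfl, rfl⟩ := key x y h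
  rfl

include c in
theorem finrank_le [Finite F] [Module.Finite F J] : Module.finrank F J ≤ 3 := by
  classical
  by_contra h
  obtain ⟨v, hv⟩ := exists_linearIndependent_of_le_finrank (R := F) (M := J) (n := 4) (by omega)
  have := Fintype.ofFinite F
  obtain ⟨p, hp⟩ := CharP.exists F
  have hp' := CharP.char_is_prime F p
  let k : Fin 4 → Fin 4 → Fin 4 → F := fun i j l => if i = j ∧ j = l then c.N (v i) else
    if i = j then c.T (v l) (c.sh (v i)) else if i < j ∧ j < l then c.T (v i) (c.cr (v j) (v l)) else 0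
  let f : MvPolynomial (Fin 4) F := ∑ i, ∑ j, ∑ l,
    MvPolynomial.C (k i j l) * MvPolynomial.X i * MvPolynomial.X j * MvPolynomial.X l
  have hd : f.totalDegree ≤ 3 := by
    refine MvPolynomial.totalDegree_finsetSum_le fun i _ => MvPolynomial.totalDegree_finsetSum_le
      fun j _ => MvPolynomial.totalDegree_finsetSum_le fun l _ => ?_
    refine (MvPolynomial.totalDegree_mul _ _).trans (Nat.add_le_add ((MvPolynomial.totalDegree_mul
      _ _).trans (Nat.add_le_add ((MvPolynomial.totalDegree_mul _ _).trans ?_) (le_of_eq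
        (MvPolynomial.totalDegree_X _)) (a := _) (b := 1))) (le_of_eq (MvPolynomial.totalDegree_X _))
        (b := 2))
    simp
  have he : ∀ t : Fin 4 → F, MvPolynomial.eval t f =
      c.N (t 0 • v 0 + (t 1 • v 1 + (t 2 • v 2 + t 3 • v 3))) := by
    intro t
    simp only [f, k, map_mul, MvPolynomial.eval_C, MvPolynomial.eval_X, Fin.sum_univ_four,
      c.N_add, c.N_smul, c.sh_add, c.sh_smul, map_add, map_smul, LinearMap.smul_apply,
      LinearMap.add_apply, smul_eq_mul]
    simp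
    ring
  have h1 := char_dvd_card_solutions p (f := f) (by simpa using Nat.lt_succ_of_le hd)
  rw [Fintype.card_eq_one_iff.2 ⟨⟨0, by rw [he]; simpa using c.N_smul 0 0⟩, fun t => Subtype.ext
    (funext (Fintype.linearIndependent_iff.1 hv t.1 (by
      rw [Fin.sum_univ_four, add_assoc, add_assoc]
      exact c.an _ (he _ ▸ t.2))))⟩] at h1
  exact hp'.one_lt.ne' (Nat.dvd_one.1 h1)

theorem card_one (ha : ∀ a, ∃ r : F, a = r • c.e) :
    Function.Bijective (LinearMap.toSpanSingleton F J c.e) :=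
  ⟨smul_left_injective F (e_ne c), fun a => (ha a).imp fun _ h => h.symm⟩

theorem card_three [Finite F] [Finite J] {a : J} (ha : ∀ r : F, a ≠ r • c.e) :
    Nat.card J = Nat.card F ^ 3 ∧ Function.Bijective (g c a) := by
  have h1 : Nat.card J ≤ Nat.card (F × F × F) := by
    rw [Module.natCard_eq_pow_finrank (K := F) (V := J), Nat.card_prod, Nat.card_prod]
    calc _ ≤ Nat.card F ^ 3 := Nat.pow_le_pow_right Nat.card_pos (finrank_le c)
      _ = _ := by ring
  have h2 := (g_inj c ha).bijective_of_nat_card_le h1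
  refine ⟨?_, h2⟩
  rw [← Nat.card_eq_of_bijective _ h2, Nat.card_prod, Nat.card_prod]
  ring

/-- The cubic with given coefficients. -/
noncomputable def cub (u v n : F) : F[X] := X ^ 3 - C u * X ^ 2 + C v * X - C n

theorem cub_monic (u v n : F) : (cub u v n).Monic := by unfold cub; monicity!

theorem cub_deg (u v n : F) : (cub u v n).natDegree = 3 := by unfold cub; compute_degree!

theorem cub_irr {u v n : F} (h : ∀ r : F, r ^ 3 - u * r ^ 2 + v * r - n ≠ 0) :
    Irreducible (cub u v n) :=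
  irreducible_of_degree_le_three_of_not_isRoot (by rw [cub_deg]; decide) fun r hr =>
    h r (by simpa [cub] using hr)

theorem exists_inv [Finite F] {a : J} (ha : ∀ r : F, a ≠ r • c.e) {u v n : F}
    (h : ∀ r : F, r ^ 3 - u * r ^ 2 + v * r - n ≠ 0) :
    ∃ b : J, c.T b c.e = u ∧ c.T (c.sh b) c.e = v ∧ c.N b = n := by
  generalize hu : c.T a c.e = u₀
  generalize hv : c.T (c.sh a) c.e = v₀
  generalize hn : c.N a = n₀
  have i0 : Irreducible (cub u₀ v₀ n₀) := cub_irr (hu ▸ hv ▸ hn ▸ no_root c ha)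
  have i1 := cub_irr h
  have := Fact.mk i0
  have := Fact.mk i1
  let K := AdjoinRoot (cub u₀ v₀ n₀)
  have := (AdjoinRoot.powerBasis i0.ne_zero).finite
  have : Finite K := Module.finite_of_finite F
  obtain ⟨ι⟩ := FiniteField.nonempty_algHom_of_finrank_dvd (F := F) (K := AdjoinRoot (cub u v n))
    (L := K) (by
      rw [(AdjoinRoot.powerBasis i0.ne_zero).finrank, (AdjoinRoot.powerBasis i1.ne_zero).finrank,
        AdjoinRoot.powerBasis_dim, AdjoinRoot.powerBasis_dim, cub_deg, cub_deg])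
  let k : K := ι (AdjoinRoot.root _)
  have hk : aeval k (cub u v n) = 0 := by
    rw [aeval_algHom_apply, AdjoinRoot.aeval_eq, AdjoinRoot.mk_self, map_zero]
  let t : K := AdjoinRoot.root _
  let α := algebraMap F K
  have ht : t ^ 3 - α u₀ * t ^ 2 + α v₀ * t - α n₀ = 0 := by
    have : aeval t (cub u₀ v₀ n₀) = 0 := by rw [AdjoinRoot.aeval_eq, AdjoinRoot.mk_self]
    simpa [cub] using this
  obtain ⟨x, y, z, e⟩ : ∃ x y z : F, k = α x + α y * t + α z * (t ^ 2 - α u₀ * t + α v₀) := by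
    obtain ⟨f, hf, e⟩ := (AdjoinRoot.powerBasis i0.ne_zero).exists_eq_aeval k
    rw [AdjoinRoot.powerBasis_dim, cub_deg] at hf
    rw [aeval_eq_sum_range' hf, AdjoinRoot.powerBasis_gen] at e
    refine ⟨f.coeff 0 - f.coeff 2 * v₀, f.coeff 1 + f.coeff 2 * u₀, f.coeff 2, e.trans ?_⟩
    simp only [Finset.sum_range_succ, Finset.sum_range_zero, Algebra.smul_def, map_sub, map_add,
      map_mul]
    ring
  have h1 := cubic_id ht _ _ _ k e
  have h2 := map_trp α u₀ v₀ n₀ (x, y, z) (1, 0, 0)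
  have h3 := map_trp α u₀ v₀ n₀ (shp u₀ v₀ n₀ (x, y, z)) (1, 0, 0)
  rw [← map_shp] at h3
  simp only [map_one, map_zero] at h2 h3
  rw [h2, h3, map_nmp α u₀ v₀ n₀ (x, y, z)] at h1
  have h4 : cub (trp u₀ v₀ n₀ (x, y, z) (1, 0, 0)) (trp u₀ v₀ n₀ (shp u₀ v₀ n₀ (x, y, z)) (1, 0, 0))
      (nmp u₀ v₀ n₀ (x, y, z)) = cub u v n := by
    refine (eq_of_monic_of_dvd_of_natDegree_le (cub_monic _ _ _) (cub_monic _ _ _) ?_
      (by rw [cub_deg, cub_deg]))
    rw [minpoly.eq_of_irreducible_of_monic i1 hk (cub_monic _ _ _)]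
    exact minpoly.dvd _ _ (by simpa [cub] using h1)
  have he : c.e = g c a (1, 0, 0) := by simp [g_apply]
  refine ⟨g c a (x, y, z), ?_, ?_, ?_⟩
  · nth_rw 1 [he]
    rw [T_g, hu, hv, hn]
    simpa [cub, coeff_X, coeff_C] using congrArg (coeff · 2) h4
  · nth_rw 1 [he]
    rw [sh_g, T_g, hu, hv, hn]
    simpa [cub, coeff_X, coeff_C] using congrArg (coeff · 1) h4
  · rw [N_g, hu, hv, hn]
    simpa [cub, coeff_X, coeff_C] using congrArg (coeff · 0) h4

end coord

theorem cases {F J : Type} [Field F] [AddCommGroup J] [Module F J] (c : CN F J) :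
    (∀ a, ∃ r : F, a = r • c.e) ∨ ∃ a, ∀ r : F, a ≠ r • c.e := by
  by_contra h
  push Not at h
  obtain ⟨a, ha⟩ := h.1
  obtain ⟨r, hr⟩ := h.2 a
  exact ha r hr

theorem jobCN : JobCN := by
  refine ⟨fun F J _ _ _ _ _ c => (cases c).imp (fun h => (Nat.card_eq_of_bijective _
    (card_one c h)).symm) fun ⟨_, h⟩ => (card_three c h).1, ?_⟩
  intro F J F' J' _ _ _ _ _ _ _ _ _ _ c d hF hJ
  have := Fintype.ofFinite F
  have := Fintype.ofFinite F'
  let φ : F ≃+* F' := FiniteField.ringEquivOfCardEq (by simpa using hF)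
  have fin : ∀ ψ : J ≃+ J', (∀ a, d.sh (ψ a) = ψ (c.sh a)) → ∀ a b,
      d.cr (ψ a) (ψ b) = ψ (c.cr a b) := fun ψ h a b => by
    have := h (a + b)
    rw [map_add, d.sh_add, c.sh_add, map_add, map_add, h, h] at this
    exact add_left_cancel this
  have ne : Nat.card F' ≠ Nat.card F' ^ 3 := by
    have := Finite.one_lt_card (α := F')
    exact (lt_self_pow₀ this (by norm_num)).ne
  rcases cases c with h | ⟨a, h⟩ <;> rcases cases d with h' | ⟨a', h'⟩
  · let A := (LinearEquiv.ofBijective _ (card_one c h)).toAddEquiv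
    let B := (LinearEquiv.ofBijective _ (card_one d h')).toAddEquiv
    let ψ := A.symm.trans (φ.toAddEquiv.trans B)
    have e : ∀ r : F, ψ (r • c.e) = φ r • d.e := fun r =>
      congrArg (fun s => φ s • d.e) (A.symm_apply_apply r)
    have hs : ∀ a, d.sh (ψ a) = ψ (c.sh a) := fun a => by
      obtain ⟨r, rfl⟩ := h a
      rw [c.sh_smul, c.sh_e, e, e, d.sh_smul, d.sh_e, map_pow]
    refine ⟨φ, ψ, fun t a => ?_, fun a b => ?_, fin ψ hs, hs, fun a => ?_⟩
    · obtain ⟨r, rfl⟩ := h a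
      rw [smul_smul, e, e, smul_smul, map_mul]
    · obtain ⟨r, rfl⟩ := h a
      obtain ⟨s, rfl⟩ := h b
      simp [e, T_ee, map_ofNat]
    · obtain ⟨r, rfl⟩ := h a
      simp [e, c.N_smul, d.N_smul, c.N_e, d.N_e]
  · exact absurd (by rw [← (card_three d h').1, ← hJ, ← hF]
                     exact Nat.card_eq_of_bijective _ (card_one c h)) ne
  · exact absurd (by rw [← hF, ← (card_three c h).1, hJ, hF]
                     exact Nat.card_eq_of_bijective _ (card_one d h')) ne
  have nr : ∀ r : F', r ^ 3 - φ (c.T a c.e) * r ^ 2 + φ (c.T (c.sh a) c.e) * r - φ (c.N a) ≠ 0 := by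
    intro r hr
    obtain ⟨r, rfl⟩ := φ.surjective r
    exact no_root c h r (φ.injective (by simpa using hr))
  obtain ⟨b, b1, b2, b3⟩ := exists_inv d h' nr
  have hb : ∀ r : F', b ≠ r • d.e := fun r e => nr r (by
    rw [← b1, ← b2, ← b3, e]
    simp only [d.sh_smul, d.N_smul, d.sh_e, d.N_e, map_smul, LinearMap.smul_apply, T_ee, smul_eq_mul]
    ring)
  let A := AddEquiv.ofBijective _ (card_three c h).2
  let B := AddEquiv.ofBijective _ (card_three d hb).2
  let ψ := A.symm.trans ((φ.toAddEquiv.prodCongr (φ.toAddEquiv.prodCongr φ.toAddEquiv)).trans B)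
  have e : ∀ w, ψ (g c a w) = g d b (φ w.1, φ w.2.1, φ w.2.2) := fun w =>
    congrArg (fun w : F × F × F => g d b (φ w.1, φ w.2.1, φ w.2.2)) (A.symm_apply_apply w)
  have hs : ∀ a, d.sh (ψ a) = ψ (c.sh a) := fun x => by
    obtain ⟨w, rfl⟩ := (card_three c h).2.2 x
    rw [sh_g, e, e, sh_g, b1, b2, b3]
    exact congrArg _ (map_shp φ.toRingHom _ _ _ w)
  refine ⟨φ, ψ, fun t x => ?_, fun x y => ?_, fin ψ hs, hs, fun x => ?_⟩
  · obtain ⟨⟨x, y, z⟩, rfl⟩ := (card_three c h).2.2 x
    rw [show t • g c a (x, y, z) = g c a (t * x, t * y, t * z) by simp only [g_apply]; module, e, e]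
    simp only [g_apply, map_mul]
    module
  · obtain ⟨w, rfl⟩ := (card_three c h).2.2 x
    obtain ⟨w', rfl⟩ := (card_three c h).2.2 y
    rw [e, e, T_g, T_g, b1, b2, b3]
    exact map_trp φ.toRingHom _ _ _ w w'
  · obtain ⟨w, rfl⟩ := (card_three c h).2.2 x
    rw [e, N_g, N_g, b1, b2, b3]
    exact map_nmp φ.toRingHom _ _ _ w

end H61.FSCN
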