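import Cfsg.Agent.H61.C6DK

/-! HKS tower, job G2a: subgroups of `PGL₂(q)` with a subgroup of index two. -/

set_option autoImplicit false

namespace H61.Hk

open Matrix MatrixGroups MulAction Cfsg.Geo Subgroup H61.C6

universe u

local notation "π" => ProjGenLinGroup.mk

theorem dih_sq {n : ℕ} [NeZero n] {a b : DihedralGroup n} (a4 : a * a * (a * a) = 1)
    (a2 : a * a ≠ 1) (b4 : b * b * (b * b) = 1) (b2 : b * b ≠ 1) : a * a = b * b := by
  have key : ∀ {a : DihedralGroup n}, a * a * (a * a) = 1 → a * a ≠ 1 →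
      ∃ i, a * a = DihedralGroup.r i ∧ 2 * i.val = n := fun {a} a4 a2 => by
    rcases a with i | i
    · refine ⟨i + i, rfl, ((ZMod.neg_eq_self_iff _).1 ?_).resolve_left fun e => a2 ?_⟩
      · exact neg_eq_of_add_eq_zero_left (DihedralGroup.r.inj a4)
      · exact congrArg DihedralGroup.r e
    · exact absurd (DihedralGroup.sr_mul_self i) a2
  obtain ⟨i, e1, e2⟩ := key a4 a2
  obtain ⟨j, e3, e4⟩ := key b4 b2
  rw [e1, e3, ZMod.val_injective n (show i.val = j.val by omega)]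

theorem alt_le {α : Type*} [Fintype α] [DecidableEq α] {M : Subgroup (Equiv.Perm α)}
    (h : ∀ g ∈ alternatingGroup α, g * g ∈ M) : alternatingGroup α ≤ M := by
  rw [← Equiv.Perm.closure_three_cycles_eq_alternating, closure_le]
  intro c hc
  have := h _ (Equiv.Perm.IsThreeCycle.isThreeCycle_sq hc).mem_alternatingGroup
  rwa [show c * c * (c * c) = c ^ 3 * c by simp only [pow_succ, pow_zero, one_mul, mul_assoc],
     ← Equiv.Perm.IsThreeCycle.orderOf hc,
    pow_orderOf_eq_one, one_mul] at this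

theorem a4_ord : ∀ s : Equiv.Perm (Fin 4), Equiv.Perm.sign s = 1 → s * s = 1 ∨ s * s * s = 1 := by
  decide +kernel

theorem a4_comm : ∀ s : Equiv.Perm (Fin 4), Equiv.Perm.sign s = 1 → s * s = 1 →
    ∀ t : Equiv.Perm (Fin 4), Equiv.Perm.sign t = 1 → t * t = 1 → s * t = t * s := by
  decide +kernel

variable {F : Type u} [Field F]

theorem pgl_idx2 [Finite F] (p : ℕ) [Fact p.Prime] [CharP F p] (p2 : p ≠ 2)
    {H M : Subgroup PGL(2, F)} (hM : M ≤ H) (sq : ∀ h ∈ H, h * h ∈ M) (ne : ¬ H ≤ M)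
    (nf : ∀ x : PL F, ¬ H ≤ stabilizer PGL(2, F) x) (pp : ∀ m ∈ M, m ^ p = 1 → m = 1) :
    ((∀ m ∈ M, m * m = 1 ∨ m * m * m = 1) ∧
      ∀ m ∈ M, m * m = 1 → ∀ m' ∈ M, m' * m' = 1 → m * m' = m' * m) ∨
    ∀ a ∈ H, ∀ b ∈ H, a * a * (a * a) = 1 → a * a ≠ 1 → b * b * (b * b) = 1 → b * b ≠ 1 →
      a * a = b * b := by
  obtain ⟨y, m⟩ := main_pgl (F := F) p
  have alt : ∀ {n : ℕ} (f : H →* Equiv.Perm (Fin n)), Function.Injective f →
      alternatingGroup (Fin n) ≤ f.range → alternatingGroup (Fin n) ≤ (M.subgroupOf H).map f :=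
    fun f _ hr => alt_le fun g hg => by
      obtain ⟨h, rfl⟩ := hr hg
      exact ⟨h * h, sq h h.2, map_mul _ _ _⟩
  have alt' : ∀ {n : ℕ}, (H ≃* alternatingGroup (Fin n)) → False := fun {n} e => ne fun h hh => by
    have inj : Function.Injective ((alternatingGroup (Fin n)).subtype.comp e.toMonoidHom) :=
      Subtype.val_injective.comp e.injective
    obtain ⟨k, hk, e'⟩ := alt _ inj (fun g hg => ⟨e.symm ⟨g, hg⟩, by simp⟩) (e ⟨h, hh⟩).2
    obtain rfl : k = ⟨h, hh⟩ := inj e'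
    exact hk
  rcases dickson_pgl p m H with ⟨a, -, ha⟩ | ⟨a, -, ha⟩ | ⟨x₁, x₂, -, -, -, ⟨e⟩⟩ | ⟨-, ⟨e⟩⟩ |
    ⟨-, ⟨e⟩⟩ | ⟨-, ⟨e⟩⟩ | ⟨k, γ, H₀, h0, h⟩
  · exact absurd ha (nf a)
  · exact absurd ha (nf a)
  · refine Or.inr fun a ha b hb a4 a2 b4 b2 => ?_
    have : NeZero (Nat.card ↥(H ⊓ tor PGL(2, F) x₁ x₂)) := ⟨Nat.card_pos.ne'⟩
    have t4 : ∀ {c} (hc : c ∈ H), c * c * (c * c) = 1 →
        e ⟨c, hc⟩ * e ⟨c, hc⟩ * (e ⟨c, hc⟩ * e ⟨c, hc⟩) = 1 := fun hc c4 => by
      rw [← map_mul, ← map_mul, map_eq_one_iff _ e.injective]; exact Subtype.ext c4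
    have t2 : ∀ {c} (hc : c ∈ H), c * c ≠ 1 → e ⟨c, hc⟩ * e ⟨c, hc⟩ ≠ 1 := fun hc c2 e' => by
      rw [← map_mul, map_eq_one_iff _ e.injective] at e'; exact c2 (congrArg Subtype.val e')
    have := dih_sq (t4 ha a4) (t2 ha a2) (t4 hb b4) (t2 hb b2)
    rw [← map_mul, ← map_mul] at this
    exact congrArg Subtype.val (e.injective this)
  · exact (alt' e).elim
  · have al := alt e.toMonoidHom e.injective fun g _ => e.surjective g
    have ev : ∀ m (hm : m ∈ M), Equiv.Perm.sign (e ⟨m, hM hm⟩) = 1 := fun m hm => by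
      by_contra hs
      refine ne fun h hh => ?_
      have key : ∀ g : H, Equiv.Perm.sign (e g) = 1 → (g : PGL(2, F)) ∈ M := fun g hg => by
        obtain ⟨k, hk, e'⟩ := al (Equiv.Perm.mem_alternatingGroup.2 hg)
        obtain rfl : k = g := e.injective e'
        exact hk
      rcases Int.units_eq_one_or (Equiv.Perm.sign (e ⟨h, hh⟩)) with h1 | h1
      · exact key _ h1
      · have := key (⟨h, hh⟩ * ⟨m, hM hm⟩) (by
          rw [map_mul, map_mul, h1, (Int.units_eq_one_or _).resolve_left hs]; rfl)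
        exact (mul_mem_cancel_right hm).1 this
    refine Or.inl ⟨fun m hm => (a4_ord _ (ev m hm)).imp (fun e' => ?_) fun e' => ?_,
      fun m hm m2 m' hm' m2' => ?_⟩
    · rw [← map_mul, map_eq_one_iff _ e.injective] at e'; exact congrArg Subtype.val e'
    · rw [← map_mul, ← map_mul, map_eq_one_iff _ e.injective] at e'; exact congrArg Subtype.val e'
    · have := a4_comm _ (ev m hm) (by
        rw [← map_mul, map_eq_one_iff _ e.injective]; exact Subtype.ext m2) _ (ev m' hm') (by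
        rw [← map_mul, map_eq_one_iff _ e.injective]; exact Subtype.ext m2')
      rw [← map_mul, ← map_mul] at this
      exact congrArg Subtype.val (e.injective this)
  · exact (alt' e).elim
  exfalso
  let s : SL(2, k) := ⟨!![1, 1; 0, 1], by simp [det_fin_two]⟩
  have h1 : SpecialLinearGroup.toPGL s ∈ H₀ := by
    rcases h0 with ⟨rfl, -⟩ | ⟨rfl, -⟩
    · trivial
    · exact ⟨s, rfl⟩
  have h2 : ProjGenLinGroup.map k.subtype (SpecialLinearGroup.toPGL s) ∈
      H.map (MulAut.conj γ⁻¹).toMonoidHom := h ▸ ⟨_, h1, rfl⟩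
  obtain ⟨f, hf, hf2⟩ := h2
  let B : GL (Fin 2) F := GeneralLinearGroup.map k.subtype (SpecialLinearGroup.toGL s)
  have hB1 : B.val = !![1, 1; 0, 1] := by
    ext i j
    fin_cases i <;> fin_cases j <;> rfl
  have hB : ∀ n : ℕ, (B ^ n).val = !![1, (n : F); 0, 1] := fun n => by
    induction n with
    | zero => simp [one_fin_two]
    | succ n ih =>
      rw [pow_succ, Units.val_mul, ih, hB1]
      simp [add_comm]
  have e1 : (MulAut.conj γ⁻¹) f = π B := hf2.trans (ProjGenLinGroup.map_mk _ _)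
  have e2 : f ^ p = 1 := by
    rw [← map_eq_one_iff _ (MulAut.conj γ⁻¹).injective, map_pow, e1, ← map_pow,
      show B ^ p = 1 from Units.ext (by rw [hB, CharP.cast_eq_zero]; simp [one_fin_two]), map_one]
  have e3 := pp _ (sq f hf) (by rw [← pow_two, ← pow_mul, mul_comm, pow_mul, e2, one_pow])
  have e4 : (π (B ^ 2) : PGL(2, F)) = 1 := by rw [map_pow, ← e1, ← map_pow, pow_two, e3, map_one]
  rw [C6.mk_eq_one, mem_scalars_iff, hB] at e4
  obtain ⟨c, hc⟩ := e4
  have e5 := congrFun (congrFun hc 0) 1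
  simp at e5
  exact p2 ((Nat.prime_dvd_prime_iff_eq Fact.out Nat.prime_two).1
    ((CharP.cast_eq_zero_iff F p 2).1 (by exact_mod_cast e5)))

/-- A group normalising an additively parametrised subgroup and commuting with enough scalars acts
linearly. -/
theorem exists_rep {G : Type*} [Group G] (Y : Subgroup G) (e : (Fin 2 → F) → G)
    (inj : Function.Injective e) (add : ∀ u w, e (u + w) = e u * e w)
    (hY : ∀ g ∈ Y, ∀ u, ∃ w, g * e u * g⁻¹ = e w)
    (hs : ∀ l : F, l ≠ 0 → ∃ τ, (∀ g ∈ Y, g * τ = τ * g) ∧ ∀ u, τ * e u * τ⁻¹ = e (l • u)) :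
    ∃ ρ : Y →* GL (Fin 2) F, ∀ (g : Y) u, g * e u * (g : G)⁻¹ = e ((ρ g).val *ᵥ u) := by
  choose f hf using hY
  have e0 : e 0 = 1 := by simpa using add 0 0
  let φ : Y → (Fin 2 → F) →ₗ[F] (Fin 2 → F) := fun g =>
    { toFun := f g g.2
      map_add' := fun u w => inj (by rw [add, ← hf, ← hf, ← hf, add, conj_mul])
      map_smul' := fun l u => inj (by
        by_cases hl : l = 0
        · rw [hl, zero_smul, ← hf, e0, map_zero, zero_smul, e0, mul_one, mul_inv_cancel]
        · obtain ⟨τ, h1, h2⟩ := hs l hl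
          rw [RingHom.id_apply, ← hf, ← h2, ← h2, ← hf]
          calc _ = (g * τ) * e u * ((g : G) * τ)⁻¹ := by group
            _ = _ := by rw [h1 g g.2]; group) }
  have hφ : ∀ (g : Y) u, g * e u * (g : G)⁻¹ = e (LinearMap.toMatrix' (φ g) *ᵥ u) := fun g u => by
    rw [LinearMap.toMatrix'_mulVec]; exact hf g g.2 u
  let ψ : Y →* Matrix (Fin 2) (Fin 2) F :=
    { toFun := fun g => LinearMap.toMatrix' (φ g)
      map_one' := Matrix.ext_iff_mulVec.2 fun u => inj (by rw [← hφ, one_mulVec]; simp)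
      map_mul' := fun g g' => Matrix.ext_iff_mulVec.2 fun u => inj (by
        rw [← mulVec_mulVec, ← hφ, ← hφ, ← hφ, coe_mul]; group) }
  exact ⟨ψ.toHomUnits, hφ⟩

end H61.Hk
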