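import Cfsg.Agent.H7.HKSSpec2
import Cfsg.Agent.H31.HKK2a
import Cfsg.Agent.H59.UField

/-! The two-point stabiliser has `2`-rank two at `k` (job HKS-IIr). -/

set_option autoImplicit false

namespace H61.Hk

open MulAction Cfsg Subgroup H89.K H65 H7.HKS H31.HK

universe u

section grp

variable {G : Type*} [Group G]

theorem conj_zpowers {g u : G} (h : u * g * u⁻¹ ∈ zpowers g) {w : G} (hw : w ∈ zpowers g) :
    u * w * u⁻¹ ∈ zpowers g := by
  obtain ⟨i, rfl⟩ := hw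
  exact conj_zpow (a := u) (b := g) (i := i) ▸ zpow_mem h i

theorem inv_zpowers {g s : G} (h : s * g * s⁻¹ = g⁻¹) {w : G} (hw : w ∈ zpowers g) :
    s * w * s⁻¹ = w⁻¹ := by
  obtain ⟨i, rfl⟩ := hw
  rw [← conj_zpow, h, inv_zpow]

theorem comm_zpowers {g v w : G} (hv : v ∈ zpowers g) (hw : w ∈ zpowers g) : v * w = w * v := by
  obtain ⟨i, rfl⟩ := hv
  obtain ⟨j, rfl⟩ := hw
  exact zpow_mul_comm g i j

/-- Two cyclic groups normalising each other and inverted by a common element. -/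
theorem pair_comm {g g' x y s : G} (hx : x ∈ zpowers g) (hy : y ∈ zpowers g')
    (h1 : y * g * y⁻¹ ∈ zpowers g) (h2 : x * g' * x⁻¹ ∈ zpowers g') (s1 : s * g * s⁻¹ = g⁻¹)
    (s2 : s * g' * s⁻¹ = g'⁻¹) : Commute x (y ^ 2) ∧ Commute (x ^ 2) y := by
  obtain ⟨c, hc⟩ : ∃ c, c = x * y * x⁻¹ * y⁻¹ := ⟨_, rfl⟩
  have c1 : c ∈ zpowers g := by
    rw [show c = x * (y * x⁻¹ * y⁻¹) by rw [hc]; group]
    exact mul_mem hx (conj_zpowers h1 (inv_mem hx))
  have c2 : c ∈ zpowers g' := hc ▸ mul_mem (conj_zpowers h2 hy) (inv_mem hy)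
  have cx : Commute c x := comm_zpowers c1 hx
  have cy : Commute c y := comm_zpowers c2 hy
  have e1 : s * c * s⁻¹ = (y * x)⁻¹ * c * (y * x) := by
    calc s * c * s⁻¹ = (s * x * s⁻¹) * (s * y * s⁻¹) * (s * x * s⁻¹)⁻¹ * (s * y * s⁻¹)⁻¹ := by
          rw [hc]; group
      _ = _ := by rw [inv_zpowers s1 hx, inv_zpowers s2 hy, hc]; group
  rw [inv_zpowers s1 c1, mul_assoc, (cy.mul_right cx).eq, inv_mul_cancel_left] at e1
  have e2 : c * c = 1 := by nth_rewrite 1 [← e1]; exact inv_mul_cancel c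
  have e3 : x * y = c * (y * x) := by rw [hc]; group
  constructor
  · calc x * y ^ 2 = x * y * y := by rw [sq, mul_assoc]
      _ = c * y * (x * y) := by nth_rewrite 1 [e3]; group
      _ = c * (y * c) * (y * x) := by rw [e3]; group
      _ = c * c * (y ^ 2 * x) := by rw [← cy.eq, sq]; group
      _ = _ := by rw [e2, one_mul]
  · calc x ^ 2 * y = x * (x * y) := by rw [sq, mul_assoc]
      _ = (x * c) * y * x := by rw [e3]; group
      _ = c * (x * y) * x := by rw [← cx.eq]; group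
      _ = c * c * (y * x ^ 2) := by rw [e3, sq]; group
      _ = _ := by rw [e2, one_mul]

end grp

variable {G Ω : Type u} [Group G] [Finite G] [MulAction G Ω] {U : Ω → Subgroup G} {a b : Ω}
  {t k g v : G}

omit [Finite G] in
theorem faith (h : Sp U) (hab : a ≠ b) (hg : g ∈ St G a b) (hc : ∀ u ∈ U a, g * u = u * g) :
    g = 1 := h.t2.faith g fun c => by
  by_cases e : c = a
  · exact e ▸ hg.1
  obtain ⟨u, hu, rfl⟩ := h.tr hab.symm e
  rw [← mul_smul, hc u hu, mul_smul, mem_stabilizer_iff.1 hg.2]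

theorem norm_CU (h : Sp U) {c : Ω} (hg : g • c = c) (hk : g * k = k * g) :
    g ∈ normalizer (CU U {k} c : Set G) :=
  mem_normalizer_fintype fun u hu => ⟨hg ▸ h.conj g c u hu.1, mem_centralizer_singleton_iff.2
    (((show Commute g k from hk).mul_left (mem_centralizer_singleton_iff.1 hu.2)).mul_left
      (Commute.inv_left hk))⟩

namespace II

variable (h : CII U a b t)
include h

omit [Finite G] in
theorem tc (hg : g ∈ St G a b) : g * t = t * g := (h.cent g).2 (Or.inl hg)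

omit [Finite G] in
theorem tt : t * t = 1 := by rw [← sq, ← h.ord, pow_orderOf_eq_one]

omit [Finite G] in
theorem t_ne : t ≠ 1 := fun e => by simpa [e] using h.ord

omit [Finite G] in
theorem comm {u w : G} (hu : u ∈ U a) (hw : w ∈ U a) : u * w = w * u := by
  have h1 := h.inv _ (mul_mem hu hw)
  rw [show t * (u * w) * t = t * u * (t * t) * w * t by rw [tt h]; group,
    show t * u * (t * t) * w * t = (t * u * t) * (t * w * t) by group, h.inv u hu, h.inv w hw,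
    ← mul_inv_rev, inv_inj] at h1
  exact h1.symm

omit [Finite G] in
theorem eq_one {u : G} (hu : u ∈ U a) (e : u * t = t * u) : u = 1 :=
  mem_bot.1 (h.cu ▸ (⟨hu, mem_centralizer_singleton_iff.2 e⟩ : u ∈ CU U {t} a))

theorem same (hk : k ∈ St G a b) (k2 : k * k = 1)
    (dec : ∀ u ∈ U a, ∃ u₁ ∈ CU U {k} a, ∃ u₂ ∈ CU U {k * t} a, u = u₁ * u₂) (hv : v ∈ St G a b)
    (v2 : v * v = 1) (vk : v * k = k * v) (hle : CU U {k} a ≤ CU U {v} a)
    (hc : Nat.card (CU U {k} a) = Nat.card (CU U {v} a)) : v = k := by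
  have e := eq_of_le_of_card_ge hle hc.ge
  have vi : v⁻¹ = v := inv_eq_of_mul_eq_one_left v2
  have key : ∀ w ∈ St G a b, w * w = 1 → w * k = k * w → CU U {w} a ≤ CU U {k} a →
      ∀ u ∈ CU U {k * t} a, w * u * w⁻¹ = u⁻¹ := by
    intro w hw w2 wk hl u hu
    have h1 := (mem_normalizer_iff.1 (norm_CU h.toSp (k := k * t) hw.1
      ((show Commute w k from wk).mul_right (tc h hw))) u).1 hu
    have h2 : w * u * w⁻¹ * u ∈ CU U {w} a := ⟨mul_mem h1.1 hu.1, mem_centralizer_singleton_iff.2 (by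
      nth_rewrite 1 [comm h h1.1 hu.1]
      rw [inv_eq_of_mul_eq_one_left w2]
      calc u * (w * u * w) * w = u * w * u * (w * w) := by group
        _ = w * w * (u * w * u) := by rw [w2]; group
        _ = w * (w * u * w * u) := by group)⟩
    have h3 := mem_centralizer_singleton_iff.1 (hl h2).2
    have h4 := mem_centralizer_singleton_iff.1 (mul_mem h1 hu).2
    refine eq_inv_of_mul_eq_one_left (eq_one h h2.1 (mul_left_cancel (a := k) ?_))
    rw [← mul_assoc, ← h3, mul_assoc _ k, h4, mul_assoc]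
  have := faith h.toSp h.ne (mul_mem (inv_mem hk) hv) fun u hu => by
    obtain ⟨u₁, h1, u₂, h2, rfl⟩ := dec u hu
    refine Commute.mul_right ?_ ?_
    · exact ((show Commute u₁ k from mem_centralizer_singleton_iff.1 h1.2).inv_right.mul_right
        (mem_centralizer_singleton_iff.1 (hle h1).2)).symm
    · have h3 := (key v hv v2 vk e.ge u₂ h2).trans (key k hk k2 rfl le_rfl u₂ h2).symm
      calc k⁻¹ * v * u₂ = k⁻¹ * (v * u₂ * v⁻¹) * v := by group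
        _ = _ := by rw [h3]; group
  exact (inv_mul_eq_one.1 this).symm

theorem aut {F : Type} [Field F] [Fintype F] {x y : F → G}
    (hL : LD x y (CU U {k} a) (CU U {k} b) a b) (hv : v ∈ St G a b) (v2 : v * v = 1)
    (vk : v * k = k * v) (h1 : ¬ CU U {k} a ≤ CU U {v} a) (h2 : ¬ CU U {k} a ≤ CU U {v * t} a) :
    ∃ (r : ℕ) (l : F), Fintype.card F = r ^ 2 ∧ l * l ^ r = 1 ∧
      (∀ c, v * x c * v⁻¹ = x (l * c ^ r)) ∧ ∃ c, c ≠ 0 ∧ l * c ^ r = c := by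
  have C : Cx U x y _ _ a b := ⟨h.toRg.sr, h.ne, inf_le_left, inf_le_left, hL⟩
  obtain ⟨l, σ, -, e, -⟩ := C.semi hv (norm_CU h.toSp hv.1 vk) (norm_CU h.toSp hv.2 vk)
  have e1 : ∀ c, l * σ (l * σ c) = c := fun c => hL.inj (by
    rw [← e, ← e, show v * (v * x c * v⁻¹) * v⁻¹ = (v * v) * x c * (v * v)⁻¹ by group, v2]
    group)
  have e2 : l * σ l = 1 := by simpa using e1 1
  have e3 : ∀ c, σ (σ c) = c := fun c => by
    have := e1 c
    rwa [map_mul, ← mul_assoc, e2, one_mul] at this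
  have e4 : ¬ ∀ c, σ c = c := fun e4 => by
    rw [e4] at e2
    rcases mul_self_eq_one_iff.1 e2 with rfl | rfl
    · refine h1 fun u hu => ⟨hu.1, mem_centralizer_singleton_iff.2 ?_⟩
      obtain ⟨c, rfl⟩ := (hL.rx u).1 hu
      exact (mul_inv_eq_iff_eq_mul.1 (by rw [e, e4, one_mul])).symm
    · refine h2 fun u hu => ⟨hu.1, mem_centralizer_singleton_iff.2 ?_⟩
      obtain ⟨c, rfl⟩ := (hL.rx u).1 hu
      have e5 := e (-c)
      rw [x_neg hL.rel, ← h.inv _ hu.1, e4, neg_mul_neg, one_mul] at e5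
      calc x c * (v * t) = v * (t * x c * t) * v⁻¹ * (v * t) := by rw [e5]
        _ = v * t * x c * (t * t) := by group
        _ = _ := by rw [tt h, mul_one]
  obtain ⟨r, hF, hr⟩ := H59.exists_card_eq_sq (σ := (σ : F →+* F))
    (fun e => e4 fun c => congrArg (fun τ : F →+* F => τ c) e) e3
  have hr' : ∀ c, σ c = c ^ r := fun c => congrArg (fun τ : F →+* F => τ c) hr
  refine ⟨r, l, hF, hr' l ▸ e2, fun c => hr' c ▸ e c, ?_⟩
  by_contra! hn
  have e5 : ∀ d, d + l * σ d = 0 := fun d => by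
    by_contra e5
    exact hn _ e5 (by rw [← hr', map_add, mul_add, e1, add_comm])
  have e6 : l = -1 := by have := e5 1; rw [map_one] at this; linear_combination this
  exact e4 fun c => by have := e5 c; rw [e6] at this; linear_combination -this

variable {q : ℕ} {F₁ F₂ : Type} [Field F₁] [Fintype F₁] [Field F₂] [Fintype F₂] {x₁ y₁ : F₁ → G}
  {x₂ y₂ : F₂ → G} {θ₁ : F₁} {θ₂ : F₂} (D : CK U a b t k g q x₁ y₁ x₂ y₂ θ₁ θ₂)
include D

omit [Finite G] in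
theorem cx₁ : Cx U x₁ y₁ (CU U {k} a) (CU U {k} b) a b :=
  ⟨h.toRg.sr, h.ne, inf_le_left, inf_le_left, D.ld₁⟩

omit [Finite G] in
theorem cx₂ : Cx U x₂ y₂ (CU U {k * t} a) (CU U {k * t} b) a b :=
  ⟨h.toRg.sr, h.ne, inf_le_left, inf_le_left, D.ld₂⟩

omit [Finite G] in
theorem card₁ : Nat.card (CU U {k} a) = q := by
  rw [(cx₁ h D).card_A, Nat.card_eq_fintype_card, D.c₁]

omit [Finite G] in
theorem card₂ : Nat.card (CU U {k * t} a) = q := by
  rw [(cx₂ h D).card_A, Nat.card_eq_fintype_card, D.c₂]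

omit [Finite G] in
theorem norm_g {u : G} (hu : u ∈ St G a b) (uk : u * k * u⁻¹ = k ∨ u * k * u⁻¹ = k * t) :
    u * g * u⁻¹ ∈ zpowers g := by
  have key : ∀ i : ℕ, ∃ j : ℕ, u * (sl2n x₁ y₁ 1 * g ^ i) * u⁻¹ = sl2n x₁ y₁ 1 * g ^ j := fun i => by
    obtain ⟨⟨h1, h2⟩, h3⟩ := (D.js _).2 ⟨i, rfl⟩
    set w := sl2n x₁ y₁ 1 * g ^ i
    have h4 : Sw (u * w * u⁻¹) a b := by
      have h5 := (H89.K.conj_smul_eq (g := u)).2 h2.1
      have h6 := (H89.K.conj_smul_eq (g := u)).2 h2.2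
      rw [mem_stabilizer_iff.1 hu.1, mem_stabilizer_iff.1 hu.2] at h5 h6
      exact ⟨h5, h6⟩
    refine (D.js _).1 ⟨⟨h1.trans (isConj_iff.2 ⟨u, rfl⟩), h4⟩, ?_⟩
    have h5 : Commute (u * w * u⁻¹) (u * k * u⁻¹) := by
      rw [Commute, SemiconjBy, conj_mul, conj_mul, h3]
    rcases uk with e | e
    · rwa [e] at h5
    · have h6 := h5.mul_right ((h.cent _).2 (Or.inr h4))
      rwa [e, mul_assoc k, tt h, mul_one] at h6
  obtain ⟨i, hi⟩ := key 0
  obtain ⟨j, hj⟩ := key 1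
  rw [show u * g * u⁻¹ = (u * (sl2n x₁ y₁ 1 * g ^ 0) * u⁻¹)⁻¹ * (u * (sl2n x₁ y₁ 1 * g ^ 1) * u⁻¹) by
    group, hi, hj, mul_inv_rev, mul_assoc, inv_mul_cancel_left]
  exact mul_mem (inv_mem (npow_mem_zpowers g i)) (npow_mem_zpowers g j)

omit h [Finite G] in
theorem inv_g {c : F₁} (hc : c ≠ 0) : sl2n x₁ y₁ c * g * (sl2n x₁ y₁ c)⁻¹ = g⁻¹ := by
  obtain ⟨i, hi⟩ := (D.n₁ _).1 ⟨c, hc, rfl⟩
  rw [hi, ← D.inv]
  group

theorem frob (hk : k ∈ St G a b) (k2 : k * k = 1) (hv : v ∈ St G a b) (v2 : v * v = 1)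
    (vk : v * k = k * v) (n1 : v ≠ k) (n2 : v ≠ k * t) (c1 : Nat.card (CU U {v} a) = q)
    (c2 : Nat.card (CU U {v * t} a) = q) : ∃ (r : ℕ) (l : F₁), q = r ^ 2 ∧
      (∀ c, v * x₁ c * v⁻¹ = x₁ (l * c ^ r)) ∧ (∃ c, c ≠ 0 ∧ l * c ^ r = c) ∧ v * g * v⁻¹ = g ^ r := by
  have ct : ∀ w ∈ St G a b, w * w = 1 → w * t * (w * t) = 1 := fun w hw w2 => by
    rw [mul_assoc, ← mul_assoc t, ← tc h hw, mul_assoc, tt h, mul_one, w2]
  have dec : ∀ u ∈ U a, ∃ u₁ ∈ CU U {k} a, ∃ u₂ ∈ CU U {k * t} a, u = u₁ * u₂ := fun u hu => by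
    obtain ⟨c, d, e⟩ := D.dec u hu
    exact ⟨_, (cx₁ h D).xA c, _, (cx₂ h D).xA d, e⟩
  have dec' : ∀ u ∈ U a, ∃ u₁ ∈ CU U {k * t} a, ∃ u₂ ∈ CU U {k * t * t} a, u = u₁ * u₂ :=
    fun u hu => by
      obtain ⟨u₁, h1, u₂, h2, e⟩ := dec u hu
      rw [mul_assoc, tt h, mul_one]
      exact ⟨u₂, h2, u₁, h1, e.trans (comm h h1.1 h2.1)⟩
  have vk' : Commute v k := vk
  have vt : Commute v t := tc h hv
  have tk : Commute t k := (tc h hk).symm
  have hvt := mul_mem hv h.st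
  have hkt := mul_mem hk h.st
  obtain ⟨r, l, e1, e2, e3, e4⟩ := aut h D.ld₁ hv v2 vk
    (fun e => n1 (same h hk k2 dec hv v2 vk e ((card₁ h D).trans c1.symm)))
    (fun e => n2 (by
      rw [← same h hk k2 dec hvt (ct v hv v2) (vk'.mul_left tk) e ((card₁ h D).trans c2.symm),
        mul_assoc, tt h, mul_one]))
  obtain ⟨r', l', e1', e2', e3', -⟩ := aut h D.ld₂ hv v2 (vk'.mul_right vt)
    (fun e => n2 (same h hkt (ct k hk k2) dec' hv v2 (vk'.mul_right vt) e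
      ((card₂ h D).trans c1.symm)))
    (fun e => n1 (mul_right_cancel (same h hkt (ct k hk k2) dec' hvt (ct v hv v2)
      ((vk'.mul_left tk).mul_right (vt.mul_left (Commute.refl t))) e ((card₂ h D).trans c2.symm))))
  obtain rfl : r = r' := Nat.pow_left_injective two_ne_zero
    (e1.symm.trans (D.c₁.trans (D.c₂.symm.trans e1')))
  refine ⟨r, l, D.c₁.symm.trans e1, e3, e4, ?_⟩
  have key : ∀ {F : Type} [Field F] [Fintype F] {x : F → G} {l θ : F}, Fintype.card F = r ^ 2 →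
      l * l ^ r = 1 → (∀ c, v * x c * v⁻¹ = x (l * c ^ r)) → (∀ c, g * x c * g⁻¹ = x (θ * c)) →
      ∀ c, Commute ((g ^ r)⁻¹ * (v * g * v⁻¹)) (x c) := by
    intro F _ _ x l θ f1 f2 f3 f4 c
    have f5 : ∀ n : ℕ, g ^ n * x c * (g ^ n)⁻¹ = x (θ ^ n * c) := fun n => by
      induction n with
      | zero => simp
      | succ n ih => rw [pow_succ', pow_succ', mul_assoc θ, ← f4, ← ih]; group
    have f6 : v * g * v⁻¹ * x c * (v * g * v⁻¹)⁻¹ = x (θ ^ r * c) := by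
      calc v * g * v⁻¹ * x c * (v * g * v⁻¹)⁻¹ = v * (g * (v⁻¹ * x c * v⁻¹⁻¹) * g⁻¹) * v⁻¹ := by group
        _ = x (l * (θ * (l * c ^ r)) ^ r) := by
          rw [inv_eq_of_mul_eq_one_left v2, ← f3, ← f4, ← f3, inv_eq_of_mul_eq_one_left v2]
        _ = _ := by
          rw [mul_pow, mul_pow, ← pow_mul, ← sq, ← f1, FiniteField.pow_card]
          congr 1
          linear_combination θ ^ r * c * f2
    rw [← f5] at f6
    calc (g ^ r)⁻¹ * (v * g * v⁻¹) * x c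
        = (g ^ r)⁻¹ * (v * g * v⁻¹ * x c * (v * g * v⁻¹)⁻¹) * (v * g * v⁻¹) := by group
      _ = _ := by rw [f6]; group
  have := faith h.toSp h.ne (mul_mem (inv_mem (pow_mem D.gst r))
    (mul_mem (mul_mem hv D.gst) (inv_mem hv))) fun u hu => by
      obtain ⟨c, d, rfl⟩ := D.dec u hu
      exact (key e1 e2 e3 D.a₁ c).mul_right (key e1' e2' e3' D.a₂ d)
  exact (inv_mul_eq_one.1 this).symm

omit h [Finite G] in
theorem half {m : ℕ} (hq : q = (2 * m + 1) ^ 2) (e : v * g * v⁻¹ = g ^ (2 * m + 1))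
    (v2 : v * v = 1) : g ^ (m + 1) * v * (g ^ (m + 1))⁻¹ = v * t ∧ ((g ^ (m + 1)) ^ 2) ^ m = t := by
  have h1 : g ^ (2 * m * (m + 1)) = t := by
    rw [← D.half, hq, show (2 * m + 1) ^ 2 - 1 = 2 * (2 * m * (m + 1)) from
      Nat.sub_eq_of_eq_add (by ring), Nat.mul_div_cancel_left _ two_pos]
  refine ⟨?_, by rw [← h1, ← pow_mul, ← pow_mul]; congr 1; ring⟩
  have h2 : v * g ^ (m + 1) * v⁻¹ = t * g ^ (m + 1) := by
    rw [← conj_pow, e, ← h1, ← pow_mul, ← pow_add]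
    congr 1
    ring
  rw [inv_eq_of_mul_eq_one_left v2] at h2
  calc g ^ (m + 1) * v * (g ^ (m + 1))⁻¹ = v * v * g ^ (m + 1) * v * (g ^ (m + 1))⁻¹ := by
        rw [v2, one_mul]
    _ = v * (v * g ^ (m + 1) * v) * (g ^ (m + 1))⁻¹ := by group
    _ = _ := by rw [h2]; group

end II

open II in
theorem jobIIr : JobIIr.{u} := by
  intro G Ω _ _ _ U a b t h hC k hk ok kt v hv v2 vk
  by_contra! hn
  obtain ⟨n1, n2, n3, n4⟩ := hn
  have : Fact (Nat.Prime 2) := ⟨Nat.prime_two⟩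
  have k2 : k * k = 1 := by rw [← sq, ← ok, pow_orderOf_eq_one]
  have k1 : k ≠ 1 := fun e => by simp [e] at ok
  have w2 : k * v * (k * v) = 1 := by rw [mul_assoc, ← mul_assoc v, vk, mul_assoc, v2, mul_one, k2]
  have ki : ∀ {x y : G}, k * x = y → x = k * y := fun e => by rw [← e, ← mul_assoc, k2, one_mul]
  have hw := mul_mem hk hv
  obtain ⟨g, q, F₁, F₂, _, _, _, _, x₁, y₁, x₂, y₂, θ₁, θ₂, D⟩ := hC k hk ok kt
  obtain ⟨g', q', F₁', F₂', _, _, _, _, x₁', y₁', x₂', y₂', θ₁', θ₂', D'⟩ :=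
    hC v hv (orderOf_eq_prime (by rw [sq, v2]) n1) n2
  obtain ⟨g'', q'', F₁'', F₂'', _, _, _, _, x₁'', y₁'', x₂'', y₂'', θ₁'', θ₂'', D''⟩ :=
    hC (k * v) hw (orderOf_eq_prime (by rw [sq, w2]) fun e => n3 (by rw [ki e, mul_one]))
      fun e => n4 (ki e)
  obtain rfl : q = q' := Nat.pow_left_injective two_ne_zero (D.cardU.symm.trans D'.cardU)
  obtain rfl : q = q'' := Nat.pow_left_injective two_ne_zero (D.cardU.symm.trans D''.cardU)
  obtain ⟨r, l, e1, e2, ⟨c₀, c0, e3⟩, e4⟩ :=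
    frob h D hk k2 hv v2 vk n3 n4 (card₁ h D') (card₂ h D')
  obtain ⟨r', -, e1', -, -, e4'⟩ := frob h D' hv v2 hk k2 vk.symm n3.symm
    (fun e => n4 (by rw [e, mul_assoc, tt h, mul_one])) (card₁ h D) (card₂ h D)
  obtain ⟨r'', -, e1'', -, -, e4''⟩ := frob h D'' hw w2 hk k2 (by rw [mul_assoc k v, vk])
    (fun e => n1 (by simpa using e))
    (fun e => n2 (mul_eq_one_iff_eq_inv.1 (by simpa [mul_assoc] using e) |>.trans
      (inv_eq_of_mul_eq_one_left (tt h)))) (card₁ h D) (card₂ h D)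
  obtain rfl : r = r' := Nat.pow_left_injective two_ne_zero (e1.symm.trans e1')
  obtain rfl : r = r'' := Nat.pow_left_injective two_ne_zero (e1.symm.trans e1'')
  obtain ⟨m, rfl⟩ : Odd r := by
    refine Nat.not_even_iff_odd.1 fun e => ?_
    have h1 := D.mod
    obtain ⟨j, hj⟩ := e1 ▸ e.pow_of_ne_zero two_ne_zero
    omega
  obtain ⟨a1, a2⟩ := half D e1 e4 v2
  obtain ⟨b1, b2⟩ := half D' e1 e4' k2
  obtain ⟨c1, c2⟩ := half D'' e1 e4'' k2
  have ma := npow_mem_zpowers g (m + 1)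
  have mb := npow_mem_zpowers g' (m + 1)
  have mc := npow_mem_zpowers g'' (m + 1)
  have sa := pow_mem D.gst (m + 1)
  have sb := pow_mem D'.gst (m + 1)
  have sc := pow_mem D''.gst (m + 1)
  have a3 : g ^ (m + 1) * k * (g ^ (m + 1))⁻¹ = k :=
    mul_inv_eq_iff_eq_mul.2 (Commute.pow_left D.gk _)
  have b3 : g' ^ (m + 1) * v * (g' ^ (m + 1))⁻¹ = v :=
    mul_inv_eq_iff_eq_mul.2 (Commute.pow_left D'.gk _)
  have c3 : g'' ^ (m + 1) * (k * v) * (g'' ^ (m + 1))⁻¹ = k * v :=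
    mul_inv_eq_iff_eq_mul.2 (Commute.pow_left D''.gk _)
  generalize g ^ (m + 1) = A at *
  generalize g' ^ (m + 1) = B at *
  generalize g'' ^ (m + 1) = C at *
  have ct : ∀ {u : G}, u ∈ St G a b → u * t * u⁻¹ = t := fun hu => mul_inv_eq_iff_eq_mul.2 (tc h hu)
  have c4 : C * v * C⁻¹ = v * t := by
    rw [← conj_mul, c1, mul_assoc, mul_right_inj] at c3
    rw [tc h hv, eq_inv_mul_of_mul_eq c3, inv_eq_of_mul_eq_one_left (tt h)]
  have a4 : A * (k * v) * A⁻¹ = k * v * t := by rw [← conj_mul, a3, a1, mul_assoc]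
  have b4 : B * (k * v) * B⁻¹ = k * v * t := by rw [← conj_mul, b3, b1, mul_assoc, ← tc h hv, mul_assoc]
  have xv : v * x₁ c₀ * v⁻¹ = x₁ c₀ := by rw [e2, e3]
  have xk := (cx₁ h D).xA c₀
  have inv : ∀ {z g : G} {F₁ F₂ : Type} [Field F₁] [Fintype F₁] [Field F₂] [Fintype F₂]
      {x y : F₁ → G} {x₂ y₂ : F₂ → G} {θ₁ : F₁} {θ₂ : F₂}, CK U a b t z g q x y x₂ y₂ θ₁ θ₂ →
      x₁ c₀ * z = z * x₁ c₀ → sl2n x₁ y₁ c₀ * g * (sl2n x₁ y₁ c₀)⁻¹ = g⁻¹ := by
    intro z g F₁ F₂ _ _ _ _ x y x₂ y₂ θ₁ θ₂ E e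
    obtain ⟨c, hc⟩ := (E.ld₁.rx _).1 ⟨xk.1, mem_centralizer_singleton_iff.2 e⟩
    rw [(cx₁ h D).mu (cx₁ h E) c0 hc.symm]
    refine inv_g E fun e => c0 (D.ld₁.inj ?_)
    rw [← hc, e, E.ld₁.rel.x_zero, D.ld₁.rel.x_zero]
  have xk' : Commute (x₁ c₀) k := mem_centralizer_singleton_iff.1 xk.2
  have xv' : Commute (x₁ c₀) v := (mul_inv_eq_iff_eq_mul.1 xv).symm
  have s1 := inv D xk'
  have s2 := inv D' xv'
  have s3 := inv D'' (xk'.mul_right xv')
  obtain ⟨p1, p2⟩ := pair_comm ma mb (norm_g h D sb (Or.inr b1)) (norm_g h D' sa (Or.inr a1)) s1 s2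
  obtain ⟨p3, -⟩ := pair_comm ma mc (norm_g h D sc (Or.inr c1)) (norm_g h D'' sa (Or.inr a4)) s1 s3
  obtain ⟨p4, -⟩ := pair_comm mb mc (norm_g h D' sc (Or.inr c4)) (norm_g h D'' sb (Or.inr b4)) s2 s3
  have cj : ∀ z : G, A * B * C * z * (A * B * C)⁻¹ = A * (B * (C * z * C⁻¹) * B⁻¹) * A⁻¹ :=
    fun z => by group
  have πk : A * B * C * k = k * (A * B * C) := mul_inv_eq_iff_eq_mul.1 (by
    rw [cj, c1, ← conj_mul (b := B), b1, ct sb, mul_assoc k, tt h, mul_one, a3])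
  have πv : A * B * C * v = v * (A * B * C) := mul_inv_eq_iff_eq_mul.1 (by
    rw [cj, c4, ← conj_mul (b := B), b3, ct sb, ← conj_mul, a1, ct sa, mul_assoc, tt h, mul_one])
  have sπ := mul_mem (mul_mem sa sb) sc
  obtain ⟨μ, τ, μ0, f1, -, f2, -⟩ := (cx₁ h D).semi sπ (norm_CU h.toSp sπ.1 πk)
    (norm_CU h.toSp sπ.2 πk)
  have d0 : μ * τ c₀ ≠ 0 := mul_ne_zero μ0 ((map_ne_zero τ).2 c0)
  have f3 : l * (μ * τ c₀) ^ (2 * m + 1) = μ * τ c₀ := D.ld₁.inj (by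
    rw [← e2, ← f1, mul_inv_eq_iff_eq_mul]
    exact (((show Commute (A * B * C) v from πv).mul_left xv').mul_left
      (Commute.inv_left πv)).symm)
  have f4 : sl2h x₁ y₁ (μ * τ c₀ / c₀) = A ^ 2 * B ^ 2 * C ^ 2 := by
    rw [← n_n D.ld₁.rel d0 c0, ← f2 c₀ c0, D.ld₁.rel.n_neg]
    set s := sl2n x₁ y₁ c₀
    calc A * B * C * s * (A * B * C)⁻¹ * s⁻¹
        = A * B * C * ((s * A * s⁻¹) * (s * B * s⁻¹) * (s * C * s⁻¹))⁻¹ := by group
      _ = A * (B * C ^ 2 * B) * A := by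
        rw [inv_zpowers s1 ma, inv_zpowers s2 mb, inv_zpowers s3 mc, sq]; group
      _ = A * (B ^ 2 * C ^ 2 * A) := by rw [mul_assoc B, ← p4.eq, sq B]; group
      _ = _ := by rw [← (p1.mul_right p3).eq, sq A]; group
  set ρ := μ * τ c₀ / c₀
  have ρ0 : ρ ≠ 0 := div_ne_zero d0 c0
  have f5 : ρ ^ m * ρ ^ m = 1 := mul_right_cancel₀ ρ0 (by
    have l0 : l ≠ 0 := fun e => c0 (by rw [← e3, e, zero_mul])
    rw [← pow_add, ← pow_succ, ← two_mul, one_mul, div_pow, ← mul_div_mul_left _ _ l0, f3, e3])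
  have f6 : ∀ n : ℕ, sl2h x₁ y₁ ρ ^ n = sl2h x₁ y₁ (ρ ^ n) := fun n => by
    induction n with
    | zero => rw [pow_zero, pow_zero, D.ld₁.rel.h_one]
    | succ n ih => rw [pow_succ, pow_succ, ih, D.ld₁.rel.h_mul' (pow_ne_zero n ρ0) ρ0]
  have f7 := f6 m
  rw [f4, ((p3.pow_left 2).mul_left (p4.pow_left 2)).mul_pow, (p2.pow_right 2).mul_pow, a2, b2, c2,
    tt h, one_mul] at f7
  rcases mul_self_eq_one_iff.1 f5 with e | e
  · exact t_ne h (by rw [f7, e, D.ld₁.rel.h_one])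
  · exact t_ne h (by rw [f7, e, D.psl₁])

end H61.Hk
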