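import Cfsg.Agent.H63.KgvSpec

/-! Tower KGV, job PW1: power sums through the logarithmic derivative. -/

set_option autoImplicit false

namespace H61.KgvPW1

open Polynomial H63.Kgv

variable {F : Type} [Field F]

theorem cc {f : F[X]} (hf : f.Monic) :
    PowerSeries.constantCoeff ((f.reverse : F[X]) : PowerSeries F) = 1 := by
  rw [Polynomial.constantCoeff_coe, coeff_zero_reverse, hf.leadingCoeff]

theorem mi {f : F[X]} (hf : f.Monic) :
    ((f.reverse : F[X]) : PowerSeries F) * ((f.reverse : F[X]) : PowerSeries F)⁻¹ = 1 :=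
  PowerSeries.mul_inv_cancel _ (by rw [cc hf]; exact one_ne_zero)

theorem ci {f : F[X]} (hf : f.Monic) :
    PowerSeries.constantCoeff ((f.reverse : F[X]) : PowerSeries F)⁻¹ = 1 := by
  rw [PowerSeries.constantCoeff_inv, cc hf, inv_one]

theorem pw_mul (r : ℕ) (f g : F[X]) (hf : f.Monic) (hg : g.Monic) :
    pw r (f * g) = pw r f + pw r g := by
  unfold pw
  rw [← map_add, reverse_mul_of_domain, derivative_mul, Polynomial.coe_add, Polynomial.coe_mul,
    Polynomial.coe_mul, Polynomial.coe_mul, PowerSeries.mul_inv_rev]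
  congr 1
  have a := mi hf
  have b := mi hg
  generalize ((f.reverse : F[X]) : PowerSeries F)⁻¹ = A' at *
  generalize ((g.reverse : F[X]) : PowerSeries F)⁻¹ = B' at *
  linear_combination (-(PowerSeries.X * ((derivative f.reverse : F[X]) : PowerSeries F)) * A') * b +
    (-(PowerSeries.X * ((derivative g.reverse : F[X]) : PowerSeries F)) * B') * a

theorem pw_one (r : ℕ) : pw r (1 : F[X]) = 0 := by
  have := pw_mul r (1 : F[X]) 1 monic_one monic_one
  rw [mul_one] at this
  linear_combination -this

theorem pw_add_C (r : ℕ) (f : F[X]) (c : F) (hr : 0 < r) (hf : f.Monic) (hd : f.natDegree = r) :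
    pw r (f + C c) = pw r f - r * c := by
  have hf' : (f + C c).Monic := hf.add_of_left (lt_of_le_of_lt degree_C_le
    (natDegree_pos_iff_degree_pos.1 (by omega)))
  have a := mi hf
  have b := mi hf'
  have b0 := ci hf'
  unfold pw
  obtain ⟨s, rfl⟩ : ∃ s, r = s + 1 := ⟨r - 1, by omega⟩
  rw [reverse_add_C, hd] at b b0 ⊢
  have e : -(PowerSeries.X * ((derivative (f.reverse + C c * X ^ (s + 1)) : F[X]) : PowerSeries F)) *
      ((f.reverse + C c * X ^ (s + 1) : F[X]) : PowerSeries F)⁻¹ =
      -(PowerSeries.X * ((derivative f.reverse : F[X]) : PowerSeries F)) *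
        ((f.reverse : F[X]) : PowerSeries F)⁻¹ -
      PowerSeries.X ^ (s + 1) * (PowerSeries.C (((s + 1 : ℕ) : F) * c) *
        ((f.reverse + C c * X ^ (s + 1) : F[X]) : PowerSeries F)⁻¹) +
      PowerSeries.X ^ (s + 2) * (PowerSeries.C c * ((derivative f.reverse : F[X]) : PowerSeries F) *
        ((f.reverse : F[X]) : PowerSeries F)⁻¹ *
        ((f.reverse + C c * X ^ (s + 1) : F[X]) : PowerSeries F)⁻¹) := by
    generalize ((f.reverse + C c * X ^ (s + 1) : F[X]) : PowerSeries F)⁻¹ = B' at *
    generalize ((f.reverse : F[X]) : PowerSeries F)⁻¹ = A' at *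
    simp only [derivative_add, derivative_C_mul_X_pow, Polynomial.coe_add, Polynomial.coe_mul,
      Polynomial.coe_C, Polynomial.coe_pow, Polynomial.coe_X, map_mul, Nat.add_sub_cancel] at b ⊢
    linear_combination
      (PowerSeries.X * ((derivative f.reverse : F[X]) : PowerSeries F) * B') * a -
      (PowerSeries.X * ((derivative f.reverse : F[X]) : PowerSeries F) * A') * b
  rw [e, map_add, map_sub, PowerSeries.coeff_X_pow_mul', PowerSeries.coeff_X_pow_mul',
    if_pos le_rfl, if_neg (by omega), Nat.sub_self, PowerSeries.coeff_zero_eq_constantCoeff_apply,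
    map_mul PowerSeries.constantCoeff, b0, PowerSeries.constantCoeff_C, mul_one, add_zero]

theorem job : JPW1 := by
  intro F _
  refine ⟨pw_mul, fun ψ χ r => ⟨?_, fun f g hf hg => ?_⟩, pw_add_C, fun f hf => ?_, fun r a hr => ?_⟩
  · simp [lam, pw_one]
  · unfold lam
    rw [pw_mul r f g hf hg, AddChar.map_add_eq_mul, hf.natDegree_mul hg, mul_coeff_zero,
      show (-1 : F) ^ (f.natDegree + g.natDegree) * (f.coeff 0 * g.coeff 0) =
        (-1) ^ f.natDegree * f.coeff 0 * ((-1) ^ g.natDegree * g.coeff 0) by ring, map_mul χ]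
    ring
  · unfold pw
    rw [neg_mul, map_neg, mul_assoc, PowerSeries.coeff_succ_X_mul,
      PowerSeries.coeff_zero_eq_constantCoeff_apply, map_mul, ci hf, mul_one,
      Polynomial.constantCoeff_coe, coeff_derivative, coeff_one_reverse]
    simp
  · obtain ⟨s, rfl⟩ : ∃ s, r = s + 1 := ⟨r - 1, by omega⟩
    have e : (X - C a : F[X]).reverse = 1 - C a * X := by
      rw [sub_eq_add_neg, ← C_neg, reverse_add_C, natDegree_X, pow_one, C_neg, neg_mul,
        ← sub_eq_add_neg]
      congr 1
      have := reverse_X_mul (1 : F[X])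
      rw [mul_one, ← C_1, reverse_C] at this
      rw [this, C_1]
    have i : (((1 - C a * X : F[X]) : F[X]) : PowerSeries F)⁻¹ = PowerSeries.mk fun n => a ^ n := by
      rw [PowerSeries.inv_eq_iff_mul_eq_one (by simp)]
      ext n
      rcases n with _ | n
      · simp
      · simp [mul_sub, ← mul_assoc, PowerSeries.coeff_succ_mul_X, pow_succ, PowerSeries.coeff_one]
    unfold pw
    rw [e, i]
    simp [mul_assoc, PowerSeries.coeff_succ_X_mul, pow_succ']

end H61.KgvPW1
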