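import Cfsg.Agent.H31.O7K

/-! O7 tower, job KC: composition factors of `SL₂(q)`. -/

set_option autoImplicit false
set_option linter.unusedSectionVars false

namespace H61.O7KC

open H56 H56.SL2M H31.O7 QuadraticMap Module Polynomial Matrix
open H20.LD (cp)
open scoped MatrixGroups

universe u

section lin
variable {K : Type u} [Field K] {V : Type u} [AddCommGroup V] [Module K V] {Q : QuadraticForm K V}
  {e : V} {v w : Fin 3 → V} {g : O Q} {l : Fin 3 → K}

theorem hb_li (h2 : (2 : K) ≠ 0) (h : Hb Q e v w) :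
    LinearIndependent K fun o : Option (Fin 3 ⊕ Fin 3) => o.elim e (Sum.elim v w) := by
  refine Fintype.linearIndependent_iff.2 fun c hc => ?_
  have H := fun x => congrArg (Q.polarBilin x) hc
  simp only [map_sum, map_smul, polarBilin_apply_apply, Fintype.sum_option, Fintype.sum_sum_type,
    Option.elim, Sum.elim_inl, Sum.elim_inr, map_zero, smul_eq_mul, map_add] at H
  rintro (_ | i | i)
  · simpa [h.ev, h.ew, polar_self', h2, h.ee] using H e
  · simpa [polar_comm Q (w i), h.ew, h.ww, h.vw] using H (w i)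
  · simpa [polar_comm Q (v i) e, h.ev, h.vv, h.vw] using H (v i)

/-- the basis given by `Hb` -/
noncomputable def hbB [FiniteDimensional K V] (h2 : (2 : K) ≠ 0) (d : finrank K V = 7) (h : Hb Q e v w) :
    Basis (Option (Fin 3 ⊕ Fin 3)) K V :=
  basisOfLinearIndependentOfCardEqFinrank (hb_li h2 h) (by rw [d]; rfl)

variable [FiniteDimensional K V] (h2 : (2 : K) ≠ 0) (d : finrank K V = 7) (h : Hb Q e v w)
include h2 d h

theorem dg_charpoly (a : Dg g e v w l) :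
    g.lin.charpoly = (X - C 1) * ∏ i, ((X - C (l i)) * (X - C (l i)⁻¹)) := by
  rw [charpoly_of_eigenbasis (hbB h2 d h) g.lin (fun o => o.elim 1 (Sum.elim l fun i => (l i)⁻¹))]
  · simp [Fintype.prod_option, Finset.prod_mul_distrib]
  rintro (_ | i | i) <;> simp [hbB, a.1, (a.2 _).2]

theorem dg_roots (a : Dg g e v w l) :
    g.lin.charpoly.roots = {1, l 0, (l 0)⁻¹, l 1, (l 1)⁻¹, l 2, (l 2)⁻¹} := by
  rw [← roots_multiset_prod_X_sub_C {1, l 0, (l 0)⁻¹, l 1, (l 1)⁻¹, l 2, (l 2)⁻¹}, dg_charpoly h2 d h a]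
  simp [Fin.prod_univ_three, mul_assoc]

theorem dg_one (a : Dg g e v w fun _ => 1) : g = 1 := by
  have : g.lin = LinearMap.id := (hbB h2 d h).ext (by rintro (_ | i | i) <;> simp [hbB, a.1, (a.2 _).2])
  exact O.ext fun x => LinearMap.congr_fun this x

end lin

section dig
variable {K : Type u} [Field K] {p : ℕ} [hp : Fact p.Prime] [CharP K p]

theorem ch_iff (j m : ℕ) {e : ℕ} (he : e < p) : (j.choose (p * m + e) : K) ≠ 0 ↔
    e ≤ j % p ∧ ((j / p).choose m : K) ≠ 0 := by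
  rw [choose_ne_zero_iff (p := p), Nat.mul_add_mod, Nat.mul_add_div hp.out.pos, Nat.mod_eq_of_lt he,
    Nat.div_eq_of_lt he, add_zero]

theorem low {j : ℕ} (h : j ≠ 0) : ∃ i, (j.choose (p ^ i) : K) ≠ 0 := by
  induction j using Nat.strong_induction_on with | _ j ih =>
  have h1 := hp.out.one_lt
  by_cases d : j % p = 0
  · obtain ⟨i, hi⟩ := ih (j / p) (Nat.div_lt_self (by omega) h1) fun c => h (by
      rw [← Nat.div_add_mod j p, c, d]; rfl)
    exact ⟨i + 1, by rw [pow_succ', ← add_zero (p * _), ch_iff j _ hp.out.pos]; exact ⟨by omega, hi⟩⟩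
  · exact ⟨0, by simpa using (ch_iff (K := K) j 0 h1).2 ⟨by omega, by simp⟩⟩

theorem shape (h3 : 2 < p) (j : ℕ) : j = 0 ∨ (∃ i, j = p ^ i) ∨ ∃ i k, (j.choose (p ^ i) : K) ≠ 0 ∧
    (j.choose (p ^ k) : K) ≠ 0 ∧ (j.choose (p ^ i + p ^ k) : K) ≠ 0 := by
  induction j using Nat.strong_induction_on with | _ j ih =>
  have h1 := hp.out.one_lt
  have e := Nat.div_add_mod j p
  refine or_iff_not_imp_left.2 fun h => ?_
  have up : ∀ m, ((j / p).choose m : K) ≠ 0 → (j.choose (p * m) : K) ≠ 0 := fun m hm => by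
    rw [← add_zero (p * _), ch_iff j _ hp.out.pos]; exact ⟨by omega, hm⟩
  by_cases d : j % p = 0
  · rcases ih (j / p) (Nat.div_lt_self (by omega) h1) with c | ⟨i, c⟩ | ⟨i, k, a, b, c⟩
    · rw [c, d] at e; exact (h e.symm).elim
    · exact .inl ⟨i + 1, by rw [← e, c, d, pow_succ']; rfl⟩
    · exact .inr ⟨i + 1, k + 1, by simp only [pow_succ', ← mul_add]; exact ⟨up _ a, up _ b, up _ c⟩⟩
  have o : (j.choose (p ^ 0) : K) ≠ 0 := by simpa using (ch_iff (K := K) j 0 h1).2 ⟨by omega, by simp⟩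
  by_cases d1 : j % p = 1
  · by_cases c : j / p = 0
    · exact .inl ⟨0, by rw [← e, c, d1]; rfl⟩
    obtain ⟨k, a⟩ := low (K := K) (p := p) c
    exact .inr ⟨0, k + 1, o, pow_succ' p k ▸ up _ a, by
      rw [pow_zero, add_comm, pow_succ', ch_iff j _ h1]; exact ⟨by omega, a⟩⟩
  · exact .inr ⟨0, 0, o, o, by simpa using (ch_iff (K := K) j 0 h3).2 ⟨by omega, by simp⟩⟩

theorem not_seven (f j : ℕ) : ¬ 7 ∣ (wl 3 f j).length := by
  induction f generalizing j with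
  | zero => simp [wl]
  | succ f ih =>
    have : (wl 3 (f + 1) j).length = (wl 3 f (j / 3)).length * (j % 3 + 1) := by
      simp [wl, List.length_flatMap]
    rw [this, (by norm_num : Nat.Prime 7).dvd_mul]
    exact not_or.2 ⟨ih _, by omega⟩

omit hp [CharP K p] in
theorem four {κ x α β : K} (k4 : κ ^ 4 ≠ 1) (k0 : κ ≠ 0) (a1 : α ≠ 1) (b1 : β ≠ 1)
    (H : ∀ y ∈ [x, x * α, x * β, x * α * β], y = 1 ∨ y = κ ∨ y = κ⁻¹) :
    1 ∈ [x, x * α, x * β, x * α * β] ∧ (α = κ ∨ α = κ⁻¹) := by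
  simp only [List.mem_cons, List.not_mem_nil, or_false, forall_eq_or_imp, forall_eq] at H ⊢
  obtain ⟨h0, h1, h2, h3⟩ := H
  have nb : ∀ {y}, y * α = 1 → y = 1 ∨ y = κ ∨ y = κ⁻¹ → α = κ ∨ α = κ⁻¹ := fun {y} e h => by
    rcases h with rfl | rfl | rfl
    exacts [(a1 (by simpa using e)).elim, .inr (eq_inv_of_mul_eq_one_right e),
      .inl (by simpa using eq_inv_of_mul_eq_one_right e)]
  by_cases c0 : x = 1
  · exact ⟨.inl c0.symm, by simpa [c0, a1] using h1⟩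
  by_cases c1 : x * α = 1
  · exact ⟨.inr (.inl c1.symm), nb c1 h0⟩
  by_cases c2 : x * β = 1
  · exact ⟨by simp [c2], by simpa [mul_right_comm x α, c2, a1] using h3⟩
  by_cases c3 : x * α * β = 1
  · exact ⟨by simp [c3], nb (mul_right_comm x α β ▸ c3) h2⟩
  exfalso
  have G : ∀ {κ : K}, κ ^ 4 ≠ 1 → κ ≠ 0 → (κ * α = κ ∨ κ * α = κ⁻¹) → (κ * β = κ ∨ κ * β = κ⁻¹) →
      ¬ (κ * α * β = κ ∨ κ * α * β = κ⁻¹) := fun {κ} k4 k0 h1 h2 h3 => by
    have e1 := h1.resolve_left (by simpa [k0] using a1)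
    have e2 := h2.resolve_left (by simpa [k0] using b1)
    rw [e1] at h3
    have e3 := h3.resolve_right (by simpa [k0] using b1)
    field_simp at e2 e3
    exact k4 (by linear_combination e2 - κ ^ 2 * e3)
  simp only [c0, c1, c2, c3, false_or] at h0 h1 h2 h3
  rcases h0 with rfl | rfl
  · exact G k4 k0 h1 h2 h3
  · exact G (by simpa using k4) (inv_ne_zero k0) (by simpa [or_comm] using h1)
      (by simpa [or_comm] using h2) (by simpa [or_comm] using h3)

theorem arith (h3 : 2 < p) {n f r i a : ℕ} (hf : 0 < f) (e : p ^ f = r ^ 3) (hn : n = r ^ 2 + r + 1)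
    (h1 : p ^ f ≡ 1 [MOD n]) : ¬ (2 * p ^ i ≡ p ^ a [MOD n] ∨ n ∣ 2 * p ^ i + p ^ a) := fun h => by
  have b : 2 ^ f ≤ r ^ 2 := by
    refine (Nat.pow_le_pow_iff_left (n := 3) (by omega)).1 ?_
    rw [← pow_mul, ← pow_mul, mul_comm 2, pow_mul r, ← e, ← pow_mul, mul_comm f, mul_comm f, pow_mul,
      pow_mul]
    exact Nat.pow_le_pow_left (by nlinarith) f
  have b1 := Nat.one_lt_two_pow hf.ne'
  have r0 : 0 < r := Nat.pos_of_ne_zero fun c => by rw [c] at b; omega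
  have P : (p : ZMod n) ^ f = 1 := by simpa using (ZMod.natCast_eq_natCast_iff _ _ _).2 h1
  have : ∃ ε : ZMod n, ε * ε = 1 ∧ (ε = 1 ∨ ε = -1) ∧ 2 * (p : ZMod n) ^ i = ε * p ^ a := by
    rcases h with h | h
    · exact ⟨1, by simp, .inl rfl, by simpa using (ZMod.natCast_eq_natCast_iff _ _ _).2 h⟩
    · refine ⟨-1, by simp, .inr rfl, ?_⟩
      have := (ZMod.natCast_eq_zero_iff _ _).2 h
      push_cast at this; linear_combination this
  obtain ⟨ε, -, he, h⟩ := this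
  have := congrArg (· ^ f) h
  simp only [mul_pow, ← pow_mul, mul_comm _ f] at this
  simp only [pow_mul, P, one_pow, mul_one] at this
  have t : (2 : ZMod n) ^ f = 1 ∨ (2 : ZMod n) ^ f = -1 := by
    rcases he with rfl | rfl
    · exact .inl (by simpa using this)
    · exact this ▸ neg_one_pow_eq_or _ f
  rcases t with t | t
  · have := Nat.le_of_dvd (by omega) ((ZMod.natCast_eq_zero_iff (2 ^ f - 1) n).1 (by
      rw [Nat.cast_sub b1.le]; push_cast; rw [t, sub_self]))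
    omega
  · have := Nat.le_of_dvd (by omega) ((ZMod.natCast_eq_zero_iff (2 ^ f + 1) n).1 (by
      push_cast; rw [t, neg_add_cancel]))
    omega

theorem exists_eig [IsAlgClosed K] (h2 : (2 : K) ≠ 0) {F : Type} [Field F] [Fintype F] [CharP F p]
    (ι : F →+* K) (y : SL(2, F)) (hy : ¬ p ∣ orderOf y) : ∃ μ, μ ≠ 0 ∧ Eig ι y μ μ⁻¹ := by
  have d := congrArg ι (det_fin_two y.1 ▸ y.2)
  simp only [map_sub, map_mul, map_one] at d
  by_cases c : y 0 1 = 0 ∧ y 1 0 = 0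
  · rw [show y.1 0 1 = 0 from c.1, map_zero, zero_mul, sub_zero] at d
    exact ⟨ι (y 0 0), left_ne_zero_of_mul_eq_one d, ![1, 0], ![0, 1], by simp,
      fun i => by fin_cases i <;> simp [c], fun i => by
        fin_cases i <;> simp [c]; exact eq_inv_of_mul_eq_one_right d⟩
  obtain ⟨δ, hδ⟩ := IsAlgClosed.exists_pow_nat_eq (ι ((y 0 0 + y 1 1) ^ 2 - 4)) two_pos
  have d0 : δ ≠ 0 := fun e => c (by
    have f2 : (2 : F) ≠ 0 := fun e => h2 (by rw [← map_ofNat ι, e, map_zero])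
    have t : (y 0 0 + y 1 1) ^ 2 - 4 = 0 := (map_eq_zero ι).1 (by rw [← hδ, e]; simp)
    have d : y 0 0 * y 1 1 - y 0 1 * y 1 0 = 1 := det_fin_two y.1 ▸ y.2
    set s := scalar (Fin 2) ((y 0 0 + y 1 1) / 2)
    have N : (y.1 - s) ^ 2 = 0 := by
      ext i j
      fin_cases i <;> fin_cases j <;> simp [s, pow_two, Matrix.mul_apply, Fin.sum_univ_two] <;> field_simp
      exacts [by linear_combination t - 4 * d, by ring, by ring, by linear_combination t - 4 * d]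
    have cm : Commute (y.1 - s) s := (scalar_commute _ (fun _ => .all _ _) _).symm
    have := add_pow_char_of_commute p cm
    rw [sub_add_cancel, pow_eq_zero_of_le hp.out.two_le N, zero_add, ← map_pow] at this
    obtain ⟨m, hm⟩ := exists_pow_eq_self_of_coprime (x := y) ((Nat.Prime.coprime_iff_not_dvd hp.out).2 hy)
    have hm : (y.1 ^ p) ^ m = y.1 := by
      rw [← Matrix.SpecialLinearGroup.coe_pow, ← Matrix.SpecialLinearGroup.coe_pow, hm]
    rw [this, ← map_pow] at hm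
    exact ⟨by rw [show y 0 1 = y.1 0 1 from rfl, ← hm]; simp, by rw [show y 1 0 = y.1 1 0 from rfl, ← hm]; simp⟩)
  simp only [map_sub, map_pow, map_add, map_ofNat] at hδ
  set a := ι (y 0 0)
  set b := ι (y 0 1)
  set c' := ι (y 1 0)
  set d' := ι (y 1 1)
  have m : (a + d' + δ) / 2 * ((a + d' - δ) / 2) = 1 := by field_simp; linear_combination -hδ
  refine ⟨_, left_ne_zero_of_mul_eq_one m, ?_⟩
  rw [← eq_inv_of_mul_eq_one_right m]
  by_cases e : y 0 1 = 0
  · have c0 : c' ≠ 0 := (map_ne_zero ι).2 fun a => c ⟨e, a⟩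
    refine ⟨![(a - d' + δ) / 2, c'], ![(a - d' - δ) / 2, c'], fun h => mul_ne_zero d0 c0 (by
      simp at h; field_simp at h; exact mul_left_cancel₀ h2 (by linear_combination h)), fun i => ?_, fun i => ?_⟩ <;>
    fin_cases i <;> simp <;> field_simp
    exacts [by linear_combination -hδ - 4 * d, by ring, by linear_combination -hδ - 4 * d, by ring]
  · have b0 : b ≠ 0 := (map_ne_zero ι).2 e
    refine ⟨![b, (d' - a + δ) / 2], ![b, (d' - a - δ) / 2], fun h => mul_ne_zero d0 b0 (by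
      simp at h; field_simp at h; exact mul_left_cancel₀ h2 (by linear_combination -h)), fun i => ?_, fun i => ?_⟩ <;>
    fin_cases i <;> simp <;> field_simp
    exacts [by ring, by linear_combination -hδ - 4 * d, by ring, by linear_combination -hδ - 4 * d]

/-- the eigenvalues of one factor -/
noncomputable def ev (j : ℕ) (μ ν : K) : Multiset K := (wt K j).val.map fun m => μ ^ m * ν ^ (j - m)

omit hp [CharP K p] in
theorem mem_ev {j m : ℕ} {μ : K} (h0 : μ ≠ 0) (h : (j.choose m : K) ≠ 0) :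
    μ⁻¹ ^ j * (μ ^ 2) ^ m ∈ ev j μ μ⁻¹ := by
  have : m ≤ j := by by_contra c; exact h (by rw [Nat.choose_eq_zero_of_lt (not_le.1 c), Nat.cast_zero])
  refine Multiset.mem_map.2 ⟨m, mem_wt.2 ⟨this, h⟩, ?_⟩
  obtain ⟨d, rfl⟩ := Nat.exists_eq_add_of_le this
  rw [add_tsub_cancel_left, ← pow_mul, two_mul, pow_add, pow_add, inv_pow, inv_pow]; field_simp

omit hp [CharP K p] in
theorem ev_neg {j : ℕ} {x : K} (h : x ∈ ev j (-1) (-1)) : x = (-1) ^ j := by
  obtain ⟨m, hm, rfl⟩ := Multiset.mem_map.1 h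
  rw [← pow_add, Nat.add_sub_cancel' (mem_wt.1 hm).1]

theorem nonpow (h3 : 2 < p) {κ μ : K} {j : ℕ} (k4 : κ ^ 4 ≠ 1) (k0 : κ ≠ 0) (m0 : μ ≠ 0)
    (m2 : μ ^ 2 ≠ 1) (H : ∀ x ∈ ev j μ μ⁻¹, x = 1 ∨ x = κ ∨ x = κ⁻¹) (h : ∀ i, j ≠ p ^ i) :
    1 ∈ ev j μ μ⁻¹ ∧ (j ≠ 0 → ∃ i, (μ ^ 2) ^ p ^ i = κ ∨ (μ ^ 2) ^ p ^ i = κ⁻¹) := by
  rcases shape (K := K) h3 j with rfl | ⟨i, e⟩ | ⟨i, k, a, b, c⟩
  · exact ⟨by simpa using mem_ev (j := 0) (m := 0) m0 (by simp), fun c => (c rfl).elim⟩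
  · exact (h i e).elim
  have fr : ∀ i, (μ ^ 2) ^ p ^ i ≠ 1 := fun i e => m2 ((iterateFrobenius K p i).injective
    (by rw [map_one]; exact e))
  have M : ∀ y ∈ [μ⁻¹ ^ j, μ⁻¹ ^ j * (μ ^ 2) ^ p ^ i, μ⁻¹ ^ j * (μ ^ 2) ^ p ^ k,
      μ⁻¹ ^ j * (μ ^ 2) ^ p ^ i * (μ ^ 2) ^ p ^ k], y ∈ ev j μ μ⁻¹ := by
    simp only [List.mem_cons, List.not_mem_nil, or_false, forall_eq_or_imp, forall_eq]
    exact ⟨by simpa using mem_ev (j := j) (m := 0) m0 (by simp), mem_ev m0 a, mem_ev m0 b,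
      by rw [mul_assoc, ← pow_add]; exact mem_ev m0 c⟩
  have := four k4 k0 (fr i) (fr k) fun y hy => H y (M y hy)
  exact ⟨M 1 this.1, fun _ => ⟨i, this.2⟩⟩

end dig

theorem jobKC : JobKC.{u} := by
  rintro w4 tl p K _ V _ _ _ Q Γ _ _ ρ h hK ⟨F, _, _, _, φ, y, z, w, a4, fz, y1, yo, cz, cw, hc⟩
  classical
  have : Fact p.Prime := ⟨h.prime⟩
  have := h.char
  have h3 : 2 < p := lt_of_le_of_ne h.prime.two_le h.odd.symm
  have h2 := h.two
  have n1 : (-1 : K) ≠ 1 := fun e => h2 (by linear_combination -e)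
  obtain ⟨e, v, v', hb, cy, dz, dg, -⟩ := tl p K V Q Γ ρ h hK z w a4
    ((w4 p K V Q Γ ρ h).2.1 z fz)
  obtain ⟨l, dl⟩ := dg (φ y) cz (by
    have := cp_comm w 1 cz
    rwa [cp_one w (φ y), ← cw.eq, mul_inv_cancel_right] at this) yo
  have v0 : ∀ i, v i ≠ 0 := fun i c => by simpa [c] using hb.vw i i
  have ll : ∀ i, l (i + 1) = l i := fun i => by
    have := congrArg (fun g => ρ g (v i)) cw.eq
    simp only [map_mul, O.mul_apply, (cy.2 i).1, (dl.2 _).2.1, map_smul] at this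
    exact smul_left_injective K (v0 _) this
  obtain ⟨κ, rfl⟩ : ∃ κ, l = fun _ => κ :=
    ⟨l 0, funext fun i => by fin_cases i; exacts [rfl, ll 0, (ll 1).trans (ll 0)]⟩
  have k0 : κ ≠ 0 := (dl.2 0).1
  have k1 : κ ≠ 1 := fun c => y1 (h.eq_one.1 (dg_one h2 h.dim hb (c ▸ dl)))
  have k4 : κ ^ 4 ≠ 1 := fun c => k1 (by
    have : ∀ n, ρ (φ y ^ n) (v 0) = κ ^ n • v 0 := fun n => by
      induction n with
      | zero => simp
      | succ n ih => rw [pow_succ, map_mul, O.mul_apply, (dl.2 0).2.1, map_smul, ih, smul_smul, pow_succ']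
    have := this (orderOf (φ y))
    rw [pow_orderOf_eq_one, map_one, O.one_apply] at this
    have := smul_left_injective K (v0 0) ((one_smul K _).trans this)
    exact (pow_eq_one_iff_of_coprime (by simpa using (Nat.coprime_two_right.2 yo).pow_right 2)).1
      ⟨this.symm, c⟩)
  have : Algebra (ZMod p) F := ZMod.algebra F p
  have : Algebra (ZMod p) K := ZMod.algebra K p
  let ι : F →+* K := (IsAlgClosed.lift : F →ₐ[ZMod p] K).toRingHom
  let R : Representation K SL(2, F) V :=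
    { toFun := fun g => (ρ (φ g)).lin
      map_one' := by rw [map_one, map_one]; rfl
      map_mul' := fun a b => by rw [map_mul, map_mul]; rfl }
  obtain ⟨J, hJ, hR⟩ := exists_factors ι R
  have en := hR (-1) (-1) (-1) 
    ⟨![1, 0], ![0, 1], by simp, fun i => by fin_cases i <;> simp, fun i => by fin_cases i <;> simp⟩
  change (ρ (φ (-1))).lin.charpoly.roots = _ at en
  have d1 : Dg (1 : O Q) e v v' fun _ => 1 := ⟨rfl, fun i => by simp⟩
  obtain ⟨j, hj, hj1⟩ := Multiset.mem_bind.1 (show (1 : K) ∈ evs J (-1) (-1) by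
    rcases hc with ⟨-, c, -⟩ | ⟨c, -⟩
    · rw [← en, c, map_one, dg_roots h2 h.dim hb d1]; simp
    · rw [← en, c, dg_roots h2 h.dim hb dz]; simp)
  have po : ∀ i, Odd (p ^ i) := fun i => (h.prime.odd_of_ne_two h.odd).pow
  have je : ∀ i, j ≠ p ^ i := fun i c => n1 (by
    have := ev_neg hj1; rw [c, (po i).neg_one_pow] at this; exact this.symm)
  obtain ⟨J, rfl⟩ := Multiset.exists_cons_of_mem hj
  have core : ∀ μ : K, μ ≠ 0 → Eig ι y μ μ⁻¹ → (ev j μ μ⁻¹ + evs J μ μ⁻¹).card = 7 ∧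
      (j ≠ 0 → ∃ i, (μ ^ 2) ^ p ^ i = κ ∨ (μ ^ 2) ^ p ^ i = κ⁻¹) ∧
      ∀ j' ∈ J, ∃ i, j' = p ^ i ∧ (μ ^ p ^ i = κ ∨ μ ^ p ^ i = κ⁻¹) := fun μ m0 ey => by
    have er := (hR y μ μ⁻¹ ey).symm.trans (dg_roots h2 h.dim hb dl)
    have H : ∀ x ∈ evs (j ::ₘ J) μ μ⁻¹, x = 1 ∨ x = κ ∨ x = κ⁻¹ := fun x hx => by
      rw [er] at hx; simp at hx; tauto
    have m2 : μ ^ 2 ≠ 1 := fun c => k4 (by
      obtain ⟨j', -, hm⟩ := Multiset.mem_bind.1 (show κ ∈ evs (j ::ₘ J) μ μ⁻¹ by rw [er]; simp)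
      obtain ⟨m, -, rfl⟩ := Multiset.mem_map.1 hm
      have : μ ^ 4 = 1 := by rw [show μ ^ 4 = (μ ^ 2) ^ 2 by ring, c, one_pow]
      rw [mul_pow, ← pow_mul, ← pow_mul, mul_comm m, mul_comm _ 4, pow_mul, pow_mul, inv_pow, this]
      simp)
    have np := fun j' (hj' : j' ∈ j ::ₘ J) => nonpow h3 (j := j') k4 k0 m0 m2 fun x hx =>
      H x (Multiset.mem_bind.2 ⟨j', hj', hx⟩)
    rw [evs, Multiset.cons_bind] at er
    change ev j μ μ⁻¹ + evs J μ μ⁻¹ = _ at er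
    have n1 : 1 ∉ evs J μ μ⁻¹ := fun c => by
      have := congrArg (Multiset.count 1) er
      have a := Multiset.one_le_count_iff_mem.2 c
      have b := Multiset.one_le_count_iff_mem.2 (np j hj je).1
      simp [k1, k1.symm, eq_comm (a := (1 : K))] at this
      omega
    refine ⟨by rw [er]; rfl, (np j hj je).2, fun j' hj' => ?_⟩
    have hj'' := Multiset.mem_cons_of_mem (b := j) hj'
    obtain ⟨i, rfl⟩ : ∃ i, j' = p ^ i := by
      by_contra! c; exact n1 (Multiset.mem_bind.2 ⟨j', hj', (np j' hj'' c).1⟩)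
    have : μ ^ p ^ i ∈ ev (p ^ i) μ μ⁻¹ := Multiset.mem_map.2 ⟨p ^ i, mem_wt.2 ⟨le_rfl, by simp⟩, by simp⟩
    exact ⟨i, rfl, (H _ (Multiset.mem_bind.2 ⟨_, hj'', this⟩)).resolve_left fun c =>
      n1 (c ▸ Multiset.mem_bind.2 ⟨_, hj', this⟩)⟩
  have neg : ∀ j' ∈ J, (∃ i, j' = p ^ i) → ∀ x ∈ ev j' (-1 : K) (-1), x = -1 := by
    rintro _ - ⟨i, rfl⟩ x hx; rw [ev_neg hx, (po i).neg_one_pow]
  rw [evs, Multiset.cons_bind] at en
  change _ = ev j (-1) (-1) + evs J (-1) (-1) at en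
  obtain ⟨f, -, hf⟩ := FiniteField.card F p
  rcases hc with ⟨rfl, c, o3⟩ | ⟨c, r, s, hr, rfl, os⟩
  · obtain ⟨μ, m0, ey⟩ := exists_eig h2 ι y o3
    obtain ⟨c7, -, cJ⟩ := core μ m0 ey
    obtain rfl : J = 0 := Multiset.eq_zero_of_forall_notMem fun j' hj' => by
      obtain ⟨i, rfl, -⟩ := cJ j' hj'
      have a : (-1 : K) ^ 0 * (-1) ^ (3 ^ i - 0) ∈ ev (3 ^ i) (-1 : K) (-1) :=
        Multiset.mem_map.2 ⟨0, mem_wt.2 ⟨Nat.zero_le _, by simp⟩, rfl⟩
      have b := Multiset.mem_add.2 (.inr (Multiset.mem_bind.2 ⟨_, hj', a⟩) :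
        _ ∈ ev j (-1 : K) (-1) ∨ _ ∈ evs J (-1 : K) (-1))
      rw [neg _ hj' ⟨i, rfl⟩ _ a, ← en, c, map_one, dg_roots h2 h.dim hb d1] at b
      simp [n1] at b
    refine not_seven f j ?_
    rw [← c7, evs, ev, wt_val (hf ▸ hJ j hj)]; simp
  have ey : Eig ι (hh s) (ι s) (ι s)⁻¹ := ⟨![1, 0], ![0, 1], by simp,
    fun i => by fin_cases i <;> simp [hh_coe], fun i => by fin_cases i <;> simp [hh_coe]⟩
  obtain ⟨-, cj, cJ⟩ := core _ (by simp) ey
  rw [c, dg_roots h2 h.dim hb dz] at en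
  have nJ : ∀ x ∈ evs J (-1 : K) (-1), x = -1 := fun x hx => by
    obtain ⟨j', a, b⟩ := Multiset.mem_bind.1 hx
    exact neg j' a ((cJ j' a).imp fun _ => And.left) x b
  obtain ⟨i, ci⟩ := cj (by
    rintro rfl
    have := congrArg (Multiset.count 1) en
    rw [Multiset.count_add, Multiset.count_eq_zero.2 fun c => n1 (nJ _ c).symm] at this
    have b := Multiset.count_le_card 1 (ev 0 (-1 : K) (-1))
    have b' := Finset.card_le_card (wt_subset (k := K) 0)
    simp [ev] at b b'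
    simp [n1.symm, ev] at this
    omega)
  obtain ⟨j', hj', -⟩ := Multiset.mem_bind.1 ((Multiset.mem_add.1
    (show (-1 : K) ∈ ev j (-1) (-1) + evs J (-1) (-1) by rw [← en]; simp)).resolve_left fun c =>
      n1 ((ev_neg c).trans (ev_neg hj1).symm))
  obtain ⟨a, -, ca⟩ := cJ j' hj'
  refine arith h3 f.pos (hf.symm.trans hr) os (i := i) (a := a) ?_ ?_
  · rw [← pow_eq_pow_iff_modEq, ← hf, pow_one]
    exact Units.ext (by rw [Units.val_pow_eq_pow_val, FiniteField.pow_card])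
  rw [← pow_eq_pow_iff_modEq, orderOf_dvd_iff_pow_eq_one, Units.ext_iff, Units.ext_iff,
    ← ι.injective.eq_iff, ← ι.injective.eq_iff]
  simp only [Units.val_pow_eq_pow_val, map_pow, pow_add, pow_mul, Units.val_mul, map_mul, Units.val_one,
    map_one]
  rcases ci with ci | ci <;> rcases ca with ca | ca <;> simp [ci, ca, k0]

end H61.O7KC
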