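import Cfsg.Agent.H61.O7DK1
import Cfsg.Agent.H31.O7B

/-! O7 tower, job Mac: `(2, 3)`-generation of `L₂(q)`, `p ≥ 7`. -/

set_option autoImplicit false

namespace H61.O7

open Matrix MatrixGroups MulAction Cfsg.Geo H61.C6 Polynomial

variable {F : Type} [Field F]

local notation "π" => ProjGenLinGroup.mk

theorem Mp.eig {X : M F} {v : Fin 2 → AlgebraicClosure F} {a : AlgebraicClosure F} (h : Mp X v v a)
    (hv : v ≠ 0) : a * a = algebraMap F _ X.trace * a - algebraMap F _ X.det := by
  have h1 := h.mul h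
  rw [Mp, ch, Matrix.map_sub _ (map_sub _), sub_mulVec,
    show (X.trace • X).map (algebraMap F (AlgebraicClosure F)) = algebraMap F (AlgebraicClosure F) X.trace •
      X.map (algebraMap F (AlgebraicClosure F)) by ext; simp, smul_mulVec, h] at h1
  have h2 : Mp (X.det • (1 : M F)) v v (algebraMap F _ X.det) := by
    rw [Mp]; ext i; fin_cases i <;> simp [mulVec, dotProduct, Fin.sum_univ_two]
  rw [h2, smul_smul, ← sub_smul] at h1
  exact (smul_left_injective _ hv h1).symm

theorem sq_le [Fintype F] {k : Subfield F} (h : k ≠ ⊤) :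
    ∃ m, 2 ≤ m ∧ Fintype.card F = Nat.card k ^ m := by
  have e := Module.natCard_eq_pow_finrank (K := k) (V := F)
  have := Module.finrank_pos (R := k) (M := F)
  refine ⟨_, ?_, Nat.card_eq_fintype_card.symm.trans e⟩
  by_contra c
  rw [show Module.finrank k F = 1 by omega, pow_one] at e
  exact h (SetLike.coe_injective ((Set.eq_univ_iff_ncard _).2 e.symm))

theorem exists_tau [Fintype F] (p : ℕ) [CharP F p] (h7 : 7 ≤ p) : ∃ τ : F, τ ^ 2 ≠ 0 ∧ τ ^ 2 ≠ 1 ∧
    τ ^ 2 ≠ 2 ∧ τ ^ 2 ≠ 3 ∧ (τ ^ 2) ^ 2 - 3 * τ ^ 2 + 1 ≠ 0 ∧ ∀ k : Subfield F, τ ^ 2 ∈ k → k = ⊤ := by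
  have hp := CharP.char_is_prime F p
  have : Fact p.Prime := ⟨hp⟩
  obtain ⟨n, -, e⟩ := FiniteField.card F p
  have nz : ∀ m : ℕ, 0 < m → m < 7 → (m : F) ≠ 0 := fun m a b c =>
    absurd (Nat.le_of_dvd a ((CharP.cast_eq_zero_iff F p m).1 c)) (by omega)
  by_cases n1 : (n : ℕ) = 1
  · refine ⟨2, fun c => nz 4 (by omega) (by omega) (by push_cast; linear_combination c),
      fun c => nz 3 (by omega) (by omega) (by push_cast; linear_combination c),
      fun c => nz 2 (by omega) (by omega) (by push_cast; linear_combination c),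
      fun c => nz 1 (by omega) (by omega) (by push_cast; linear_combination c),
      fun c => nz 5 (by omega) (by omega) (by push_cast; linear_combination c), fun k _ => ?_⟩
    by_contra c
    obtain ⟨m, h2, e'⟩ := sq_le c
    rw [e, n1, pow_one] at e'
    exact absurd (e' ▸ hp).eq_one_of_pow (by omega)
  obtain ⟨τ, hτ⟩ := IsCyclic.exists_ofOrder_eq_natCard (α := Fˣ)
  rw [Nat.card_units, Nat.card_eq_fintype_card] at hτ
  have key : ∀ r, 0 < r → 2 * r + 1 < Fintype.card F → ((τ : F) ^ 2) ^ r ≠ 1 := fun r a b c => by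
    have := Nat.le_of_dvd (by omega) (orderOf_dvd_of_pow_eq_one (x := τ) (n := 2 * r)
      (Units.ext (by rwa [Units.val_pow_eq_pow_val, pow_mul])))
    omega
  have pp : p * p ≤ Fintype.card F := by
    rw [e, ← sq]; exact Nat.pow_le_pow_right hp.pos (by have := n.pos; omega)
  have t0 : (τ : F) ^ 2 ≠ 0 := pow_ne_zero _ τ.ne_zero
  have fr : ((τ : F) ^ 2) ^ p ≠ (τ : F) ^ 2 := fun c => key (p - 1) (by omega)
    (by obtain ⟨s, rfl⟩ : ∃ s, p = s + 1 := ⟨p - 1, by omega⟩; simp; nlinarith)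
    (mul_right_cancel₀ t0 (by rw [← pow_succ, Nat.sub_add_cancel hp.pos, c, one_mul]))
  have nat : ∀ m : ℕ, (τ : F) ^ 2 ≠ m := fun m c => fr (by
    rw [c]; exact map_natCast (frobenius F p) m)
  refine ⟨τ, t0, by simpa using nat 1, by simpa using nat 2, by simpa using nat 3, fun c => ?_,
    fun k hk => ?_⟩
  · have d := congrArg (frobenius F p) c
    simp only [map_add, map_sub, map_mul, map_pow (frobenius F p) ((τ : F) ^ 2), map_one, map_zero,
      map_ofNat, frobenius_def] at d
    refine key (p + 1) (by omega) (by nlinarith) ?_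
    have := (mul_eq_zero.1 (show ((((τ : F) ^ 2) ^ p) - τ ^ 2) * (((τ : F) ^ 2) ^ p + τ ^ 2 - 3) = 0 by
      linear_combination d - c)).resolve_left (sub_ne_zero.2 fr)
    rw [pow_succ]; linear_combination (τ : F) ^ 2 * this - c
  by_contra c
  obtain ⟨m, h2, e'⟩ := sq_le c
  have := Fintype.ofFinite k
  have k1 : 1 < Nat.card k := Finite.one_lt_card
  refine key (Nat.card k - 1) (by omega) (lt_of_lt_of_le ?_ (e' ▸ Nat.pow_le_pow_right (by omega) h2)) ?_
  · obtain ⟨s, hs⟩ : ∃ s, Nat.card k = s + 2 := ⟨Nat.card k - 2, by omega⟩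
    rw [hs]; simp; nlinarith
  · have := FiniteField.pow_card_sub_one_eq_one (⟨_, hk⟩ : k) fun e => t0 (congrArg Subtype.val e)
    rw [Nat.card_eq_fintype_card]
    exact congrArg Subtype.val this

theorem jobMac : H31.O7.JobMac := by
  intro F _ _ p _ h7
  have : Fact p.Prime := ⟨CharP.char_is_prime F p⟩
  obtain ⟨τ, t0, t1, t2, t3, t5, tk⟩ := exists_tau (F := F) p h7
  obtain ⟨a, b, hab⟩ := FiniteField.exists_root_sum_quadratic (f := (X ^ 2 + X + 1 : F[X]))
    (g := X ^ 2 + C τ * X) (by compute_degree!) (by compute_degree!)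
    (FiniteField.odd_card_of_char_ne_two (by rw [ringChar.eq F p]; omega))
  simp only [eval_add, eval_pow, eval_X, eval_one, eval_mul, eval_C] at hab
  let x : SL(2, F) := ⟨!![0, 1; -1, 0], by simp [det_fin_two]⟩
  let y : SL(2, F) := ⟨!![a, b; b + τ, -1 - a], by rw [det_fin_two_of]; linear_combination -hab⟩
  have tx : x.1.trace = 0 := by simp [x]
  have ty : y.1.trace = -1 := by simp [y]
  have tz : (x.1 * y.1).trace = τ := by simp [x, y]
  refine ⟨x, y, tx, ty, ?_⟩
  set A := SpecialLinearGroup.toGL x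
  set B := SpecialLinearGroup.toGL y
  have hA : A ∈ Subgroup.closure {A, B} := Subgroup.subset_closure (by simp)
  have hB : B ∈ Subgroup.closure {A, B} := Subgroup.subset_closure (by simp)
  have fx : ∀ v : PL F, (π A : PGL(2, F)) • v = v → (π B : PGL(2, F)) • v ≠ v := fun v a b => by
    induction v using Projectivization.ind with | h v hv =>
    obtain ⟨α, a⟩ := mp_of a
    obtain ⟨β, b⟩ := mp_of b
    have e1 := a.eig hv
    have e2 := b.eig hv
    have e3 := (b.mul a).eig hv
    change _ = algebraMap F _ x.1.trace * _ - algebraMap F _ x.1.det at e1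
    change _ = algebraMap F _ y.1.trace * _ - algebraMap F _ y.1.det at e2
    change _ = algebraMap F _ (x.1 * y.1).trace * _ - algebraMap F _ (x.1 * y.1).det at e3
    simp only [tx, ty, tz, det_mul, x.2, y.2, map_zero, map_neg, map_one, mul_one] at e1 e2 e3
    refine t3 ((algebraMap F (AlgebraicClosure F)).injective ?_)
    rw [map_pow, map_ofNat]
    set t := algebraMap F (AlgebraicClosure F) τ
    have e4 : t * α = β ^ 2 - β := by
      linear_combination (-β ^ 2) * e3 + β ^ 4 * e1 + (-(t * α) * (β - 1) - β * (β - 1)) * e2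
    linear_combination (-(t * α + β ^ 2 - β)) * e4 + t ^ 2 * e1 - (β ^ 2 - 3 * β + 3) * e2
  have c3 : ∀ {h : GL (Fin 2) F} {s : F}, h.val.trace = s → h.val.det = 1 → s ^ 2 ≠ 4 →
      (π h : PGL(2, F)) ≠ 1 := fun {h s} e1 e2 e3 e => by
    obtain ⟨c, -, hc⟩ := mk_eq e.symm
    rw [hc] at e1 e2
    simp at e1 e2
    exact e3 (by rcases e2 with rfl | rfl <;> rw [← e1] <;> ring)
  have nz : (3 : F) ≠ 0 := fun c => absurd (Nat.le_of_dvd (by omega)
    ((CharP.cast_eq_zero_iff F p 3).1 c)) (by omega)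
  have B1 := c3 (h := B) ty y.2 fun e => nz (by linear_combination -e)
  have dz : (A * B).val.det = 1 := (x * y).2
  have Z1 : (π (A * B) : PGL(2, F)) ≠ 1 := fun e => by
    obtain ⟨c, c0, hc⟩ := mk_eq (g := A⁻¹) (h := B) (by
      rw [map_inv, inv_eq_iff_mul_eq_one, ← map_mul, e])
    have := congrArg trace hc
    rw [inv0 tx, trace_smul, trace_smul] at this
    rw [show A.val.trace = 0 from tx, show B.val.trace = -1 from ty] at this
    simp at this
  have pz := pows Z1 (c := τ ^ 2) (by rw [dz, div_one]; exact congrArg (· ^ 2) tz.symm)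
  have pB := (pows B1 (c := 1) (by rw [show B.val.det = 1 from y.2, show B.val.trace = -1 from ty]; simp)).1
  rcases dk p (Subgroup.closure {A, B}) with ⟨v, h⟩ | ⟨v, w, vw, h⟩ | h | ⟨h, -⟩ | ⟨k, C, h1, h2⟩
  · exact (fx v (h A hA) (h B hB)).elim
  · rcases h B hB with b | b
    · rcases h A hA with a | a
      · exact (fx v a.1 b.1).elim
      · exact (t0 (pz.1 ((sq _).trans ((hur_pglF F p).swap_mul_self vw
          (by rw [map_mul, mul_smul, b.1, a.1]) (by rw [map_mul, mul_smul, b.2, a.2]))))).elim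
    · exact (one_ne_zero (pB ((sq _).trans ((hur_pglF F p).swap_mul_self vw b.1 b.2)))).elim
  · exact ((h _ (mul_mem hA hB)).elim (fun e => t1 (pz.2.1.1 e)) fun e => (pz.2.2.1 e).elim t0 t2).elim
  · exact ((h _ (mul_mem hA hB)).elim (fun e => t1 (pz.2.1.1 e)) fun e => e.elim
      (fun e => (pz.2.2.1 e).elim t0 t2) fun e => t5 (pz.2.2.2 e)).elim
  obtain rfl : k = ⊤ := tk k (by
    obtain ⟨D, e⟩ := h1 _ (mul_mem hA hB)
    obtain ⟨c, c0, hc⟩ := mk_eq e
    have e1 := congrArg trace hc
    have e2 := congrArg det hc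
    rw [Units.val_mul, Units.val_mul] at e1 e2
    rw [trace_smul, trace_units_conj', show (A * B).val.trace = τ from tz] at e1
    rw [det_smul, det_units_conj', dz] at e2
    have e3 : τ ^ 2 = k.subtype (D.val.trace ^ 2 / D.val.det) := by
      rw [map_div₀, map_pow, RingHom.map_det, AddMonoidHom.map_trace]
      change _ = trace (GeneralLinearGroup.map k.subtype D).val ^ 2 /
        det (GeneralLinearGroup.map k.subtype D).val
      rw [e1, e2]; simp; field_simp
    exact e3 ▸ (D.val.trace ^ 2 / D.val.det).2)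
  refine eq_top_iff.2 fun g _ => ?_
  obtain ⟨g, rfl⟩ := QuotientGroup.mk_surjective g
  let g' : SL(2, F) := ⟨C⁻¹.val * g.1 * C.val, by rw [det_units_conj', g.2]⟩
  obtain ⟨h, hh, e⟩ := h2 (SpecialLinearGroup.map (Subfield.topEquiv.symm.toRingHom) g')
  have e1 : (π h : PGL(2, F)) = π (SpecialLinearGroup.toGL g) := by
    have : GeneralLinearGroup.map (⊤ : Subfield F).subtype (SpecialLinearGroup.toGL
        (SpecialLinearGroup.map (Subfield.topEquiv.symm.toRingHom) g')) =
        C⁻¹ * SpecialLinearGroup.toGL g * C := by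
      ext i j; rfl
    rw [this] at e
    simpa using e
  have e2 : Subgroup.closure {A, B} ≤ ((Subgroup.closure {(x : PSL(2, F)), (y : PSL(2, F))}).map
      ProjectiveSpecialLinearGroup.toPGL).comap π := by
    rw [Subgroup.closure_le]
    rintro _ (rfl | rfl)
    exacts [⟨x, Subgroup.subset_closure (by simp), rfl⟩, ⟨y, Subgroup.subset_closure (by simp), rfl⟩]
  obtain ⟨s, hs, e3⟩ := e2 hh
  exact ProjectiveSpecialLinearGroup.toPGL_injective (a₂ := (g : PSL(2, F))) (e3.trans e1) ▸ hs

end H61.O7
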