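/- FS tower (S1144), chapter O8 (blueprints/O8.md): job Y, coordinates on the even root groups. -/
import Cfsg.Agent.H54.O8Kit2

set_option autoImplicit false
set_option linter.unusedSectionVars false

namespace H61.O8Y

open H54.O8 H12.BN H59.BN H63.Oc Subgroup

variable {G : Type} [Group G] [Finite G] {x : MP 8 G} {K : Type} [Field K] [Finite K] [CharP K 2]
  {T : TF K}

theorem tr {n g y y' : G} (hn : n * n = 1) (h : (n⁻¹ * g * n)⁻¹ * y * (n⁻¹ * g * n) = y') :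
    g⁻¹ * (n⁻¹ * y * n) * g = n⁻¹ * y' * n := by
  have hi := inv_of_sq hn
  have : n⁻¹ * ((n⁻¹ * g * n)⁻¹ * y * (n⁻¹ * g * n)) * n =
      (n * n)⁻¹ * g⁻¹ * (n * y * n⁻¹) * g * (n * n) := by group
  rw [← h, this, hn, hi]; group

theorem ex_root (T : TF K) (u : K) : ∃ b : K, (b * T.σ b) ^ 2 = u := by
  refine Finite.surjective_of_injective (f := fun b : K => (b * T.σ b) ^ 2) (fun b c h => ?_) u
  have h1 : b * T.σ b = c * T.σ c := CharTwo.sq_injective h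
  have h2 := congrArg T.σ h1
  rw [map_mul, map_mul, T.sq, T.sq] at h2
  by_cases hb : b = 0
  · subst hb
    rcases mul_eq_zero.1 ((zero_mul _).symm.trans h1).symm with h | h
    · exact h.symm
    · exact ((map_eq_zero _).1 h).symm
  · refine mul_right_cancel₀ (mul_ne_zero hb (sg_ne (T := T) hb)) ?_
    linear_combination h2 - c * h1

variable (R : X8 x T)

theorem n15 (A : A8 x) (C : C8 x) (t : K) : R.N1⁻¹ * R.X 5 t * R.N1 = R.X 5 t := by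
  have h9 := C.c4 5 9 (by omega) (by omega) _ (R.mU 5 t) _ (R.mU 9 1)
  have h1 := C.c4 5 1 (by omega) (by omega) _ (R.mU 5 t) _ (R.mU 1 1)
  have : R.X 5 t * R.N1 = R.N1 * R.X 5 t := by
    rw [(R.ka1 A).2.1, ← mul_assoc, ← mul_assoc, h9, mul_assoc _ (R.X 5 t), h1, mul_assoc, mul_assoc,
      h9]; group
  rw [mul_assoc, this]; group

theorem ks (C : C8 x) (s : K) :
    (x.ka 8 (R.X 8 1))⁻¹ * R.X 3 s * x.ka 8 (R.X 8 1) = R.X 2 s * R.X 3 s ∧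
    (x.ka 8 (R.X 8 1))⁻¹ * R.X 5 s * x.ka 8 (R.X 8 1) =
      R.X 2 s * R.X 3 s * R.X 4 (T.σ s) * R.X 5 s ∧
    (R.X 8 1)⁻¹ * R.X 2 s * R.X 8 1 = R.X 2 s * R.X 4 (T.σ s) * R.X 5 s * R.X 6 s := by
  have w1 := R.ne 8 (one_ne_zero (α := K))
  have hk := ka_mem (R.mU 8 1) w1 0
  have hc := cj_ka (R.mU 8 1) w1 (R.sq 8 1) (R.X 3 s)
  set κ := x.ka 8 (R.X 8 1)
  obtain ⟨k, e⟩ := R.exV 2 (C.c3 3 0 2 (by omega) (by omega) _ (R.mU 3 s) _ hk)
  have e3 : κ⁻¹ * R.X 3 s * κ = R.X 2 k * R.X 3 s := by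
    rw [← V.cm (R.mV 2 k) (R.mU 3 s), ← e]; group
  obtain ⟨c, hc5, e2⟩ := R.r28 k 1
  rw [map_one, mul_one, mul_one] at e2
  have e8 : (R.X 8 1)⁻¹ * R.X 3 s * R.X 8 1 = R.X 3 s * R.X 6 s := by
    have h := R.r83 1 s
    rw [one_mul, R.inv 3] at h
    calc _ = (R.X 8 1)⁻¹ * (R.X 3 s * R.X 8 1 * R.X 3 s) * (R.X 3 s)⁻¹ := by group
      _ = R.X 6 s * R.X 3 s := by rw [h, R.inv 3]; group
      _ = _ := (V.cm (R.mV 6 s) (R.mU 3 s)).symm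
  obtain ⟨d, hd, e5⟩ := cj_lo hk (R.mU 5 s) 1 4
  rw [R.c8 3 5, e3, cj_mul, e2, e8, e5] at hc
  have c1 := V.cm (R.mV 6 k) (R.mU 3 s)
  have c2 := C.c2 5 3 (by omega) (by omega) _ hc5 _ (R.mU 3 s)
  have c3 := V.cm (R.mV 4 (T.σ k)) (R.mU 3 s)
  have h1 : R.X 2 k * R.X 3 s * R.X 4 (T.σ k) * (c * R.X 6 (k + s)) = d * R.X 5 s := by
    rw [← hc, R.add 6, mul_assoc (R.X 2 k) (R.X 3 s), c3]
    simp only [mul_assoc]
    rw [← mul_assoc (R.X 6 k), ← c1, mul_assoc (R.X 3 s), ← mul_assoc c (R.X 3 s), c2, mul_assoc]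
  obtain ⟨h2, h3⟩ := un (i := 1) (k := 4) (l := 5) (j := 6)
    (mul_mem (mul_mem (toI (R.mU 2 k)) (toI (R.mU 3 s))) (toI (R.mU 4 _))) hd
    (mul_mem (toI hc5) (toI (R.mU 6 _))) (toI (R.mU 5 s)) h1
  obtain ⟨h4, h5⟩ := un (i := 5) (k := 5) (l := 6) (j := 6) (toI hc5) (toI (R.mU 5 s))
    (toI (R.mU 6 _)) (one_mem _) (h3.trans (mul_one _).symm)
  obtain rfl : k = s := by
    have := R.inj 6 (by omega) (h5.trans (R.zero 6).symm)
    exact (CharTwo.add_eq_zero).1 this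
  exact ⟨e3, by rw [e5, ← h2], by rw [e2, h4]⟩

theorem lin (C : C8 x) {u : G} (hu : u ∈ x.U 2) :
    ∃ φ : K, ∀ s, (R.X 5 s)⁻¹ * u * R.X 5 s = u * R.X 4 (s * φ) := by
  obtain ⟨d, -, e, he, -, h⟩ := C.f25 u hu _ (R.mV 8 1)
  obtain ⟨φ, rfl⟩ := R.exU 7 he
  refine ⟨φ, fun s => ?_⟩
  rw [h _ (R.mV 2 s) _ (R.mV 4 _) _ (R.mU 5 s) _ (R.mV 6 s) (ks R C s).2.2, R.r27]; group

variable {R} {g : G} {a b : K}

theorem cen2 (C : C8 x) (D : D8 x) (hb : b ≠ 0) (h : Tor x T R.X g a b) (e : a * b = 1) {u : G}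
    (hu : u ∈ x.U 2) : (g * g)⁻¹ * u * (g * g) = u := by
  obtain ⟨φ, hφ⟩ := lin R C hu
  have e' := congrArg T.σ e
  rw [map_mul, map_one] at e'
  have hβ := mul_ne_zero hb (sg_ne (T := T) hb)
  have h1 := congrArg (fun y => g⁻¹ * y * g) (hφ (b * T.σ b)⁻¹)
  have x5 : a * T.σ a * (b ^ 2 * T.σ b ^ 2) * (b * T.σ b)⁻¹ = 1 := by
    field_simp
    linear_combination T.σ a * T.σ b * e + e'
  have x4 : a ^ 2 * T.σ a * (b ^ 3 * T.σ b ^ 2) * ((b * T.σ b)⁻¹ * φ) = 1 * φ := by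
    rw [← mul_assoc]; congr 1
    field_simp
    linear_combination (a * b + 1) * T.σ a * T.σ b * e + e'
  rw [cj_cj, cj_mul g u, h.t5, h.t4, x5, x4] at h1
  have hz : u⁻¹ * (g⁻¹ * u * g) ∈ x.U 2 := mul_mem (inv_mem hu) (h.nk.U hu)
  have hz5 : u⁻¹ * (g⁻¹ * u * g) * R.X 5 1 = R.X 5 1 * (u⁻¹ * (g⁻¹ * u * g)) := by
    have h2 := cj_mul (R.X 5 1) u⁻¹ (g⁻¹ * u * g)
    rw [cj_inv, h1, hφ 1] at h2
    have h3 := V.cm (R.mV 4 (1 * φ)) hz
    calc _ = R.X 5 1 * ((R.X 5 1)⁻¹ * (u⁻¹ * (g⁻¹ * u * g)) * R.X 5 1) := by group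
      _ = R.X 5 1 * ((R.X 4 (1 * φ))⁻¹ * (u⁻¹ * (g⁻¹ * u * g) * R.X 4 (1 * φ))) := by rw [h2]; group
      _ = _ := by rw [h3]; group
  obtain ⟨t, ht⟩ := R.exV 2 (D.nv 2 5 (by omega) (by omega) _ hz _ (R.mU 5 1) (R.ne 5 one_ne_zero) hz5)
  have h3 : g⁻¹ * u * g = u * R.X 2 t := by rw [← ht]; group
  have x2 : a * T.σ a * (b * T.σ b) * t = t := by
    linear_combination T.σ a * T.σ b * t * e + t * e'
  rw [cj_mul', h3, cj_mul, h3, h.t2, x2, mul_assoc, R.sq 2, mul_one]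

theorem cen6 (C : C8 x) (D : D8 x) (ha : a ≠ 0) (hb : b ≠ 0) (h : Tor x T R.X g a b)
    (e : a * (b * T.σ b) = 1) {u : G} (hu : u ∈ x.U 6) : (g * g)⁻¹ * u * (g * g) = u := by
  have h1 := cen2 C D (inv_ne_zero hb) (X8.tor_n8 ha hb h) (by rw [← e]; field_simp)
    (R.rf8.U hu 2)
  rw [← cj_mul, ← cj_cj] at h1
  simpa using h1

variable (R)

/-- `y` is the `U 6`-component of `X 8 u ^ X 1 t` -/
def P (t u : K) (y : G) : Prop := y ∈ x.U 6 ∧ ∃ d ∈ II x.U 2 5, ∃ e ∈ x.U 7,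
  (R.X 1 t)⁻¹ * R.X 8 u * R.X 1 t = d * y * e * R.X 8 u

theorem P_ex (t u : K) : ∃ y, P R t u y := by
  obtain ⟨d, hd, e⟩ := cj_lo (R.mU 1 t) (R.mU 8 u) 2 7
  obtain ⟨d1, h1, e7, h7, rfl⟩ := spR hd 6
  obtain ⟨d2, h2, y, hy, rfl⟩ := spR h1 5
  exact ⟨y, hy, d2, h2, e7, h7, e⟩

variable {R}

theorem P_un {t u : K} {y y' : G} (h : P R t u y) (h' : P R t u y') : y = y' := by
  obtain ⟨hy, d, hd, e, he, h⟩ := h
  obtain ⟨hy', d', hd', e', he', h'⟩ := h'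
  have h1 := (un (i := 2) (k := 6) (l := 7) (j := 7) (mul_mem (mono hd) (toI hy))
    (mul_mem (mono hd') (toI hy')) (toI he) (toI he') (mul_right_cancel (h.symm.trans h'))).1
  exact (un (l := 6) (j := 6) hd hd' (toI hy) (toI hy') h1).2

theorem P_tor {t u : K} {y : G} (h : P R t u y) (hg : Tor x T R.X g a b) :
    P R (a * t) (b * T.σ b * u) (g⁻¹ * y * g) := by
  obtain ⟨hy, d, hd, e, he, h⟩ := h
  refine ⟨hg.nk.U hy, _, hg.nk.I hd, _, hg.nk.U he, ?_⟩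
  have := congrArg (fun z => g⁻¹ * z * g) h
  simpa only [cj_mul, cj_inv, hg.t1, hg.t8] using this

variable (R)

noncomputable def y6 (s : K) : G := (P_ex R s 1).choose

theorem y6_spec (s : K) : P R s 1 (y6 R s) := (P_ex R s 1).choose_spec

theorem y6_zero : y6 R 0 = 1 :=
  P_un (y6_spec R 0) ⟨one_mem _, 1, one_mem _, 1, one_mem _, by rw [R.zero 1]; group⟩

theorem d6 (C : C8 x) (D : D8 x) (t u : K) : P R t u (y6 R (t * u)) := by
  by_cases hu : u = 0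
  · subst hu
    rw [mul_zero, y6_zero]
    exact ⟨one_mem _, 1, one_mem _, 1, one_mem _, by rw [R.zero 8]; group⟩
  obtain ⟨b, rfl⟩ := ex_root T u
  have hβ : b * T.σ b ≠ 0 := fun h => hu (by rw [h]; ring)
  have hb : b ≠ 0 := left_ne_zero_of_mul hβ
  obtain ⟨g, -, hg⟩ := R.tor_ex _ b (inv_ne_zero hβ) hb
  have h1 := P_tor (P_tor (y6_spec R (t * (b * T.σ b) ^ 2)) hg) hg
  rw [← cj_mul', cen6 C D (inv_ne_zero hβ) hb hg (inv_mul_cancel₀ hβ) (y6_spec R _).1] at h1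
  have h2 := sg_ne (T := T) hb
  convert h1 using 1
  · field_simp
  · ring

theorem y6_tor (C : C8 x) (D : D8 x) (hg : Tor x T R.X g a b) (t : K) :
    g⁻¹ * y6 R t * g = y6 R (a * (b * T.σ b) * t) := by
  have h := d6 R C D (a * t) (b * T.σ b * 1)
  rw [show a * t * (b * T.σ b * 1) = a * (b * T.σ b) * t by ring] at h
  exact P_un (P_tor (y6_spec R t) hg) h

noncomputable def y2 (s : K) : G := R.N8⁻¹ * y6 R s * R.N8

theorem y2_tor (C : C8 x) (D : D8 x) (ha : a ≠ 0) (hb : b ≠ 0) (hg : Tor x T R.X g a b) (t : K) :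
    g⁻¹ * y2 R t * g = y2 R (a * b * t) := by
  have h2 := sg_ne (T := T) hb
  rw [y2, y2, tr R.N8_sq (y6_tor R C D (X8.tor_n8 ha hb hg) t), map_inv₀]
  congr 3; field_simp

noncomputable def yy (k : ℤ) (s : K) : G :=
  if k = 6 then y6 R s else if k = 4 then R.N1⁻¹ * y6 R s * R.N1 else if k = 2 then y2 R s
  else if k = 8 then R.N1⁻¹ * y2 R s * R.N1
  else if k = 0 then R.N8⁻¹ * (R.N1⁻¹ * y2 R s * R.N1) * R.N8 else 1

theorem jobY : JobY := fun G _ _ x _ A C D K _ _ _ T ⟨R⟩ => by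
  have m6 := fun s => (y6_spec R s).1
  have m2 : ∀ s, y2 R s ∈ x.U 2 := fun s => R.rf8.U (m6 s) 2
  refine ⟨{ R with
    y := yy R
    y_mem := fun k h0 h8 h2 t => ?_
    y_zero := fun k => by simp [yy, y2, y6_zero]
    y64 := fun t => rfl
    y62 := fun t => rfl
    y28 := fun t => rfl
    y80 := fun t => rfl
    d6 := fun t u => (d6 R C D t u).2
    y_tor := fun g a b ha hb hg t => ⟨y2_tor R C D ha hb hg t, ?_, y6_tor R C D hg t, ?_⟩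
    n15 := n15 R A C
    k3 := fun s => (ks R C s).1
    k5 := fun s => (ks R C s).2.1
    s28 := fun s => (ks R C s).2.2 }⟩
  · obtain rfl | rfl | rfl | rfl | rfl : k = 0 ∨ k = 2 ∨ k = 4 ∨ k = 6 ∨ k = 8 := by omega
    · exact R.rf8.U (R.rf1.U (m2 t) 8) 0
    · exact m2 t
    · exact R.rf1.U (m6 t) 4
    · exact m6 t
    · exact R.rf1.U (m2 t) 8
  · refine (tr R.N1_sq (y6_tor R C D (X8.tor_n1 ha hb hg) t)).trans ?_
    show _ = R.N1⁻¹ * y6 R _ * R.N1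
    rw [map_mul]; congr 3; field_simp
  · refine (tr R.N1_sq (y2_tor R C D (inv_ne_zero ha) (mul_ne_zero ha hb) (X8.tor_n1 ha hb hg) t)).trans ?_
    show _ = R.N1⁻¹ * y2 R _ * R.N1
    congr 3; field_simp

end H61.O8Y
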