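/- ORD-E, part E2: groups with an element of order `2r` in which no prime divides three orders. -/
import Cfsg.Agent.H17.OrdE1
import Cfsg.Agent.H24.Socle
import Cfsg.Agent.H24.Walter
import Cfsg.Agent.H24.OrdA
import Cfsg.Agent.H24.WalZ
import Cfsg.Agent.H24.J1Ord
import Cfsg.Agent.H34.AbB
import Cfsg.Agent.H1.Coprime2

set_option autoImplicit false

open Cfsg Subgroup H24 H10.W

namespace H61.OE

universe u
variable {G : Type u} [Group G] [Finite G] {r : ℕ}

/-- The even orders are among `2, 2r`, the orders divisible by `r` are among `r, 2r`. -/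
structure E2 (G : Type*) [Group G] (r : ℕ) : Prop where
  prime : r.Prime
  ne : r ≠ 2
  two : ∀ g : G, 2 ∣ orderOf g → orderOf g = 2 ∨ orderOf g = 2 * r
  rr : ∀ g : G, r ∣ orderOf g → orderOf g = r ∨ orderOf g = 2 * r

theorem exists_e2 (h3 : H17.OE.H3 G) (hc : ¬ H31.CIT G) : ∃ r, E2 G r := by
  simp only [H31.CIT, not_forall] at hc
  obtain ⟨t, ht, hc⟩ := hc
  obtain ⟨r, hr, hd, r2⟩ : ∃ r, r.Prime ∧ r ∣ Nat.card (centralizer ({t} : Set G)) ∧ r ≠ 2 := by
    by_contra! h
    exact hc (IsPGroup.of_card (Nat.eq_prime_pow_of_unique_prime_dvd Nat.card_pos.ne'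
      fun {d} hd h' => h d hd h'))
  obtain ⟨⟨g, hg⟩, e⟩ := ord_of_prime hr hd
  rw [← orderOf_coe] at e
  have h2 : orderOf (t * g) = 2 * r := by
    rw [(show Commute t g from (mem_centralizer_singleton_iff.1 hg).symm
      ).orderOf_mul_eq_mul_orderOf_of_coprime (by
        rw [ht, e]; exact (Nat.coprime_primes Nat.prime_two hr).2 r2.symm), ht, e]
  have := hr.two_le
  refine ⟨r, hr, r2, fun x hx => ?_, fun x hx => ?_⟩
  · by_contra! h
    exact h3 2 Nat.prime_two t (t * g) x (by omega) (by omega) (by omega)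
      ⟨ht ▸ dvd_rfl, h2 ▸ dvd_mul_right _ _, hx⟩
  · by_contra! h
    exact h3 r hr g (t * g) x (by simp only at e; omega) (by omega) (by simp only at e; omega)
      ⟨e ▸ dvd_rfl, h2 ▸ dvd_mul_left _ _, hx⟩

namespace E2

omit [Finite G] in
theorem odd (h : E2 G r) : Odd r := h.prime.odd_of_ne_two h.ne

omit [Finite G] in
theorem not_four (h : E2 G r) : ¬ Ord G 4 := fun ⟨g, hg⟩ => by
  rcases h.two g (hg ▸ by decide) with e | e
  · omega
  · exact h.ne (by omega)

omit [Finite G] in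
/-- commuting elements of orders `2` or `r` and of prime order `s` -/
theorem eq_of_commute (h : E2 G r) {x z : G} (hx : orderOf x = 2 ∨ orderOf x = r) {s : ℕ}
    (hs : s.Prime) (hz : orderOf z = s) (hc : Commute x z) : s = 2 ∨ s = r := by
  by_contra! hne
  have h2 := hs.two_le
  have h3 := h.prime.two_le
  rcases hx with hx | hx
  · have e := hc.orderOf_mul_eq_mul_orderOf_of_coprime (by
      rw [hx, hz]; exact (Nat.coprime_primes Nat.prime_two hs).2 hne.1.symm)
    rcases h.two (x * z) (by rw [e, hx]; exact dvd_mul_right _ _) with e' | e' <;> rw [e, hx, hz] at e' <;> omega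
  · have e := hc.orderOf_mul_eq_mul_orderOf_of_coprime (by
      rw [hx, hz]; exact (Nat.coprime_primes h.prime hs).2 hne.2.symm)
    rcases h.rr (x * z) (by rw [e, hx]; exact dvd_mul_right _ _) with e' | e' <;> rw [e, hx, hz] at e'
    · nlinarith
    · exact hne.1 (Nat.eq_of_mul_eq_mul_left h.prime.pos (by rw [e', mul_comm]))

theorem prime_cent (h : E2 G r) {x : G} (hx : orderOf x = 2 ∨ orderOf x = r) {s : ℕ}
    (hs : s.Prime) (hd : s ∣ Nat.card (centralizer ({x} : Set G))) : s = 2 ∨ s = r := by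
  obtain ⟨⟨g, hg⟩, e⟩ := ord_of_prime hs hd
  exact h.eq_of_commute hx hs ((orderOf_coe _).trans e)
    (mem_centralizer_singleton_iff.1 hg).symm

theorem solv (h : E2 G r) {x : G} (hx : orderOf x = 2 ∨ orderOf x = r) :
    Group.IsSolvable (centralizer ({x} : Set G)) := by
  refine solvable_of_card_primeFactors_le ((Finset.card_le_card (t := {2, r}) fun s hs => ?_).trans
    Finset.card_le_two)
  simpa using h.prime_cent hx (Nat.prime_of_mem_primeFactors hs) (Nat.dvd_of_mem_primeFactors hs)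

omit [Finite G] in
theorem pow_cent (h : E2 G r) {t c : G} (ht : orderOf t = 2) (hc : Commute t c) :
    c ^ (2 * r) = 1 := by
  rw [← orderOf_dvd_iff_pow_eq_one]
  by_cases h2 : 2 ∣ orderOf c
  · rcases h.two c h2 with e | e <;> simp [e]
  · have e := hc.orderOf_mul_eq_mul_orderOf_of_coprime (by
      rw [ht]; exact Nat.prime_two.coprime_iff_not_dvd.2 h2)
    rcases h.two (t * c) (by rw [e, ht]; exact dvd_mul_right _ _) with e' | e' <;> rw [e, ht] at e'
    · simp [show orderOf c = 1 by omega]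
    · simp [show orderOf c = r by omega]

omit [Finite G] in
theorem pow_eq_one (h : E2 G r) {y : G} {s : ℕ} (hs : s.Prime) (s2 : s ≠ 2) (hd : s ∣ orderOf y)
    (hy : (y ^ s) ^ r = 1) : y ^ s = 1 := by
  by_contra h1
  have := Fact.mk h.prime
  rcases h.rr y ((orderOf_eq_prime hy h1 ▸ orderOf_pow_dvd s :)) with e | e
  · obtain rfl := (Nat.prime_dvd_prime_iff_eq hs h.prime).1 (e ▸ hd)
    exact h1 (e ▸ pow_orderOf_eq_one y)
  · rw [← pow_mul, ← orderOf_dvd_iff_pow_eq_one, e] at hy
    exact s2 ((Nat.prime_dvd_prime_iff_eq Nat.prime_two hs).1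
      (Nat.dvd_of_mul_dvd_mul_right h.prime.pos hy)).symm

theorem sq (h : E2 G r) {S : Subgroup G} (hS : IsPGroup 2 S) {a : G} (ha : a ∈ S) : a * a = 1 := by
  obtain ⟨k, hk⟩ := hS ⟨a, ha⟩
  exact (ab2_of_no_four h.not_four).1 a k (congrArg Subtype.val hk)

theorem ab2 (h : E2 G r) : Ab2 G := (ab2_of_no_four h.not_four).2

/-- a solvable normal subgroup has odd order -/
theorem le_oddCore (h : E2 G r) (hG : ¬ Group.IsSolvable G) (C : Subgroup G) [C.Normal]
    (hC : Group.IsSolvable C) : C ≤ oddCore G := by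
  obtain ⟨N, hN, hs, h2, h3⟩ := s3188_core walterA (h.ab2.quotient (oddCore G))
    (H2.pPrimeCore_quotient_pPrimeCore 2 G) (cent_quot fun t ht => h.solv (.inl ht)) fun h =>
      hG (solvable_of_normal _ (H42.odd_order (H2.odd_card_oddCore G)) h)
  set π := QuotientGroup.mk' (oddCore G)
  have hn : (C.map π).Normal := Normal.map ‹_› π (QuotientGroup.mk'_surjective _)
  have h4 : Group.IsSolvable (C.map π) :=
    Group.isSolvable_of_surjective (MonoidHom.subgroupMap_surjective _ _)
  have h5 : Disjoint N (C.map π) := by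
    rcases (hn.subgroupOf N).eq_bot_or_eq_top with e | e
    · exact (subgroupOf_eq_bot.1 e).symm
    · have := solvable_of_le (subgroupOf_eq_top.1 e) h4
      exact absurd ⟨⟨IsSimpleGroup.comm_iff_isSolvable.2 this⟩⟩ (facts_of_L2 h3).nonab
  have h6 : C.map π ≤ ⊥ := h2 ▸ fun x hx y hy => commute_of_normal_of_disjoint _ _ hN hn h5 y x hy hx
  rwa [le_bot_iff, Subgroup.map_eq_bot_iff, QuotientGroup.ker_mk'] at h6

/-- an element of odd prime order normalising, not centralising a Sylow `2`-subgroup -/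
theorem exists_norm (h : E2 G r) (hG : ¬ Group.IsSolvable G) (S : Sylow 2 G) :
    ∃ (x : G) (s : ℕ), s.Prime ∧ s ≠ 2 ∧ x ^ s = 1 ∧ x ∈ normalizer ((S : Subgroup G) : Set G) ∧
      x ∉ centralizer ((S : Subgroup G) : Set G) := by
  set N := normalizer ((S : Subgroup G) : Set G)
  set C := centralizer ((S : Subgroup G) : Set G)
  have hSC : (S : Subgroup G) ≤ C := fun a ha b hb => h.ab2.comm_sylow S hb ha
  have h1 : ¬ N ≤ C := fun hle => hG (by
    have hc := MonoidHom.ker_transferSylow_isComplement' S hle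
    refine solvable_of_normal (MonoidHom.transferSylow S hle).ker (H42.odd_order ?_) ?_
    · rw [← hc.index_eq_card]
      exact Nat.odd_iff.2 (Nat.two_dvd_ne_zero.1 S.not_dvd_index)
    · obtain ⟨k, hk⟩ := IsPGroup.iff_card.1 S.isPGroup'
      have : IsPGroup 2 (G ⧸ (MonoidHom.transferSylow S hle).ker) :=
        IsPGroup.of_card (n := k) (by rw [← index_eq_card, hc.symm.index_eq_card, hk])
      have := this.isNilpotent
      infer_instance)
  have hi : (C.subgroupOf N).index ≠ 1 := fun e => h1 (subgroupOf_eq_top.1 (index_eq_one.1 e))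
  obtain ⟨s, hs, hd⟩ := Nat.exists_prime_and_dvd hi
  have s2 : s ≠ 2 := by
    rintro rfl
    exact S.not_dvd_index (hd.trans ((relIndex_dvd_index_of_le
      (centralizer_le_normalizer _)).trans (index_dvd_of_le hSC)))
  obtain ⟨y, hy⟩ := ord_of_prime (G := N ⧸ C.subgroupOf N) hs hd
  obtain ⟨⟨x, hx⟩, rfl⟩ := QuotientGroup.mk'_surjective _ y
  have h2 : x ^ s ∈ C := by
    have := pow_orderOf_eq_one (QuotientGroup.mk' (C.subgroupOf N) ⟨x, hx⟩)
    rw [hy, ← map_pow, QuotientGroup.mk'_apply, QuotientGroup.eq_one_iff] at this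
    exact this
  obtain ⟨t, ht, t2⟩ := H88.exists_involution_of_isPGroup S.isPGroup'
    (S.ne_bot_of_dvd_card ((show 2 ∣ 4 by decide).trans (four_dvd_of_not_solvable hG)))
  have h3 : s ∣ orderOf (QuotientGroup.mk' (C.subgroupOf N) (⟨x, hx⟩ ^ 2)) := by
    rw [map_pow, Nat.Coprime.orderOf_pow (by
      rw [hy]; exact (Nat.coprime_primes hs Nat.prime_two).2 s2), hy]
  refine ⟨x ^ 2, s, hs, s2, h.pow_eq_one hs s2 ?_ ?_, pow_mem hx 2, fun hc => ?_⟩
  · exact h3.trans ((orderOf_map_dvd _ _).trans (orderOf_coe _).symm.dvd)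
  · rw [← pow_mul, ← pow_mul, mul_left_comm, pow_mul]
    exact h.pow_cent t2 (h2 t ht)
  · rw [QuotientGroup.mk'_apply, (QuotientGroup.eq_one_iff _).2 (mem_subgroupOf.2 hc),
      orderOf_one] at h3
    exact hs.one_lt.ne' (Nat.dvd_one.1 h3)

theorem oddCore_eq_bot (h : E2 G r) (hG : ¬ Group.IsSolvable G) : oddCore G = ⊥ := by
  by_contra h0
  have := H42.odd_order (H2.odd_card_oddCore G)
  obtain ⟨p, V, hp, hn, hle, V1, ⟨hab, hexp⟩, hV, -⟩ :=
    H2.exists_elementaryAbelian_normal_le (oddCore G) h0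
  have hab : ∀ a ∈ V, ∀ b ∈ V, a * b = b * a := fun a ha b hb =>
    congrArg Subtype.val (hab.is_comm.comm ⟨a, ha⟩ ⟨b, hb⟩)
  have hodd := odd_card_of_le hle (H2.odd_card_oddCore G)
  obtain ⟨v, hv, v1⟩ := (V.bot_or_exists_ne_one).resolve_left V1
  have := Fact.mk hp
  have hord : ∀ w ∈ V, w ≠ 1 → orderOf w = p := fun w hw w1 => orderOf_eq_prime (hexp w hw) w1
  have p2 : p ≠ 2 := by
    rintro rfl
    exact hodd.not_two_dvd_nat (hord v hv v1 ▸ V.orderOf_dvd_natCard hv)
  obtain ⟨S⟩ : Nonempty (Sylow 2 G) := inferInstance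
  obtain rfl : p = r := by
    by_contra hne
    have inv : ∀ a ∈ (S : Subgroup G), a ≠ 1 → a * v * a⁻¹ = v⁻¹ := fun a ha a1 => by
      have a2 := h.sq S.isPGroup' ha
      have hw := hn.conj_mem v hv a
      refine eq_inv_of_mul_eq_one_right (by_contra fun w1 => ?_)
      have hc : Commute a (v * (a * v * a⁻¹)) := by
        change a * _ = _ * a
        rw [hab v hv _ hw]
        calc a * (a * v * a⁻¹ * v) = a * a * v * a⁻¹ * v := by group
          _ = v * (a * v) := by rw [a2, one_mul, inv_eq_of_mul_eq_one_right a2, mul_assoc]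
          _ = v * (a * v * a⁻¹) * a := by group
          _ = _ := by rw [hab v hv _ hw]
      rcases h.eq_of_commute (.inl (orderOf_eq_prime ((pow_two a).trans a2) a1)) hp
        (hord _ (mul_mem hv hw) w1) hc with e | e
      exacts [p2 e, hne e]
    have h4 : 4 ∣ Nat.card (S : Subgroup G) := by
      refine (Nat.Coprime.dvd_mul_right (n := (S : Subgroup G).index) ?_).1 ?_
      · exact Nat.Coprime.pow_left 2 (Nat.prime_two.coprime_iff_not_dvd.2 S.not_dvd_index)
      · rw [card_mul_index]; exact four_dvd_of_not_solvable hG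
    obtain ⟨a, b, a1, b1, hab'⟩ : ∃ a b : (S : Subgroup G), a ≠ 1 ∧ b ≠ 1 ∧ a ≠ b := by
      have := Fintype.ofFinite (S : Subgroup G)
      obtain ⟨a, b, c, h1, h2, h3⟩ := Fintype.two_lt_card_iff.1 (show 2 < Fintype.card (S : Subgroup G) by
        have := Nat.le_of_dvd Nat.card_pos h4
        rw [← Nat.card_eq_fintype_card]; omega)
      exact ⟨a⁻¹ * b, a⁻¹ * c, fun e => h1 (inv_mul_eq_one.1 e), fun e => h2 (inv_mul_eq_one.1 e),
        fun e => h3 (mul_left_cancel e)⟩
    have e1 := inv a a.2 fun e => a1 (Subtype.ext e)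
    have e2 := inv b b.2 fun e => b1 (Subtype.ext e)
    have e3 := inv (a * b) (mul_mem a.2 b.2) fun e => hab' (Subtype.ext
      (mul_right_cancel (e.trans (h.sq S.isPGroup' b.2).symm)))
    have e4 : v = v⁻¹ := by
      rw [← e3]
      calc v = (a * v * (a : G)⁻¹)⁻¹ := by rw [e1, inv_inv]
        _ = a * (b * v * (b : G)⁻¹) * (a : G)⁻¹ := by rw [e2]; group
        _ = _ := by group
    exact v1 (eq_one_of_odd_of_sq (odd_orderOf_of_mem hodd hv) (mul_eq_one_iff_eq_inv.2 e4))
  obtain ⟨x, s, hs, s2, hx, hN, hC⟩ := h.exists_norm hG S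
  have := Fact.mk hs
  have hX : zpowers x ≤ normalizer ((S : Subgroup G) : Set G) := zpowers_le_of_mem hN
  have ox : orderOf x = s := orderOf_eq_prime hx fun e => hC (e ▸ one_mem _)
  obtain ⟨k, hk⟩ := IsPGroup.iff_card.1 S.isPGroup'
  have := h.ab2 S
  have hb := H1.centralizer_inf_commutator_eq_bot hX (by
    rw [Nat.card_zpowers, ox, hk]
    exact ((Nat.coprime_primes hs Nat.prime_two).2 s2).pow_right _)
  have hKS := H1.commutator_le_of_le_normalizer hX
  set K := ⁅(S : Subgroup G), zpowers x⁆ with hK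
  have hK2 : IsPGroup 2 K := S.isPGroup'.to_le hKS
  have K1 : K ≠ ⊥ := fun e => hC (commutator_eq_bot_iff_le_centralizer.1
    ((commutator_comm _ _).trans e) (mem_zpowers x))
  have hxV : x ∉ V := fun hxV => K1 (eq_bot_iff.2 ((inf_eq_bot_of_odd hK2 hodd).le.trans' (le_inf le_rfl
    ((commutator_mono le_rfl (zpowers_le_of_mem hxV)).trans (commutator_le_right _ _)))))
  have key := H70.Maz.cent_of_pow (V := V) (K := K) hab (le_normalizer_of_normal)
    (le_normalizer_of_normal (mem_top x)) (H1.le_normalizer_commutator_right _ _ (mem_zpowers x))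
    hs.pos (fun i i0 hi y hy e => ?_) ?_ (fun w hw => ?_)
  · have hCV : centralizer (V : Set G) ≤ oddCore G := h.le_oddCore hG _
      (solvable_of_le (centralizer_le (Set.singleton_subset_iff.2 hv)) (h.solv (.inr (hord v hv v1))))
    refine K1 (eq_bot_iff.2 ((inf_eq_bot_of_odd hK2 (H2.odd_card_oddCore G)).le.trans'
      (le_inf le_rfl fun y hy => hCV fun w hw => (key y hy w hw).symm)))
  · refine mem_bot.1 (hb.le ⟨⟨hKS hy, ?_⟩, hy⟩)
    have e1 : zpowers (x ^ i) = zpowers x := by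
      refine eq_of_le_of_card_ge (zpowers_le_of_mem (pow_mem (mem_zpowers x) i)) ?_
      rw [Nat.card_zpowers, Nat.card_zpowers, Nat.Coprime.orderOf_pow (by
        rw [ox]; exact (Nat.coprime_of_lt_prime i0.ne' hi hs))]
    rw [← e1, zpowers_eq_closure, centralizer_closure]
    exact mem_centralizer_singleton_iff.2 e.symm
  · obtain ⟨j, hj⟩ := IsPGroup.iff_card.1 hK2
    rw [hj]
    exact (Nat.coprime_two_right.2 hodd).pow_right _
  · have e1 : QuotientGroup.mk' V (w * x) = QuotientGroup.mk' V x := by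
      rw [map_mul, QuotientGroup.mk'_apply, (QuotientGroup.eq_one_iff _).2 hw, one_mul]
    have e2 : (QuotientGroup.mk' V x) ^ s = 1 := by rw [← map_pow, hx, map_one]
    rw [hx]
    refine h.pow_eq_one hs s2 ?_ (hexp _ ?_)
    · refine Dvd.dvd.trans ?_ (orderOf_map_dvd (QuotientGroup.mk' V) _)
      rw [e1, orderOf_eq_prime e2 fun e => hxV ((QuotientGroup.eq_one_iff _).1 e)]
    · rw [← QuotientGroup.eq_one_iff, ← QuotientGroup.mk'_apply, map_pow, e1, e2]

end E2

/-- Frattini argument for a cyclic Sylow subgroup of a normal subgroup -/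
theorem trick {L : Subgroup G} [L.Normal] {s k : ℕ} [hs : Fact s.Prime] (hr : r.Prime) (hne : r ≠ s)
    (P : Sylow s L) (hc : IsCyclic P) (h1 : s ∣ Nat.card L)
    (hk : r ^ k ∣ Nat.card (normalizer ((P : Subgroup L) : Set L))) (hi : r ∣ L.index)
    (h2 : ¬ r ^ (k + 1) ∣ s - 1) : ∃ x z : G, orderOf x = r ∧ orderOf z = s ∧ Commute x z := by
  set Q := (P : Subgroup L).map L.subtype with hQ
  set N := normalizer (Q : Set G) with hN
  have e : P ≃* Q := equivMapOfInjective _ _ L.subtype_injective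
  have : IsCyclic Q := isCyclic_of_surjective e e.surjective
  have h3 : r ^ (k + 1) ∣ Nat.card N := by
    have e1 : L.relIndex N = L.index := by
      rw [← relIndex_sup_right, Sylow.normalizer_sup_eq_top, relIndex_top_right]
    rw [← card_mul_index (L.subgroupOf N), pow_succ]
    refine mul_dvd_mul (hk.trans ?_) (by rw [← e1] at hi; exact hi)
    rw [← card_map_of_injective L.subtype_injective, ← inf_subgroupOf_right,
      Nat.card_congr (subgroupOfEquivOfLe inf_le_right).toEquiv]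
    exact card_dvd_of_le (le_inf (map_subtype_le _) (le_normalizer_map _))
  obtain ⟨j, hj⟩ := IsPGroup.iff_card.1 (P.isPGroup'.map L.subtype)
  have Q1 : Q ≠ ⊥ := fun e => P.ne_bot_of_dvd_card h1
    ((map_eq_bot_iff_of_injective _ L.subtype_injective).1 e)
  have j0 : 0 < j := Nat.pos_of_ne_zero fun e => Q1 (card_eq_one.1 (by rw [hj, e, pow_zero]))
  have h4 : r ∣ Nat.card Q.normalizerMonoidHom.ker := by
    by_contra h5
    rw [← card_mul_index Q.normalizerMonoidHom.ker] at h3
    have h6 := ((hr.coprime_iff_not_dvd.2 h5).pow_left _).dvd_mul_left.1 h3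
    rw [index_ker] at h6
    replace h6 := h6.trans (card_subgroup_dvd_card Q.normalizerMonoidHom.range)
    rw [IsCyclic.card_mulAut, hj, Nat.totient_prime_pow hs.out j0] at h6
    exact h2 ((((Nat.coprime_primes hr hs.out).2 hne).pow _ _).dvd_mul_left.1 h6)
  obtain ⟨⟨⟨x, hx⟩, hx'⟩, ox⟩ := ord_of_prime hr h4
  obtain ⟨⟨z, hz⟩, oz⟩ := ord_of_prime (G := Q) hs.out (hj ▸ dvd_pow_self s j0.ne')
  rw [normalizerMonoidHom_ker] at hx'
  exact ⟨x, z, (orderOf_coe (⟨x, hx⟩ : N)).trans ((orderOf_coe _).trans ox),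
    (orderOf_coe _).trans oz, (hx' z hz).symm⟩

theorem exists_sylow_cyclic {s m : ℕ} [hs : Fact s.Prime] {g : G} (hm : Nat.card G = orderOf g * m)
    (h : ¬ s ∣ m) : ∃ P : Sylow s G, IsCyclic P := by
  obtain ⟨j, n, hn, e⟩ := Nat.exists_eq_pow_mul_and_not_dvd (orderOf_pos g).ne' s hs.out.ne_one
  obtain ⟨x, -, hx⟩ := H5.exists_orderOf_of_dvd (g := g) (n := s ^ j) ⟨n, e⟩
  have h1 : IsPGroup s (zpowers x) := IsPGroup.of_card (n := j) (by rw [Nat.card_zpowers, hx])
  have h2 : (zpowers x).index = n * m := by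
    refine Nat.eq_of_mul_eq_mul_left (pow_pos hs.out.pos j) ?_
    rw [← mul_assoc, ← e, ← hm, ← hx, ← Nat.card_zpowers, card_mul_index]
  exact ⟨h1.toSylow (h2 ▸ fun h3 => (hs.out.dvd_mul.1 h3).elim hn h),
    (inferInstance : IsCyclic (zpowers x))⟩

namespace E2

theorem trick' (h : E2 G r) {L : Subgroup G} [L.Normal] (hi : r ∣ L.index) {s m a : ℕ}
    (hs : s.Prime) (s2 : s ≠ 2) (hne : s ≠ r) (h2 : ¬ r ∣ s - 1) (hg : Ord L a) (hd : s ∣ a)
    (hm : Nat.card L = a * m) (h3 : ¬ s ∣ m) : False := by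
  have := Fact.mk hs
  obtain ⟨g, rfl⟩ := hg
  obtain ⟨P, hP⟩ := exists_sylow_cyclic hm h3
  obtain ⟨x, z, hx, hz, hc⟩ := trick (k := 0) h.prime hne.symm P hP (hm ▸ hd.mul_right m)
    (by simp) hi (by simpa using h2)
  exact (h.eq_of_commute (.inr hx) hs hz hc).elim s2 hne

theorem dvd_index (h : E2 G r) {L : Subgroup G} [L.Normal] (hC : centralizer (L : Set G) = ⊥)
    (hL : Facts L) (h1 : L ≠ ⊤) : r ∣ L.index := by
  have := hL.simple
  have hS : ∀ S : Sylow 2 G, (S : Subgroup G) ≤ L := fun S =>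
    le_of_ab le_normalizer_of_normal (H98.isSyl_sylow_of_le S le_sup_left)
      (fun a ha b hb => h.ab2.comm_sylow S ha hb) (by rw [hC, inf_bot_eq]) (by
        rw [H14.opp, show pPrimeCore 2 L = ⊥ from oddCore_eq_bot_of_nonab hL.nonab, Subgroup.map_bot])
  obtain ⟨s, hs, hd⟩ := Nat.exists_prime_and_dvd (fun e => h1 (index_eq_one.1 e))
  obtain ⟨S⟩ : Nonempty (Sylow 2 G) := inferInstance
  obtain ⟨t, ht⟩ := ord_of_prime Nat.prime_two (even_card_of_nonabelian hL.nonab).two_dvd
  have e : centralizer ({(t : G)} : Set G) ⊔ L = ⊤ := eq_top_iff.2 fun g _ => by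
    obtain ⟨c, hc⟩ := isConj_iff.1 (H34.Ab.isConj_of_singer hL.singer
      ((MulEquiv.orderOf_eq (MulAut.conjNormal g : MulAut L) t).trans ht) ht)
    have hc' : (c : G) * (g * t * g⁻¹) * (c : G)⁻¹ = t := congrArg Subtype.val hc
    have : (c : G) * g ∈ centralizer ({(t : G)} : Set G) := mem_centralizer_singleton_iff.2 (by
      conv_rhs => rw [← hc']
      group)
    exact (mul_mem_cancel_left (mem_sup_right c.2)).1 (mem_sup_left this)
  have h2 : s ∣ Nat.card (centralizer ({(t : G)} : Set G)) := by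
    rw [← relIndex_top_right, ← e, relIndex_sup_right] at hd
    exact hd.trans (relIndex_dvd_card _ _)
  rcases h.prime_cent (.inl ((orderOf_coe t).trans ht)) hs h2 with rfl | rfl
  · exact absurd (hd.trans (index_dvd_of_le (hS S))) S.not_dvd_index
  · exact hd

omit [Finite G] in
theorem sub (h : E2 G r) (L : Subgroup G) : E2 L r :=
  ⟨h.prime, h.ne, fun g => orderOf_coe g ▸ h.two g, fun g => orderOf_coe g ▸ h.rr g⟩

theorem not_l2E (h : E2 G r) {L : Subgroup G} [L.Normal] (hi : r ∣ L.index) (hL : IsL2E L) :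
    False := by
  obtain ⟨n, hn, hL⟩ := hL
  have h4 : 2 ^ 2 ≤ 2 ^ n := Nat.pow_le_pow_right two_pos hn
  have h2 : 2 ∣ 2 ^ n := dvd_pow_self 2 (by omega)
  have h3 := not_three_dvd_two_pow n
  obtain ⟨hc, ha, hb⟩ := L2.facts hL
  rw [H61.gcd_two_of_even (even_iff_two_dvd.2 h2) (by omega), Nat.div_one] at hc ha hb
  generalize 2 ^ n = q at *
  have h7 : 3 ∣ q + 1 ∨ 3 ∣ q - 1 := by
    have : q % 3 = 1 ∨ q % 3 = 2 := by omega
    omega
  by_cases r3 : r = 3
  · subst r3
    obtain rfl : q = 4 := by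
      obtain ⟨a, ha⟩ := ha
      obtain ⟨b, hb⟩ := hb
      rcases h7 with e | e
      · have := (h.sub L).rr b (hb ▸ e)
        omega
      · have := (h.sub L).rr a (ha ▸ e)
        omega
    exact h.trick' (m := 12) hi Nat.prime_five (by decide) (by decide) (by decide) hb dvd_rfl hc
      (by decide)
  have h5 : ¬ r ∣ 3 - 1 := fun e => h.ne ((Nat.prime_dvd_prime_iff_eq h.prime Nat.prime_two).1 e)
  by_cases h6 : 3 ∣ q + 1
  · refine h.trick' hi Nat.prime_three (by decide) (Ne.symm r3) h5 hb h6 hc fun e => ?_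
    rcases Nat.prime_three.dvd_mul.1 e with e | e <;> omega
  · refine h.trick' (m := (q + 1) * q) hi Nat.prime_three (by decide) (Ne.symm r3) h5 ha
      (h7.resolve_left h6)
      (by rw [hc]; ring) fun e => ?_
    rcases Nat.prime_three.dvd_mul.1 e with e | e <;> omega

theorem not_l2O (h : E2 G r) {L : Subgroup G} [L.Normal] (hi : r ∣ L.index) {q : ℕ} (h5 : 5 < q)
    (h8 : q % 8 = 3 ∨ q % 8 = 5) (hL : L2 q L) : False := by
  obtain ⟨hc, ha, hb⟩ := L2.facts hL
  rw [H61.gcd_two_of_odd (Nat.odd_iff.2 (by omega))] at hc ha hb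
  have hr := h.prime.two_le
  have ho := Nat.odd_iff.1 h.odd
  rcases h8 with h8 | h8
  · obtain rfl : q = 4 * r - 1 := by
      obtain ⟨b, hb⟩ := hb
      have := (h.sub L).two b
      omega
    rw [show (4 * r - 1 - 1) / 2 = 2 * r - 1 by omega] at hc ha
    obtain ⟨s, hs, hd⟩ := Nat.exists_prime_and_dvd (show 2 * r - 1 ≠ 1 by omega)
    have h1 := hs.two_le
    have h2 := Nat.le_of_dvd (by omega) hd
    have key : ∀ a b : ℕ, s ∣ a → a * b = 2 * r - 1 + 1 → False := fun a b h3 h4 =>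
      hs.one_lt.ne' (Nat.dvd_one.1 ((Nat.dvd_add_right hd).1 (h4 ▸ h3.mul_right b)))
    have s2 : s ≠ 2 := fun e => key 2 r (e ▸ dvd_rfl) (by omega)
    have so := Nat.odd_iff.1 (hs.odd_of_ne_two s2)
    refine h.trick' (m := 2 * (2 * r) * (4 * r - 1)) hi hs s2
      (fun e => key r 2 (e ▸ dvd_rfl) (by omega)) ?_ ha hd
      (by rw [hc, show 4 * r - 1 + 1 = 2 * (2 * r) by omega]; ring) fun e => ?_
    · rintro ⟨c, e⟩
      rcases c with _ | _ | c
      · omega
      · omega
      · have : r * (c + 1 + 1) = r * c + 2 * r := by ring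
        omega
    · rcases hs.dvd_mul.1 e with e | e
      · rcases hs.dvd_mul.1 e with e | e
        exacts [key 2 r e (by omega), key _ 1 e (by omega)]
      · refine hs.one_lt.ne' (Nat.dvd_one.1 ((Nat.dvd_add_right (hd.mul_left 2)).1 ?_))
        rwa [show 2 * (2 * r - 1) + 1 = 4 * r - 1 by omega]
  · obtain rfl : q = 4 * r + 1 := by
      obtain ⟨a, ha⟩ := ha
      have := (h.sub L).two a
      omega
    rw [show (4 * r + 1 - 1) / 2 = 2 * r by omega] at hc
    rw [show (4 * r + 1 + 1) / 2 = 2 * r + 1 by omega] at hb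
    by_cases r3 : r = 3
    · subst r3
      have := Fact.mk (show Nat.Prime 13 by norm_num)
      obtain ⟨g, hg⟩ := ord_of_prime (G := L) this.out (by rw [hc]; decide)
      obtain ⟨P, hP⟩ := exists_sylow_cyclic (s := 13) (g := g) (m := 84) (by rw [hc, hg]) (by decide)
      obtain ⟨x, z, hx, hz, hxz⟩ := trick (k := 1) h.prime (by decide) P hP (by rw [hc]; decide) (by
        have e1 := card_sylow_modEq_one 13 L
        have e2 := card_mul_index (normalizer ((P : Subgroup L) : Set L))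
        rw [P.card_eq_index_normalizer] at e1
        have e3 : (normalizer ((P : Subgroup L) : Set L)).index ∣ 84 := by
          refine (Nat.Coprime.dvd_mul_left (m := 13) ?_).1 (e2.trans hc ▸ dvd_mul_left _ _)
          rw [Nat.coprime_comm, this.out.coprime_iff_not_dvd]
          exact fun e => absurd (((Nat.modEq_zero_iff_dvd.2 e).symm.trans e1)) (by decide)
        by_contra e4
        have e5 := (Nat.prime_three.dvd_mul.1 (by rw [e2, hc]; decide : 3 ∣ _ * _)).resolve_left e4
        have e6 := Nat.le_of_dvd (by decide) e3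
        change (normalizer ((P : Subgroup L) : Set L)).index ≡ 1 [MOD 13] at e1
        generalize (normalizer ((P : Subgroup L) : Set L)).index = n at *
        interval_cases n <;> simp_all [Nat.ModEq]) hi (by decide)
      exact (h.eq_of_commute (.inr hx) this.out hz hxz).elim (by decide) (by decide)
    have h3 : ¬ 3 ∣ r := fun e => r3 ((Nat.prime_dvd_prime_iff_eq Nat.prime_three h.prime).1 e).symm
    have h4 : ¬ 3 ∣ 4 * r + 1 := fun e => by
      obtain ⟨n, hn⟩ := L2.pow_three hL e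
      have : ∀ n : ℕ, 3 ^ n % 8 = 1 ∨ 3 ^ n % 8 = 3 := fun n => by
        induction n with
        | zero => simp
        | succ n ih => rw [pow_succ]; omega
      have := this n
      omega
    refine h.trick' (m := 2 * ((4 * r + 1) * (2 * r))) hi Nat.prime_three (by decide) (Ne.symm r3)
      (fun e => h.ne ((Nat.prime_dvd_prime_iff_eq h.prime Nat.prime_two).1 e)) hb (by
        have : r % 3 = 0 ∨ r % 3 = 1 ∨ r % 3 = 2 := by omega
        omega)
      (by rw [hc]; ring) fun e => ?_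
    rcases Nat.prime_three.dvd_mul.1 e with e | e
    · omega
    · rcases Nat.prime_three.dvd_mul.1 e with e | e <;> omega

theorem l2 (h : E2 G r) (hG : ¬ Group.IsSolvable G) :
    IsL2E G ∨ ∃ q, 5 < q ∧ (q % 8 = 3 ∨ q % 8 = 5) ∧ IsL2 G q := by
  obtain ⟨L, hN, -, h2, h3⟩ := s3188_core walterA h.ab2 (h.oddCore_eq_bot hG)
    (fun t ht => h.solv (.inl ht)) hG
  have h4 : IsL2E L ∨ ∃ q, 5 < q ∧ (q % 8 = 3 ∨ q % 8 = 5) ∧ IsL2 L q := by
    rcases h3 with h3 | ⟨q, h3, h8, h4⟩
    · exact .inl h3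
    by_cases h5 : q = 5
    · exact .inl ⟨2, le_rfl, isL2_four_iff.2 (h5 ▸ h4)⟩
    · exact .inr ⟨q, by omega, h8, h4⟩
  obtain rfl : L = ⊤ := by
    by_contra h1
    have hi := h.dvd_index h2 (facts_of_L2 h3) h1
    rcases h4 with h4 | ⟨q, h5, h8, h4⟩
    exacts [h.not_l2E hi h4, h.not_l2O hi h5 h8 h4]
  rcases h4 with ⟨n, hn, h4⟩ | ⟨q, h5, h8, h4⟩
  exacts [.inl ⟨n, hn, L2.of_mulEquiv h4 topEquiv.symm⟩,
    .inr ⟨q, h5, h8, L2.of_mulEquiv h4 topEquiv.symm⟩]

end E2

end H61.OE
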