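import Cfsg.Agent.H70.RRSpec
import Cfsg.Agent.H61.PSLOdd
import Cfsg.Agent.H61.HurSolv

/-! Row S3530, job L2: facts on `L₂(q)`. -/

set_option autoImplicit false

namespace H61.RRL

open Subgroup MulAction H70.RR H24

universe u

variable {p : ℕ} {G X : Type*} [Group G] [MulAction G X] {h : Hur p G X} {x y : X} {q d n : ℕ}

theorem congr {T : Type*} [Group T] (e : T ≃* G) (m : Main h x y q d n) :
    ∃ (_ : MulAction T X) (h' : Hur p T X), Main h' x y q d n := by
  let _ : MulAction T X := MulAction.compHom X e.toMonoidHom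
  have h' : Hur p T X := h.comap e.toMonoidHom e.injective fun _ _ => rfl
  have o : ∀ a : X, orbit T a = orbit G a := fun a => Set.ext fun b =>
    ⟨fun ⟨g, hg⟩ => ⟨e g, hg⟩, fun ⟨g, hg⟩ => by
      obtain ⟨g, rfl⟩ := e.surjective g
      exact ⟨g, hg⟩⟩
  have c : ∀ K : Subgroup G, Nat.card (K.comap e.toMonoidHom) = Nat.card K := fun K => by
    exact Nat.card_congr (e.toEquiv.subtypeEquiv fun _ => Iff.rfl)
  have s : ∀ a : X, stabilizer T a = (stabilizer G a).comap e.toMonoidHom := fun _ => rfl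
  have k : ∀ a : X, h'.Q a = (h.Q a).comap e.toMonoidHom := fun a => Subgroup.ext fun g =>
    and_congr_right fun _ => by
      change _ ↔ e g ^ p = 1
      rw [← map_pow, e.map_eq_one_iff]
  refine ⟨_, h', m.two_le, by rw [k, c, m.card_Q], by rw [o, m.card_orbit],
    by rw [s, c, m.card_stab], ?_, by rw [s, c, m.card_stab_y], fun t ht => ?_, m.params⟩
  · rw [← card_eq_one, k, c, m.Q_y, card_bot]
  · rw [o, o]
    exact m.special t fun e' => ht (by rw [← card_eq_one, s, c, e', card_bot])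

variable [Finite G] (m : Main h x y q d n)
include m

theorem syl (U : Sylow p G) : ∃ a ∈ orbit G x, (U : Subgroup G) = h.Q a := by
  have := Fact.mk h.prime
  obtain ⟨a, ha⟩ := h.exists_Q_eq_sylow U
  refine ⟨a, m.mem_orbit_of_Q (ha ▸ U.ne_bot_of_dvd_card ?_), ha⟩
  rw [m.card_eq]
  exact (m.p_dvd_q.mul_right _).mul_left _

theorem fr {e : ℕ} (he : e.Prime) (hd : e ∣ d) : ∃ z ∈ normalizer (h.Q x : Set G), orderOf z = e ∧
    ∃ t ∈ h.Q x, ¬ Commute z t := by
  have := Fact.mk he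
  obtain ⟨b, -, -, hc⟩ := m.exists_split
  obtain ⟨z, hz⟩ := exists_prime_orderOf_dvd_card' e (hc ▸ hd)
  have hQ := m.Q_ne_bot (mem_orbit_self x)
  obtain ⟨⟨t, ht⟩, t1⟩ := ne_bot_iff_exists_ne_one.1 hQ
  refine ⟨z, by rw [h.normalizer_Q hQ]; exact z.2.1, (orderOf_coe z).trans hz, t, ht, fun hc => ?_⟩
  have := orderOf_dvd_of_pow_eq_one
    (h.mem_Q_of_commute ht (fun e => t1 (Subtype.ext e)) hc).2
  rw [orderOf_coe, hz, Nat.prime_dvd_prime_iff_eq he h.prime] at this
  exact m.coprime_d (this ▸ hd)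

theorem cen {z : G} (h1 : (orderOf z).Prime) (h2 : orderOf z ≠ 2) (h3 : orderOf z ∣ n) :
    IsCyclic (centralizer ({z} : Set G)) ∧ Nat.card (centralizer ({z} : Set G)) = n := by
  have n2 : ¬ orderOf z ∣ 2 := fun e => h2 ((Nat.prime_dvd_prime_iff_eq h1 Nat.prime_two).1 e)
  obtain ⟨a, b, hab, hz⟩ := h.exists_tor (g := z) fun e => m.coprime_n
    ((Nat.prime_dvd_prime_iff_eq h1 h.prime).1 (orderOf_dvd_of_pow_eq_one e) ▸ h3)
  rw [h.centralizer_eq_tor hab hz fun e => n2 (orderOf_dvd_of_pow_eq_one ((pow_two z).trans e))]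
  refine ⟨h.isCyclic_stabilizer_inf hab, ?_⟩
  rcases m.tor_cases hab (fun e => h1.ne_one (orderOf_eq_one_iff.2 (mem_bot.1 (e ▸ hz)))) with k | k
  · have h4 : orderOf z ∣ d := k.2.2 ▸ Subgroup.orderOf_dvd_natCard _ hz
    rcases m.params with k | k
    · exact (n2 ((Nat.dvd_add_right h4).1 ((show d + 2 = n by omega) ▸ h3))).elim
    · exact (h1.not_dvd_one ((Nat.dvd_add_right h4).1 ((show d + 1 = n by omega) ▸ h3))).elim
  · exact k.2.2.2

theorem ns3 (hp : p ≠ 2) (hq : 2 * d + 1 = q) (hn : n = d + 1) (hd : d % 4 = 1 ∨ d % 4 = 2) :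
    NSd G 3 := by
  have h12 := m.twelve_mul_card_four hp hn
  have G0 : 0 < Nat.card G := Nat.card_pos
  have N0 : Nat.card {V : Subgroup G // IsKleinFour V} ≠ 0 := by omega
  obtain ⟨V, hV⟩ := (Nat.card_ne_zero.1 N0).1
  have hN : Nat.card (normalizer (V : Set G)) = 12 := by
    have h1 := ncard_conj_subgroup_mul V
    rw [show {W : Subgroup G | ∃ g : G, W = V.map (MulAut.conj g).toMonoidHom} =
      {W : Subgroup G | IsKleinFour W} from Set.ext fun W => ⟨by
        rintro ⟨g, rfl⟩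
        have e := V.equivMapOfInjective (MulAut.conj g).toMonoidHom (MulAut.conj g).injective
        exact ⟨(Nat.card_congr e.toEquiv).symm.trans hV.card_four,
          (Monoid.exponent_eq_of_mulEquiv e).symm.trans hV.exponent_two⟩, fun hW => by
        rcases hd with hd | hd
        · exact m.four_conj_of_odd hp hn (Or.inr rfl) (by omega) hV hW
        · exact m.four_conj_of_odd hp hn (Or.inl rfl) hd hV hW⟩, ← h12, mul_comm] at h1
    exact Nat.eq_of_mul_eq_mul_right (Nat.pos_of_ne_zero N0) h1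
  have hi : ¬ 2 ∣ V.index := fun ⟨k, hk⟩ => by
    have h1 := V.card_mul_index
    rw [hV.card_four, hk, m.card_eq, ← hq] at h1
    have h2 : (d + 1) * ((2 * d + 1) * d) = 4 * k := by nlinarith
    have h3 : (d + 1) * ((2 * d + 1) * d) % 4 = 2 := by
      rcases hd with hd | hd <;> simp [Nat.mul_mod, Nat.add_mod, hd]
    omega
  obtain ⟨z, hz⟩ := exists_prime_orderOf_dvd_card' (G := normalizer (V : Set G)) 3 (by rw [hN]; decide)
  rw [← orderOf_coe] at hz
  refine ⟨(IsPGroup.of_card (n := 2) hV.card_four).toSylow hi, Or.inl ⟨hV.card_four, rfl⟩, z, z.2, hz, ?_⟩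
  by_contra! hc
  replace hc : ∀ t ∈ V, Commute (z : G) t := hc
  have z1 : (z : G) ≠ 1 := fun e => by rw [e, orderOf_one] at hz; omega
  have key : IsCyclic V := by
    by_cases hzp : (z : G) ^ p = 1
    · obtain ⟨a, ha⟩ := h.fix z
      have : Subsingleton V := ⟨fun s t => by
        have one : ∀ t : V, t = 1 := fun t => by
          have h1 := orderOf_dvd_of_pow_eq_one
            (h.mem_Q_of_commute (x := a) ⟨ha, hzp⟩ z1 (hc t t.2).symm).2
          have h2 : orderOf t ∣ 2 := hV.exponent_two ▸ Monoid.order_dvd_exponent t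
          rw [orderOf_coe] at h1
          exact orderOf_eq_one_iff.1 (Nat.eq_one_of_dvd_coprimes
            ((Nat.coprime_primes h.prime Nat.prime_two).2 hp) h1 h2)
        rw [one s, one t]⟩
      exact isCyclic_of_subsingleton
    · obtain ⟨a, b, hab, hz'⟩ := h.exists_tor hzp
      have := h.isCyclic_stabilizer_inf hab
      refine isCyclic_of_le (H' := tor G a b) fun t ht => ?_
      rw [← h.centralizer_eq_tor hab hz' fun e => by
        have := orderOf_dvd_of_pow_eq_one ((pow_two _).trans e)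
        rw [hz] at this; omega]
      exact mem_centralizer_singleton_iff.2 (hc t ht).symm
  exact IsKleinFour.not_isCyclic key

theorem l2d {k : ℕ} (hq : q = p ^ k) (par : (p = 2 ∧ 2 ≤ k ∧ d + 1 = p ^ k ∧ n = p ^ k + 1) ∨
    (p ≠ 2 ∧ 3 < p ^ k ∧ (p ^ k % 8 = 3 ∨ p ^ k % 8 = 5) ∧ 2 * d + 1 = p ^ k ∧ n = d + 1)) :
    L2D G p k d n := by
  have := Fact.mk h.prime
  subst hq
  have c : ∀ U : Sylow p G, Nat.card U = p ^ k := fun U => by
    obtain ⟨a, ha, e⟩ := syl m U
    exact (congrArg (fun K : Subgroup G => Nat.card K) e).trans (m.card_Q_of_mem ha)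
  refine ⟨⟨h.prime, fun U V hne => ?_, fun U => ?_⟩, par, m.card_eq, c, fun U => ?_, m.orderOf_cases,
    m.exists_orderOf_eq_d, m.exists_orderOf_eq_n, fun _ => cen m,
    fun e he hd => ?_, fun hp => ?_, fun h8 => ?_⟩
  · obtain ⟨a, -, e⟩ := syl m U
    obtain ⟨b, -, e'⟩ := syl m V
    refine eq_bot_iff.2 fun g hg => by_contra fun g1 => hne (Sylow.ext ?_)
    rw [e, e', h.eq_of_Q_inf (x := a) (y := b) (e.le hg.1) (e'.le hg.2) g1]
  · obtain ⟨a, ha, e⟩ := syl m U
    rw [c, U.card_eq_index_normalizer, ← m.card_orbit, ← orbit_eq_of_mem ha, Nat.card_coe_set_eq,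
      ← index_stabilizer, ← h.normalizer_Q (m.Q_ne_bot ha), ← e]
    rfl
  · obtain ⟨a, ha, e⟩ := syl m U
    exact h.isSolvable_of_le_stabilizer (x := a) (by rw [e, h.normalizer_Q (m.Q_ne_bot ha)])
  · obtain ⟨z, h1, h2, h3⟩ := fr m he hd
    exact ⟨_, z, h.isPGroup_Q x, h1, h2, h3⟩
  · obtain ⟨-, -, h1, h2, h3⟩ := par.resolve_left fun k => hp k.1
    exact ns3 m hp h2 h3 (by omega)
  · obtain ⟨rfl, -, h1, -⟩ := par.resolve_right fun k => by omega
    obtain ⟨z, h2, h3, h4⟩ := fr m (e := 7) (by norm_num) (by rw [show d = 7 by omega])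
    obtain ⟨P, hP⟩ := h.exists_sylow_eq_Q (m.Q_ne_bot (mem_orbit_self x))
    exact ⟨P, Or.inr ⟨(c P).trans h8, rfl⟩, z, hP ▸ h2, h3, by
      obtain ⟨t, ht, k⟩ := h4
      exact ⟨t, hP.ge ht, k⟩⟩

omit m in
theorem jobL2 : JobL2.{u} := by
  rintro T _ (⟨k, hk, F, _, _, hF, ⟨e⟩⟩ | ⟨q, h3, h8, F, _, _, hF, ⟨e⟩⟩)
  · have : Finite T := Finite.of_equiv _ e.symm.toEquiv
    have : CharP F 2 := by
      obtain ⟨p, hp⟩ := CharP.exists F
      obtain ⟨j, hp', hj⟩ := FiniteField.card F p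
      have : p ∣ 2 ^ k := hF ▸ hj ▸ dvd_pow_self p j.ne_zero
      rwa [(Nat.prime_dvd_prime_iff_eq hp' Nat.prime_two).1 (hp'.dvd_of_dvd_pow this)] at hp
    obtain ⟨y, m⟩ := main_psl (F := F) 2
    have h0 : 2 ^ k ≠ 0 := by positivity
    rw [Nat.card_eq_fintype_card, hF, gcd_two_of_even (Nat.even_pow.2 ⟨even_two, by omega⟩) h0,
      Nat.div_one, Nat.div_one] at m
    obtain ⟨_, h', m'⟩ := congr e m
    exact ⟨2, k, _, _, l2d m' rfl (Or.inl ⟨rfl, hk, by omega, rfl⟩)⟩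
  · have : Finite T := Finite.of_equiv _ e.symm.toEquiv
    rw [← Nat.card_eq_fintype_card] at hF
    obtain ⟨p, _, _, y, d, hp, hd, m⟩ := main_psl_odd (F := F) (by rw [hF, Nat.odd_iff]; omega)
    obtain ⟨k, -, hk⟩ := m.exists_pow
    obtain ⟨_, h', m'⟩ := congr e m
    exact ⟨p, k, _, _, l2d m' hk (Or.inr ⟨hp, by omega, by omega, by omega, rfl⟩)⟩

end H61.RRL
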