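import Cfsg.Agent.H42.S5Kit
import Cfsg.Agent.H9.LyH
import Cfsg.Agent.H31.JCtx

/-! Tower S5, job LY: a Sylow subgroup of type `Ly`. -/

set_option autoImplicit false
set_option maxRecDepth 100000
set_option synthInstance.maxSize 1024

namespace H61.S5Y

open Cfsg Subgroup H98 H42.S5 Equiv
open H9.Ly hiding mem_cen1
open H1.Gold (nor cen cen1)
open H90 (Act)
open H31 (PCL exists_hom_of_pcl)
open scoped commutatorElement

universe u

/-- the defining relations -/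
structure Rel {G : Type*} [Group G] (f t a b c d u z : G) : Prop where
  ff : f * f = 1
  tt : t * t = 1
  aa : a * a = 1
  bb : b * b = 1
  cc : c * c = 1
  dd : d * d = 1
  uu : u * u = 1
  zz : z * z = 1
  ft : f * t * f⁻¹ = t
  fa : f * a * f⁻¹ = b * a
  fb : f * b * f⁻¹ = b
  fc : f * c * f⁻¹ = d * c
  fd : f * d * f⁻¹ = d
  fu : f * u * f⁻¹ = z * u
  fz : f * z * f⁻¹ = z
  ta : t * a * t⁻¹ = c
  tb : t * b * t⁻¹ = d
  tc : t * c * t⁻¹ = a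
  td : t * d * t⁻¹ = b
  tu : t * u * t⁻¹ = u
  tz : t * z * t⁻¹ = z
  ab : a * b * a⁻¹ = b
  ac : a * c * a⁻¹ = u * c
  ad : a * d * a⁻¹ = z * u * d
  au : a * u * a⁻¹ = u
  az : a * z * a⁻¹ = z
  bc : b * c * b⁻¹ = z * u * c
  bd : b * d * b⁻¹ = z * d
  bu : b * u * b⁻¹ = u
  bz : b * z * b⁻¹ = z
  cd : c * d * c⁻¹ = d
  cu : c * u * c⁻¹ = u
  cz : c * z * c⁻¹ = z
  du : d * u * d⁻¹ = u
  dz : d * z * d⁻¹ = z
  uz : u * z * u⁻¹ = z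

theorem Rel.pcl {G : Type*} [Group G] {f t a b c d u z : G} (h : Rel f t a b c d u z) :
    PCL [f, t, a, b, c, d, u, z] := by
  have m : ∀ {l : List G} {r : G}, r ∈ l → r ∈ closure {y | y ∈ l} := fun h => subset_closure h
  simp only [PCL, List.forall_mem_cons, List.not_mem_nil, IsEmpty.forall_iff, implies_true,
    and_true, true_and, one_mem, h.ff, h.tt, h.aa, h.bb, h.cc, h.dd, h.uu, h.zz, h.ft, h.fa, h.fb,
    h.fc, h.fd, h.fu, h.fz, h.ta, h.tb, h.tc, h.td, h.tu, h.tz, h.ab, h.ac, h.ad, h.au, h.az, h.bc,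
    h.bd, h.bu, h.bz, h.cd, h.cu, h.cz, h.du, h.dz, h.uz]
  refine ⟨⟨⟨⟨⟨⟨?_, ?_, ?_⟩, ?_, ?_, ?_⟩, ?_, ?_, ?_, ?_⟩, ?_, ?_, ?_, ?_, ?_⟩, ?_, ?_, ?_, ?_, ?_, ?_⟩,
    ?_, ?_, ?_, ?_, ?_, ?_, ?_⟩ <;>
    first
    | (refine m ?_; simp; done)
    | (refine mul_mem (m ?_) (m ?_) <;> simp; done)
    | (refine mul_mem (mul_mem (m ?_) (m ?_)) (m ?_) <;> simp)

theorem Rel.prod {G H : Type*} [Group G] [Group H] {f t a b c d u z : G}
    {f' t' a' b' c' d' u' z' : H} (h : Rel f t a b c d u z) (h' : Rel f' t' a' b' c' d' u' z') :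
    Rel (f, f') (t, t') (a, a') (b, b') (c, c') (d, d') (u, u') (z, z') :=
  ⟨Prod.ext h.1 h'.1, Prod.ext h.2 h'.2, Prod.ext h.3 h'.3, Prod.ext h.4 h'.4, Prod.ext h.5 h'.5,
    Prod.ext h.6 h'.6, Prod.ext h.7 h'.7, Prod.ext h.8 h'.8, Prod.ext h.9 h'.9, Prod.ext h.10 h'.10,
    Prod.ext h.11 h'.11, Prod.ext h.12 h'.12, Prod.ext h.13 h'.13, Prod.ext h.14 h'.14,
    Prod.ext h.15 h'.15, Prod.ext h.16 h'.16, Prod.ext h.17 h'.17, Prod.ext h.18 h'.18,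
    Prod.ext h.19 h'.19, Prod.ext h.20 h'.20, Prod.ext h.21 h'.21, Prod.ext h.22 h'.22,
    Prod.ext h.23 h'.23, Prod.ext h.24 h'.24, Prod.ext h.25 h'.25, Prod.ext h.26 h'.26,
    Prod.ext h.27 h'.27, Prod.ext h.28 h'.28, Prod.ext h.29 h'.29, Prod.ext h.30 h'.30,
    Prod.ext h.31 h'.31, Prod.ext h.32 h'.32, Prod.ext h.33 h'.33, Prod.ext h.34 h'.34,
    Prod.ext h.35 h'.35, Prod.ext h.36 h'.36⟩

theorem rel0 : Rel (sw [0]) (sw [1]) (sw [3]) (sw [2]) (sw [1,3,1]) (sw [1,2,1]) tS zS := by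
  constructor <;> decide +kernel

theorem cenS (y : S0) (h : ∀ i ∈ [0,1,2,3], sw [i] * y = y * sw [i]) : y = 1 ∨ y = zS :=
  of_frL (M := lS) (P := fun L => ∀ y ∈ L, (∀ i ∈ [0,1,2,3], sw [i] * y = y * sw [i]) →
    y = 1 ∨ y = zS) (by decide +kernel) y (mem_lS y) h

theorem inj_of_z {G : Type*} [Group G] {φ : S0 →* G} (h : φ zS ≠ 1) : Function.Injective φ := by
  rw [← MonoidHom.ker_eq_bot_iff]
  by_contra ne
  obtain ⟨y, hy, y1⟩ := (bot_or_exists_ne_one _).resolve_left (inf_centralizer_ne_bot (A := ⊤)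
    (pS0.to_subgroup _) (pS0.to_subgroup _) (normalizer_eq_top φ.ker).ge ne)
  rcases cenS y fun i _ => hy.2 _ (mem_top _) with e | e
  · exact y1 e
  · exact h (e ▸ hy.1)

theorem gen0 :
    closure {y | y ∈ [sw [0], sw [1], sw [3], sw [2], sw [1,3,1], sw [1,2,1], tS, zS]} = ⊤ := by
  refine eq_top_iff.2 (le_trans (fun y _ => (⟨y, rfl⟩ : y ∈ (MonoidHom.id S0).range))
      (S0_ind ?_ ?_ ?_ ?_)) <;> rw [MonoidHom.id_apply]
  exacts [subset_closure (.head _), subset_closure (.tail _ (.head _)),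
    subset_closure (.tail _ (.tail _ (.tail _ (.head _)))),
    subset_closure (.tail _ (.tail _ (.head _)))]

theorem Rel.exists_hom {G : Type*} [Group G] {f t a b c d u z : G} (h : Rel f t a b c d u z)
    (h1 : z ≠ 1) : ∃ φ : S0 →* G, Function.Injective φ ∧ φ (sw [0]) = f ∧ φ (sw [1]) = t ∧
      φ (sw [3]) = a ∧ φ (sw [2]) = b ∧ φ tS = u ∧ φ zS = z := by
  obtain ⟨φ, hφ⟩ := exists_hom_of_pcl (rel0.prod h).pcl
    (by rw [card_S0]; simp only [List.length_cons, List.length_nil]; norm_num) (by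
    simp only [List.map_cons, List.map_nil]; exact gen0)
  simp only [List.forall_mem_cons] at hφ
  obtain ⟨a0, a1, a2, a3, -, -, a6, a7, -⟩ := hφ
  exact ⟨φ, inj_of_z fun e => h1 (a7.symm.trans e), a0, a1, a2, a3, a6, a7⟩

theorem fr_unique {G : Type*} [Group G] {φ : S0 →* G} (hi : Function.Injective φ) {g : G}
    {σ τ : Perm (Fin 5)} (h : Fr φ g σ) (h' : Fr φ g τ) : σ = τ := by
  have k : ∀ i j : Fin 5, (pp i = pp j ∨ pp i = zS * pp j ∨ zS * pp i = pp j ∨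
      zS * pp i = zS * pp j) → i = j := by decide +kernel
  refine Perm.ext fun i => k _ _ ?_
  rcases h.2 i with a | a <;> rcases h'.2 i with b | b
  exacts [Or.inl (a.unique hi b), Or.inr (Or.inl (a.unique hi b)),
    Or.inr (Or.inr (Or.inl (a.unique hi b))), Or.inr (Or.inr (Or.inr (a.unique hi b)))]

theorem fr_one {G : Type*} [Group G] (φ : S0 →* G) : Fr φ 1 1 := (map_one φ) ▸ fr_of

theorem fr_pow {G : Type*} [Group G] {φ : S0 →* G} {g : G} {σ : Perm (Fin 5)} (h : Fr φ g σ)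
    (n : ℕ) : Fr φ (g ^ n) (σ ^ n) := by
  induction n with
  | zero => rw [pow_zero, pow_zero]; exact fr_one φ
  | succ n ih => rw [pow_succ, pow_succ]; exact ih.mul h

/-- The elements that permute the frame by an element of `Γ`. -/
def frS {G : Type*} [Group G] (φ : S0 →* G) (Γ : Subgroup (Perm (Fin 5))) : Subgroup G where
  carrier := {g | ∃ σ ∈ Γ, Fr φ g σ}
  one_mem' := ⟨1, one_mem _, fr_one φ⟩
  mul_mem' := fun ⟨_, a, a'⟩ ⟨_, b, b'⟩ => ⟨_, mul_mem a b, a'.mul b'⟩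
  inv_mem' := fun ⟨_, a, a'⟩ => ⟨_, inv_mem a, a'.inv⟩

variable {G : Type u} [Group G] [Finite G] {V W : Subgroup G}

theorem le_of_four {Z M : Subgroup G} {a b : G} (hZ : Z ≤ V) (hc : Nat.card V = 4 * Nat.card Z)
    (hM : Z ≤ M) (aV : a ∈ V) (bV : b ∈ V) (aM : a ∈ M) (bM : b ∈ M) (ha : a ∉ Z) (hb : b ∉ Z)
    (hab : a * b ∉ Z) : V ≤ M := by
  have e1 := relIndex_mul_relIndex Z (V ⊓ M) V (le_inf hZ hM) inf_le_left
  have e2 : Z.relIndex V = 4 := Nat.eq_of_mul_eq_mul_left (Nat.card_pos (α := Z))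
    ((H12.card_mul_relIndex hZ).trans (hc.trans (mul_comm _ _)))
  have n1 : Z.relIndex (V ⊓ M) ≠ 1 := fun e => ha (relIndex_eq_one.1 e ⟨aV, aM⟩)
  have n2 : Z.relIndex (V ⊓ M) ≠ 2 := fun e => hab (mem_subgroupOf.1
    ((mul_mem_iff_of_index_two e (a := ⟨a, aV, aM⟩) (b := ⟨b, bV, bM⟩)).2
      (iff_of_false (fun k => ha (mem_subgroupOf.1 k)) fun k => hb (mem_subgroupOf.1 k))))
  rw [e2] at e1
  have d : Z.relIndex (V ⊓ M) ∣ 2 ^ 2 := Dvd.intro _ e1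
  obtain ⟨i, hi, e⟩ := (Nat.dvd_prime_pow Nat.prime_two).1 d
  have : (V ⊓ M).relIndex V = 1 := by
    interval_cases i
    · exact absurd e n1
    · exact absurd e n2
    · rw [e] at e1; omega
  exact (relIndex_eq_one.1 this).trans inf_le_right

theorem eq_mul {Z : Subgroup G} (hc : Nat.card Z = 4) (he : ∀ z ∈ Z, z * z = 1) {x y z : G}
    (hx : x ∈ Z) (hy : y ∈ Z) (hz : z ∈ Z) (x1 : x ≠ 1) (y1 : y ≠ 1) (xy : x ≠ y) (z1 : z ≠ 1)
    (zx : z ≠ x) (zy : z ≠ y) : z = x * y := by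
  have : Nontrivial Z := Finite.one_lt_card_iff_nontrivial.1 (by omega)
  have : IsKleinFour Z := ⟨hc, (Monoid.exponent_eq_prime_iff Nat.prime_two).2 fun g hg =>
    orderOf_eq_prime (Subtype.ext (by rw [pow_two]; exact he g g.2)) hg⟩
  exact congrArg Subtype.val (IsKleinFour.eq_mul_of_ne_all (x := (⟨x, hx⟩ : Z)) (y := ⟨y, hy⟩)
    (z := ⟨z, hz⟩) (fun e => x1 (congrArg Subtype.val e)) (fun e => y1 (congrArg Subtype.val e))
    (fun e => xy (congrArg Subtype.val e)) (fun e => z1 (congrArg Subtype.val e))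
    (fun e => zx (congrArg Subtype.val e)) fun e => zy (congrArg Subtype.val e))

theorem cm_left (h : UU V W) {v v' w : G} (hv : v ∈ V) (hv' : v' ∈ V) (hw : w ∈ W) :
    ⁅v * v', w⁆ = ⁅v', w⁆ * ⁅v, w⁆ := by
  have := (h.comm_Z (mem_sup_left hv) (h.comm_mem hv' hw)).eq
  rw [show ⁅v * v', w⁆ = v * ⁅v', w⁆ * v⁻¹ * ⁅v, w⁆ by simp only [commutatorElement_def]; group,
    ← this, mul_inv_cancel_right]

theorem cm_right (h : UU V W) {v w w' : G} (hv : v ∈ V) (hw : w ∈ W) (hw' : w' ∈ W) :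
    ⁅v, w * w'⁆ = ⁅v, w⁆ * ⁅v, w'⁆ := by
  have := (h.comm_Z (mem_sup_right hw) (h.comm_mem hv hw')).eq
  rw [show ⁅v, w * w'⁆ = ⁅v, w⁆ * (w * ⁅v, w'⁆ * w⁻¹) by simp only [commutatorElement_def]; group,
    ← this, mul_inv_cancel_right]

omit [Finite G] in
theorem cm_ne (h : UU V W) {v w : G} (hv : v ∈ V) (hw : w ∈ W) (nv : v ∉ W) (nw : w ∉ V) :
    ⁅v, w⁆ ≠ 1 := fun e => (h.reg v hv w hw (commutatorElement_eq_one_iff_commute.1 e)).elim nv nw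

omit [Finite G] in
theorem conj_cm (g a b : G) : g * ⁅a, b⁆ * g⁻¹ = ⁅g * a * g⁻¹, g * b * g⁻¹⁆ := by
  simp only [commutatorElement_def]; group

omit [Finite G] in
theorem conj_eq (a b : G) : a * b * a⁻¹ = ⁅a, b⁆ * b := by
  rw [commutatorElement_def, inv_mul_cancel_right]

omit [Finite G] in
theorem mem_zp {f k : G} (ff : f * f = 1) (h : k ∈ zpowers f) : k = 1 ∨ k = f := by
  obtain ⟨n, rfl⟩ := h
  have : f ^ (2 : ℤ) = 1 := by rw [zpow_two, ff]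
  obtain ⟨m, rfl | rfl⟩ := Int.even_or_odd' n
  · exact Or.inl (by simp only [zpow_mul, this, one_zpow])
  · exact Or.inr (by simp only [zpow_add, zpow_mul, this, one_zpow, one_mul, zpow_one])

theorem exists_rel {f t : G} (h : UU V W) (hc : Nat.card ↥(V ⊓ W) = 4) (ff : f * f = 1)
    (tt : t * t = 1) (ft : Commute f t) (fV : f ∈ nor V) (tV : cj t V = W) (tZ : t ∈ cen (V ⊓ W))
    {a : G} (aV : a ∈ V) (fa : ⁅f, a⁆ ∉ W) : ∃ b u z, b ∈ V ∧ a ∉ W ∧ b ∉ W ∧ a * b ∉ W ∧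
      u ∈ V ⊓ W ∧ z ∈ V ⊓ W ∧ u ≠ 1 ∧ z ≠ 1 ∧ z ≠ u ∧
        Rel f t a b (t * a * t⁻¹) (t * b * t⁻¹) u z := by
  have tW : cj t W = V := by rw [← tV, cj_cj, tt, cj_one]
  have fW : f ∈ nor W := cj_eq_self_iff.1 (by
    rw [← tV, cj_cj, ft.eq, ← cj_cj, cj_eq_self fV])
  have t2 : ∀ x, t * (t * x * t⁻¹) * t⁻¹ = x := fun x => by
    rw [← mul_assoc, ← mul_assoc, tt, one_mul, mul_assoc, ← mul_inv_rev, tt, inv_one, mul_one]
  have f2 : ∀ x, f * (f * x * f⁻¹) * f⁻¹ = x := fun x => by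
    rw [← mul_assoc, ← mul_assoc, ff, one_mul, mul_assoc, ← mul_inv_rev, ff, inv_one, mul_one]
  have ftx : ∀ x, f * (t * x * t⁻¹) * f⁻¹ = t * (f * x * f⁻¹) * t⁻¹ := fun x => by
    rw [← mul_assoc, ← mul_assoc, ft.eq, mul_assoc _ t⁻¹, ft.inv_inv.symm.eq]; group
  have mW : ∀ {x}, x ∈ V → t * x * t⁻¹ ∈ W := fun hx => tV ▸ conj_mem_cj hx
  have nV : ∀ {x}, x ∉ W → t * x * t⁻¹ ∉ V := fun hx k => hx (by have := mW k; rwa [t2] at this)
  have cV : ∀ {x y}, x ∈ V → y ∈ V → x * y * x⁻¹ = y := fun hx hy =>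
    mul_inv_eq_iff_eq_mul.2 (comm_of_el h.elV hx hy).eq
  have cW : ∀ {x y}, x ∈ W → y ∈ W → x * y * x⁻¹ = y := fun hx hy =>
    mul_inv_eq_iff_eq_mul.2 (comm_of_el h.elW hx hy).eq
  have cT : ∀ {y}, y ∈ V ⊓ W → t * y * t⁻¹ = y := fun hy =>
    mul_inv_eq_iff_eq_mul.2 (tZ _ hy).symm
  have fa' : f * a * f⁻¹ ∈ V := conj_mem_of_mem_normalizer fV aV
  have bV : ⁅f, a⁆ ∈ V := mul_mem fa' (inv_mem aV)
  have aW : a ∉ W := fun k => fa (mul_mem (conj_mem_of_mem_normalizer fW k) (inv_mem k))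
  have r1 := conj_eq f a
  have r2 : f * ⁅f, a⁆ * f⁻¹ = ⁅f, a⁆ := by
    rw [commutatorElement_def, inv_eq_of_mul_eq_one_right (h.elV _ aV), ← conj_mul, f2,
      (comm_of_el h.elV aV fa').eq]
  generalize ⁅f, a⁆ = b at *
  have baW : b * a ∉ W := fun k => aW (f2 a ▸ conj_mem_of_mem_normalizer fW (r1 ▸ k))
  have r3 : f * (t * a * t⁻¹) * f⁻¹ = t * b * t⁻¹ * (t * a * t⁻¹) := by rw [ftx, r1, conj_mul]
  have r4 : f * (t * b * t⁻¹) * f⁻¹ = t * b * t⁻¹ := by rw [ftx, r2]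
  have cW' := mW aV
  have dW := mW bV
  have dc : t * b * t⁻¹ * (t * a * t⁻¹) ∉ V := by rw [conj_mul]; exact nV baW
  have cV' := nV aW
  have dV := nV fa
  have ta := t2 a
  have tb := t2 b
  generalize hc' : t * a * t⁻¹ = c at *
  generalize hd' : t * b * t⁻¹ = d at *
  have uZ := h.comm_mem aV cW'
  have zZ := h.comm_mem bV dW
  have eZ := h.comm_mem bV cW'
  have sq : ∀ z ∈ V ⊓ W, z * z = 1 := fun z hz => h.elV z hz.1
  have e1 : ⁅a, d⁆ = ⁅b, c⁆ := by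
    rw [← cT eZ, conj_cm, hd', ta, ← commutatorElement_inv a d,
      inv_eq_of_mul_eq_one_right (sq _ (h.comm_mem aV dW))]
  have u1 := cm_ne h aV cW' aW cV'
  have z1 := cm_ne h bV dW fa dV
  have q : ⁅b * a, d * c⁆ = ⁅b, d⁆ * ⁅a, c⁆ := by
    rw [cm_left h bV aV (mul_mem dW cW'), cm_right h aV dW cW', cm_right h bV dW cW', e1,
      (comm_of_el h.elV (mul_mem eZ uZ).1 (mul_mem zZ eZ).1).eq, mul_assoc, ← mul_assoc ⁅b, c⁆,
      sq _ eZ, one_mul]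
  have zu : ⁅b, d⁆ ≠ ⁅a, c⁆ := fun e => cm_ne h (mul_mem bV aV) (mul_mem dW cW') baW dc (by
    rw [q, e, sq _ uZ])
  have e2 : ⁅b, c⁆ = ⁅b, d⁆ * ⁅a, c⁆ := eq_mul hc sq zZ uZ eZ z1 u1 zu (cm_ne h bV cW' fa cV')
    (fun e => cm_ne h bV (mul_mem dW cW') fa dc (by rw [cm_right h bV dW cW', e, sq _ zZ]))
    fun e => cm_ne h (mul_mem bV aV) cW' baW cV' (by rw [cm_left h bV aV cW', e, sq _ uZ])
  subst hd'
  refine ⟨b, _, _, bV, aW, fa, (comm_of_el h.elV bV aV).eq ▸ baW, uZ, zZ, u1, z1, zu, ff, tt,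
    h.elV _ aV, h.elV _ bV, h.elW _ cW', h.elW _ dW, sq _ uZ, sq _ zZ,
    mul_inv_eq_iff_eq_mul.2 ft.eq, r1, r2, r3, r4, ?_, ?_, hc', rfl, ta, tb, cT uZ, cT zZ, cV aV bV,
    conj_eq _ _, ?_, cV aV uZ.1, cV aV zZ.1, ?_, conj_eq _ _, cV bV uZ.1, cV bV zZ.1, cW cW' dW,
    cW cW' uZ.2, cW cW' zZ.2, cW dW uZ.2, cW dW zZ.2, cV uZ.1 zZ.1⟩
  · rw [conj_cm, r1, r3, q]
  · rw [conj_cm, r2, r4]
  · rw [conj_eq, e1, e2]
  · rw [conj_eq, e2]

theorem jobLY : JobLY.{u} := by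
  intro wc G _ _ V W f t h hc ff tt ft fV tV tZ _ ⟨a, aV, fa⟩ hT hres
  obtain ⟨b, u, z, bV, aW, bW, abW, uZ, zZ, u1, z1, zu, r⟩ := exists_rel h hc ff tt ft fV tV tZ aV fa
  obtain ⟨φ, hi, p0, p1, p3, p2, pu, pz⟩ := r.exists_hom z1
  have fW : f ∈ nor W := cj_eq_self_iff.1 (by
    rw [← tV, cj_cj, ft.eq, ← cj_cj, cj_eq_self fV])
  have hV : ∀ M : Subgroup G, a ∈ M → b ∈ M → u ∈ M → z ∈ M → V ≤ M := fun M h1 h2 h3 h4 =>
    le_of_four inf_le_left h.cardV (le_of_four bot_le (by rw [hc, card_bot]) bot_le uZ zZ h3 h4 u1 z1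
      fun e => zu (by
        rw [← mul_left_cancel_iff (a := u), mem_bot.1 e, h.elV u uZ.1])) aV bV h1 h2
      (fun k => aW k.2) (fun k => bW k.2) fun k => abW k.2
  have VR : V ≤ φ.range := hV _ ⟨_, p3⟩ ⟨_, p2⟩ ⟨_, pu⟩ ⟨_, pz⟩
  have eT : φ.range = V ⊔ W ⊔ zpowers f ⊔ zpowers t := le_antisymm
    (S0_ind (by rw [p0]; exact mem_sup_left (mem_sup_right (mem_zpowers f)))
      (by rw [p1]; exact mem_sup_right (mem_zpowers t))
      (p2 ▸ mem_sup_left (mem_sup_left (mem_sup_left bV)))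
      (p3 ▸ mem_sup_left (mem_sup_left (mem_sup_left aV))))
    (sup_le (sup_le (sup_le VR (tV.ge.trans (cj_le_of_le_of_mem VR ⟨_, p1⟩)))
      (zpowers_le_of_mem ⟨_, p0⟩)) (zpowers_le_of_mem ⟨_, p1⟩))
  have md : Md φ := ⟨hi, by rw [eT]; exact hT⟩
  have f0 : Fr φ f (swap 1 2) := p0 ▸ fr_of
  have f1 : Fr φ t (swap 1 2) := p1 ▸ fr_of
  have f2 : Fr φ b (pv * pw) := p2 ▸ fr_of
  have f3 : Fr φ a pv := p3 ▸ fr_of
  have f4 : Fr φ u 1 := pu ▸ fr_of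
  have f5 : Fr φ z 1 := pz ▸ fr_of
  obtain ⟨g, σ, hg, h3⟩ := md.exists_fr hres
  let Γ : Subgroup (Perm (Fin 5)) :=
    { carrier := {σ | ∃ g, Fr φ g σ}
      one_mem' := ⟨1, fr_one φ⟩
      mul_mem' := fun ⟨_, a⟩ ⟨_, b⟩ => ⟨_, a.mul b⟩
      inv_mem' := fun ⟨_, a⟩ => ⟨_, a.inv⟩ }
  obtain ⟨x, hx⟩ : swap 0 1 * swap 1 2 ∈ Γ := H31.S2.alt_le_of (Γ := Γ) ⟨_, f3⟩
    ⟨_, (by decide : pv * (pv * pw) = H31.MJ.pw) ▸ f3.mul f2⟩ ⟨_, hg⟩
    (fun e => by simpa using σ.injective (e.trans h3.symm))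
    (Perm.mem_alternatingGroup.2 (by simp))
  have nM : frS φ (MulAction.stabilizer _ (4 : Fin 5)) ≤ nor (frS φ V4) := by
    rintro s ⟨ρ, h4, hρ⟩
    refine mem_normalizer_of_cj_le ?_
    rintro _ ⟨n, ⟨τ, hτ, hn⟩, rfl⟩
    refine ⟨_, ?_, (hρ.mul hn).mul hρ.inv⟩
    exact (by decide +kernel : ∀ ρ : Perm (Fin 5), ρ 4 = 4 → ∀ τ ∈ V4, ρ * τ * ρ⁻¹ ∈ V4) ρ h4 τ hτ
  have TN : φ.range ≤ nor (frS φ V4) := (S0_ind (p0 ▸ ⟨_, by decide, f0⟩) (p1 ▸ ⟨_, by decide, f1⟩)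
    (p2 ▸ ⟨_, by decide, f2⟩) (p3 ▸ ⟨_, by decide, f3⟩)).trans nM
  have VM : V ≤ frS φ V4 :=
    hV _ ⟨_, by decide, f3⟩ ⟨_, by decide, f2⟩ ⟨_, one_mem _, f4⟩ ⟨_, one_mem _, f5⟩
  have RM : V ⊔ W ⊔ zpowers 1 ⊔ zpowers (f * t) ≤ frS φ V4 :=
    sup_le (sup_le (sup_le VM (tV.ge.trans (cj_le_of_le VM (TN ⟨_, p1⟩))))
      (zpowers_le_of_mem (one_mem _))) (zpowers_le_of_mem ⟨_, by decide, f0.mul f1⟩)
  have fM : f ∉ frS φ V4 := fun ⟨τ, h1, h2⟩ => absurd (fr_unique hi f0 h2 ▸ h1) (by decide)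
  have eR : φ.range ⊓ frS φ V4 = V ⊔ W ⊔ zpowers 1 ⊔ zpowers (f * t) := by
    refine le_antisymm ?_ (le_inf ?_ RM)
    · have nR : zpowers f ≤ nor (V ⊔ W ⊔ zpowers 1 ⊔ zpowers (f * t)) := le_normalizer_sup
        (le_normalizer_sup (le_normalizer_sup (zpowers_le_of_mem fV) (zpowers_le_of_mem fW))
          (by rw [zpowers_one_eq_bot]; exact le_normalizer_bot _))
        (le_normalizer_of_le_centralizer (zpowers_le_of_mem (by
          rintro _ ⟨k, rfl⟩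
          exact (((Commute.refl f).mul_right ft).zpow_right k).symm.eq)))
      have : φ.range ≤ zpowers f ⊔ (V ⊔ W ⊔ zpowers 1 ⊔ zpowers (f * t)) := by
        rw [eT]
        refine sup_le (sup_le (le_sup_of_le_right (le_sup_of_le_left le_sup_left)) le_sup_left)
          (zpowers_le_of_mem ?_)
        have := mul_mem (mem_sup_left (T := V ⊔ W ⊔ zpowers 1 ⊔ zpowers (f * t)) (mem_zpowers f))
          (mem_sup_right (mem_sup_right (mem_zpowers (f * t))))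
        rwa [← mul_assoc, ff, one_mul] at this
      rintro y ⟨h1, h2⟩
      obtain ⟨k, hk, s, hs, rfl⟩ := (mem_sup_left_norm nR).1 (this h1)
      rcases mem_zp ff hk with e | e
      · rwa [e, one_mul]
      · exact absurd (e ▸ (mul_mem_cancel_right (RM hs)).1 h2) fM
    · rw [eT]
      exact sup_le (sup_le (le_sup_of_le_left le_sup_left) (zpowers_le_of_mem (one_mem _)))
        (zpowers_le_of_mem (mul_mem (mem_sup_left (mem_sup_right (mem_zpowers f)))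
          (mem_sup_right (mem_zpowers t))))
  obtain ⟨y, hy, m, ⟨τ, hτ, hm⟩, rfl⟩ := (md.syl.inf_of_le_normalizer le_top TN).frattini_mem
    (nM ⟨_, by decide, hx⟩)
  have hy' := hx.mul hm.inv
  rw [mul_inv_cancel_right] at hy'
  rw [eR] at hy
  refine ⟨z, zZ, z1, y, wc G V W 1 (f * t) h hc (one_mul _) ?_ (Commute.one_left _) (one_mem _)
    (one_mem _) ?_ (Or.inl rfl) hy, pz ▸ H9.Ly.mem_cen1.1 hy'.1, fun k e => ?_⟩
  · rw [mul_assoc, ← mul_assoc t, ← ft.eq, mul_assoc, tt, mul_one, ff]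
  · rw [← cj_cj, tV, cj_eq_self fW]
  · have e1 := fr_pow hy' (2 ^ k)
    rw [e] at e1
    obtain ⟨n1, n3⟩ := (by decide +kernel : ∀ τ ∈ V4, swap 0 1 * swap 1 2 * τ⁻¹ ≠ 1 ∧
      (swap 0 1 * swap 1 2 * τ⁻¹) ^ 3 = 1) τ hτ
    exact n1 ((pow_eq_one_iff_of_coprime (Nat.Coprime.pow_left k (by decide : Nat.Coprime 2 3))).1
      ⟨fr_unique hi e1 (fr_one φ), n3⟩)

end H61.S5Y
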