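import Cfsg.Agent.H67.SPIII

/-! STD-SP chapter III (row S3129), job CL: from `SL_(2k)` to `SL_(2k+1)`. -/

set_option autoImplicit false
set_option linter.unusedSectionVars false

namespace H61.SP3CL

open Matrix Subgroup H67.SP
open H67.UA hiding Par
open H67.SA (SLn)

universe u

variable {n : ℕ} {F : Type} [Field F] [StarRing F] [TrivialStar F] [CharP F 2] [Finite F]

/-- pairs (vector, functional) -/
abbrev Pr (m : ℕ) (F : Type) : Type := Vn m F × Vn m F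

/-- the action on pairs -/
noncomputable def am {m : ℕ} (g : SLn m F) (p : Pr m F) : Pr m F :=
  (g.1 *ᵥ p.1, (tau m F g).1 *ᵥ p.2)

theorem am_mul {m : ℕ} (g h : SLn m F) (p : Pr m F) : am (g * h) p = am g (am h p) := by
  simp only [am, map_mul, Matrix.SpecialLinearGroup.coe_mul, mulVec_mulVec]

theorem am_one {m : ℕ} (p : Pr m F) : am 1 p = p := by simp [am]

theorem am_add {m : ℕ} (g : SLn m F) (p q : Pr m F) : am g (p + q) = am g p + am g q := by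
  simp only [am, Prod.fst_add, Prod.snd_add, mulVec_add, Prod.mk_add_mk]

theorem am_inv {m : ℕ} {g : SLn m F} {p q : Pr m F} (h : am g p = q) : am g⁻¹ q = p := by
  rw [← h, ← am_mul, inv_mul_cancel, am_one]

theorem am_io (g : XU n F) (v : Vn n F) : am (io n F g) (v, v) = (ac g v, ac g v) := by
  have : tau n F (io n F g) = io n F g := g.2
  rw [am, this]; rfl

theorem hf_comm {m : ℕ} (x y : Vn m F) : hf x y = hf y x := by rw [← star_hf, star_trivial]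

theorem iv_inj {a b : Vn n F} (h : iv a = iv b) : a = b :=
  funext fun i => by simpa [iv] using congrFun h ((mid n).succAbove i)

theorem iv_zero : iv (0 : Vn n F) = 0 := by
  ext i
  induction i using (mid n).succAboveCases <;> simp [iv]

/-- the embedding of pairs -/
def ivp (p : Pr n F) : Pr (n + 1) F := (iv p.1, iv p.2)

theorem ivp_inj {p q : Pr n F} (h : ivp p = ivp q) : p = q :=
  Prod.ext (iv_inj (congrArg Prod.fst h)) (iv_inj (congrArg Prod.snd h))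

theorem ivp_zero : ivp (0 : Pr n F) = 0 := Prod.ext iv_zero iv_zero

variable (n F) in
/-- the base point -/
def oo : Pr (n + 1) F := (ev (mid n), ev (mid n))

variable (n F) in
/-- the standard isotropic pair -/
def e0 : Pr n F := (ev 0, ev 0)

/-- perpendicular pairs -/
def Perp (p q : Pr n F) : Prop := hf p.1 q.2 = 0 ∧ hf q.1 p.2 = 0

theorem Perp.add {p q z : Pr n F} (h : Perp p z) (h' : Perp q z) : Perp (p + q) z :=
  ⟨by rw [Prod.fst_add, hf_add_left, h.1, h'.1, add_zero],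
    by rw [Prod.snd_add, hf_add_right, h.2, h'.2, add_zero]⟩

theorem Perp.symm {p q : Pr n F} (h : Perp p q) : Perp q p := ⟨h.2, h.1⟩

theorem eq_of_add {v w : Vn n F} (h : v + w = 0) : v = w := by
  rw [← add_zero v, ← v_add_self w, ← add_assoc, h, zero_add]

theorem ex_z [Par n F] (f1 f2 f3 a1 a2 : Vn n F) :
    ∃ z, hf z f1 = 0 ∧ hf z f2 = 0 ∧ hf z f3 = 0 ∧ ∀ x y : F, z ≠ x • a1 + y • a2 := by
  by_contra hc
  push Not at hc
  let l : Vn n F → Vn n F →ₗ[F] F := fun f =>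
    { toFun := fun z => hf z f
      map_add' := fun x y => hf_add_left x y f
      map_smul' := fun c x => hf_smul_left c x f }
  let L : Vn n F →ₗ[F] Fin 3 → F := LinearMap.pi ![l f1, l f2, l f3]
  let M : (Fin 2 → F) →ₗ[F] Vn n F := Fintype.linearCombination F ![a1, a2]
  have h1 : LinearMap.ker L ≤ LinearMap.range M := fun z hz => by
    have h := LinearMap.mem_ker.1 hz
    obtain ⟨x, y, e⟩ := hc z (congrFun h 0) (congrFun h 1) (congrFun h 2)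
    exact ⟨![x, y], by simp [M, Fintype.linearCombination_apply, e]⟩
  have h2 := Submodule.finrank_mono h1
  have h3 := L.finrank_range_add_finrank_ker
  have h4 := (LinearMap.range L).finrank_le
  have h5 := M.finrank_range_le
  have h6 := Par.five (n := n) (F := F)
  simp only [Module.finrank_fin_fun] at h3 h4 h5
  omega

theorem li_z {a a1 a2 z : Vn n F} (hz : ∀ x y : F, z ≠ x • a1 + y • a2) (ha : a ≠ 0) (s t s' t' : F)
    (e : a = s • a1 + t • a2) : Li a (s' • a1 + t' • a2 + z) := fun x y h => by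
  by_cases hy : y = 0
  · rw [hy, zero_smul, add_zero] at h
    exact ⟨(smul_eq_zero.1 h).resolve_right ha, hy⟩
  · refine absurd ?_ (hz (-(y⁻¹ * x * s) - s') (-(y⁻¹ * x * t) - t'))
    rw [e] at h
    have : y⁻¹ * y = 1 := inv_mul_cancel₀ hy
    linear_combination (norm := module) y⁻¹ • h - this • (s' • a1 + t' • a2 + z)

theorem Li.shift {a z : Vn n F} (h : Li a z) : Li (a + z) z := fun x y e => by
  obtain ⟨h1, h2⟩ := h x (x + y) (by rw [← e]; module)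
  exact ⟨h1, by simpa [h1] using h2⟩

variable {G : Type u} [Group G]

/-- The hypotheses. -/
structure Hy (e : XU n F →* G) (t : G) (ε : F) (j : SLn n F →* SLn (n + 1) F) (τ : Vn n F → G)
    (Φ : SLn n F →* G) : Prop where
  m : ML1 n ε j
  ra : RA e τ 1
  hm : Hm (io n F) (tau n F) e t Φ
  hs : ∀ u v, hf u v = 0 → Φ (SL0 ε u v) = sg e τ 1 u v

/-- the graph of `τ` -/
noncomputable def σ (ε : F) (τ : Vn n F → G) (v : Vn n F) : SLn (n + 1) F × G := (TL ε v, τ v)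

/-- `g` is the element attached to the pair `p` -/
def S (ε : F) (j : SLn n F →* SLn (n + 1) F) (τ : Vn n F → G) (Φ : SLn n F →* G) (p : Pr n F)
    (g : SLn (n + 1) F × G) : Prop :=
  ∃ y, am y (e0 n F) = p ∧ g = j.prod Φ y * σ ε τ (ev 0) * (j.prod Φ y)⁻¹

/-- the set of the chambers adjacent to the base point -/
def DD (ε : F) (j : SLn n F →* SLn (n + 1) F) (τ : Vn n F → G) (Φ : SLn n F →* G) :
    Set (SLn (n + 1) F × G) :=
  {d | d ∈ (j.prod Φ).range ∨ ∃ p g, S ε j τ Φ p g ∧ g⁻¹ * d ∈ (j.prod Φ).range}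

variable {e : XU n F →* G} {t : G} {ε : F} {j : SLn n F →* SLn (n + 1) F} {τ : Vn n F → G}
  {Φ : SLn n F →* G}

theorem S.conj {p : Pr n F} {g : SLn (n + 1) F × G} (h : S ε j τ Φ p g) (y : SLn n F) :
    S ε j τ Φ (am y p) (j.prod Φ y * g * (j.prod Φ y)⁻¹) := by
  obtain ⟨y', rfl, rfl⟩ := h
  exact ⟨y * y', am_mul .., by rw [map_mul]; group⟩

theorem DD_mul {d k : SLn (n + 1) F × G} (hd : d ∈ DD ε j τ Φ) (hk : k ∈ (j.prod Φ).range) :
    d * k ∈ DD ε j τ Φ :=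
  hd.imp (fun h => mul_mem h hk) fun ⟨p, g, h1, h2⟩ => ⟨p, g, h1, mul_assoc _ d k ▸ mul_mem h2 hk⟩

theorem mul_DD {d k : SLn (n + 1) F × G} (hd : d ∈ DD ε j τ Φ) (hk : k ∈ (j.prod Φ).range) :
    k * d ∈ DD ε j τ Φ := by
  refine hd.imp (fun h => mul_mem hk h) fun ⟨p, g, h1, h2⟩ => ?_
  obtain ⟨y, rfl⟩ := hk
  refine ⟨_, _, h1.conj y, ?_⟩
  convert mul_mem (⟨y, rfl⟩ : j.prod Φ y ∈ (j.prod Φ).range) h2 using 1
  group

theorem S.mem {p : Pr n F} {g : SLn (n + 1) F × G} (h : S ε j τ Φ p g) : g ∈ DD ε j τ Φ :=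
  .inr ⟨p, g, h, by rw [inv_mul_cancel]; exact one_mem _⟩

namespace Hy

variable [Par n F] [Base n F] (h : Hy e t ε j τ Φ)
include h

theorem am_j (y : SLn n F) (p : Pr n F) : am (j y) (ivp p) = ivp (am y p) := by
  simp only [am, ivp, h.m.fi, (h.m.isIn _).2]

theorem am_jo (y : SLn n F) : am (j y) (oo n F) = oo n F := by
  simp only [am, oo, h.m.fi, (h.m.isIn _).1]

theorem pr_io (g : XU n F) : j.prod Φ (io n F g) = (io (n + 1) F (ins n F g), e g) := by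
  rw [MonoidHom.prod_apply, h.m.sq, h.hm.res]

theorem perp_am (y : SLn n F) {p q : Pr n F} : Perp (am y p) (am y q) ↔ Perp p q := by
  simp only [Perp, am, h.m.hft]

theorem comm0 {y : SLn n F} (hy : am y (e0 n F) = e0 n F) :
    j.prod Φ y * σ ε τ (ev 0) = σ ε τ (ev 0) * j.prod Φ y := by
  have h1 : y.1 *ᵥ ev 0 = ev 0 := congrArg Prod.fst hy
  have h2 : (tau n F y).1 *ᵥ ev 0 = ev 0 := congrArg Prod.snd hy
  refine Prod.ext (h.m.cj y h1 h2) ?_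
  have h3 : PE (io n F) (SL0 ε) (ev 0) ≤ (centralizer {τ (ev 0)}).comap Φ := by
    refine (closure_le _).2 ?_
    rintro _ (⟨p, hp, rfl⟩ | ⟨x, z, h4, rfl⟩)
    · exact H64.SG.mem_Cz.2 (by rw [h.hm.res]; exact (h.ra.toR0.fix hp).symm)
    · exact H64.SG.mem_Cz.2 (by
        rw [h.hs x z h4.vw]; exact h.ra.stau x z _ ⟨h4.vw, hf_symm h4.uv, hf_symm h4.uw⟩)
  exact (H64.SG.mem_Cz.1 (h3 (h.m.genP y h1 h2))).symm

theorem S_comm {p : Pr n F} {g : SLn (n + 1) F × G} (hg : S ε j τ Φ p g) {y : SLn n F}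
    (hy : am y p = p) : j.prod Φ y * g = g * j.prod Φ y := by
  obtain ⟨y', rfl, rfl⟩ := hg
  have := h.comm0 (y := y'⁻¹ * y * y') (by rw [am_mul, am_mul, hy, am_inv rfl])
  rw [map_mul, map_mul, map_inv] at this
  calc _ = j.prod Φ y' * ((j.prod Φ y')⁻¹ * j.prod Φ y * j.prod Φ y' * σ ε τ (ev 0)) *
        (j.prod Φ y')⁻¹ := by group
    _ = _ := by rw [this]; group

theorem S_uniq {p : Pr n F} {g g' : SLn (n + 1) F × G} (hg : S ε j τ Φ p g) (hg' : S ε j τ Φ p g') :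
    g = g' := by
  obtain ⟨y, rfl, rfl⟩ := hg
  obtain ⟨y', h1, rfl⟩ := hg'
  have := h.comm0 (y := y⁻¹ * y') (by rw [am_mul, h1, am_inv rfl])
  rw [map_mul, map_inv] at this
  calc _ = j.prod Φ y * (σ ε τ (ev 0) * ((j.prod Φ y)⁻¹ * j.prod Φ y')) * (j.prod Φ y')⁻¹ := by group
    _ = _ := by rw [← this]; group

theorem S_σ {v : Vn n F} (hv : v ≠ 0) : S ε j τ Φ (v, v) (σ ε τ v) := by
  obtain ⟨g, rfl⟩ := FW.w1 v hv
  refine ⟨io n F g, am_io g _, ?_⟩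
  rw [h.pr_io]
  exact Prod.ext (h.m.r1.eqv g _).symm (h.ra.eqv g _).symm

theorem σ_sq (v : Vn n F) : σ ε τ v * σ ε τ v = j.prod Φ (io n F (TT v)) := by
  rw [h.pr_io]
  exact Prod.ext (h.m.tsq v) (h.ra.sq v)

theorem S_sq {p : Pr n F} {g : SLn (n + 1) F × G} (hg : S ε j τ Φ p g) :
    g * g ∈ (j.prod Φ).range := by
  obtain ⟨y, -, rfl⟩ := hg
  rw [conj_mul, h.σ_sq, ← map_inv, ← map_mul, ← map_mul]
  exact ⟨_, rfl⟩

theorem S_ex {p : Pr n F} (h1 : p.1 ≠ 0) (h2 : p.2 ≠ 0) (h3 : hf p.1 p.2 = 0) :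
    ∃ g, S ε j τ Φ p g := by
  obtain ⟨y, h4, h5⟩ := h.m.w1 _ _ h1 h2 h3
  exact ⟨_, y, Prod.ext h4 h5, rfl⟩

theorem S_iso {p : Pr n F} {g : SLn (n + 1) F × G} (hg : S ε j τ Φ p g) :
    p.1 ≠ 0 ∧ p.2 ≠ 0 ∧ Perp p p := by
  obtain ⟨y, rfl, -⟩ := hg
  refine ⟨fun h1 => ?_, fun h1 => ?_, (h.perp_am y).2 ⟨FV.iso _, FV.iso _⟩⟩
  · have := congrArg Prod.fst (am_inv (g := y) (p := e0 n F) rfl)
    rw [am, h1, mulVec_zero] at this
    exact ev_ne _ this.symm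
  · have := congrArg Prod.snd (am_inv (g := y) (p := e0 n F) rfl)
    rw [am, h1, mulVec_zero] at this
    exact ev_ne _ this.symm

theorem S_fix {p z : Pr n F} {g : SLn (n + 1) F × G} (hg : S ε j τ Φ p g) (hz : Perp p z) :
    am g.1 (ivp z) = ivp z := by
  obtain ⟨y, rfl, rfl⟩ := hg
  obtain ⟨z, rfl⟩ : ∃ z', z = am y z' := ⟨am y⁻¹ z, by rw [← am_mul, mul_inv_cancel, am_one]⟩
  rw [h.perp_am] at hz
  change am (j y * TL ε (ev 0) * (j y)⁻¹) _ = _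
  rw [am_mul, am_mul, am_inv (h.am_j y z), ← h.am_j]
  congr 1
  exact Prod.ext (h.m.fx _ _ hz.2).1 (h.m.fx _ _ (hf_symm hz.1)).2

theorem S_mv {p : Pr n F} {g : SLn (n + 1) F × G} (hg : S ε j τ Φ p g) :
    am g.1 (oo n F) = oo n F + ivp p := by
  obtain ⟨y, rfl, rfl⟩ := hg
  change am (j y * TL ε (ev 0) * (j y)⁻¹) _ = _
  rw [am_mul, am_mul, am_inv (h.am_jo y), ← h.am_j, ← h.am_jo y, ← am_add, h.am_jo]
  congr 1
  exact Prod.ext (h.m.mv _).1 (h.m.mv _).2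

theorem H_fix {k : SLn (n + 1) F × G} (hk : k ∈ (j.prod Φ).range) : am k.1 (oo n F) = oo n F := by
  obtain ⟨y, rfl⟩ := hk
  exact h.am_jo y

theorem D_mv {p : Pr n F} {g d : SLn (n + 1) F × G} (hg : S ε j τ Φ p g)
    (hd : g⁻¹ * d ∈ (j.prod Φ).range) : am d.1 (oo n F) = oo n F + ivp p := by
  rw [← mul_inv_cancel_left g d, Prod.fst_mul, am_mul, h.H_fix hd, h.S_mv hg]

theorem indep {p p' : Pr n F} {g g' g'' : SLn (n + 1) F × G} (hg : S ε j τ Φ p g)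
    (hg' : S ε j τ Φ p' g') (hg'' : S ε j τ Φ (p + p') g'') (h1 : Li p.1 p'.1) (h2 : Li p.2 p'.2)
    (h3 : Perp p p') : g''⁻¹ * (g * g') ∈ (j.prod Φ).range := by
  obtain ⟨y, a1, a2, a3, a4⟩ := h.m.w2 _ _ _ _ h1 h2 (h.S_iso hg).2.2.1 h3.1 h3.2
    (h.S_iso hg').2.2.1
  have b1 : am y (ev 0, ev 0) = p := Prod.ext a1 a2
  have b2 : am y (ev 1, ev 1) = p' := Prod.ext a3 a4
  have b3 : am y (ev 0 + ev 1, ev 0 + ev 1) = p + p' := by rw [← b1, ← b2, ← am_add]; rfl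
  have b4 : hf (ev 0 : Vn n F) (ev 1) = 0 := by rw [← h.m.hft n y, a1, a4, h3.1]
  have b5 : (ev 0 + ev 1 : Vn n F) ≠ 0 := fun b => by
    have := (h1 1 1 (by rw [one_smul, one_smul, ← a1, ← a3, ← mulVec_add, b, mulVec_zero])).1
    exact one_ne_zero this
  rw [h.S_uniq hg (b1 ▸ (h.S_σ (ev_ne 0)).conj y), h.S_uniq hg' (b2 ▸ (h.S_σ (ev_ne 1)).conj y),
    h.S_uniq hg'' (b3 ▸ (h.S_σ b5).conj y)]
  have b6 : σ ε τ (ev 0 + ev 1) * σ ε τ (ev 0) * σ ε τ (ev 1) *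
      j.prod Φ (io n F (TT (ev 0) * TT (ev 1))) = j.prod Φ (SL0 ε (ev 0) (ev 1)) := by
    rw [h.pr_io]
    exact Prod.ext (h.m.sg _ _ b4) (h.hs _ _ b4).symm
  have b7 := h.σ_sq (ev 0 + ev 1)
  have hy : ∀ y, j.prod Φ y ∈ (j.prod Φ).range := fun y => ⟨y, rfl⟩
  convert mul_mem (mul_mem (hy y) (mul_mem (mul_mem (inv_mem (b7 ▸ hy _)) (b6 ▸ hy _))
    (inv_mem (hy (io n F (TT (ev 0) * TT (ev 1))))))) (inv_mem (hy y)) using 1
  group

theorem tri {p p' : Pr n F} {g g' : SLn (n + 1) F × G} (hg : S ε j τ Φ p g)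
    (hg' : S ε j τ Φ p' g') (h3 : Perp p p') (h4 : p.1 = p'.1 ↔ p.2 = p'.2) :
    g * g' ∈ DD ε j τ Φ := by
  by_cases h5 : p.1 = p'.1
  · obtain rfl : p = p' := Prod.ext h5 (h4.1 h5)
    rw [← h.S_uniq hg hg']
    exact .inl (h.S_sq hg)
  obtain ⟨a1, a2, a3⟩ := h.S_iso hg
  obtain ⟨b1, b2, b3⟩ := h.S_iso hg'
  have c1 : p.1 + p'.1 ≠ 0 := fun c => h5 (eq_of_add c)
  have c2 : p.2 + p'.2 ≠ 0 := fun c => h5 (h4.2 (eq_of_add c))
  obtain ⟨za, z1, z2, -, z3⟩ := ex_z p.2 p'.2 0 p.1 p'.1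
  obtain ⟨zf, z4, z5, z6, z7⟩ := ex_z p.1 p'.1 za p.2 p'.2
  have pz : Perp p (za, zf) := ⟨hf_symm z4, z1⟩
  have pz' : Perp p' (za, zf) := ⟨hf_symm z5, z2⟩
  have zz : Perp (za, zf) (za, zf) := ⟨hf_symm z6, hf_symm z6⟩
  have l1 : ∀ {a a1 a2 z : Vn n F}, (∀ x y : F, z ≠ x • a1 + y • a2) → a ≠ 0 → ∀ s t : F,
      a = s • a1 + t • a2 → Li (a + z) z := fun hz ha s t e =>
    Li.shift (by simpa using li_z hz ha s t 0 0 e)
  have l2 : ∀ {a1 a2 z : Vn n F}, (∀ x y : F, z ≠ x • a1 + y • a2) → a1 ≠ 0 → Li a1 (a2 + z) :=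
    fun hz ha => by simpa using li_z hz ha 1 0 0 1 (by simp)
  have ne : ∀ {a b : Vn n F}, Li a b → a ≠ 0 ∧ b ≠ 0 := fun l =>
    ⟨fun e => one_ne_zero (l 1 0 (by simp [e])).1, fun e => one_ne_zero (l 0 1 (by simp [e])).2⟩
  have m1 := l1 z3 b1 0 1 (by simp)
  have m2 := l1 z7 b2 0 1 (by simp)
  have m3 := l1 z3 c1 1 1 (by simp)
  have m4 := l1 z7 c2 1 1 (by simp)
  have iso : ∀ {p q : Pr n F}, Perp p p → Perp q q → Perp p q → Perp (p + q) (p + q) :=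
    fun a b c => (a.add c.symm).symm.add (c.add b).symm
  obtain ⟨s1, t1⟩ := h.S_ex (p := (za, zf)) (ne m1).2 (ne m2).2 zz.1
  obtain ⟨s2, t2⟩ := h.S_ex (p := p' + (za, zf)) (ne m1).1 (ne m2).1 (iso b3 zz pz').1
  obtain ⟨s3, t3⟩ := h.S_ex (p := p + p' + (za, zf)) (ne m3).1 (ne m4).1
    (iso (iso a3 b3 h3) zz (pz.add pz')).1
  obtain ⟨s4, t4⟩ := h.S_ex (p := p + p') c1 c2 (iso a3 b3 h3).1
  have zz0 : ∀ q : Pr n F, q + (za, zf) + (za, zf) = q := fun q => by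
    rw [add_assoc, Prod.mk_add_mk za, v_add_self, v_add_self]; exact add_zero q
  have u1 := h.indep t2 t1 ((zz0 p').symm ▸ hg') m1 m2 (pz'.add zz)
  have u2 := h.indep hg t2 (add_assoc p p' _ ▸ t3) (l2 z3 a1) (l2 z7 a2) (h3.symm.add pz.symm).symm
  have u3 := h.indep t3 t1 ((zz0 (p + p')).symm ▸ t4) m3 m4 ((pz.add pz').add zz)
  obtain ⟨y, hy⟩ := id u2
  have u4 : am y (za, zf) = (za, zf) := ivp_inj (by
    rw [← h.am_j, show j y = s3.1⁻¹ * (g.1 * s2.1) from congrArg Prod.fst hy, am_mul, am_mul,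
      h.S_fix t2 (pz'.add zz), h.S_fix hg pz, am_inv (h.S_fix t3 ((pz.add pz').add zz))])
  have u5 := h.S_comm t1 u4
  rw [hy] at u5
  refine .inr ⟨_, _, t4, ?_⟩
  have : s4⁻¹ * (g * g') = s4⁻¹ * (s3 * (s3⁻¹ * (g * s2) * s1)) * (g'⁻¹ * (s2 * s1))⁻¹ := by group
  rw [this, u5]
  convert mul_mem (mul_mem u3 u2) (inv_mem u1) using 1
  group

theorem D_inv {d : SLn (n + 1) F × G} (hd : d ∈ DD ε j τ Φ) : d⁻¹ ∈ DD ε j τ Φ := by
  rcases hd with hd | ⟨p, g, h1, h2⟩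
  · exact .inl (inv_mem hd)
  · convert mul_DD (DD_mul h1.mem (inv_mem (h.S_sq h1))) (inv_mem h2) using 1
    group

theorem RP_iv {p q : Pr n F} : RP (oo n F + ivp p) (oo n F + ivp q) ↔
    hf p.1 p.2 = 0 ∧ hf q.1 q.2 = 0 ∧ Perp p q ∧ (p.1 = q.1 ↔ p.2 = q.2) := by
  simp only [RP, oo, ivp, Prod.mk_add_mk, h.m.hi, add_eq_left, add_right_inj, Perp, and_assoc,
    show ∀ a b : Vn n F, iv a = iv b ↔ a = b from fun a b => ⟨iv_inj, congrArg iv⟩]

theorem RP_am (g : SLn (n + 1) F) {a b : Pr (n + 1) F} (hR : RP a b) : RP (am g a) (am g b) := by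
  have i1 : ∀ (g : SLn (n + 1) F) (x y : Vn (n + 1) F), g.1 *ᵥ x = g.1 *ᵥ y ↔ x = y := fun g x y =>
    ⟨fun e => by
      have := congrArg ((g⁻¹).1 *ᵥ ·) e
      simpa only [mulVec_mulVec, ← Matrix.SpecialLinearGroup.coe_mul, inv_mul_cancel,
        Matrix.SpecialLinearGroup.coe_one, one_mulVec] using this, congrArg _⟩
  simpa only [RP, am, h.m.hft, i1] using hR

theorem D_cases {d : SLn (n + 1) F × G} (hd : d ∈ DD ε j τ Φ) :
    d ∈ (j.prod Φ).range ∧ am d.1 (oo n F) = oo n F + ivp 0 ∨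
      ∃ p g, S ε j τ Φ p g ∧ g⁻¹ * d ∈ (j.prod Φ).range ∧ am d.1 (oo n F) = oo n F + ivp p :=
  hd.imp (fun a => ⟨a, by rw [ivp_zero, add_zero, h.H_fix a]⟩)
    fun ⟨p, g, a, b⟩ => ⟨p, g, a, b, h.D_mv a b⟩

theorem tl (tl : JobTL.{u}) (pp : JobPP) :
    (∀ g ∈ (j.prod Φ).range ⊔ closure (DD ε j τ Φ), am g.1 (oo n F) = oo n F →
      g ∈ (j.prod Φ).range) ∧
    ∀ w, Relation.ReflTransGen RP (oo n F) w → ∃ g ∈ closure (DD ε j τ Φ), am g.1 (oo n F) = w := by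
  let _ : MulAction (SLn (n + 1) F × G) (Pr (n + 1) F) :=
    { smul := fun g p => am g.1 p
      one_smul := am_one
      mul_smul := fun g k => am_mul g.1 k.1 }
  have sm : ∀ (g : SLn (n + 1) F × G) (p : Pr (n + 1) F), g • p = am g.1 p := fun _ _ => rfl
  have o0 : oo n F = oo n F + ivp 0 := by rw [ivp_zero, add_zero]
  have ne0 : ∀ {p g}, S ε j τ Φ p g → oo n F + ivp p ≠ oo n F + ivp 0 := fun a e =>
    (h.S_iso a).1 (congrArg Prod.fst (ivp_inj (add_left_cancel e)))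
  refine tl (SLn (n + 1) F × G) (Pr (n + 1) F) RP (oo n F) (j.prod Φ).range (DD ε j τ Φ)
    (fun a b r => ⟨r.2.1, r.1, r.2.2.2.1, r.2.2.1, by rw [eq_comm, r.2.2.2.2, eq_comm]⟩)
    (fun g a b r => h.RP_am g.1 r) (pp n F).1 (fun k hk => h.H_fix hk) (fun d hd k hk => DD_mul hd hk)
    (fun d hd => h.D_inv hd) (fun d hd => ?_) (fun w hw => ?_) (fun d hd e => ?_)
    (fun d hd d' hd' e => ?_) fun d hd d' hd' r => ?_
  · rw [sm]
    rcases h.D_cases hd with ⟨-, a⟩ | ⟨p, g, a, -, b⟩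
    · rw [a]
      nth_rewrite 2 [o0]
      rw [h.RP_iv]; simp [Perp]
    · rw [b]
      nth_rewrite 2 [o0]
      obtain ⟨c1, c2, c3⟩ := h.S_iso a
      rw [h.RP_iv]; simp [Perp, c1, c2, c3.1]
  · obtain ⟨a, ha⟩ := (h.m.dec w.1).1 hw.2.2.1
    obtain ⟨f, hf'⟩ := (h.m.dec w.2).1 ((hf_comm _ _).trans hw.2.2.2.1)
    obtain rfl : w = oo n F + ivp (a, f) := Prod.ext ha hf'
    nth_rewrite 2 [o0] at hw
    obtain ⟨c1, -, -, c2⟩ := h.RP_iv.1 hw
    by_cases c3 : a = 0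
    · obtain rfl : f = 0 := c2.1 c3
      subst c3
      exact ⟨1, .inl (one_mem _), (am_one _).trans o0⟩
    · obtain ⟨g, hg⟩ := h.S_ex (p := (a, f)) c3 (fun c => c3 (c2.2 c)) c1
      exact ⟨g, hg.mem, h.S_mv hg⟩
  · rcases h.D_cases hd with ⟨a, -⟩ | ⟨p, g, a, -, b⟩
    · exact a
    · exact absurd (b.symm.trans (e.trans o0)) (ne0 a)
  · rw [sm, sm] at e
    rcases h.D_cases hd with ⟨a, b⟩ | ⟨p, g, a, b, c⟩ <;>
      rcases h.D_cases hd' with ⟨a', b'⟩ | ⟨p', g', a', b', c'⟩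
    · exact mul_mem (inv_mem a) a'
    · exact absurd (c'.symm.trans (e.symm.trans b)) (ne0 a')
    · exact absurd (c.symm.trans (e.trans b')) (ne0 a)
    · obtain rfl : p = p' := ivp_inj (add_left_cancel (c.symm.trans (e.trans c')))
      rw [← h.S_uniq a a'] at b'
      convert mul_mem (inv_mem b) b' using 1
      group
  · rw [sm, sm] at r
    rcases h.D_cases hd with ⟨a, -⟩ | ⟨p, g, a, b, c⟩
    · exact mul_DD hd' (inv_mem a)
    rcases h.D_cases hd' with ⟨a', -⟩ | ⟨p', g', a', b', c'⟩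
    · exact DD_mul (h.D_inv hd) a'
    rw [c, c', h.RP_iv] at r
    convert mul_DD (DD_mul (h.tri a a' r.2.2.1 r.2.2.2) b')
      (mul_mem (inv_mem b) (inv_mem (h.S_sq a))) using 1
    group

theorem main (tl : JobTL.{u}) (pp : JobPP) (ql : JobQL) (hi : Function.Injective e)
    (tt : Tt e τ t) : RL1 e t := by
  obtain ⟨h1, h2⟩ := h.tl tl pp
  set Γ := (j.prod Φ).range ⊔ closure (DD ε j τ Φ)
  let π : Γ →* SLn (n + 1) F := (MonoidHom.fst _ _).comp Γ.subtype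
  have b1 : Function.Injective π := (injective_iff_map_eq_one π).2 fun g hg => by
    have hg' : g.1.1 = 1 := hg
    obtain ⟨y, hy⟩ := h1 g g.2 (by rw [hg', am_one])
    obtain rfl : y = 1 := h.m.inj (((congrArg Prod.fst hy).trans hg').trans (map_one j).symm)
    exact Subtype.ext (hy.symm.trans (map_one _))
  have oo1 : hf (oo n F).1 (oo n F).2 = 1 := (h.m.dec _).2 ⟨0, by rw [iv_zero, add_zero]; rfl⟩
  have b2 : Function.Surjective π := fun y => by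
    obtain ⟨g, hg, a⟩ := h2 _ ((pp n F).2 _ (am y (oo n F)) oo1 ((h.m.hft _ y _ _).trans oo1))
    have a2 : am (g.1⁻¹ * y) (oo n F) = oo n F := by rw [am_mul, am_inv a]
    obtain ⟨y', hy'⟩ := h.m.rng _ (congrArg Prod.fst a2) (congrArg Prod.snd a2)
    refine ⟨⟨g * j.prod Φ y', mul_mem (mem_sup_right hg) (mem_sup_left ⟨y', rfl⟩)⟩, ?_⟩
    change g.1 * j y' = y
    rw [hy', mul_inv_cancel_left]
  let E := MulEquiv.ofBijective π ⟨b1, b2⟩
  let Φ1 : SLn (n + 1) F →* G := ((MonoidHom.snd _ _).comp Γ.subtype).comp E.symm.toMonoidHom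
  have key : ∀ g ∈ Γ, Φ1 g.1 = g.2 := fun g hg =>
    congrArg (fun x : Γ => x.1.2) (E.symm_apply_apply ⟨g, hg⟩)
  have res : ∀ x, Φ1 (((io (n + 1) F).comp (ins n F)) x) = e x := fun x =>
    key (_, e x) (h.pr_io x ▸ mem_sup_left ⟨_, rfl⟩)
  have T2 : TT (ev 0 : Vn n F) * TT (ev 0) = 1 := Tc_mul_self (FV.iso _) (star_one F)
  refine ⟨Φ1, ?_, res, fun y => ?_⟩
  · refine ((ql (n + 1) F (Nat.le_succ_of_le (H67.SP.Par.five F))).nrm _ inferInstance).resolve_right fun a => ?_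
    have a1 : e (TT (ev 0)) = 1 := (res _).symm.trans (MonoidHom.mem_ker.1 (a ▸ mem_top _))
    exact one_ne_zero (Tc_eq_one (ev_ne 0) (FV.iso _) (star_one F) (hi (a1.trans (map_one e).symm)))
  · let θ : SLn (n + 1) F × G →* SLn (n + 1) F × G :=
      (tau (n + 1) F).toMonoidHom.prodMap (MulAut.conj t).toMonoidHom
    have c1 : ∀ y, θ (j.prod Φ y) = j.prod Φ (tau n F y) := fun y =>
      Prod.ext (h.m.fi y) (h.hm.act y)
    have c2 : θ (σ ε τ (ev 0)) = j.prod Φ (io n F (TT (ev 0))) * σ ε τ (ev 0) := by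
      rw [h.pr_io]
      refine Prod.ext (h.m.ft _) ?_
      change t * τ (ev 0) * t⁻¹ = e (TT (ev 0)) * τ (ev 0)
      have d1 : t * e (TT (ev 0)) * t⁻¹ = e (TT (ev 0)) := by
        have := h.hm.act (io n F (TT (ev 0)))
        rwa [show tau n F (io n F (TT (ev 0))) = io n F (TT (ev 0)) from (TT (ev 0)).2,
          h.hm.res] at this
      have d2 : e (TT (ev 0)) * e (TT (ev 0)) = 1 := by rw [← map_mul, T2, map_one]
      have d3 := mul_inv_eq_iff_eq_mul.1 (tt (ev 0))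
      calc _ = e (TT (ev 0)) * (t * e (TT (ev 0)) * t⁻¹) * (t * τ (ev 0) * t⁻¹) := by
            rw [d1, d2, one_mul]
        _ = e (TT (ev 0)) * (t * e (TT (ev 0)) * τ (ev 0)) * t⁻¹ := by group
        _ = _ := by rw [← d3]; group
    have c3 : (j.prod Φ).range ≤ Γ.comap θ := by
      rintro _ ⟨y, rfl⟩
      exact mem_comap.2 (c1 y ▸ mem_sup_left ⟨_, rfl⟩)
    have c4 : σ ε τ (ev 0) ∈ Γ.comap θ := mem_comap.2 (c2 ▸ mul_mem (mem_sup_left ⟨_, rfl⟩)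
      (mem_sup_right (subset_closure (h.S_σ (ev_ne 0)).mem)))
    have c5 : Γ ≤ Γ.comap θ := sup_le c3 ((closure_le _).2 (by
      rintro d (hd | ⟨p, _, ⟨y, -, rfl⟩, hd⟩)
      · exact c3 hd
      · exact (mul_mem_cancel_left (inv_mem (mul_mem (mul_mem (c3 ⟨y, rfl⟩) c4)
          (inv_mem (c3 ⟨y, rfl⟩))))).1 (c3 hd)))
    obtain ⟨⟨g, hg⟩, rfl⟩ := b2 y
    exact (congrArg (fun x => t * x * t⁻¹) (key g hg)).trans (key _ (c5 hg)).symm

end Hy

theorem jobCL : JobCL.{u} := fun tl pp ql _ _ _ _ _ _ _ _ _ _ _ _ _ _ _ _ _ m _ _ hi ra tt hm hs =>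
  Hy.main ⟨m, ra, hm, hs⟩ tl pp ql hi tt

end H61.SP3CL
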