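import Cfsg.Agent.H67.SPSpec

/-! STD-SP, job Z2: translation by `qq r p` keeps the classes in the centraliser of `P`. -/

set_option autoImplicit false
set_option linter.unusedSectionVars false

namespace H61.SPZ

open H64.SG (O2 Syl Cz Cs Ns Is2 Inv2 mem_Cz)
open Matrix Subgroup H67.SP
open H67.UA hiding Par

variable {n : ℕ} {F : Type} [Field F] [StarRing F] [TrivialStar F] [CharP F 2] [Finite F]

theorem hf_comm (x y : Vn n F) : hf x y = hf y x := by rw [← star_hf, star_trivial]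

theorem hf_smul_r (a : F) (x y : Vn n F) : hf x (a • y) = a * hf x y := by
  rw [hf_smul_right, star_trivial]

theorem eq_of_add {v w : Vn n F} (h : v + w = 0) : v = w := by
  rw [← add_zero v, ← v_add_self w, ← add_assoc, h, zero_add]

/-- `g + 1` -/
def NN (g : XU n F) : Vn n F →ₗ[F] Vn n F := mulVecLin (mt g) + LinearMap.id

theorem NN_apply (g : XU n F) (v : Vn n F) : NN g v = ac g v + v := rfl

theorem ac_eq (g : XU n F) (v : Vn n F) : ac g v = NN g v + v := by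
  rw [NN_apply, add_assoc, v_add_self, add_zero]

theorem NN_eq {g : XU n F} {v w : Vn n F} (h : ac g v = v + w) : NN g v = w := by
  rw [NN_apply, h, add_right_comm, v_add_self, zero_add]

theorem NN_eq_zero {g : XU n F} {v : Vn n F} : NN g v = 0 ↔ ac g v = v :=
  ⟨eq_of_add, fun h => NN_eq (h.trans (add_zero v).symm)⟩

theorem NN_NN {g : XU n F} (h : g * g = 1) (v : Vn n F) : NN g (NN g v) = 0 := by
  rw [NN_eq_zero, NN_apply, ac_add, ← ac_mul, h, ac_one, add_comm]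

theorem hf_NN {g : XU n F} (h : g * g = 1) (a b : Vn n F) : hf (NN g a) b = hf a (NN g b) := by
  rw [NN_apply, NN_apply, hf_add_left, hf_add_right, hf_ac_left, inv_eq_of_mul_eq_one_right h]

theorem hf_NN_NN {g : XU n F} (h : g * g = 1) (a b : Vn n F) : hf (NN g a) (NN g b) = 0 := by
  rw [hf_NN h, NN_NN h, hf_zero_right]

theorem ac_NN {g h : XU n F} (e : g * h = h * g) (v : Vn n F) : ac g (NN h v) = NN h (ac g v) := by
  rw [NN_apply, NN_apply, ac_add, ← ac_mul, e, ac_mul]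

theorem NN_comm {g h : XU n F} (e : g * h = h * g) (v : Vn n F) :
    NN g (NN h v) = NN h (NN g v) := by
  rw [NN_apply g, ac_NN e, NN_apply g, map_add]

theorem comm_of_NN {g h : XU n F} (e : ∀ v, NN g (NN h v) = NN h (NN g v)) : g * h = h * g :=
  ac_ext fun v => by
    rw [ac_mul, ac_mul, ac_eq g, ac_eq h v, ac_eq h, ac_eq g v, map_add, map_add, e]
    abel

/-- The perpendicular space. -/
def perp (S : Submodule F (Vn n F)) : Submodule F (Vn n F) where
  carrier := {v | ∀ s ∈ S, hf v s = 0}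
  add_mem' := fun a b s hs => by rw [hf_add_left, a s hs, b s hs, add_zero]
  zero_mem' := fun s _ => hf_zero_left s
  smul_mem' := fun c v a s hs => by rw [hf_smul_left, a s hs, mul_zero]

/-- `⟨p, r⟩^⊥` -/
def p2 (p r : Vn n F) : Submodule F (Vn n F) where
  carrier := {v | hf v p = 0 ∧ hf v r = 0}
  add_mem' := fun a b => ⟨by rw [hf_add_left, a.1, b.1, add_zero],
    by rw [hf_add_left, a.2, b.2, add_zero]⟩
  zero_mem' := ⟨hf_zero_left _, hf_zero_left _⟩
  smul_mem' := fun c v a => ⟨by rw [hf_smul_left, a.1, mul_zero], by rw [hf_smul_left, a.2, mul_zero]⟩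

/-- `S` is invariant under `P`. -/
def Iv (P : Subgroup (XU n F)) (S : Submodule F (Vn n F)) : Prop := ∀ g ∈ P, ∀ v ∈ S, ac g v ∈ S

theorem Iv.perp {P : Subgroup (XU n F)} {S : Submodule F (Vn n F)} (h : Iv P S) : Iv P (perp S) :=
  fun g hg v hv s hs => by rw [hf_ac_left]; exact hv _ (h _ (inv_mem hg) s hs)

theorem Iv.inf {P : Subgroup (XU n F)} {S T : Submodule F (Vn n F)} (h : Iv P S) (h' : Iv P T) :
    Iv P (S ⊓ T) := fun g hg v hv => ⟨h g hg v hv.1, h' g hg v hv.2⟩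

theorem Iv.map {P : Subgroup (XU n F)} {S : Submodule F (Vn n F)} (h : Iv P S) {x : XU n F}
    (hx : P ≤ Cz x) : Iv P (S.map (NN x)) := by
  rintro g hg _ ⟨v, hv, rfl⟩
  exact ⟨_, h g hg v hv, (ac_NN (mem_Cz.1 (hx hg)).symm v).symm⟩

variable [FV n F]

theorem hf_self (v : Vn n F) : hf v v = 0 := FV.iso v

theorem NN_TT (w v : Vn n F) : NN (TT w) v = hf v w • w :=
  NN_eq (by rw [ac_Tc (FV.iso w) (star_trivial _), one_mul])

theorem NN_qq {y r : Vn n F} (h : hf r y = 0) (v : Vn n F) :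
    NN (qq y r) v = hf v y • r + hf v r • y := NN_eq (by rw [ac_qq (FV.pp r y h), add_assoc])

theorem NN_qq_qq {a y r s : Vn n F} (ra : hf r a = 0) (sy : hf s y = 0) (sa : hf s a = 0)
    (sr : hf s r = 0) (yr : hf y r = 0) (v : Vn n F) : NN (qq a r * qq y s) v =
      hf v y • s + hf v s • y + (hf v a + hf v s * hf y a) • r + hf v r • a := NN_eq (by
  rw [ac_mul, ac_qq (FV.pp s y sy), ac_qq (FV.pp r a ra)]
  simp only [hf_add_left, hf_smul_left, sa, sr, yr, mul_zero, add_zero, zero_add, add_assoc])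

/-- An element of `H` that is trivial on the factors of an invariant chain lies in the Sylow
subgroup. -/
theorem mem_syl {P H : Subgroup (XU n F)} (hP : Syl P H) (m : ℕ) (W : ℕ → Submodule F (Vn n F))
    (h1 : Monotone W) (h2 : W 0 = ⊥) (h3 : W m = ⊤) (h4 : ∀ j, Iv P (W j)) {u : XU n F}
    (hu : u ∈ H) (h5 : ∀ j, ∀ v ∈ W (j + 1), NN u v ∈ W j) : u ∈ P := by
  obtain ⟨R, hR, mR⟩ := FV.chain m W h1 h2 h3
  have s := H64.SG.syl_iff.1 hP
  have k : ∀ g ∈ P, ∀ h ∈ R, g * h * g⁻¹ ∈ R := fun g hg h hh => (mR _).2 fun j v hv => by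
    have := h4 j g hg _ ((mR h).1 hh j _ (h4 _ _ (inv_mem hg) v hv))
    rwa [ac_add, ac_ac_inv, ← ac_mul, ← ac_mul] at this
  have nR : P ≤ normalizer (R : Set (XU n F)) := fun g hg => mem_normalizer_iff.2 fun h =>
    ⟨k g hg h, fun a => by simpa [mul_assoc] using k _ (inv_mem hg) _ a⟩
  exact s.le_of_le_normalizer (Q := R ⊓ H) (hR.to_le inf_le_left) inf_le_right
    (H98.le_normalizer_inf nR (H98.le_normalizer_of_le s.le)) ⟨(mR u).2 h5, hu⟩

variable {x : XU n F} {P : Subgroup (XU n F)} {p r y : Vn n F}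

section Frame
variable (hx : x * x = 1) (f : Fm x P p r y)
include hx f

omit hx [FV n F] in
theorem Ny : NN x y = r := f.wr.symm

omit [FV n F] in
theorem hf_N_p (a : Vn n F) : hf (NN x a) p = 0 := by
  obtain ⟨b, hb⟩ := f.wp
  rw [hb]
  exact hf_NN_NN hx a b

omit [FV n F] in
theorem hf_N_r (a : Vn n F) : hf (NN x a) r = 0 := by rw [← Ny f]; exact hf_NN_NN hx a y

omit [FV n F] in
theorem hf_N_y (a : Vn n F) : hf (NN x a) y = hf a r := by rw [hf_NN hx, Ny f]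

omit [FV n F] in
theorem N_p : NN x p = 0 := by
  obtain ⟨b, hb⟩ := f.wp
  rw [hb]
  exact NN_NN hx b

omit [FV n F] in
theorem N_r : NN x r = 0 := by rw [← Ny f]; exact NN_NN hx y

omit hx in
theorem hf_N_self {a : Vn n F} (h : hf a p = 0) : hf (NN x a) a = 0 := by
  rw [NN_apply, hf_add_left, hf_self, add_zero]
  rcases f.dg with k | k
  · exact k a
  · rw [k, h, zero_pow two_ne_zero]

omit hx [FV n F] in
theorem iv_p2 : Iv P (p2 p r) := fun g hg v hv => by
  obtain ⟨c, hc⟩ := f.fr _ (inv_mem hg)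
  exact ⟨by rw [hf_ac_left, f.fp _ (inv_mem hg), hv.1],
    by rw [hf_ac_left, hc, hf_add_right, hf_smul_r, hv.1, hv.2, mul_zero, add_zero]⟩

/-- The criterion for membership in `P`. -/
theorem mem_P {u : XU n F} (hu : x * u = u * x) (k4 : ∀ v, NN u v ∈ p2 p r)
    (k3 : ∀ v ∈ p2 p r, NN u v ∈ p2 p r ⊓ perp ((p2 p r).map (NN x)))
    (k2 : ∀ v ∈ p2 p r ⊓ perp ((p2 p r).map (NN x)), NN u v ∈ (p2 p r).map (NN x))
    (k1 : ∀ v ∈ (p2 p r).map (NN x), NN u v ∈ (p2 p r).map (NN x) ⊓ perp (p2 p r))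
    (k0 : ∀ v ∈ (p2 p r).map (NN x) ⊓ perp (p2 p r), NN u v = 0) : u ∈ P := by
  have i4 := iv_p2 f
  have i2 := i4.map f.syl.1
  refine mem_syl f.syl 5 (fun j => match j with
    | 0 => ⊥
    | 1 => (p2 p r).map (NN x) ⊓ perp (p2 p r)
    | 2 => (p2 p r).map (NN x)
    | 3 => p2 p r ⊓ perp ((p2 p r).map (NN x))
    | 4 => p2 p r
    | _ + 5 => ⊤) (monotone_nat_of_le_succ fun j => ?_) rfl rfl (fun j => ?_) (mem_Cz.2 hu)
      fun j => ?_
  · match j with
    | 0 => exact bot_le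
    | 1 => exact inf_le_left
    | 2 =>
      rintro _ ⟨a, -, rfl⟩
      refine ⟨⟨hf_N_p hx f a, hf_N_r hx f a⟩, ?_⟩
      rintro _ ⟨b, -, rfl⟩
      exact hf_NN_NN hx a b
    | 3 => exact inf_le_left
    | 4 => exact le_top
    | _ + 5 => exact le_top
  · match j with
    | 0 =>
      intro g _ v hv
      rw [(Submodule.mem_bot F).1 hv, ac_zero]
      exact zero_mem _
    | 1 => exact i2.inf i4.perp
    | 2 => exact i2
    | 3 => exact i4.inf i2.perp
    | 4 => exact i4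
    | _ + 5 => exact fun _ _ _ _ => trivial
  · match j with
    | 0 => exact k0
    | 1 => exact k1
    | 2 => exact k2
    | 3 => exact k3
    | 4 => exact fun v _ => k4 v
    | _ + 5 => exact fun _ _ => trivial

omit [FV n F] in
theorem mem3 (a : Vn n F) : NN x a ∈ p2 p r ⊓ perp ((p2 p r).map (NN x)) := by
  refine ⟨⟨hf_N_p hx f a, hf_N_r hx f a⟩, ?_⟩
  rintro _ ⟨b, -, rfl⟩
  exact hf_NN_NN hx a b

omit hx [FV n F] in
theorem r_mem : r ∈ (p2 p r).map (NN x) ⊓ perp (p2 p r) :=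
  ⟨⟨y, ⟨f.yp, f.yr⟩, Ny f⟩, fun _ ha => hf_symm ha.2⟩

omit [FV n F] in
theorem y_mem : y ∈ p2 p r ⊓ perp ((p2 p r).map (NN x)) := by
  refine ⟨⟨f.yp, f.yr⟩, ?_⟩
  rintro _ ⟨b, hb, rfl⟩
  rw [hf_comm, hf_N_y hx f, hb.2]

theorem TT_mem {b : Vn n F}
    (h : ∀ v ∈ p2 p r ⊓ perp ((p2 p r).map (NN x)), hf v (NN x b) = 0) : TT (NN x b) ∈ P := by
  have k : ∀ a, NN (TT (NN x b)) (NN x a) = 0 := fun a => by rw [NN_TT, hf_NN_NN hx, zero_smul]
  refine mem_P hx f (comm_of_NN fun v => ?_) (fun v => ?_) (fun v _ => ?_) (fun v hv => ?_) ?_ ?_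
  · rw [k, NN_TT, map_smul, NN_NN hx, smul_zero]
  · rw [NN_TT]; exact Submodule.smul_mem _ _ (mem3 hx f b).1
  · rw [NN_TT]; exact Submodule.smul_mem _ _ (mem3 hx f b)
  · rw [NN_TT, h v hv, zero_smul]; exact zero_mem _
  · rintro _ ⟨a, -, rfl⟩
    rw [k]; exact zero_mem _
  · rintro _ ⟨⟨a, -, rfl⟩, -⟩
    exact k a

theorem TT_p_mem : TT p ∈ P := by
  obtain ⟨b, hb⟩ := f.wp
  have := TT_mem hx f (b := b) fun v hv => by rw [NN_apply, ← hb]; exact hv.1.1
  rwa [NN_apply, ← hb] at this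

theorem TT_s_mem {a : Vn n F} (ha : a ∈ p2 p r) : TT (NN x a) ∈ P :=
  TT_mem hx f fun _ hv => hv.2 _ ⟨a, ha, rfl⟩

theorem ur_mem : qq y r ∈ P := by
  have e := NN_qq (hf_symm f.yr)
  have r1 := r_mem f
  have r3 := Ny f ▸ mem3 hx f y
  have k : ∀ a ∈ p2 p r, NN (qq y r) (NN x a) = 0 := fun a ha => by
    rw [e, hf_N_y hx f, hf_N_r hx f, ha.2, zero_smul, zero_smul, add_zero]
  refine mem_P hx f (comm_of_NN fun v => ?_) (fun v => ?_) (fun v hv => ?_) (fun v hv => ?_) ?_ ?_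
  · rw [e, e, map_add, map_smul, map_smul, N_r hx f, Ny f, hf_N_y hx f, hf_N_r hx f, smul_zero,
      zero_smul, zero_add, add_zero]
  · rw [e]; exact add_mem (Submodule.smul_mem _ _ r3.1) (Submodule.smul_mem _ _ (y_mem hx f).1)
  · rw [e]; exact add_mem (Submodule.smul_mem _ _ r3) (Submodule.smul_mem _ _ (y_mem hx f))
  · rw [e, hv.1.2, zero_smul, add_zero]; exact Submodule.smul_mem _ _ r1.1
  · rintro _ ⟨a, ha, rfl⟩
    rw [k a ha]; exact zero_mem _
  · rintro _ ⟨⟨a, ha, rfl⟩, -⟩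
    exact k a ha

theorem NN_us {a : Vn n F} (ha : a ∈ p2 p r) (v : Vn n F) : NN (qq a r * qq y (NN x a)) v =
    hf v y • NN x a + hf v (NN x a) • y + (hf v a + hf v (NN x a) * hf y a) • r + hf v r • a :=
  NN_qq_qq (hf_symm ha.2) ((hf_N_y hx f a).trans ha.2) (hf_N_self f ha.1) (hf_N_r hx f a) f.yr v

theorem us_mem {a : Vn n F} (ha : a ∈ p2 p r) : qq a r * qq y (NN x a) ∈ P := by
  have e := NN_us hx f ha
  have r1 := r_mem f
  have r3 := Ny f ▸ mem3 hx f y
  have s3 := mem3 hx f a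
  have y3 := y_mem hx f
  have k : ∀ b ∈ p2 p r, NN (qq a r * qq y (NN x a)) (NN x b) = hf (NN x b) a • r := fun b hb => by
    rw [e, hf_N_y hx f, hf_N_r hx f, hf_NN_NN hx, hb.2]
    simp only [zero_smul, zero_mul, add_zero, zero_add]
  refine mem_P hx f (comm_of_NN fun v => ?_) (fun v => ?_) (fun v hv => ?_) (fun v hv => ?_) ?_ ?_
  · rw [e, e, hf_N_y hx f, hf_N_r hx f, hf_NN_NN hx, hf_NN hx]
    simp only [map_add, map_smul, NN_NN hx, N_r hx f, Ny f, smul_zero, zero_smul, zero_mul,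
      add_zero, zero_add]
    exact add_comm _ _
  · rw [e]
    exact add_mem (add_mem (add_mem (Submodule.smul_mem _ _ s3.1) (Submodule.smul_mem _ _ y3.1))
      (Submodule.smul_mem _ _ r3.1)) (Submodule.smul_mem _ _ ha)
  · rw [e, hv.2, zero_smul, add_zero]
    exact add_mem (add_mem (Submodule.smul_mem _ _ s3) (Submodule.smul_mem _ _ y3))
      (Submodule.smul_mem _ _ r3)
  · rw [e, hv.1.2, hv.2 _ ⟨a, ha, rfl⟩, zero_smul, zero_smul, add_zero, add_zero]
    exact add_mem (Submodule.smul_mem _ _ ⟨a, ha, rfl⟩) (Submodule.smul_mem _ _ r1.1)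
  · rintro _ ⟨b, hb, rfl⟩
    rw [k b hb]; exact Submodule.smul_mem _ _ r1
  · rintro _ ⟨⟨b, hb, rfl⟩, h⟩
    rw [k b hb, h a ha, zero_smul]

end Frame

theorem fix_of_comm [FR n F] {z : XU n F} {w : Vn n F} (h : TT w * z = z * TT w) : NN z w = 0 := by
  by_cases h0 : w = 0
  · rw [h0, map_zero]
  · exact NN_eq_zero.2 (mem_Stab.1 (FR.cz w 1 h0 one_ne_zero ▸ mem_Cz.2 h))

omit [FV n F] in
theorem exists_dual [FW n F] (h : Li p r) :
    ∃ a b : Vn n F, hf a p = 1 ∧ hf a r = 0 ∧ hf b p = 0 ∧ hf b r = 1 := by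
  have li : LinearIndependent F ![p, r] := LinearIndependent.pair_iff.2 h
  obtain ⟨a, ha⟩ := FW.sep 2 _ li ![1, 0]
  obtain ⟨b, hb⟩ := FW.sep 2 _ li ![0, 1]
  exact ⟨a, b, ha 0, ha 1, hb 0, hb 1⟩

omit [FV n F] in
theorem rk_le_two {z : XU n F} {a b : Vn n F} (h : ∀ v, ∃ c d : F, NN z v = c • a + d • b) :
    rk z ≤ 2 := by
  classical
  have : LinearMap.range (mt z - 1).mulVecLin ≤ Submodule.span F (Set.range ![a, b]) := by
    rintro _ ⟨v, rfl⟩
    obtain ⟨c, d, e⟩ := h v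
    have e1 : (mt z - 1).mulVecLin v = NN z v := by
      rw [mulVecLin_apply, sub_mulVec, one_mulVec, NN_apply, sub_eq_iff_eq_add, add_assoc,
        v_add_self, add_zero]
      rfl
    rw [e1, e]
    exact add_mem (Submodule.smul_mem _ _ (Submodule.subset_span ⟨0, rfl⟩))
      (Submodule.smul_mem _ _ (Submodule.subset_span ⟨1, rfl⟩))
  exact (Submodule.finrank_mono this).trans ((finrank_range_le_card _).trans (by simp))

theorem exists_a [FW n F] [FR n F] (hx : x * x = 1) (f : Fm x P p r y) {z : XU n F}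
    (hz : z ∈ Cs P) (z2 : Inv2 z) (nz : ¬ Rt z) : ∃ a ∈ p2 p r, NN z a = r := by
  obtain ⟨a1, a2, h1, h2, h3, h4⟩ := exists_dual f.li
  have zs : ∀ a ∈ p2 p r, NN z (NN x a) = 0 := fun a ha => fix_of_comm (hz _ (TT_s_mem hx f ha))
  have zr : NN z r = 0 := Ny f ▸ zs y ⟨f.yp, f.yr⟩
  have e1 := NN_comm (hz _ (ur_mem hx f)) a2
  rw [NN_qq (hf_symm f.yr), NN_qq (hf_symm f.yr), hf_NN z2.1 a2 r, zr, h4, map_add, map_smul, zr,
    hf_zero_right, zero_smul, smul_zero, add_zero, zero_add, one_smul] at e1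
  generalize hf (NN z a2) y = l at e1
  by_cases l0 : l = 0
  · by_contra ne
    have k : ∀ a ∈ p2 p r, NN z a = 0 := fun a ha => by
      have e2 := NN_comm (hz _ (us_mem hx f ha)) a2
      rw [NN_us hx f ha, NN_us hx f ha, hf_NN z2.1 a2 r, hf_NN z2.1 a2 y, hf_NN z2.1 a2 (NN x a),
        zr, zs a ha, ← e1, l0, h4] at e2
      simp only [map_add, map_smul, zr, zs a ha, ← e1, l0, zero_smul, smul_zero, hf_zero_right,
        zero_mul, add_zero, zero_add, one_smul] at e2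
      by_contra n0
      have m0 : hf (NN z a2) a ≠ 0 := fun k => n0 (by rw [← e2, k, zero_smul])
      exact ne ⟨_, Submodule.smul_mem _ (hf (NN z a2) a)⁻¹ ha, by
        rw [map_smul, ← e2, smul_smul, inv_mul_cancel₀ m0, one_smul]⟩
    have := FR.r3 z z2 nz
    have := rk_le_two (z := z) (a := NN z a1) (b := NN z a2) fun v => ⟨hf v p, hf v r, by
      have := k (v + (hf v p • a1 + hf v r • a2)) ⟨by
        simp [hf_add_left, hf_smul_left, h1, h3, CharTwo.add_self_eq_zero], by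
        simp [hf_add_left, hf_smul_left, h2, h4, CharTwo.add_self_eq_zero]⟩
      rw [map_add, map_add, map_smul, map_smul] at this
      exact eq_of_add this⟩
    omega
  · exact ⟨_, Submodule.smul_mem _ l⁻¹ ⟨f.yp, f.yr⟩, by
      rw [map_smul, ← e1, smul_smul, inv_mul_cancel₀ l0, one_smul]⟩

theorem jobZ2 : JobZ2 := by
  intro n F _ _ _ _ _ _ b x P p r y hx _ f
  have rp : hf r p = 0 := Ny f ▸ hf_N_p hx.1 f y
  refine ⟨fun g hg => ?_, fun z hz z2 nz => ?_⟩
  · obtain ⟨c, hc⟩ := f.fr g hg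
    rw [← mul_inv_eq_iff_eq_mul, EE_conj (FV.ok p r 0 rp), f.fp g hg, hc, EE_shift,
      tr_eq_zero.2 (star_trivial c), add_zero]
  · obtain ⟨a, ha, e⟩ := exists_a hx.1 f hz z2 nz
    have zp : ac z p = p := NN_eq_zero.1 (fix_of_comm (hz _ (TT_p_mem hx.1 f)))
    have k : z * qq a p * z⁻¹ = qq a p * qq r p := by
      rw [EE_conj (FV.ok p a 0 ha.1), EE_mul (FV.ok p a 0 ha.1) (FV.ok p r 0 rp), zp, ac_eq, e,
        hf_symm ha.2, add_comm r, add_zero, add_zero]
    refine isConj_iff.2 ⟨z * (qq a p)⁻¹, ?_⟩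
    rw [show z * (qq a p)⁻¹ * z * (z * (qq a p)⁻¹)⁻¹ = z * ((qq a p)⁻¹ * (z * qq a p * z⁻¹)) by group,
      k, inv_mul_cancel_left]

end H61.SPZ
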