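/- General lemmas for the job A22 of the tower T3. -/
import Cfsg.Agent.S3331
import Cfsg.Agent.H12.ExtTransfer
import Cfsg.Agent.H12.Basic
import Cfsg.Agent.H2.CoreFree
import Cfsg.Agent.H61.SubField

set_option autoImplicit false

namespace H61.T3
open Subgroup Cfsg H98
open scoped commutatorElement

variable {G : Type*} [Group G] [Finite G]

/-- The extremal transfer lemma inside a subgroup. -/
theorem ext_rel {X S D R : Subgroup G} (hS : IsSyl 2 S X) (hD : ⁅S, S⁆ ≤ D) {y : G}
    (hy : y * y = 1) (hyS : y ∈ S) (hyD : y ∉ D) (hyR : y ∈ R) (hR : IsPGroup 2 R) (hRX : R ≤ X)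
    (hc : ∀ r ∈ R, r * y = y * r) (h : ∀ a ∈ X, cj a R ≤ S → a * y * a⁻¹ * y ∈ D) :
    y ∉ res 2 X := by
  rintro ⟨y', hy', rfl⟩
  refine H12.not_mem_res_of_extremal (D := D.subgroupOf X) (R := R.subgroupOf X) (y := y')
    hS.subgroupOf_top (commutator_le.2 fun a ha b hb => hD (commutator_mem_commutator ha hb))
    (Subtype.ext hy) hyS hyD hyR (isPGroup_subgroupOf hR X)
    (fun r hr => Subtype.ext (hc r hr)) (fun a ha => h a a.2 ?_) (by rwa [res_top])
  rintro _ ⟨r, hr, rfl⟩
  exact ha (conj_mem_cj (g := a) (x := ⟨r, hRX hr⟩) hr)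

/-- A Sylow `2`-subgroup of index three. -/
theorem core6 {H S : Subgroup G} (hS : IsSyl 2 S H) (h3 : S.relIndex H = 3) :
    (pCoreOf 2 H).relIndex H ∣ 6 := by
  classical
  have h1 : (S.subgroupOf H).normalCore.index ∣ 6 := by
    let _ : Fintype (H ⧸ S.subgroupOf H) := Fintype.ofFinite _
    rw [normalCore_eq_ker, index_ker]
    have := card_subgroup_dvd_card (MulAction.toPermHom H (H ⧸ S.subgroupOf H)).range
    rwa [Nat.card_perm, show Nat.card (H ⧸ S.subgroupOf H) = 3 from h3] at this
  refine dvd_trans ?_ h1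
  rw [relIndex, pCoreOf_subgroupOf]
  exact index_dvd_of_le (H2.le_pCore ((isPGroup_subgroupOf hS.isPGroup H).to_le (normalCore_le _)))

/-- A Sylow subgroup inside a nilpotent normal subgroup. -/
theorem mem_syl {N P : Subgroup G} [N.Normal] (hN : Group.IsNilpotent N) {r : ℕ} [hr : Fact r.Prime]
    (hi : ¬ r ∣ N.index) (hP : IsSyl r P ⊤) {g : G} {k : ℕ} (hg : g ^ r ^ k = 1) : g ∈ P := by
  have h1 : P ≤ N := fun a ha => by
    obtain ⟨j, hj⟩ := isPGroup_iff_forall.1 hP.isPGroup a ha
    exact mem_of_pow_mem_of_coprime (N.pow_index_mem a) (Nat.Coprime.coprime_dvd_left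
      (orderOf_dvd_of_pow_eq_one hj) (((Nat.Prime.coprime_iff_not_dvd hr.out).2 hi).pow_left j))
  have h2 := hP.of_le h1 le_top
  have h3 : N ≤ normalizer (P : Set G) := by
    obtain ⟨P', rfl⟩ := h2.exists_sylow_map
    have : (P' : Subgroup N).Normal := inferInstance
    exact le_normalizer_map_subtype _
  refine hP.le_of_le_normalizer' (isPGroup_zpowers hg) le_top (fun a _ => ?_) (mem_zpowers g)
  obtain ⟨b, hb, n, hn, rfl⟩ := h2.frattini_mem (le_normalizer_of_normal (H := N) (mem_top a))
  exact mul_mem hb (h3 hn)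

/-- The theorem on self-centralizing subgroups of order three, for Sylow `2`-subgroups of
order `16` or `32`. -/
theorem sc3 {x : G} (h3 : orderOf x = 3) (hc : ∀ c : G, c * x = x * c → c ∈ zpowers x)
    (h16 : 16 ∣ Nat.card G) (h64 : ¬ 64 ∣ Nat.card G) :
    ∃ N : Subgroup G, N.Normal ∧ Group.IsNilpotent N ∧ N.index ∣ 6 := by
  have : Fact (Nat.Prime 3) := ⟨Nat.prime_three⟩
  have : Fact (Nat.Prime 2) := ⟨Nat.prime_two⟩
  have hX : IsPGroup 3 (zpowers x) :=
    isPGroup_zpowers (k := 1) (by rw [pow_one, ← h3, pow_orderOf_eq_one])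
  have hC : centralizer (zpowers x : Set G) = zpowers x := le_antisymm
    (fun c h => hc c (h x (mem_zpowers x)).symm) (by
      rintro _ ⟨i, rfl⟩ _ ⟨j, rfl⟩
      exact (Commute.refl x).zpow_zpow j i)
  rcases Cfsg.Agent.S3331.result (zpowers x) (by rw [Nat.card_zpowers, h3]) hC with
    ⟨N, hN, h1, -, h2⟩ | ⟨N, hN, -, h1, ⟨e⟩⟩ | ⟨⟨e⟩⟩
  · refine ⟨N, hN, h1, ?_⟩
    rcases h2 with h2 | ⟨⟨e⟩⟩
    · rw [index, h2]; norm_num
    · rw [index, Nat.card_congr e.toEquiv, Nat.card_perm]; simp [Nat.factorial]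
  · exfalso
    have hi : N.index = 60 := by
      rw [index, Nat.card_congr e.toEquiv, Nat.card_eq_fintype_card, card_alternatingGroup]
      simp [Nat.factorial]
    have hp : IsPGroup 2 N := isPGroup_iff_forall.2 fun n hn => ⟨1, h1 n hn⟩
    have hf : N ⊓ centralizer (zpowers x : Set G) = ⊥ := by
      rw [hC]
      exact (disjoint_of_coprime_natCard
        (IsPGroup.coprime_card_of_ne 2 3 (by norm_num) _ _ hp hX)).eq_bot
    have hm := H2.card_modEq_card_inf_centralizer hX
      (le_normalizer_of_normal (H := N) (K := zpowers x))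
    rw [hf, card_bot] at hm
    obtain ⟨k, hk⟩ := IsPGroup.iff_card.1 hp
    have hcard := N.card_mul_index
    rw [hi, hk] at hcard
    have k2 : k = 2 := by
      rw [hk] at hm
      rw [← hcard] at h16 h64
      rcases k with _ | _ | _ | _ | k
      · omega
      · omega
      · rfl
      · exact absurd hm (by decide)
      · exact absurd ⟨2 ^ k * 15, by ring⟩ h64
    subst k2
    -- the centraliser of `N` has index at most six
    have hsimple : IsSimpleGroup (G ⧸ N) := e.isSimpleGroup
    have hcomm : N ≤ centralizer (N : Set G) := fun a ha b hb => by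
      have i : ∀ n ∈ N, n⁻¹ = n := fun n hn =>
        inv_eq_of_mul_eq_one_right (by rw [← pow_two, h1 n hn])
      rw [← i _ (mul_mem hb ha), mul_inv_rev, i a ha, i b hb]
    have hidx : (centralizer (N : Set G)).index ≤ 24 := by
      classical
      let _ : Fintype N := Fintype.ofFinite _
      have hk' : ((MulAut.toPerm N).comp (MulAut.conjNormal (H := N))).ker =
          centralizer (N : Set G) := by
        ext g
        rw [MonoidHom.mem_ker, mem_centralizer_iff]
        refine ⟨fun h n hn => ?_, fun h => Equiv.ext fun n => Subtype.ext ?_⟩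
        · have : g * n * g⁻¹ = n := congrArg Subtype.val (Equiv.ext_iff.1 h ⟨n, hn⟩)
          exact (mul_inv_eq_iff_eq_mul.1 this).symm
        · exact mul_inv_eq_iff_eq_mul.2 (h n n.2).symm
      rw [← hk', index_ker]
      have := Nat.le_of_dvd Nat.card_pos (card_subgroup_dvd_card
        ((MulAut.toPerm N).comp (MulAut.conjNormal (H := N))).range)
      rwa [Nat.card_perm, hk] at this
    rcases hsimple.eq_bot_or_eq_top_of_normal ((centralizer (N : Set G)).map (QuotientGroup.mk' N))
      (Normal.map inferInstance _ (QuotientGroup.mk'_surjective N)) with h | h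
    · rw [Subgroup.map_eq_bot_iff, QuotientGroup.ker_mk'] at h
      rw [le_antisymm h hcomm, hi] at hidx
      omega
    · have h4 : centralizer (N : Set G) = ⊤ := by
        have := congrArg (comap (QuotientGroup.mk' N)) h
        rwa [comap_map_eq, QuotientGroup.ker_mk', comap_top, sup_eq_left.2 hcomm] at this
      have h5 : N ≤ centralizer (zpowers x : Set G) := le_centralizer_iff.1 (h4 ▸ le_top)
      rw [inf_eq_left.2 h5] at hf
      rw [hf, card_bot] at hk
      omega
  · have : Fact (Nat.Prime 7) := ⟨by norm_num⟩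
    have h1 := H61.two_mul_card_psl (F := ZMod 7) (by rw [Nat.card_zmod]; decide)
    rw [Nat.card_zmod, ← Nat.card_congr e.toEquiv] at h1
    omega

end H61.T3
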