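/- Tower T3, job A22, part 1: the structure of `C(t) ∩ N(W)`. -/
import Cfsg.Agent.H48.T3Lem
import Cfsg.Agent.H61.T3G
import Cfsg.Agent.H61.SmallId
import Cfsg.Agent.H98.YMin

set_option autoImplicit false
set_option linter.unusedSectionVars false

namespace H61.T3
open Subgroup Cfsg H98 H96.CG H48.T3
open scoped commutatorElement

universe u

theorem exists_sq {G : Type*} [Group G] {W : Subgroup G} (k : ℕ) : ∀ q : G, q ^ 2 ^ k ∈ W →
    q ∉ W → ∃ a ∈ zpowers q, a ∉ W ∧ a * a ∈ W := by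
  induction k with
  | zero => exact fun q h1 h2 => absurd (by simpa using h1) h2
  | succ k ih =>
    intro q h1 h2
    by_cases h : q * q ∈ W
    · exact ⟨q, mem_zpowers q, h2, h⟩
    · obtain ⟨a, ha, h3⟩ := ih (q * q) (by rwa [← pow_two, ← pow_mul, ← pow_succ']) h
      exact ⟨a, (zpowers_le.2 (mul_mem (mem_zpowers q) (mem_zpowers q))) ha, h3⟩

theorem mem_zp2 {G : Type*} [Group G] {a b : G} (h : a * a = 1) (hb : b ∈ zpowers a) :
    b = 1 ∨ b = a := by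
  obtain ⟨k, rfl⟩ := hb
  rcases Int.even_or_odd' k with ⟨l, rfl | rfl⟩ <;>
    simp [zpow_add, zpow_mul, zpow_ofNat, pow_two, h]

theorem mem_c1 {G : Type*} [Group G] {a b : G} : a ∈ cen1 b ↔ a * b = b * a :=
  mem_centralizer_singleton_iff

variable {G : Type u} [Group G]

/-- the hypothesis of the job -/
structure Cx (x y u t : G) : Prop where
  B : Bs G
  E : Edge x y u
  A : A6D (N x) u
  wc : ∀ R : Subgroup G, IsPGroup 2 R → N x ≤ R → ∀ g, cj g (N x) ≤ R → cj g (N x) = N x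
  ht : t ∈ V x
  t1 : t ≠ 1

def X0 (x t : G) : Subgroup G := cen1 t ⊓ nor (N x)
def Q (x t : G) : Subgroup G := pCoreOf 2 (X0 x t)
def T0 (y t : G) : Subgroup G := zpowers t ⊔ V y
def Q1 (x y t : G) : Subgroup G := ⁅Q x t, zpowers x⁆ ⊔ T0 y t

namespace Cx
variable [Finite G] {x y u t : G} (c : Cx x y u t) {w g a : G}
include c

theorem H : Hy G := c.B.toHy
theorem P : Pu x y u := c.E.toPu
theorem V1 : V x ≤ N x := c.E.n1 ▸ le_sup_left
theorem V2 : V y ≤ N x := c.E.n1 ▸ le_sup_right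
theorem cm12 : Cm (V x) (V y) := (cm_of_le_cen (c.V2.trans (c.B.Nc x))).symm
theorem memW (hw : w ∈ N x) : ∃ a ∈ V x, ∃ b ∈ V y, w = a * b :=
  (mem_sup_left_norm (le_normalizer_of_le_centralizer c.cm12.le_cen)).1 (c.E.n1 ▸ hw)
theorem sqW (hw : w ∈ N x) : w * w = 1 := by
  obtain ⟨a, ha, b, hb, rfl⟩ := c.memW hw
  rw [mul_assoc, ← mul_assoc b, ← c.cm12 a ha b hb, mul_assoc, c.H.sq c.P.oy hb, mul_one,
    c.H.sq c.P.ox ha]
theorem invW (hw : w ∈ N x) : w⁻¹ = w := inv_eq_of_mul_eq_one_right (c.sqW hw)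
theorem cmW : Cm (N x) (N x) := fun a ha b hb => by
  rw [← c.invW (mul_mem ha hb), mul_inv_rev, c.invW ha, c.invW hb]
theorem cardW : Nat.card (N x) = 16 := c.E.n1 ▸ c.H.card16 c.P c.E.v1 c.E.v2 c.cm12
theorem tW : t ∈ N x := c.V1 c.ht
theorem tt : t * t = 1 := c.sqW c.tW
theorem W_le : N x ≤ X0 x t := fun w hw => ⟨mem_c1.2 (c.cmW w hw t c.tW), le_normalizer hw⟩
theorem x_mem : x ∈ X0 x t := ⟨mem_c1.2 (c.H.cs c.P.ox c.ht).symm, nor_N_of (Or.inl (by group))⟩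
theorem vV : y * t * y⁻¹ ∈ V x :=
  conj_mem_of_mem_normalizer (c.P.le_nor_V (left_mem_Pl _ _) (right_mem_Pl _ _)) c.ht
theorem vW : y * t * y⁻¹ ∈ N x := c.V1 c.vV

theorem V1_cases (hw : w ∈ V x) : w ∈ zpowers t ∨ ∃ s ∈ zpowers t, w = s * (y * t * y⁻¹) := by
  have o := c.H.orbit c.P c.ht c.t1
  rcases o.2.2.2.2 w hw with rfl | rfl | rfl | rfl
  · exact Or.inl (one_mem _)
  · exact Or.inl (mem_zpowers _)
  · exact Or.inr ⟨1, one_mem _, (one_mul _).symm⟩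
  · exact Or.inr ⟨t, mem_zpowers _, o.2.2.2.1.symm⟩

theorem v_not : y * t * y⁻¹ ∉ zpowers t := fun h =>
  (mem_zp2 c.tt h).elim (fun e => c.t1 (by simpa using e)) (c.H.orbit c.P c.ht c.t1).1

theorem ex_u : ∃ u' ∈ X0 x t, u' * u' = 1 ∧ u' * x * u'⁻¹ = x⁻¹ := by
  obtain ⟨s, hs, s1, us, -⟩ := c.H.u_fix c.P c.E.v1
  obtain ⟨p, hp, e⟩ := c.H.trans c.P hs s1 c.ht c.t1
  have hp' : p ∈ Pl x y := mem_sup_right hp
  have h1 := c.P.le_nor_N (left_mem_Pl _ _) hp'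
  have h2 := c.P.cj p
  have h3 : p * u * p⁻¹ ∈ nor (N x) :=
    mul_mem (mul_mem h1 (c.P.u_nor_N (left_mem_Pl _ _))) (inv_mem h1)
  refine ⟨p * u * p⁻¹, ⟨mem_c1.2 ?_, h3⟩, h2.uu, ?_⟩
  · rw [← e, conj_mul, conj_mul, us]
  · have := h2.ux
    rwa [c.P.conj_eq hp' (left_mem_Pl _ _)] at this

theorem card0 : Nat.card (X0 x t) = 384 := by
  have h1 := H61.ncard_conj_mul_card (nor (N x)) t
  have h2 : {a | ∃ s ∈ nor (N x), s * t * s⁻¹ = a} = (N x : Set G) \ {1} := by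
    ext a
    constructor
    · rintro ⟨s, hs, rfl⟩
      exact ⟨conj_mem_of_mem_normalizer hs c.tW, fun e => c.t1 (by simpa using e)⟩
    · exact fun h => c.A.tr t c.tW a h.1 c.t1 h.2
  rw [h2, Set.ncard_sdiff_singleton_of_mem (N x).one_mem, ← Nat.card_coe_set_eq,
    show Nat.card (N x : Set G) = 16 from c.cardW, c.A.card, inf_comm] at h1
  change (16 - 1) * Nat.card (X0 x t) = 5760 at h1
  omega

theorem W_le_Q : N x ≤ Q x t := le_pCoreOf (c.B.Np x) c.W_le inf_le_right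
theorem Q_le : Q x t ≤ X0 x t := pCoreOf_le _
theorem nQ : X0 x t ≤ nor (Q x t) := self_le_normalizer_pCoreOf _
theorem pQ : IsPGroup 2 (Q x t) := isPGroup_pCoreOf _

theorem syl0 {S : Subgroup G} (hS : IsSyl 2 S (X0 x t)) :
    Nat.card S = 128 ∧ S.relIndex (X0 x t) = 3 := by
  have : Fact (Nat.Prime 2) := ⟨Nat.prime_two⟩
  have h1 := H12.card_mul_relIndex hS.le
  have h2 := hS.not_dvd_relIndex
  obtain ⟨k, hk⟩ := IsPGroup.iff_card.1 hS.isPGroup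
  rw [c.card0, hk] at h1
  have h3 : k < 9 := by
    by_contra hn
    have := Nat.le_of_dvd (by norm_num) ((pow_dvd_pow 2 (not_lt.1 hn)).trans ⟨_, h1.symm⟩)
    omega
  rw [hk]
  interval_cases k <;> omega

theorem sylX {S : Subgroup G} (hS : IsSyl 2 S (X0 x t)) : IsSyl 2 S (cen1 t) :=
  ⟨hS.le.trans inf_le_left, hS.isPGroup, fun R hR h1 h2 => hS.eq_of_le hR h1 fun g hg =>
    have h3 := c.W_le_Q.trans (hS.pCoreOf_le.trans h1)
    ⟨h2 hg, cj_eq_self_iff.1 (c.wc R hR h3 g (cj_le_of_le_of_mem h3 hg))⟩⟩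

theorem x_not_Q : x ∉ Q x t := fun h => by
  obtain ⟨k, hk⟩ := isPGroup_iff_forall.1 c.pQ x h
  have := orderOf_dvd_of_pow_eq_one hk
  rw [c.P.ox] at this
  exact absurd (Nat.Prime.dvd_of_dvd_pow Nat.prime_three this) (by norm_num)

theorem u_not_Q {u' : G} (h : u' * x * u'⁻¹ = x⁻¹) : u' ∉ Q x t := fun hu => by
  have h1 := mul_mem (conj_mem_of_mem_normalizer (c.nQ c.x_mem) hu) (inv_mem hu)
  rw [show x * u' * x⁻¹ * u'⁻¹ = x * (u' * x * u'⁻¹)⁻¹ by group, h, inv_inv, cube_of c.P.ox] at h1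
  exact c.x_not_Q (inv_mem_iff.1 h1)

theorem cardQ : Nat.card (Q x t) = 64 := by
  obtain ⟨u', hu, u2, ux⟩ := c.ex_u
  obtain ⟨S, hS, h1⟩ := exists_isSyl_le (isPGroup_zpowers (p := 2) (k := 1) (by
    rw [pow_one, pow_two, u2])) (zpowers_le.2 hu)
  obtain ⟨h2, h3⟩ := c.syl0 hS
  have h4 : (Q x t).relIndex (X0 x t) ∣ 6 := core6 hS h3
  have h5 := H12.card_mul_relIndex c.Q_le
  have h6 : Q x t ≤ S := hS.pCoreOf_le
  have h7 : ¬ 128 ≤ Nat.card (Q x t) := fun h => c.u_not_Q ux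
    ((eq_of_le_of_card_ge h6 (h2 ▸ h)) ▸ h1 (mem_zpowers _))
  rw [c.card0] at h5
  have h8 := Nat.le_of_dvd (by norm_num) h4
  generalize (Q x t).relIndex (X0 x t) = i at h4 h5 h8
  interval_cases i <;> omega

theorem fixQ {K : Subgroup G} (h1 : N x ≤ K) (h2 : K ≤ Q x t) :
    K ⊓ cen (zpowers x) = V x :=
  le_antisymm (fun _ ha => c.H.mem_of_two c.P.ox c.pQ (h2 ha.1) (ha.2 x (mem_zpowers x)).symm)
    (le_inf (c.V1.trans h1) (le_centralizer_iff.1 (zpowers_le.2 (c.H.s_cen c.P.ox))))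

theorem pX : IsPGroup 3 (zpowers x) := isPGroup_zpowers (k := 1) (pow3_of c.P.ox)

theorem mid {K : Subgroup G} (h1 : N x ≤ K) (h2 : K ≤ Q x t) (h3 : x ∈ nor K) :
    K = N x ∨ K = Q x t := by
  have : Fact (Nat.Prime 3) := ⟨Nat.prime_three⟩
  have h4 := H2.card_modEq_card_inf_centralizer c.pX (zpowers_le.2 h3)
  rw [c.fixQ h1 h2, c.H.card4 c.P.ox c.E.v1] at h4
  obtain ⟨i, hi⟩ := card_dvd_of_le h1
  have h5 := card_dvd_of_le h2
  rw [c.cardW] at hi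
  rw [c.cardQ, hi] at h5
  have h6 := Nat.le_of_dvd (by norm_num) h5
  rw [hi, Nat.ModEq] at h4
  obtain h7 | h7 : i = 1 ∨ i = 4 := by
    have : i ≤ 4 := by omega
    interval_cases i <;> omega
  · exact Or.inl (eq_of_le_of_card_ge h1 (by rw [c.cardW, hi, h7])).symm
  · exact Or.inr (eq_of_le_of_card_ge h2 (by rw [c.cardQ, hi, h7]))

theorem sqQ (ha : a ∈ Q x t) : a * a ∈ N x := by
  have : Fact (Nat.Prime 2) := ⟨Nat.prime_two⟩
  have nW : Q x t ≤ nor (N x) := c.Q_le.trans inf_le_right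
  have h1 : ⁅Q x t, Q x t⁆ ≤ N x := H12.commutator_le_of_relIndex_dvd_sq (p := 2) nW (by
    have := H12.card_mul_relIndex c.W_le_Q
    rw [c.cardW, c.cardQ] at this
    rw [show (N x).relIndex (Q x t) = 4 by omega]; norm_num)
  let K : Subgroup G :=
    { carrier := {a | a ∈ Q x t ∧ a * a ∈ N x}
      one_mem' := ⟨one_mem _, by simp⟩
      mul_mem' := fun {a b} ha hb => ⟨mul_mem ha.1 hb.1, by
        rw [show a * b * (a * b) = a * a * ⁅a⁻¹, b⁆ * (b * b) by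
          rw [commutatorElement_def]; group]
        exact mul_mem (mul_mem ha.2 (h1 (commutator_mem_commutator (inv_mem ha.1) hb.1))) hb.2⟩
      inv_mem' := fun {a} ha => ⟨inv_mem ha.1, by rw [← mul_inv_rev]; exact inv_mem ha.2⟩ }
  rcases c.mid (K := K) (fun w hw => ⟨c.W_le_Q hw, mul_mem hw hw⟩) (fun _ h => h.1)
    (mem_normalizer_of_cj_le (by
      rintro _ ⟨b, hb, rfl⟩
      refine ⟨conj_mem_of_mem_normalizer (c.nQ c.x_mem) hb.1, ?_⟩
      show x * b * x⁻¹ * (x * b * x⁻¹) ∈ N x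
      rw [conj_mul]
      exact conj_mem_of_mem_normalizer c.x_mem.2 hb.2)) with h | h
  · exfalso
    obtain ⟨q, hq, hq'⟩ : ∃ q ∈ Q x t, q ∉ N x := by
      by_contra hn
      push Not at hn
      have := card_le_of_le (show Q x t ≤ N x from hn)
      rw [c.cardW, c.cardQ] at this
      omega
    obtain ⟨k, hk⟩ := isPGroup_iff_forall.1 c.pQ q hq
    obtain ⟨b, hb, h2, h3⟩ := exists_sq k q (hk ▸ one_mem _) hq'
    exact h2 (h ▸ (⟨zpowers_le.2 hq hb, h3⟩ : b ∈ K))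
  · exact (h.symm ▸ ha : a ∈ K).2

theorem ctt (hg : g ∈ X0 x t) {s : G} (hs : s ∈ zpowers t) : g * s * g⁻¹ = s := by
  rcases mem_zp2 c.tt hs with rfl | rfl
  · simp
  · exact mul_inv_eq_iff_eq_mul.2 (mem_c1.1 hg.1)

theorem nZ : X0 x t ≤ nor (zpowers t) := fun g hg => mem_normalizer_of_cj_le (by
  rintro _ ⟨s, hs, rfl⟩
  show g * s * g⁻¹ ∈ zpowers t
  rwa [c.ctt hg hs])

/-- some element of `Q` moves `v` out of `V x` -/
theorem ex_move : ∃ q ∈ Q x t, q * (y * t * y⁻¹) * q⁻¹ ∉ V x := by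
  by_contra hn
  push Not at hn
  have h1 : Q x t ≤ nor (V x) := fun q hq => mem_normalizer_of_cj_le (by
    rintro _ ⟨w, hw, rfl⟩
    show q * w * q⁻¹ ∈ V x
    rcases c.V1_cases hw with h | ⟨s, hs, rfl⟩
    · rwa [c.ctt (c.Q_le hq) h]
    · rw [← conj_mul, c.ctt (c.Q_le hq) hs]
      exact mul_mem (zpowers_le.2 c.ht hs) (hn q hq))
  have := card_dvd_of_le h1
  rw [c.cardQ, c.B.cardNV x c.P.ox c.E.v1, c.cardW] at this
  omega

theorem T0_le : T0 y t ≤ N x := sup_le (zpowers_le.2 c.tW) c.V2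

theorem memT (hw : w ∈ T0 y t) : ∃ s ∈ zpowers t, ∃ b ∈ V y, w = s * b :=
  (mem_sup_left_norm (le_normalizer_of_le_centralizer
    ((zpowers_le.2 c.ht).trans c.cm12.le_cen))).1 hw

theorem infT (h1 : w ∈ T0 y t) (h2 : w ∈ V x) : w ∈ zpowers t := by
  obtain ⟨s, hs, b, hb, rfl⟩ := c.memT h1
  have : b = 1 := (eq_bot_iff_forall _).1 (c.H.inf_bot c.P) b
    ⟨(mul_mem_cancel_left (zpowers_le.2 c.ht hs)).1 h2, hb⟩
  rwa [this, mul_one]

theorem v_notT : y * t * y⁻¹ ∉ T0 y t := fun h => c.v_not (c.infT h c.vV)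

theorem W_cases (hw : w ∈ N x) : w ∈ T0 y t ∨ ∃ b ∈ T0 y t, w = y * t * y⁻¹ * b := by
  obtain ⟨a, ha, b, hb, rfl⟩ := c.memW hw
  rcases c.V1_cases ha with h | ⟨s, hs, rfl⟩
  · exact Or.inl (mul_mem_sup h hb)
  · exact Or.inr ⟨_, mul_mem_sup hs hb, by
      rw [← mul_assoc _ s b, c.cmW _ c.vW s (zpowers_le.2 c.tW hs)]⟩

theorem T0_eq : T0 y t = N x ⊓ stab (Q x t) (zpowers t) := by
  have : Fact (Nat.Prime 2) := ⟨Nat.prime_two⟩
  have nC : X0 x t ≤ nor (N x ⊓ stab (Q x t) (zpowers t)) :=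
    le_normalizer_inf inf_le_right (le_normalizer_stab c.nQ c.nZ)
  have tC : zpowers t ≤ N x ⊓ stab (Q x t) (zpowers t) := fun s hs =>
    ⟨zpowers_le.2 c.tW hs, le_normalizer hs, fun q hq => by
      rw [commutatorElement_def, c.ctt (c.Q_le hq) hs, mul_inv_cancel]; exact one_mem _⟩
  have k1 : ∀ a ∈ V x, a ∈ N x ⊓ stab (Q x t) (zpowers t) → a ∈ zpowers t := fun a ha h => by
    refine (c.V1_cases ha).elim id ?_
    rintro ⟨s, hs, rfl⟩
    obtain ⟨q, hq, h1⟩ := c.ex_move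
    have h2 := ((mul_mem_cancel_left (tC hs)).1 h).2.2 q hq
    refine absurd ?_ h1
    rw [show q * (y * t * y⁻¹) * q⁻¹ = ⁅q, y * t * y⁻¹⁆ * (y * t * y⁻¹) by
      rw [commutatorElement_def]; group]
    exact mul_mem (zpowers_le.2 c.ht h2) c.vV
  have k2 : ∀ a ∈ V x, ∀ b ∈ V y, a * b ∈ N x ⊓ stab (Q x t) (zpowers t) →
      b = 1 ∨ V y ≤ N x ⊓ stab (Q x t) (zpowers t) := fun a ha b hb h => by
    refine (c.H.le_or c.P.symm (nC c.x_mem)).imp_left fun e => ?_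
    have h1 := mul_mem (inv_mem h) (conj_mem_of_mem_normalizer (nC c.x_mem) h)
    have h2 : (a * b)⁻¹ * (x * (a * b) * x⁻¹) = b⁻¹ * (x * b * x⁻¹) := by
      rw [← mul_assoc x a b, ← c.H.cs c.P.ox ha]; group
    have h4 : b⁻¹ * (x * b * x⁻¹) ∈ V y := mul_mem (inv_mem hb) (conj_mem_of_mem_normalizer
      (c.P.le_nor_V (right_mem_Pl _ _) (left_mem_Pl _ _)) hb)
    have h3 := (eq_bot_iff_forall _).1 e _ ⟨h4, h2 ▸ h1⟩
    rw [inv_mul_eq_one, eq_mul_inv_iff_mul_eq] at h3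
    exact c.H.fpf c.P.symm hb h3.symm
  refine le_antisymm (sup_le tC ?_) fun w hw => ?_
  · obtain ⟨w, hw, h1, h2⟩ := exists_fix_mod (c.B.Np x) c.pQ (c.Q_le.trans inf_le_right)
      (Z := zpowers t) fun h => c.v_not (h c.vW)
    have hw' : w ∈ N x ⊓ stab (Q x t) (zpowers t) := ⟨hw, c.nZ (c.W_le hw), fun q hq => by
      rw [← commutatorElement_inv]; exact inv_mem (h2 q hq)⟩
    obtain ⟨a, ha, b, hb, rfl⟩ := c.memW hw
    refine (k2 a ha b hb hw').resolve_left fun e => ?_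
    rw [e, mul_one] at h1 hw'
    exact h1 (k1 a ha hw')
  · obtain ⟨a, ha, b, hb, rfl⟩ := c.memW hw.1
    refine mul_mem_sup (k1 a ha ((mul_mem_cancel_right ?_).1 hw)) hb
    exact (k2 a ha b hb hw).elim (fun e => e ▸ one_mem _) fun h => h hb

theorem nT : X0 x t ≤ nor (T0 y t) :=
  c.T0_eq ▸ le_normalizer_inf inf_le_right (le_normalizer_stab c.nQ c.nZ)

theorem commT (hg : g ∈ X0 x t) (hw : w ∈ N x) : g * w * g⁻¹ * w ∈ T0 y t := by
  by_cases h : w ∈ T0 y t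
  · exact mul_mem (conj_mem_of_mem_normalizer (c.nT hg) h) h
  · obtain ⟨b, hb, e⟩ := (c.W_cases hw).resolve_left h
    obtain ⟨b', hb', e'⟩ := (c.W_cases (conj_mem_of_mem_normalizer hg.2 hw)).resolve_left
      fun h' => h ((mem_normalizer_iff.1 (c.nT hg) w).2 h')
    rw [e', e, c.cmW _ c.vW _ (c.T0_le hb'), mul_assoc, ← mul_assoc _ _ b, c.sqW c.vW, one_mul]
    exact mul_mem hb' hb

theorem sqT (ha : a ∈ Q x t) : a * a ∈ T0 y t := by
  by_cases h : a ∈ N x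
  · exact c.sqW h ▸ one_mem _
  · obtain ⟨g, hg, h1⟩ := c.A.one a (c.Q_le ha).2 h (c.sqQ ha)
    have h2 := conj_mem_of_mem_normalizer' hg h1
    have h3 : (g⁻¹ * u * g) * (g⁻¹ * u * g) = 1 := by
      rw [show g⁻¹ * u * g * (g⁻¹ * u * g) = g⁻¹ * (u * u) * g by group, c.P.uu]; simp
    generalize hi : g⁻¹ * u * g = i at h3
    rw [show g⁻¹ * (g * a * g⁻¹ * u) * g = a * (g⁻¹ * u * g) by group, hi] at h2
    have h4 := c.commT (c.Q_le ha) h2
    have h5 : a * (a * i) * a⁻¹ * (a * i) = a * a := by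
      rw [show a * (a * i) * a⁻¹ * (a * i) = a * a * (i * i) by group, h3, mul_one]
    rwa [h5] at h4

end Cx

end H61.T3
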