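/- Tower T3, job A22, part 2: transfer and the theorem on self-centralizing subgroups. -/
import Cfsg.Agent.H61.T3A
import Cfsg.Agent.S1324

set_option autoImplicit false
set_option linter.unusedSectionVars false

namespace H61.T3
open Subgroup Cfsg H98 H96.CG H48.T3
open scoped commutatorElement

universe u

variable {G : Type u} [Group G]

def Y (t : G) : Subgroup G := res 2 (cen1 t) ⊔ zpowers t

namespace Cx
variable [Finite G] {x y u t : G} (c : Cx x y u t) {w g a : G}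
include c

theorem v_notQ1 : y * t * y⁻¹ ∉ Q1 x y t := fun hv => by
  have := normal_subgroupOf_of_le_normalizer (c.Q_le.trans c.nT)
  let φ := QuotientGroup.mk' ((T0 y t).subgroupOf (Q x t))
  have h1 : ∀ q : Q x t, φ q = 1 ↔ (q : G) ∈ T0 y t := fun q => QuotientGroup.eq_one_iff q
  have sq : ∀ k : Q x t ⧸ (T0 y t).subgroupOf (Q x t), k * k = 1 := fun k => by
    obtain ⟨q, rfl⟩ := QuotientGroup.mk'_surjective _ k
    rw [← map_mul]
    exact (h1 _).2 (c.sqT q.2)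
  let _ : CommGroup (Q x t ⧸ (T0 y t).subgroupOf (Q x t)) :=
    { mul_comm := fun a b => by
        have i := fun k => inv_eq_of_mul_eq_one_right (sq k)
        rw [← i (a * b), mul_inv_rev, i, i] }
  let α : Q x t →* Q x t := ((Q x t).normalizerMonoidHom ⟨x, c.nQ c.x_mem⟩).toMonoidHom
  have hα : ∀ q : Q x t, ((α q : Q x t) : G) = x * q * x⁻¹ := fun _ => rfl
  have x2 : ∀ q : G, x * (x * q * x⁻¹) * x⁻¹ = x⁻¹ * q * x := fun q => by
    calc _ = x * x * q * (x * x)⁻¹ := by group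
      _ = _ := by rw [cube_of c.P.ox, inv_inv]
  have α3 : ∀ q, α (α (α q)) = q := fun q => Subtype.ext (by rw [hα, hα, hα, x2]; group)
  let ψ := φ * φ.comp α * φ.comp (α.comp α)
  have hψ : ∀ q, ψ q = φ q * φ (α q) * φ (α (α q)) := fun _ => rfl
  have ψα : ∀ q, ψ (α q) = ψ q := fun q => by rw [hψ, hψ, α3, mul_comm, mul_assoc]
  have h2 : Q1 x y t ≤ ψ.ker.map (Q x t).subtype := by
    refine sup_le (commutator_le.2 fun q hq s hs => ?_) fun b hb => ?_
    · rcases (mem_zp c.P.ox).1 hs with rfl | rfl | rfl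
      · simp
      · refine ⟨⟨q, hq⟩ * α ⟨q, hq⟩⁻¹, ?_, ?_⟩
        · rw [SetLike.mem_coe, MonoidHom.mem_ker, map_mul, ψα, map_inv, mul_inv_cancel]
        · simp [hα, commutatorElement_def, mul_assoc]
      · refine ⟨⟨q, hq⟩ * α (α ⟨q, hq⟩⁻¹), ?_, ?_⟩
        · rw [SetLike.mem_coe, MonoidHom.mem_ker, map_mul, ψα, ψα, map_inv, mul_inv_cancel]
        · rw [coe_subtype, coe_mul, hα, hα, x2]
          simp [commutatorElement_def, mul_assoc]
    · have n : ∀ q : Q x t, φ q = 1 → φ (α q) = 1 := fun q h =>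
        (h1 _).2 (conj_mem_of_mem_normalizer (c.nT c.x_mem) ((h1 q).1 h))
      have h3 := (h1 ⟨b, c.W_le_Q (c.T0_le hb)⟩).2 hb
      have h4 := n _ h3
      refine ⟨⟨b, c.W_le_Q (c.T0_le hb)⟩, ?_, rfl⟩
      rw [SetLike.mem_coe, MonoidHom.mem_ker, hψ, h3, h4, (h1 _).2
        (conj_mem_of_mem_normalizer (c.nT c.x_mem) ((h1 _).1 h4)), mul_one, mul_one]
  obtain ⟨q, hq, e⟩ := h2 hv
  have h3 : α q = q := Subtype.ext (by
    rw [hα, show (q : G) = y * t * y⁻¹ from e, ← c.H.cs c.P.ox c.vV, mul_inv_cancel_right])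
  rw [SetLike.mem_coe, MonoidHom.mem_ker, hψ, h3, h3, sq, one_mul, h1] at hq
  exact c.v_notT (e ▸ hq)

theorem Q1_le : Q1 x y t ≤ Q x t :=
  sup_le (commutator_le_left' (zpowers_le.2 (c.nQ c.x_mem))) (c.T0_le.trans c.W_le_Q)

theorem nQ1 : Q x t ≤ nor (Q1 x y t) :=
  le_normalizer_sup (normalizer_commutator_ge_left _ _) (c.Q_le.trans c.nT)

theorem cardQ1 : Nat.card (Q1 x y t) = 32 := by
  have : Fact (Nat.Prime 3) := ⟨Nat.prime_three⟩
  have : Fact (Nat.Prime 2) := ⟨Nat.prime_two⟩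
  have h1 : Q x t ≤ zpowers (y * t * y⁻¹) ⊔ Q1 x y t := by
    rw [← commutator_sup_centralizer_eq c.pX (K := Q x t) (by rw [c.cardQ]; norm_num)
      (zpowers_le.2 (c.nQ c.x_mem)), c.fixQ c.W_le_Q le_rfl]
    refine sup_le (le_sup_left.trans le_sup_right) fun w hw => ?_
    have h : zpowers t ≤ zpowers (y * t * y⁻¹) ⊔ Q1 x y t :=
      le_sup_left.trans (le_sup_right.trans le_sup_right)
    rcases c.V1_cases hw with h' | ⟨s, hs, rfl⟩
    exacts [h h', mul_mem (h hs) (mem_sup_left (mem_zpowers _))]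
  have h2 := H12.card_sup_mul_card_inf (A := zpowers (y * t * y⁻¹)) (B := Q1 x y t)
    (zpowers_le.2 (c.nQ1 (c.W_le_Q c.vW)))
  have h3 := card_le_of_le h1
  have h4 : Nat.card (zpowers (y * t * y⁻¹)) = 2 := by
    rw [Nat.card_zpowers, orderOf_eq_prime (by rw [pow_two, c.sqW c.vW])
      fun e => c.v_not (by rw [e]; exact one_mem _)]
  have h5 : 0 < Nat.card (zpowers (y * t * y⁻¹) ⊓ Q1 x y t : Subgroup G) := Nat.card_pos
  have h6 := card_dvd_of_le c.Q1_le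
  have h7 : ¬ 64 ≤ Nat.card (Q1 x y t) := fun h =>
    c.v_notQ1 (eq_of_le_of_card_ge c.Q1_le (c.cardQ ▸ h) ▸ c.W_le_Q c.vW)
  rw [c.cardQ] at h3 h6
  rw [h4] at h2
  have h8 : 32 ≤ Nat.card (Q1 x y t) := by nlinarith
  obtain ⟨i, hi⟩ := h6
  obtain rfl : i = 2 := by
    have : i < 3 := by nlinarith
    interval_cases i <;> omega
  omega

theorem ex_S : ∃ S, IsSyl 2 S (X0 x t) ∧ ⁅S, S⁆ ≤ Q1 x y t := by
  have : Fact (Nat.Prime 2) := ⟨Nat.prime_two⟩
  obtain ⟨u', hu, u2, ux⟩ := c.ex_u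
  obtain ⟨S, hS, h1⟩ := exists_isSyl_le (isPGroup_zpowers (p := 2) (k := 1) (by
    rw [pow_one, pow_two, u2])) (zpowers_le.2 hu)
  have h2 := (c.syl0 hS).1
  have h3 : Q x t ⊔ zpowers u' ≤ S := sup_le hS.pCoreOf_le h1
  have h4 : Q x t ⊔ zpowers u' = S := eq_of_le_of_card_ge h3 (by
    obtain ⟨i, hi⟩ := card_dvd_of_le (le_sup_left : Q x t ≤ Q x t ⊔ zpowers u')
    have h5 : i ≠ 1 := fun e => c.u_not_Q ux (eq_of_le_of_card_ge
      (le_sup_left : Q x t ≤ Q x t ⊔ zpowers u') (by rw [hi, e, mul_one]) ▸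
        mem_sup_right (mem_zpowers _))
    have h6 : 0 < Nat.card (Q x t ⊔ zpowers u' : Subgroup G) := Nat.card_pos
    rw [c.cardQ] at hi
    omega)
  refine ⟨S, hS, H12.commutator_le_of_relIndex_dvd_sq (p := 2) ?_ ?_⟩
  · rw [← h4]
    refine sup_le c.nQ1 (le_normalizer_sup (le_normalizer_commutator (zpowers_le.2 (c.nQ hu))
      (zpowers_le.2 (mem_normalizer_of_cj_le ?_))) (zpowers_le.2 (c.nT hu)))
    rw [cj, MonoidHom.map_zpowers]
    exact zpowers_le.2 (show u' * x * u'⁻¹ ∈ _ from ux ▸ inv_mem (mem_zpowers x))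
  · have := H12.card_mul_relIndex (c.Q1_le.trans hS.pCoreOf_le)
    rw [c.cardQ1, h2] at this
    rw [show (Q1 x y t).relIndex S = 4 by omega]; norm_num

theorem not_res (hw : w ∈ N x) (h : w ∉ T0 y t) : w ∉ res 2 (cen1 t) := by
  obtain ⟨S, hS, h1⟩ := c.ex_S
  have h2 := c.W_le_Q.trans hS.pCoreOf_le
  refine ext_rel (c.sylX hS) h1 (c.sqW hw) (h2 hw) (fun h3 => ?_) hw (c.B.Np x)
    (c.W_le.trans inf_le_left) (fun r hr => c.cmW r hr w hw) fun a ha h3 =>
      mem_sup_right (c.commT ⟨ha, cj_eq_self_iff.1 (c.wc S hS.isPGroup h2 a h3)⟩ hw)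
  obtain ⟨b, hb, rfl⟩ := (c.W_cases hw).resolve_left h
  exact c.v_notQ1 ((mul_mem_cancel_right (mem_sup_right hb)).1 h3)

theorem cZ : cen1 t ≤ cen (zpowers t) := fun g hg s hs => by
  rcases mem_zp2 c.tt hs with rfl | rfl
  · simp
  · exact (mem_c1.1 hg).symm

theorem Y_le : Y t ≤ cen1 t := sup_le (res_le _) (zpowers_le.2 (mem_c1.2 rfl))

theorem v_notY : y * t * y⁻¹ ∉ Y t := fun h => by
  obtain ⟨r, hr, s, hs, e⟩ := (mem_sup_left_norm (le_normalizer_of_le_centralizer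
    ((res_le _).trans c.cZ))).1 h
  have h1 : r = y * t * y⁻¹ * s⁻¹ := by rw [e, mul_inv_cancel_right]
  refine c.not_res (h1 ▸ mul_mem c.vW (inv_mem (zpowers_le.2 c.tW hs))) (fun h2 => c.v_notT ?_) hr
  exact e ▸ mul_mem h2 (mem_sup_left hs)

theorem x_res : x ∈ res 2 (cen1 t) := mem_res_of_coprime c.x_mem.1 (by rw [c.P.ox]; norm_num)

theorem Q1_le_Y : Q1 x y t ≤ Y t := by
  have n : X0 x t ≤ nor (res 2 (cen1 t)) := le_normalizer_res_of_le inf_le_left
  refine sup_le (((commutator_mono le_rfl (zpowers_le.2 c.x_res)).trans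
    (commutator_le_right' (c.Q_le.trans n))).trans le_sup_left) (sup_le le_sup_right
      (((c.H.le_or c.P.symm (n c.x_mem)).resolve_left fun e => c.E.v2 ?_).trans le_sup_left))
  refine (eq_bot_iff_forall _).2 fun b hb => c.H.fpf c.P.symm hb ?_
  have h1 : b * x * b⁻¹ * x⁻¹ ∈ V y := by
    rw [mul_assoc, mul_assoc, ← mul_assoc x]
    exact mul_mem hb (conj_mem_of_mem_normalizer
      (c.P.le_nor_V (right_mem_Pl _ _) (left_mem_Pl _ _)) (inv_mem hb))
  have h2 := (eq_bot_iff_forall _).1 e _ ⟨h1, Subgroup.mul_mem _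
    (conj_mem_of_mem_normalizer (n (c.W_le (c.V2 hb))) c.x_res) (inv_mem c.x_res)⟩
  rw [mul_inv_eq_one, mul_inv_eq_iff_eq_mul] at h2
  exact h2.symm

theorem not128 : ¬ 128 ∣ Nat.card (Y t) := fun h => by
  have : Fact (Nat.Prime 2) := ⟨Nat.prime_two⟩
  obtain ⟨S, hS, -⟩ := c.ex_S
  have h1 := (c.sylX hS).inf_of_le_normalizer c.Y_le ((c.sylX hS).le.trans
    (le_normalizer_sup (self_le_normalizer_res _) (le_normalizer_of_le_centralizer c.cZ)))
  rw [← H12.card_mul_relIndex h1.le] at h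
  have h2 := Nat.le_of_dvd Nat.card_pos (Nat.Coprime.dvd_of_dvd_mul_right
    (((Nat.Prime.coprime_iff_not_dvd Nat.prime_two).2 h1.not_dvd_relIndex).pow_left 7) h)
  have h3 := eq_of_le_of_card_ge (inf_le_left : S ⊓ Y t ≤ S) ((c.syl0 hS).1 ▸ h2)
  exact c.v_notY (inf_eq_left.1 h3 (hS.pCoreOf_le (c.W_le_Q c.vW)))

/-- the elements of `r`-power order of `C(t)` form a subgroup -/
theorem ex_R {r : ℕ} (hr : r.Prime) (h2 : r ≠ 2) (h3 : r ≠ 3) : ∃ R ≤ cen1 t, IsPGroup r R ∧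
    ∀ a ∈ cen1 t, ∀ k : ℕ, a ^ r ^ k = 1 → a ∈ R := by
  have : Fact r.Prime := ⟨hr⟩
  have : Fact (Nat.Prime 2) := ⟨Nat.prime_two⟩
  have := normal_subgroupOf_of_le_normalizer
    (le_normalizer_of_le_centralizer (c.Y_le.trans c.cZ))
  let π := QuotientGroup.mk' ((zpowers t).subgroupOf (Y t))
  have hπ : ∀ a b : Y t, π a = π b ↔ (a : G)⁻¹ * b ∈ zpowers t := fun a b => QuotientGroup.eq
  let x' : Y t := ⟨x, mem_sup_left c.x_res⟩
  have tx : t * x = x * t := c.H.cs c.P.ox c.ht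
  have t3 : t ^ 3 = t := by rw [pow_succ, pow_two, c.tt, one_mul]
  have hcard : Nat.card (Y t) = Nat.card (Y t ⧸ (zpowers t).subgroupOf (Y t)) * 2 := by
    rw [card_eq_card_quotient_mul_card_subgroup ((zpowers t).subgroupOf (Y t)),
      Nat.card_congr (subgroupOfEquivOfLe (show zpowers t ≤ Y t from le_sup_right)).toEquiv,
      Nat.card_zpowers, orderOf_eq_prime (by rw [pow_two, c.tt]) c.t1]
  obtain ⟨M, hM, hnil, hi⟩ := sc3 (x := π x') (ord3_of (by
      rw [← map_pow, show x' ^ 3 = 1 from Subtype.ext (pow3_of c.P.ox), map_one]) fun e => by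
      rcases mem_zp2 c.tt ((QuotientGroup.eq_one_iff x').1 e) with e | e
      · exact ne_one_of c.P.ox e
      · exact c.t1 (by rw [← t3, ← show x = t from e, pow3_of c.P.ox]))
    (fun k hk => by
      obtain ⟨b, rfl⟩ := QuotientGroup.mk'_surjective _ k
      rw [← map_mul, ← map_mul] at hk
      have hb := mem_c1.1 (c.Y_le b.2)
      have bx : (b : G) * x = x * b := by
        rcases mem_zp2 c.tt ((hπ _ _).1 hk) with e | e
        · exact inv_mul_eq_one.1 e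
        · exfalso
          have e1 : (b : G)⁻¹ * x * b = x * t :=
            (by group : _ = x * (((b : G) * x)⁻¹ * (x * b))).trans (congrArg (x * ·) e)
          have e2 : ((b : G)⁻¹ * x * (b : G)⁻¹⁻¹) ^ 3 = 1 := by rw [conj_pow, pow3_of c.P.ox]; simp
          rw [inv_inv, e1, Commute.mul_pow tx.symm, pow3_of c.P.ox, one_mul, t3] at e2
          exact c.t1 e2
      have h4 : (b : G) ∈ V x ⊔ zpowers x := by
        by_contra hn
        exact c.t1 ((c.H.out x c.P.ox b bx hn).2 t c.ht hb)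
      obtain ⟨v, hv, s, hs, e⟩ :=
        (mem_sup_right_norm (zpowers_le.2 (nor_V_of (Or.inl (by group))))).1 h4
      obtain ⟨i, rfl⟩ := hs
      have h5 : v ∈ zpowers t := (c.V1_cases hv).elim id (by
        rintro ⟨s, hs, rfl⟩
        exact absurd ((mul_mem_cancel_left (mem_sup_right hs)).1
          ((mul_mem_cancel_right (zpow_mem x'.2 i)).1 (e ▸ b.2))) c.v_notY)
      refine ⟨i, ?_⟩
      show π x' ^ i = π b
      rw [← map_zpow, hπ, e]
      have := conj_mem_of_mem_normalizer' (c.nZ (zpow_mem c.x_mem i)) h5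
      simpa [x', mul_assoc] using this)
    (by
      have := card_dvd_of_le c.Q1_le_Y
      rw [c.cardQ1] at this
      omega)
    (by have := c.not128; omega)
  obtain ⟨R, hR⟩ := exists_isSyl r (Y t)
  have hR' := hR.subgroupOf_top.map π
  rw [map_top_of_surjective _ (QuotientGroup.mk'_surjective _)] at hR'
  have odd : Odd r := hr.odd_of_ne_two h2
  refine ⟨R, hR.le.trans c.Y_le, hR.isPGroup, fun a ha k hk => ?_⟩
  have aY : a ∈ Y t := mem_sup_left (mem_res_of_coprime ha (Nat.Coprime.coprime_dvd_left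
    (orderOf_dvd_of_pow_eq_one hk) (((Nat.coprime_primes hr Nat.prime_two).2 h2).pow_left k)))
  obtain ⟨ρ, hρ, e⟩ := mem_syl hnil (fun hd => by
      rcases (Nat.Prime.dvd_mul hr).1 (show r ∣ 2 * 3 from hd.trans hi) with h | h
      · exact h2 ((Nat.prime_dvd_prime_iff_eq hr Nat.prime_two).1 h)
      · exact h3 ((Nat.prime_dvd_prime_iff_eq hr Nat.prime_three).1 h)) hR'
    (g := π ⟨a, aY⟩) (k := k) (by rw [← map_pow, show (⟨a, aY⟩ : Y t) ^ r ^ k = 1 from
      Subtype.ext hk, map_one])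
  have hρ' : (ρ : G) ∈ R := hρ
  rcases mem_zp2 c.tt ((hπ _ _).1 e) with e | e
  · exact (show (ρ : G) = a from inv_mul_eq_one.1 e) ▸ hρ'
  · exfalso
    obtain ⟨j, hj⟩ := isPGroup_iff_forall.1 hR.isPGroup _ hρ'
    have e1 : a = ρ * t := inv_mul_eq_iff_eq_mul.1 e
    have e2 : a ^ r ^ (k + j) = 1 := by rw [pow_add, pow_mul, hk, one_pow]
    obtain ⟨m, hm⟩ := odd.pow (n := k + j)
    rw [e1, Commute.mul_pow (mem_c1.1 (c.Y_le ρ.2)), add_comm, pow_add, pow_mul, hj, one_pow,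
      one_mul, ← pow_add, add_comm, hm, pow_succ, pow_mul, pow_two, c.tt, one_pow, one_mul] at e2
    exact c.t1 e2

/-- the four lines through `t` outside `T0` -/
theorem lines (hw : w ∈ N x) (h : w ∉ T0 y t) : ∃ g ∈ X0 x t,
    ∀ K : Subgroup G, t ∈ K → w ∈ K → g * (y * t * y⁻¹) * g⁻¹ ∈ K := by
  obtain ⟨b₀, hb₀, rfl⟩ := (c.W_cases hw).resolve_left h
  obtain ⟨s, hs, b, hb, rfl⟩ := c.memT hb₀
  have key : ∀ K : Subgroup G, t ∈ K → y * t * y⁻¹ * (s * b) ∈ K → b * (y * t * y⁻¹) ∈ K :=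
    fun K h1 h2 => by
      rw [← mul_assoc _ s b, c.cmW _ c.vW s (zpowers_le.2 c.tW hs), mul_assoc s,
        c.cmW _ c.vW b (c.V2 hb)] at h2
      exact (mul_mem_cancel_left (zpowers_le.2 h1 hs)).1 h2
  by_cases b1 : b = 1
  · exact ⟨1, one_mem _, fun K h1 h2 => by simpa [b1] using key K h1 h2⟩
  obtain ⟨q, hq, h1⟩ := c.ex_move
  obtain ⟨s₁, hs₁, b₁, hb₁, e⟩ := c.memT (c.commT (c.Q_le hq) c.vW)
  have e1 : q * (y * t * y⁻¹) * q⁻¹ = s₁ * b₁ * (y * t * y⁻¹) := by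
    rw [← e, mul_assoc (q * _ * q⁻¹), c.sqW c.vW, mul_one]
  obtain ⟨p, hp, e2⟩ := c.H.trans c.P.symm hb₁ (fun e3 => h1 (by
    rw [e1, e3, mul_one]
    exact mul_mem (zpowers_le.2 c.ht hs₁) c.vV)) hb b1
  have hp' : p ∈ X0 x t := zpowers_le.2 c.x_mem hp
  refine ⟨p * q, mul_mem hp' (c.Q_le hq), fun K h2 h3 => ?_⟩
  have e4 : p * (y * t * y⁻¹) * p⁻¹ = y * t * y⁻¹ :=
    mul_inv_eq_iff_eq_mul.2 (zpowers_le.2 (c.H.s_cen c.P.ox) hp _ c.vV).symm
  rw [show p * q * (y * t * y⁻¹) * (p * q)⁻¹ = p * (q * (y * t * y⁻¹) * q⁻¹) * p⁻¹ by group, e1,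
    ← conj_mul, ← conj_mul, c.ctt hp' hs₁, e2, e4, mul_assoc s₁]
  exact mul_mem (zpowers_le.2 h2 hs₁) (key K h2 h3)

theorem no_prime {r : ℕ} (hr : r.Prime) (h2 : r ≠ 2) (h3 : r ≠ 3) : ¬ r ∣ Nat.card (cen1 t) := by
  have : Fact r.Prime := ⟨hr⟩
  have : Fact (Nat.Prime 2) := ⟨Nat.prime_two⟩
  obtain ⟨R, hR, hp, hall⟩ := c.ex_R hr h2 h3
  have triv : ∀ s : G, orderOf s = 3 → V s ≠ ⊥ → N s = N x → ∀ a ∈ cen (V s), ∀ k : ℕ,
      a ^ r ^ k = 1 → a = 1 := fun s hs h1 e a ha k hk => by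
    have h4 := (cen (V s)).orderOf_dvd_natCard ha
    rw [c.B.cardCV s hs h1, e, c.cardW] at h4
    refine orderOf_eq_one_iff.1 (Nat.eq_one_of_dvd_coprimes (Nat.Coprime.pow_left k ?_)
      (orderOf_dvd_of_pow_eq_one hk) h4)
    exact Nat.Coprime.mul_right ((Nat.coprime_primes hr Nat.prime_three).2 h3)
      (((Nat.coprime_primes hr Nat.prime_two).2 h2).pow_right 4)
  have hb : R = ⊥ := by
    rw [Cfsg.Agent.S1324.result 2 (N x) R ⟨⟨⟨fun a b => Subtype.ext (c.cmW _ a.2 _ b.2)⟩⟩,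
      fun a ha => by rw [pow_two, c.sqW ha]⟩ (by rw [c.cardW]; norm_num)
      (not_dvd_card_of_isPGroup_ne Nat.prime_two h2.symm hp) fun w hw =>
        mem_normalizer_of_cj_le (by
          rintro _ ⟨a, ha, rfl⟩
          obtain ⟨k, hk⟩ := isPGroup_iff_forall.1 hp a ha
          exact hall _ (conj_mem_of_mem_normalizer (le_normalizer (c.W_le hw).1) (hR ha)) k
            (by show (w * a * w⁻¹) ^ _ = 1; rw [conj_pow, hk]; simp))]
    refine iSup_eq_bot.2 fun ⟨B, h4, h5⟩ => (eq_bot_iff_forall _).2 fun a ha => ?_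
    obtain ⟨k, hk⟩ := isPGroup_iff_forall.1 hp a ha.1
    by_cases hB : B ≤ T0 y t
    · have h6 := H12.card_mul_relIndex h4
      obtain ⟨i, hi⟩ := card_dvd_of_le c.T0_le
      have h7 : i ≠ 1 := fun e => c.v_notT
        (eq_of_le_of_card_ge c.T0_le (by rw [hi, e, mul_one]) ▸ c.vW)
      rw [c.cardW] at h6 hi
      have h8 : B = T0 y t := eq_of_le_of_card_ge hB (by
        rcases i with _ | _ | i
        · omega
        · omega
        · nlinarith)
      exact triv y c.P.oy c.E.v2 (c.E.n2.trans c.E.n1.symm) a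
        (centralizer_anti (le_sup_right.trans h8.ge) ha.2) k hk
    · obtain ⟨w, hw, hw'⟩ := not_forall₂.1 hB
      obtain ⟨g, hg, h6⟩ := c.lines (h4 hw) hw'
      have at' : t ∈ cen1 a := mem_c1.2 (mem_c1.1 (hR ha.1)).symm
      have h7 := h6 (cen1 a) at' (mem_c1.2 (ha.2 w hw))
      have h8 := triv x c.P.ox c.E.v1 rfl (g⁻¹ * a * g⁻¹⁻¹) (fun v hv => by
        have h9 : g * v * g⁻¹ ∈ cen1 a := by
          rcases c.V1_cases hv with h | ⟨s, hs, rfl⟩
          · rw [c.ctt hg h]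
            exact zpowers_le.2 at' h
          · rw [← conj_mul, c.ctt hg hs]
            exact mul_mem (zpowers_le.2 at' hs) h7
        calc v * (g⁻¹ * a * g⁻¹⁻¹) = g⁻¹ * (g * v * g⁻¹ * a) * g := by group
          _ = _ := by rw [mem_c1.1 h9]; group) k (by rw [conj_pow, hk]; simp)
      exact conj_eq_one_iff.1 h8
  intro hd
  obtain ⟨a, ha⟩ := exists_prime_orderOf_dvd_card' r hd
  have h4 := hall a a.2 1 (by rw [pow_one, ← ha, ← orderOf_coe, pow_orderOf_eq_one])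
  rw [hb, mem_bot] at h4
  rw [← orderOf_coe, h4, orderOf_one] at ha
  exact hr.one_lt.ne ha

theorem main : cen1 t ≤ nor (N x) := by
  have : Fact (Nat.Prime 2) := ⟨Nat.prime_two⟩
  have h1 : (X0 x t).relIndex (cen1 t) = 1 := by
    by_contra hn
    obtain ⟨r, hr, hd⟩ := Nat.exists_prime_and_dvd hn
    have h2 := H12.card_mul_relIndex (show X0 x t ≤ cen1 t from inf_le_left)
    rw [c.card0] at h2
    by_cases r2 : r = 2
    · obtain ⟨S, hS, -⟩ := c.ex_S
      exact (c.sylX hS).not_dvd_relIndex (r2 ▸ hd.trans (relIndex_dvd_of_le_left _ hS.le))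
    by_cases r3 : r = 3
    · refine c.B.no9 t c.tt c.t1 ?_
      rw [r3] at hd
      omega
    · exact c.no_prime hr r2 r3 (h2 ▸ hd.mul_left _)
  exact (relIndex_eq_one.1 h1).trans inf_le_right

end Cx

/-- Job A22. -/
theorem jobA22 : JobA22.{u} := fun _ _ _ B _ _ _ E A wc _ ht t1 => Cx.main ⟨B, E, A, wc, ht, t1⟩

end H61.T3
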