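import Cfsg.Agent.H86.TP.Spec

/-! Tower NF (S1308), chapter TE part 1, job TR. -/

set_option autoImplicit false

namespace H61.TPTR

open Cfsg Subgroup MulAction H14 H98 H1.Gold H31.S2 H14.GC H14.FE H14.NF H86.TP
open scoped commutatorElement

universe u

variable {G : Type u} [Group G]

/-- Conjugacy under `N`. -/
def Cj (N : Subgroup G) (a b : G) : Prop := ∃ h ∈ N, h * a * h⁻¹ = b

theorem Cj.symm {N : Subgroup G} {a b : G} (h : Cj N a b) : Cj N b a := by
  obtain ⟨g, hg, rfl⟩ := h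
  exact ⟨g⁻¹, inv_mem hg, by group⟩

theorem Cj.trans {N : Subgroup G} {a b c : G} (h : Cj N a b) (h' : Cj N b c) : Cj N a c := by
  obtain ⟨g, hg, rfl⟩ := h
  obtain ⟨k, hk, rfl⟩ := h'
  exact ⟨k * g, mul_mem hk hg, by group⟩

theorem jTR : JobTR.{u} := by
  intro rv od G _ _ Q Q' T R E P L fu r hr r1 r' hr' r1'
  obtain ⟨R', P', L'⟩ := rv G Q Q' T R E L.toLD
  obtain ⟨y, hy, yE⟩ := SetLike.exists_of_lt L.ltP
  obtain ⟨v, hv, vT⟩ := SetLike.exists_of_lt L'.ltP
  obtain ⟨g, hg, hc⟩ := od G Q Q' T R E P R' P' L L' y hy yE v hv vT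
  have EQ : E ≤ Q := fun e he => L.sylE.le he |>.1
  have cm : ∀ e ∈ E, ∀ t ∈ T, t * e = e * t := fun e he t ht => by
    rw [L.eq] at he
    exact mem_centralizer_iff.1 he.2 t ht
  have hA : ∀ t ∈ T, t ≠ 1 → ∀ e ∈ E, Cj (nor (E ⊔ T)) t (e * t) := fun t ht t1 e he => by
    obtain ⟨z, hz, h⟩ := fu t ht t1 e he
    have hz' := hz
    rw [L.eqP] at hz'
    refine ⟨z, hz'.2, ?_⟩
    have e1 : t⁻¹ = t := inv_eq_of_mul_eq_one_right (L.el t ht)
    rw [← cm e he t ht, ← h, commutatorElement_def, e1]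
    calc z * t * z⁻¹ = t * t * z * t * z⁻¹ := by rw [L.el t ht, one_mul]
      _ = t * (t * z * t * z⁻¹) := by group
  have hB : ∀ f ∈ E ⊔ T, f ∉ E → ∀ e ∈ E, Cj (nor (E ⊔ T)) f (f * e) := fun f hf fE e he => by
    obtain ⟨a, ha, t, ht, rfl⟩ := (L.memF f).1 hf
    have t1 : t ≠ 1 := by
      rintro rfl
      exact fE (by simpa using ha)
    have : a * t * e = a * e * t := by rw [mul_assoc, cm e he t ht, mul_assoc]
    rw [this]
    exact (hA t ht t1 a ha).symm.trans (hA t ht t1 _ (mul_mem ha he))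
  have cc : ∀ f ∈ E ⊔ T, f * (v⁻¹ * (g * y * g⁻¹)) = v⁻¹ * (g * y * g⁻¹) * f := fun f hf =>
    mem_centralizer_iff.1 hc f hf
  have h1 : ∀ e ∈ E, g * e * g⁻¹ ∈ T := fun e he => by
    have hf : g * e * g⁻¹ ∈ E ⊔ T := conj_mem_of_mem_normalizer hg (mem_sup_left he)
    have c1 : Commute (g * e * g⁻¹) (g * y * g⁻¹) := by
      have := mem_centralizer_iff.1 (L.cenE hy) e he
      change _ = _
      calc g * e * g⁻¹ * (g * y * g⁻¹) = g * (e * y) * g⁻¹ := by group
        _ = _ := by rw [this]; group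
    have c2 : Commute (g * e * g⁻¹) v := by
      have c3 : Commute (g * e * g⁻¹) (v⁻¹ * (g * y * g⁻¹)) := cc _ hf
      have := c1.mul_right c3.inv_right
      have e2 : g * y * g⁻¹ * (v⁻¹ * (g * y * g⁻¹))⁻¹ = (g * y * g⁻¹) * (g * y * g⁻¹)⁻¹ * v := by group
      rwa [e2, mul_inv_cancel, one_mul] at this
    obtain ⟨a, ha, t, ht, e3⟩ := (L.memF _).1 hf
    have c4 : Commute t v := mem_centralizer_iff.1 (L'.cenE hv) t ht
    have c5 : Commute a v := by
      have := c2.mul_left c4.inv_left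
      rwa [e3, mul_inv_cancel_right] at this
    by_cases a1 : a = 1
    · rw [e3, a1, one_mul]; exact ht
    · exact (L'.nd v hv vT a ha a1 (commutatorElement_eq_one_iff_commute.2 c5)).elim
  have h2 : ∀ t ∈ T, g⁻¹ * t * g ∈ E := fun t ht => by
    have hf : g⁻¹ * t * g ∈ E ⊔ T := conj_mem_of_mem_normalizer' hg (mem_sup_right ht)
    have c4 : Commute t v := mem_centralizer_iff.1 (L'.cenE hv) t ht
    have c3 : Commute t (v⁻¹ * (g * y * g⁻¹)) := cc _ (mem_sup_right ht)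
    have c1 : t * (g * y * g⁻¹) = g * y * g⁻¹ * t := by
      have := c4.mul_right c3
      rwa [mul_inv_cancel_left] at this
    have c2 : Commute (g⁻¹ * t * g) y := by
      change _ = _
      calc g⁻¹ * t * g * y = g⁻¹ * (t * (g * y * g⁻¹)) * g := by group
        _ = _ := by rw [c1]; group
    obtain ⟨a, ha, s, hs, e3⟩ := (L.memF _).1 hf
    have c6 : Commute a y := mem_centralizer_iff.1 (L.cenE hy) a ha
    have c5 : Commute s y := by
      have := c6.inv_left.mul_left c2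
      rwa [e3, inv_mul_cancel_left] at this
    by_cases s1 : s = 1
    · rw [e3, s1, mul_one]; exact ha
    · exact (L.nd y hy yE s hs s1 (commutatorElement_eq_one_iff_commute.2 c5)).elim
  have hC : ∀ e ∈ E, e ≠ 1 → ∀ t ∈ T, Cj (nor (E ⊔ T)) e (e * t) := fun e he e1 t ht => by
    have hf : g⁻¹ * e * g ∈ E ⊔ T := conj_mem_of_mem_normalizer' hg (mem_sup_left he)
    have fE : g⁻¹ * e * g ∉ E := fun h => e1 (L.dis e (by simpa [mul_assoc] using h1 _ h) (EQ he))
    have a1 : Cj (nor (E ⊔ T)) (g⁻¹ * e * g) e := ⟨g, hg, by group⟩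
    have a2 : Cj (nor (E ⊔ T)) (g⁻¹ * e * g * (g⁻¹ * t * g)) (e * t) := ⟨g, hg, by group⟩
    exact (a1.symm.trans (hB _ hf fE _ (h2 t ht))).trans a2
  have ht := h1 r hr
  have t1 : g * r * g⁻¹ ≠ 1 := fun h => r1 (by simpa [mul_inv_eq_one] using h)
  exact (((hC r hr r1 _ ht).trans (hA _ ht t1 r hr).symm).trans (hA _ ht t1 r' hr')).trans
    (hC r' hr' r1' _ ht).symm

end H61.TPTR
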