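import Cfsg.Agent.H78.YUDef

/-! STD-SP (row S3129), unitary models: slot `S0` (parity). -/

set_option autoImplicit false
set_option linter.unusedSectionVars false

namespace H61.YUS0

open H67 H67.UA H78.YU Subgroup Module
open H67.SA (cm la)
open H59.UM (BB BB_apply herm isoL hf0L hfL0 exists_nm eq_zero_of_tr finrank_Vn)

variable {m : ℕ} {K : Type} [Field K] [StarRing K] [CharP K 2] [Finite K] [Par m K]

/-- the fixed space of `l` -/
def fxs (l : XU m K) : Submodule K (Vn m K) where
  carrier := {v | ac l v = v}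
  add_mem' := fun {a b} ha hb => by
    change ac l (a + b) = a + b
    rw [ac_add, show ac l a = a from ha, show ac l b = b from hb]
  zero_mem' := ac_zero l
  smul_mem' := fun c {a} ha => by
    change ac l (c • a) = c • a
    rw [ac_smul, show ac l a = a from ha]

theorem mem_fxs {l : XU m K} {v : Vn m K} : v ∈ fxs l ↔ ac l v = v := Iff.rfl

theorem perp_le {l : XU m K} (hl : l * l = 1) : H59.perp (BB m K) (fxs l) ≤ fxs l := by
  intro x hx
  have hi : l⁻¹ = l := inv_eq_of_mul_eq_one_right hl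
  refine eq_of_hf fun z => ?_
  have h1 : ac l z + z ∈ fxs l := by
    rw [mem_fxs, ac_add, ← ac_mul, hl, ac_one, add_comm]
  have h2 := hx _ h1
  rw [BB_apply, hf_add_right] at h2
  rw [hf_ac_left, hi]
  linear_combination h2 - hf x z * two0 K

/-- the three coordinates -/
def co (l : XU m K) (y : Vn m K) : fxs l →ₗ[K] K × K × K where
  toFun z := (hf z.1 (ev 0), hf z.1 y, hf z.1 (ev (la m)))
  map_add' a b := by simp [hf_add_left]
  map_smul' c a := by simp [hf_smul_left]

theorem exists_aniso (hm : Odd m) {l : XU m K} {y : Vn m K} (hl : l * l = 1)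
    (y0 : hf y (ev 0) = 0) (yL : hf y (ev (la m)) = 0) (yy : hf y y ≠ 0)
    (l0 : ac l (ev 0) = ev 0) (lL : ac l (ev (la m)) = ev (la m)) (ly : ac l y = y) :
    ∃ z, ac l z = z ∧ hf z (ev 0) = 0 ∧ hf z y = 0 ∧ hf z z ≠ 0 := by
  by_contra hn
  push Not at hn
  have i0 : hf (ev 0 : Vn m K) (ev 0) = 0 := iso0
  have iL : hf (ev (la m) : Vn m K) (ev (la m)) = 0 := isoL
  have y0' := hf_symm y0
  have yL' := hf_symm yL
  have hp : ∀ c c' : Vn m K, ac l c = c → hf c (ev 0) = 0 → hf c y = 0 → ac l c' = c' →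
      hf c' (ev 0) = 0 → hf c' y = 0 → hf c c' = 0 := by
    intro c c' h1 h2 h3 h4 h5 h6
    refine eq_zero_of_tr fun b => ?_
    have := hn (b • c + c') (by rw [ac_add, ac_smul, h1, h4])
      (by rw [hf_add_left, hf_smul_left, h2, h5]; simp)
      (by rw [hf_add_left, hf_smul_left, h3, h6]; simp)
    simp only [hf_add_left, hf_add_right, hf_smul_left, hf_smul_right, hn c h1 h2 h3,
      hn c' h4 h5 h6] at this
    simp only [UA.tr, star_mul', star_hf]
    linear_combination this
  have hk : LinearMap.ker (co l y) = (H59.perp (BB m K) (fxs l)).comap (fxs l).subtype := by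
    ext c
    rw [LinearMap.mem_ker, Submodule.mem_comap]
    constructor
    · intro h z hz
      have h1 : hf c.1 (ev 0) = 0 := congrArg Prod.fst h
      have h2 : hf c.1 y = 0 := congrArg (fun p => p.2.1) h
      have h3 : hf c.1 (ev (la m)) = 0 := congrArg (fun p => p.2.2) h
      have := hp c.1 (z + (hf z y / hf y y) • y + hf z (ev 0) • ev (la m)) c.2 h1 h2
        (by rw [ac_add, ac_add, ac_smul, ac_smul, ly, lL, show ac l z = z from hz])
        (by
          simp only [hf_add_left, hf_smul_left, y0, hfL0]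
          linear_combination hf z (ev 0) * two0 K)
        (by
          simp only [hf_add_left, hf_smul_left, yL', div_mul_cancel₀ _ yy]
          linear_combination hf z y * two0 K)
      simp only [hf_add_right, hf_smul_right, h2, h3, mul_zero, add_zero] at this
      exact this
    · intro h
      have h1 := h _ l0
      have h2 := h _ ly
      have h3 := h _ lL
      rw [BB_apply] at h1 h2 h3
      exact Prod.ext h1 (Prod.ext h2 h3)
  have hr : LinearMap.range (co l y) = ⊤ := by
    rw [LinearMap.range_eq_top]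
    rintro ⟨a, b, c⟩
    refine ⟨⟨a • ev (la m) + (b / hf y y) • y + c • ev 0, ?_⟩, ?_⟩
    · rw [mem_fxs, ac_add, ac_add, ac_smul, ac_smul, ac_smul, l0, lL, ly]
    · simp only [co, LinearMap.coe_mk, AddHom.coe_mk, hf_add_left, hf_smul_left, i0, iL, y0, yL,
        y0', yL', hf0L, hfL0, div_mul_cancel₀ _ yy]
      simp
  have e1 := (co l y).finrank_range_add_finrank_ker
  rw [hr, hk, finrank_top, (Submodule.comapSubtypeEquivOfLe (perp_le hl)).finrank_eq] at e1
  have e2 := (herm m K).finrank_add_finrank_perp (fxs l)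
  rw [finrank_Vn] at e2
  simp only [finrank_prod, finrank_self] at e1
  obtain ⟨t, ht⟩ := hm
  omega

theorem fin {l : XU m K} {y : Vn m K} {d c : K} (ok : Ok (ev 0) y d) (o3 : Ok (ev 0) y c)
    (hl : l * l = 1) (l0 : ac l (ev 0) = ev 0) (ly : ac l y = y) :
    EE (ev 0) y d * l * EE (ev 0) y c * (EE (ev 0) y d * l * EE (ev 0) y c) = 1 := by
  have c1 : l * EE (ev 0) y c = EE (ev 0) y c * l := by
    rw [← mul_inv_eq_iff_eq_mul, EE_conj o3, l0, ly]
  have o4 := ok.add o3
  rw [mul_assoc _ l, c1, ← mul_assoc (EE _ y d), EE_mul ok o3]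
  rw [v_add_self] at o4 ⊢
  generalize d + c + hf y y = t at o4 ⊢
  have c2 : l * EE (ev 0) 0 t = EE (ev 0) 0 t * l := by
    rw [← mul_inv_eq_iff_eq_mul, EE_conj o4, l0, ac_zero]
  have ht : star t = t := tr_eq_zero.1 (by rw [o4.tr]; simp)
  rw [mul_assoc, ← mul_assoc l, c2, mul_assoc, hl, mul_one]
  exact Tc_mul_self iso0 ht

theorem jobS0 : JobS0 := by
  intro m K _ _ _ _ _ sd hm u hu h1 h2
  obtain ⟨y, d, l, ok, yL, yy, rfl, hl, l0, lL, ly⟩ := sd u hu h1 h2
  obtain ⟨z, lz, z0, zy, zz⟩ := exists_aniso hm hl ok.perp yL yy l0 lL ly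
  obtain ⟨a, ha⟩ := exists_nm (c := hf y y / hf z z) (by rw [star_div₀, star_hf, star_hf])
  obtain ⟨b, b1, b2⟩ := (jobFQ m K).n1
  have hb : 1 + b ≠ 0 := fun h => b2 (by linear_combination h - two0 K)
  have i0 : hf (ev 0 : Vn m K) (ev 0) = 0 := iso0
  have key : ∀ c e : K, nm e = 1 → Ok (ev 0) (c • (y + (e * a) • z)) 0 ∧
      ac l (c • (y + (e * a) • z)) = c • (y + (e * a) • z) := by
    intro c e he
    refine ⟨⟨iso0, ?_, ?_⟩, by rw [ac_smul, ac_add, ac_smul, ly, lz]⟩
    · simp [hf_add_left, hf_smul_left, ok.perp, z0]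
    · have ha' : a * star a * hf z z = hf y y := by
        rw [show a * star a = _ from ha, div_mul_cancel₀ _ zz]
      simp only [hf_add_left, hf_add_right, hf_smul_left, hf_smul_right, zy, hf_symm zy, star_mul',
        UA.tr, star_zero]
      have he' : e * star e = 1 := he
      linear_combination -(c * star c * e * star e) * ha' - c * star c * hf y y * he' -
        c * star c * hf y y * two0 K
  have mem : ∀ s, Ok (ev 0) s 0 → ac l s = s → EE (ev 0) s 0 ∈ closure
      {w | w ∈ Q0 m K ∧ w * w = 1 ∧ cm (EE (ev 0) y d * l) w ∈ Z0 m K} := by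
    intro s hs ls
    have ss : hf s s = 0 := by rw [← hs.tr]; simp
    refine subset_closure ⟨(FV.mem_Q _).2 ⟨s, 0, hs, rfl⟩, ?_, ?_⟩
    · rw [EE_mul hs hs, v_add_self, ss]; simp
    · have hs' : Ok (ev 0) s (0 + UA.tr (hf s y)) := ⟨iso0, hs.perp, by rw [zero_add, UA.tr_tr, ss]⟩
      rw [cm, EE_conj hs, ac_mul, ac_mul, l0, ls, ac_EE_self ok, ac_EE_perp ok hs.perp, EE_shift,
        EE_inv hs, EE_mul hs' hs.star, v_add_self]
      refine (FV.mem_Z _).2 ⟨_, ?_, rfl⟩
      simp only [ss, star_zero, add_zero, zero_add, star_tr]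
  obtain ⟨o1, f1⟩ := key (b / (1 + b)) 1 (by simp)
  obtain ⟨o2, f2⟩ := key (1 / (1 + b)) b b1
  refine ⟨_, mul_mem (mem _ o1 f1) (mem _ o2 f2), ?_⟩
  have hs : (b / (1 + b)) • (y + (1 * a) • z) + (1 / (1 + b)) • (y + (b * a) • z) = y := by
    ext i
    simp only [Pi.add_apply, Pi.smul_apply, smul_eq_mul]
    field_simp
    linear_combination b * a * z i * two0 K
  have o3 := o1.add o2
  rw [EE_mul o1 o2]
  rw [hs] at o3 ⊢
  exact fin ok o3 hl l0 ly

end H61.YUS0
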