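import Cfsg.Agent.H98.ZjSpec

/-! ZJF, job NAT. -/

set_option autoImplicit false

namespace H61.Zj

open Matrix MatrixGroups Cfsg Subgroup H11 Polynomial
open scoped commutatorElement

universe u

theorem master (p : ℕ) [Fact p.Prime] {V H : Type*} [AddCommGroup V]
    [Module (ZMod p) V] [Finite V] [Group H] (σ : H →* Module.End (ZMod p) V) {a b : H}
    (ha : (σ a - 1) * (σ a - 1) = 0) (hb : (σ b - 1) * (σ b - 1) = 0)
    (hnp : ∃ h ∈ Subgroup.closure ({a, b} : Set H), ∀ k, σ h ^ p ^ k ≠ 1) :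
    ∃ (K : Type) (_ : Field K) (_ : Finite K) (_ : _root_.CharP K p) (l : K)
      (ι : (Fin 2 → K) →+ V), l ≠ 0 ∧ Function.Injective ι ∧
      (∀ x, σ a (ι x) = ι (((uMat l : SL(2, K)) : Matrix (Fin 2) (Fin 2) K) *ᵥ x)) ∧
      ∀ x, σ b (ι x) = ι (((lMat 1 : SL(2, K)) : Matrix (Fin 2) (Fin 2) K) *ᵥ x) := by
  set α := σ a - 1 with hα
  set β := σ b - 1 with hβ
  set d := α * β + β * α with hdd
  have hd : ¬ IsNilpotent d := by
    intro hd
    obtain ⟨h, hh, hk⟩ := hnp
    obtain ⟨k, hk'⟩ := pow_prime_pow_eq_one_of_nilpotent (Fact.out : p.Prime)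
      (by rw [← map_natCast (algebraMap (ZMod p) _)]; simp) (nilpotent_of_quad σ ha hb hd hh)
    exact hk k hk'
  obtain ⟨f, hf, hf0, w, hw0, hw⟩ := exists_irreducible_of_not_nilpotent d hd
  have cα : Commute d α := by
    change d * α = α * d
    rw [hdd, add_mul, mul_add, mul_assoc β, ← mul_assoc α α, ha]; simp [mul_assoc]
  have cβ : Commute d β := by
    change d * β = β * d
    rw [hdd, add_mul, mul_add, mul_assoc α, ← mul_assoc β β, hb]; simp [mul_assoc]
  have cα' : ∀ (g : (ZMod p)[X]) (v : V), aeval d g (α v) = α (aeval d g v) := by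
    intro g v
    have : Commute (aeval d g) α := by
      rw [aeval_eq_sum_range]
      exact Commute.sum_left _ _ _ fun i _ => (cα.pow_left i).smul_left _
    exact LinearMap.congr_fun this.eq v
  obtain ⟨v, hv0, hv, hαv⟩ : ∃ v : V, v ≠ 0 ∧ aeval d f v = 0 ∧ α v = 0 := by
    by_cases h : α w = 0
    · exact ⟨w, hw0, hw, h⟩
    · exact ⟨α w, h, by rw [cα', hw, map_zero], LinearMap.congr_fun ha w⟩
  have : Fact (Irreducible f) := ⟨hf⟩
  let K := AdjoinRoot f
  have : Finite K := by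
    have := (AdjoinRoot.powerBasis hf.ne_zero).finite
    exact Module.finite_of_finite (ZMod p)
  have : _root_.CharP K p := charP_of_injective_algebraMap (algebraMap (ZMod p) K).injective p
  let ev : (ZMod p)[X] →ₗ[ZMod p] V := (LinearMap.applyₗ v).comp (aeval d).toLinearMap
  have hev : ∀ g, ev g = aeval d g v := fun _ => rfl
  let θ : K →+ V := QuotientAddGroup.lift (Ideal.span {f}).toAddSubgroup ev.toAddMonoidHom (by
    intro g hg
    obtain ⟨q, rfl⟩ := Ideal.mem_span_singleton'.mp hg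
    change ev (q * f) = 0
    rw [hev, map_mul, Module.End.mul_apply, hv, map_zero])
  have hθ : ∀ g, θ (AdjoinRoot.mk f g) = aeval d g v := fun _ => rfl
  have hθi : Function.Injective θ := by
    rw [injective_iff_map_eq_zero]
    intro s hs
    by_contra hs0
    obtain ⟨g, rfl⟩ := AdjoinRoot.mk_surjective s
    obtain ⟨q, hq⟩ := AdjoinRoot.mk_surjective (AdjoinRoot.mk f g)⁻¹
    have : AdjoinRoot.mk f (q * g) = AdjoinRoot.mk f 1 := by
      rw [map_mul, hq, map_one, inv_mul_cancel₀ hs0]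
    have e := congrArg θ this
    rw [hθ] at hs
    rw [hθ, hθ, map_mul, Module.End.mul_apply, hs, map_zero, map_one] at e
    exact hv0 e.symm
  have hl : (AdjoinRoot.root f : K) ≠ 0 := by
    intro h
    have : AdjoinRoot.mk f X = 0 := h
    rw [AdjoinRoot.mk_eq_zero] at this
    have := (hf.dvd_irreducible_iff_associated irreducible_X).mp this
    exact hf0 (X_dvd_iff.mp this.symm.dvd)
  obtain ⟨ι, hι, -, e1, e2⟩ := exists_iota α.toAddMonoidHom β.toAddMonoidHom θ hθi
    (AdjoinRoot.root f) hl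
    (fun s => by
      obtain ⟨g, rfl⟩ := AdjoinRoot.mk_surjective s
      change α (aeval d g v) = 0
      rw [← cα', hαv, map_zero])
    (fun s => by
      obtain ⟨g, rfl⟩ := AdjoinRoot.mk_surjective s
      rw [← AdjoinRoot.mk_X, ← map_mul, hθ, hθ, map_mul, aeval_X]
      change α (β (aeval d g v)) = (α * β + β * α) (aeval d g v)
      rw [LinearMap.add_apply, Module.End.mul_apply, Module.End.mul_apply, ← cα', hαv]
      simp)
    (fun w => LinearMap.congr_fun hb w)
  exact ⟨K, inferInstance, inferInstance, inferInstance, _, ι, hl, hι,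
    fun x => by rw [← e1]; simp [hα], fun x => by rw [← e2]; simp [hβ]⟩

theorem act_aux {p : ℕ} [Fact p.Prime] {H V : Type*} [Group H] [CommGroup V] [Finite V]
    [Module (ZMod p) (Additive V)] (ρ : H →* MulAut V) {a b : H}
    (ha : ∀ v, ρ a (ρ a v * v⁻¹) = ρ a v * v⁻¹) (hb : ∀ v, ρ b (ρ b v * v⁻¹) = ρ b v * v⁻¹)
    (hnp : ∃ h ∈ closure ({a, b} : Set H), ∀ k, ρ h ^ p ^ k ≠ 1) :
    ∃ (K : Type) (_ : Field K) (_ : Finite K) (_ : _root_.CharP K p) (l : K)
      (ι : (Fin 2 → K) → V), l ≠ 0 ∧ Function.Injective ι ∧ (∀ x y, ι (x + y) = ι x * ι y) ∧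
      (∀ x, ρ a (ι x) = ι (((uMat l : SL(2, K)) : Matrix (Fin 2) (Fin 2) K) *ᵥ x)) ∧
      ∀ x, ρ b (ι x) = ι (((lMat 1 : SL(2, K)) : Matrix (Fin 2) (Fin 2) K) *ᵥ x) := by
  let σ : H →* Module.End (ZMod p) (Additive V) := toEndHom p ρ
  have hσ : ∀ (h : H) (v : Additive V), σ h v = Additive.ofMul (ρ h v.toMul) := fun _ _ => rfl
  have hq : ∀ c : H, (∀ v, ρ c (ρ c v * v⁻¹) = ρ c v * v⁻¹) → (σ c - 1) * (σ c - 1) = 0 := by
    intro c hc
    refine LinearMap.ext fun v => ?_
    simp only [Module.End.mul_apply, LinearMap.sub_apply, Module.End.one_apply,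
      LinearMap.zero_apply, sub_eq_zero, hσ]
    have := hc v.toMul
    rw [← div_eq_mul_inv] at this
    exact this
  obtain ⟨K, _, _, _, l, ι, hl, hι, e1, e2⟩ := master p σ (hq a ha) (hq b hb) (by
    obtain ⟨h, hh, hk⟩ := hnp
    refine ⟨h, hh, fun k e => hk k ?_⟩
    rw [← map_pow] at e ⊢
    ext v
    exact LinearMap.congr_fun e (Additive.ofMul v))
  exact ⟨K, inferInstance, inferInstance, inferInstance, l, fun x => (ι x).toMul, hl, hι,
    map_add ι, e1, e2⟩

theorem jobNat : H98.Zj.JobNat.{u} := by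
  intro p _ G _ V _ a b _ hV ha hb qa qb hnp
  let : CommGroup V := { (inferInstance : Group V) with mul_comm := hV.1.is_comm.comm }
  have : NeZero p := ⟨(Fact.out : p.Prime).ne_zero⟩
  let : Module (ZMod p) (Additive V) :=
    AddCommGroup.zmodModule (fun x => Subtype.ext (hV.2 x.toMul x.toMul.2))
  obtain ⟨K, _, _, _, l, ι, hl, hι, e0, e1, e2⟩ := act_aux (p := p) V.normalizerMonoidHom
    (a := ⟨a, ha⟩) (b := ⟨b, hb⟩)
    (fun v => Subtype.ext (quad_elem qa v.2)) (fun v => Subtype.ext (quad_elem qb v.2)) (by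
      obtain ⟨h, hh, hk⟩ := hnp
      rw [show closure {a, b} = (closure ({⟨a, ha⟩, ⟨b, hb⟩} : Set (normalizer (V : Set G)))).map
        (normalizer (V : Set G)).subtype by rw [MonoidHom.map_closure, Set.image_pair]; rfl] at hh
      obtain ⟨h, hh, rfl⟩ := hh
      refine ⟨h, hh, fun k e => hk k ?_⟩
      rw [← map_pow] at e
      intro v hv
      have := congrArg Subtype.val (DFunLike.congr_fun e ⟨v, hv⟩)
      exact (mul_inv_eq_iff_eq_mul.mp this).symm)
  exact ⟨K, inferInstance, inferInstance, inferInstance, l, fun x => ι x, hl,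
    fun x y e => hι (Subtype.ext e), fun x => (ι x).2, fun x y => congrArg Subtype.val (e0 x y),
    fun x => congrArg Subtype.val (e1 x), fun x => congrArg Subtype.val (e2 x)⟩

end H61.Zj
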