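import Cfsg.Agent.H98.ZjSpec
import Cfsg.Agent.H13.ZJ

/-! Quadratic elements for `Z(J(T))` (job ZJF-Q0). -/

set_option autoImplicit false

namespace H61.Zj

open Subgroup Cfsg H13
open scoped commutatorElement

universe u

variable {G : Type*} [Group G]

theorem inf_zj_normal' [Finite G] {p : ℕ} [Fact p.Prime] (hp : p ≠ 2) (e : ℕ) (P : Sylow p G)
    (hst : ∀ V : Subgroup G, V.Normal → V ≤ P → ¬ (V ⊓ zj e P).Normal → ∀ a ∈ (P : Subgroup G),
      ⁅⁅V, zpowers a⁆, zpowers a⁆ = ⊥ → a ∈ pCore p G)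
    (B : Subgroup G) (hBn : B.Normal) (hB : IsPGroup p B) : (B ⊓ zj e P).Normal := by
  induction B using WellFoundedLT.induction with
  | ind B ih =>
  by_contra hcon
  have hBP : B ≤ P := hB.le_sylow_of_normal P
  have hst' := hst B hBn hBP hcon
  apply hcon
  set Z := zj e (P : Subgroup G) with hZ
  have hPZ : (P : Subgroup G) ≤ normalizer (Z : Set G) :=
    le_normalizer.trans (normalizer_le_normalizer_zj e (P : Subgroup G))
  have ih' : ∀ B' : Subgroup G, B'.Normal → B' < B → (B' ⊓ Z).Normal := fun B' h1 h2 =>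
    ih B' h2 h1 (hB.to_le h2.le)
  have hncl : normalClosure ((B ⊓ Z : Subgroup G) : Set G) ≤ B :=
    normalClosure_le_normal (inf_le_left : B ⊓ Z ≤ B)
  rcases hncl.lt_or_eq with hlt | heq
  · have := ih' _ normalClosure_normal hlt
    have h2 : normalClosure ((B ⊓ Z : Subgroup G) : Set G) ⊓ Z = B ⊓ Z :=
      le_antisymm (inf_le_inf_right _ hncl) (le_inf le_normalClosure inf_le_right)
    rwa [h2] at this
  by_cases hbot : B = ⊥
  · rw [hbot, bot_inf_eq]; infer_instance
  have hW := ih' _ inferInstance (commutator_lt_of_isPGroup hB hbot)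
  have hB'Z : ⁅B, B⁆ ≤ Z := by
    refine le_trans ?_ (inf_le_right : ⁅B, B⁆ ⊓ Z ≤ Z)
    nth_rewrite 1 [← heq]
    refine commutator_closure_left_le le_normalizer_of_normal ?_
    intro y hy b hb
    obtain ⟨x, hx, hc⟩ := Group.mem_conjugatesOfSet_iff.mp hy
    obtain ⟨g, rfl⟩ := isConj_iff.mp hc
    have hb' : g⁻¹ * b * g ∈ B := by simpa using hBn.conj_mem b hb g⁻¹
    have : ⁅g * x * g⁻¹, b⁆ = g * ⁅x, g⁻¹ * b * g⁆ * g⁻¹ := by
      rw [conjugate_commutatorElement]; congr 1; group
    rw [this]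
    refine hW.conj_mem _ ⟨commutator_mem_commutator hx.1 hb', ?_⟩ g
    exact le_normalizer_iff_commutator_le_left.mp hPZ (commutator_mem_commutator hx.2 (hBP hb'))
  set L := (normalizer ((B ⊓ Z : Subgroup G) : Set G)).normalCore with hL
  have hLN : L ≤ normalizer ((B ⊓ Z : Subgroup G) : Set G) := normalCore_le _
  have hPB : (P : Subgroup G) ≤ normalizer (B : Set G) := le_normalizer_of_normal
  have hOL : pCore p G ≤ L := normal_le_normalCore.2
    (((isPGroup_pCore (G := G) p).le_sylow_of_normal P).trans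
      ((le_inf hPB hPZ).trans inf_normalizer_le_normalizer_inf))
  have key : ∀ A ∈ maxAb e (P : Subgroup G), B ≤ normalizer (A : Set G) → A ≤ L := by
    intro A hA hBA a ha
    refine hOL (hst' a (hA.1 ha) ?_)
    rw [eq_bot_iff, ← commutator_self_eq_bot_iff.mpr hA.2.1.1]
    exact commutator_mono ((commutator_mono le_rfl (zpowers_le_of_mem ha)).trans
      (le_normalizer_iff_commutator_le_right.mp hBA)) (zpowers_le_of_mem ha)
  have hfr := frattini_inf P L
  have hNz := normalizer_le_normalizer_zj e ((P : Subgroup G) ⊓ L)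
  by_cases hall : ∀ A ∈ maxAb e (P : Subgroup G), A ≤ L
  · have h1 : zj e ((P : Subgroup G) ⊓ L) = Z := by
      rw [hZ, zj, zj, maxAb_eq_of_forall_le inf_le_left fun A hA => le_inf hA.1 (hall A hA)]
    rw [h1] at hNz
    rw [← normalizer_eq_top_iff, eq_top_iff, ← hfr]
    exact sup_le ((le_inf le_normalizer_of_normal hNz).trans inf_normalizer_le_normalizer_inf) hLN
  exfalso
  push Not at hall
  obtain ⟨A, ⟨hA, hAL⟩, hmax⟩ := Set.exists_max_image
    {A : Subgroup G | A ∈ maxAb e (P : Subgroup G) ∧ ¬ A ≤ L}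
    (fun A => Nat.card ↥(A ⊓ B)) (Set.toFinite _) hall
  have hnot : ¬ B ≤ normalizer (A : Set G) := fun h => hAL (key A hA h)
  obtain ⟨A', hA', -, r2, r3, -⟩ := exists_replacement hp P.2 le_rfl hBP le_normalizer hPB hA
    (hB'Z.trans (zj_le_of_mem hA)) hnot
  have hA'L : A' ≤ L := by
    by_contra h
    exact r2.ne (eq_of_le_of_card_ge r2.le (hmax A' ⟨hA', h⟩))
  have hA'Q : A' ≤ (P : Subgroup G) ⊓ L := le_inf hA'.1 hA'L
  apply r3
  rw [← heq]
  refine (normalClosure_le_of_sup_eq_top hfr hLN hNz ?_).trans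
    (zj_le_of_mem (mem_maxAb_of_le hA' inf_le_left hA'Q))
  exact inf_le_right.trans (sInf_le_sInf (maxAb_subset hA' inf_le_left hA'Q))

theorem le_normalizer_map_iff (K : Subgroup G) (V : Subgroup K) :
    K ≤ normalizer ((V.map K.subtype : Subgroup G) : Set G) ↔ V.Normal := by
  rw [← normal_subgroupOf_iff_le_normalizer (map_subtype_le V), subgroupOf,
    comap_map_eq_self_of_injective K.subtype_injective]

theorem jobQ0 : H98.Zj.JobQ0.{u} := by
  intro p _ G _ _ T K hp hT hK hn
  obtain ⟨P, rfl⟩ := hT.exists_sylow_map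
  by_contra hq
  have hz : centerThompsonAOf ((P : Subgroup K).map K.subtype) = (zj 0 (P : Subgroup K)).map K.subtype := by
    rw [centerThompsonAOf_eq, zj_map K.subtype_injective.injOn]
  have h1 : (pCore p K ⊓ zj 0 (P : Subgroup K)).Normal := by
    refine inf_zj_normal' hp 0 P (fun V hV hVP hne a ha h => ?_) _ inferInstance
      (isPGroup_pCore (G := K) p)
    by_contra hna
    refine hq ⟨V.map K.subtype, map_mono hVP, (le_normalizer_map_iff K V).2 hV, ?_, a, ⟨a, ha, rfl⟩,
      ?_, ?_⟩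
    · rwa [hz, ← map_inf _ _ _ K.subtype_injective, le_normalizer_map_iff]
    · rintro ⟨b, hb, e⟩
      exact hna (K.subtype_injective e ▸ hb)
    · have := congrArg (fun X : Subgroup K => X.map K.subtype) h
      simp only [map_commutator, MonoidHom.map_zpowers, Subgroup.map_bot] at this
      exact this
  have h2 := (le_normalizer_map_iff K _).2 h1
  rw [map_inf _ _ _ K.subtype_injective, ← hz] at h2
  have hc := (isEA_zj 0 ((P : Subgroup K).map K.subtype)).1
  have h3 : centerThompsonAOf ((P : Subgroup K).map K.subtype) ≤ pCoreOf p K := by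
    refine H98.Zj.le_core_of_inf hK ?_ ?_ ?_ h2
    · rw [hz]; exact map_subtype_le _
    · rw [centerThompsonAOf_eq]
      intro x hx y hy
      exact congrArg Subtype.val (hc.1.1 ⟨x, hx⟩ ⟨y, hy⟩)
    · rw [centerThompsonAOf_eq]
      exact hT.pCoreOf_le.trans (le_normalizer.trans (normalizer_le_normalizer_zj 0 _))
  exact hn (by rwa [show Subgroup.map K.subtype (pCore p K) = pCoreOf p K from rfl,
    inf_of_le_right h3] at h2)

end H61.Zj
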